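import Mathlib
/-!
# Reducedness ascends along smooth maps and descends along flat surjective maps
-/

set_option autoImplicit false
universe u

open TensorProduct AlgebraicGeometry CategoryTheory

namespace AlgSpLib

/-- An etale algebra over a reduced Noetherian ring is reduced. -/
theorem isReduced_of_etale_of_isNoetherianRing (A B : Type u) [CommRing A] [CommRing B] [Algebra A B]
    [IsNoetherianRing A] [_root_.IsReduced A] [Algebra.Etale A B] : _root_.IsReduced B := by
  classical
  have hfin : Finite (minimalPrimes A) := (minimalPrimes.finite_of_isNoetherianRing A).to_subtype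
  have : Fintype (minimalPrimes A) := Fintype.ofFinite _
  have hp : ∀ p : minimalPrimes A, p.1.IsPrime := fun p => p.2.1.1
  let K := fun p : minimalPrimes A => p.1.ResidueField
  let ψ : A →ₐ[A] (∀ p, K p) := Pi.algHom _ _ fun p => Algebra.ofId A (K p)
  have hψ : Function.Injective ψ := by
    refine (injective_iff_map_eq_zero ψ).2 fun a ha => ?_
    have : a ∈ sInf (minimalPrimes A) := Ideal.mem_sInf.2 fun {p} hp' => by
      have := congrFun ha ⟨p, hp'⟩
      simpa [ψ, K, Ideal.algebraMap_residueField_eq_zero] using this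
    rw [minimalPrimes, Ideal.sInf_minimalPrimes, show Ideal.radical (⊥ : Ideal A) = ⊥ from nilradical_eq_zero A] at this
    exact this
  let Φ : B ⊗[A] A →ₐ[A] B ⊗[A] (∀ p, K p) := Algebra.TensorProduct.map (AlgHom.id A B) ψ
  have hΦ : Function.Injective Φ :=
    Module.Flat.lTensor_preserves_injective_linearMap _ hψ
  have : ∀ p : minimalPrimes A, _root_.IsReduced (B ⊗[A] K p) := fun p => by
    have := hp p
    have : _root_.IsReduced (K p ⊗[A] B) := Algebra.FormallyUnramified.isReduced_of_field (K p) _
    exact isReduced_of_injective (Algebra.TensorProduct.comm A B (K p))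
      (AlgEquiv.injective _)
  have : _root_.IsReduced (∀ p, B ⊗[A] K p) := inferInstance
  have : _root_.IsReduced (B ⊗[A] (∀ p, K p)) :=
    isReduced_of_injective (Algebra.TensorProduct.piRight A A B K) (AlgEquiv.injective _)
  have : _root_.IsReduced (B ⊗[A] A) := isReduced_of_injective Φ hΦ
  exact isReduced_of_injective (Algebra.TensorProduct.rid A A B).symm (AlgEquiv.injective _)

/-- An etale algebra over a reduced ring is reduced. -/
theorem isReduced_of_etale (A B : Type u) [CommRing A] [CommRing B] [Algebra A B]
    [_root_.IsReduced A] [Algebra.Etale A B] : _root_.IsReduced B := by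
  obtain ⟨A₀, B₀, _, _, hA₀, hB₀, ⟨e⟩⟩ := Algebra.Etale.exists_subalgebra_fg ℤ A B
  have : Algebra.FiniteType ℤ A₀ := A₀.fg_iff_finiteType.1 hA₀
  have : IsNoetherianRing A₀ := Algebra.FiniteType.isNoetherianRing ℤ _
  have : _root_.IsReduced (B₀ ⊗[A₀] A) := IsReduced.tensorProduct_of_flat_of_forall_fg fun C hC => by
    have : Algebra.FiniteType A₀ C := C.fg_iff_finiteType.1 hC
    have : IsNoetherianRing C := Algebra.FiniteType.isNoetherianRing A₀ _
    have : _root_.IsReduced C := isReduced_of_injective C.val Subtype.val_injective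
    have : _root_.IsReduced (C ⊗[A₀] B₀) := isReduced_of_etale_of_isNoetherianRing C (C ⊗[A₀] B₀)
    exact isReduced_of_injective (Algebra.TensorProduct.comm A₀ B₀ C) (AlgEquiv.injective _)
  have : _root_.IsReduced (A ⊗[A₀] B₀) :=
    isReduced_of_injective (Algebra.TensorProduct.comm A₀ A B₀) (AlgEquiv.injective _)
  exact isReduced_of_injective e (AlgEquiv.injective _)

/-- A standard smooth algebra over a reduced ring is reduced. -/
theorem isReduced_of_isStandardSmooth {A B : Type u} [CommRing A] [CommRing B] [_root_.IsReduced A]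
    {f : A →+* B} (hf : f.IsStandardSmooth) : _root_.IsReduced B := by
  obtain ⟨n, g, -, hg⟩ := hf.exists_etale_mvPolynomial
  algebraize [g]
  exact isReduced_of_etale (MvPolynomial (Fin n) A) B

theorem isReduced_of_smooth {X Y : Scheme.{u}} (f : X ⟶ Y) [Smooth f] [IsReduced Y] : IsReduced X := by
  have : ∀ x : X, _root_.IsReduced (X.presheaf.stalk x) := fun x => by
    obtain ⟨U, hU, V, hV, hx, e, hs⟩ := Smooth.exists_isStandardSmooth f x
    have : _root_.IsReduced Γ(X, V) := isReduced_of_isStandardSmooth hs
    let := X.presheaf.algebra_section_stalk ⟨x, hx⟩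
    have : IsLocalization.AtPrime (X.presheaf.stalk x) (hV.primeIdealOf ⟨x, hx⟩).asIdeal :=
      hV.isLocalization_stalk ⟨x, hx⟩
    exact isReduced_localizationPreserves (hV.primeIdealOf ⟨x, hx⟩).asIdeal.primeCompl _ inferInstance
  exact isReduced_of_isReduced_stalk X

theorem isReduced_of_flat_surjective {X Y : Scheme.{u}} (f : X ⟶ Y) [Flat f] [Surjective f]
    [IsReduced X] : IsReduced Y := by
  have : ∀ y : Y, _root_.IsReduced (Y.presheaf.stalk y) := fun y => by
    obtain ⟨x, rfl⟩ := f.surjective y
    have h := Flat.stalkMap f x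
    algebraize [(f.stalkMap x).hom]
    have : Module.FaithfullyFlat (Y.presheaf.stalk (f x)) (X.presheaf.stalk x) :=
      @Module.FaithfullyFlat.of_flat_of_isLocalHom _ _ _ _ _ _ _ h (f.toLRSHom.prop x)
    exact isReduced_of_injective (f.stalkMap x).hom
      (RingHom.FaithfullyFlat.injective (f := (f.stalkMap x).hom) ‹_›)
  exact isReduced_of_isReduced_stalk Y

end AlgSpLib
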