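import Groth.Agent.AlgSpLib.Sep
import Mathlib.AlgebraicGeometry.Noetherian
import Mathlib.AlgebraicGeometry.Morphisms.FlatMono
/-!
# Locally Noetherian algebraic spaces, universally injective morphisms
-/

set_option autoImplicit false
universe u
open CategoryTheory CategoryTheory.Limits AlgebraicGeometry Opposite AlgSp Topology

namespace AlgSpLib

variable {S : Scheme.{u}}

theorem isNoetherianRing_of_faithfullyFlat (A B : Type u) [CommRing A] [CommRing B] [Algebra A B]
    [Module.FaithfullyFlat A B] [IsNoetherianRing B] : IsNoetherianRing A := by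
  have hi : Function.Injective fun I : Ideal A => I.map (algebraMap A B) :=
    Function.LeftInverse.injective (g := fun J => J.comap (algebraMap A B))
      fun I => Ideal.comap_map_eq_self_of_faithfullyFlat I
  have hm : StrictMono fun I : Ideal A => I.map (algebraMap A B) :=
    (Monotone.strictMono_of_injective (fun _ _ h => Ideal.map_mono h) hi)
  have : WellFoundedGT (Ideal A) := hm.wellFoundedGT
  exact isNoetherian_iff'.2 this

theorem isLocallyNoetherian_of_etale_surjective {U W : Scheme.{u}} (g : W ⟶ U) [Etale g] [Surjective g]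
    [IsLocallyNoetherian W] : IsLocallyNoetherian U := by
  rw [isLocallyNoetherian_iff_of_affine_openCover U.affineCover]
  intro i
  let g' := pullback.snd g (U.affineCover.f i)
  obtain ⟨E, k, _, _, _, -⟩ := exists_affine_etale_surjective g'
  have : IsLocallyNoetherian E :=
    LocallyOfFiniteType.isLocallyNoetherian (k ≫ pullback.fst g (U.affineCover.f i))
  have : IsNoetherianRing Γ(E, ⊤) :=
    IsLocallyNoetherian.component_noetherian ⟨⊤, isAffineOpen_top E⟩
  algebraize [(k ≫ g').appTop.hom]
  have : Module.FaithfullyFlat Γ(U.affineCover.X i, ⊤) Γ(E, ⊤) := by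
    change (k ≫ g').appTop.hom.FaithfullyFlat
    rw [RingHom.FaithfullyFlat.iff_flat_and_comap_surjective]
    refine ⟨(HasRingHomProperty.iff_of_isAffine (P := @Flat)).1 inferInstance, ?_⟩
    have : Surjective (Spec.map (k ≫ g').appTop) := by
      have : Surjective (E.isoSpec.hom ≫ Spec.map (k ≫ g').appTop) := by
        rw [Scheme.isoSpec_hom_naturality (k ≫ g')]; infer_instance
      exact .of_comp E.isoSpec.hom _
    exact (Spec.map (k ≫ g').appTop).surjective
  exact isNoetherianRing_of_faithfullyFlat Γ(U.affineCover.X i, ⊤) Γ(E, ⊤)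

theorem isLocallyNoetherian_of_chart {F : Sp S} (hF : IsLocNoethSp F) {U : Over S}
    {a : (yon S).obj U ⟶ F} (ha : RepWith @Etale a) : IsLocallyNoetherian U.left := by
  obtain ⟨U₀, p, hp, hps, h₀⟩ := hF
  obtain ⟨W, q, r, sq⟩ := exists_isPullback_yon p a hp.rep
  have := etale_left (repWith_of_isPullback sq hp)
  have := surjective_left (repWith_of_isPullback sq hps)
  have := etale_left (repWith_of_isPullback sq.flip ha)
  have := LocallyOfFiniteType.isLocallyNoetherian q.left
  exact isLocallyNoetherian_of_etale_surjective r.left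

theorem isLocNoethSp_of_lft {F G : Sp S} (hF : IsAlgSpace F) (hG : IsAlgSpace G) {f : F ⟶ G}
    (hf : LocP @LocallyOfFiniteType f) (hGn : IsLocNoethSp G) : IsLocNoethSp F := by
  obtain ⟨U, V, a, b, h, ha, has, hb, -, e⟩ := exists_chart hF hG f
  have := isLocallyNoetherian_of_chart hGn hb
  have : LocallyOfFiniteType h.left := hf a b h ha hb e
  exact ⟨U, a, ha, has, LocallyOfFiniteType.isLocallyNoetherian h.left⟩

theorem noetherianSpace_points {F : Sp S} (hqc : IsQuasiCompactSp F) (h : IsLocNoethSp F) :
    TopologicalSpace.NoetherianSpace (Points F) := by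
  obtain ⟨E, p, hE, hp, hps⟩ := exists_affine_chart hqc
  have := isLocallyNoetherian_of_chart h hp
  have : IsNoetherian E.left := ⟨⟩
  exact TopologicalSpace.noetherianSpace_of_surjective _ (Points.continuous_ofPt p) (surjective_ofPt hps)

theorem exists_noetherian_nhd {F : Sp S} (hF : IsAlgSpace F) (h : IsLocNoethSp F) (x : Points F) :
    ∃ W : Set (Points F), IsOpen W ∧ x ∈ W ∧ TopologicalSpace.NoetherianSpace ↥W := by
  obtain ⟨U, a, ha, has⟩ := hF.atlas
  obtain ⟨u, rfl⟩ := surjective_ofPt has x
  obtain ⟨O, hO, huO, -⟩ := exists_isAffineOpen_mem_and_subset (U := ⊤) (x := u) trivial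
  have := isLocallyNoetherian_of_chart h ha
  have : IsAffine O := hO
  have : IsLocallyNoetherian O := LocallyOfFiniteType.isLocallyNoetherian O.ι
  have : IsNoetherian O := ⟨⟩
  refine ⟨Points.ofPt a '' (O : Set U.left), isOpenMap_ofPt ha _ O.2, ⟨u, huO, rfl⟩, ?_⟩
  rw [← Scheme.Opens.range_ι, ← Set.range_comp]
  exact TopologicalSpace.NoetherianSpace.range _ ((Points.continuous_ofPt a).comp O.ι.continuous)

theorem locallyQuasiFinite_of_unramified {A B : Scheme.{u}} (g : A ⟶ B) [LocallyOfFiniteType g]
    [FormallyUnramified g] : LocallyQuasiFinite g := by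
  rw [HasRingHomProperty.iff_appLE (P := @LocallyQuasiFinite)]
  intro U V e
  have h1 := HasRingHomProperty.appLE (P := @FormallyUnramified) g ‹_› U V e
  have h2 := HasRingHomProperty.appLE (P := @LocallyOfFiniteType) g ‹_› U V e
  algebraize [(g.appLE U V e).hom]
  have : Algebra.EssFiniteType Γ(B, U) Γ(A, V) := inferInstance
  change Algebra.QuasiFinite Γ(B, U) Γ(A, V)
  infer_instance

theorem unramified_le_lqf : (@LocallyOfFiniteType ⊓ @FormallyUnramified : MorphismProperty Scheme.{u}) ≤
    (@LocallyQuasiFinite ⊓ @LocallyOfFiniteType : MorphismProperty Scheme.{u}) :=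
  fun _ _ g ⟨(_ : LocallyOfFiniteType g), (_ : FormallyUnramified g)⟩ =>
    ⟨locallyQuasiFinite_of_unramified g, ‹_›⟩

/-! ## Universally injective -/

theorem univInjective_iff_surjective_diagonal {F G : Sp S} (hF : IsAlgSpace F) {f : F ⟶ G} :
    IsUnivInjectiveMor f ↔ Function.Surjective (Points.map (pullback.diagonal f)) := by
  constructor
  · intro h z
    refine ⟨Points.map (pullback.snd f f) z, h hF f _ _ (IsPullback.of_hasPullback f f) ?_⟩
    rw [← Points.map_comp, pullback.diagonal_snd, Points.map_id]
  · intro h Z Z' hZ g fst snd sq x y e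
    obtain ⟨z, rfl, rfl⟩ := exists_point_isPullback (IsPullback.of_hasPullback snd snd) x y e
    obtain ⟨w, rfl⟩ := map_surjective_of_isPullback (isPullback_diagonal sq) h z
    rw [← Points.map_comp, ← Points.map_comp, pullback.diagonal_fst, pullback.diagonal_snd]

/-- Injectivity on field-valued points. -/
def FieldInjective {F G : Sp S} (f : F ⟶ G) : Prop :=
  ∀ (K : Type u) [Field K] (str : Spec (CommRingCat.of K) ⟶ S),
    Function.Injective (fun a : (yon S).obj (Over.mk str) ⟶ F => a ≫ f)

theorem fieldInjective_iff_surjective_diagonal {F G : Sp S} (hF : IsAlgSpace F) (hG : IsAlgSpace G)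
    {f : F ⟶ G} : FieldInjective f ↔ Function.Surjective (Points.map (pullback.diagonal f)) := by
  constructor
  · intro h z
    induction z using Points.ind with
    | h p =>
    rw [mk_eq_ofPt_toMor]
    have e := h p.K p.str (a₁ := toMor p ≫ pullback.fst f f) (a₂ := toMor p ≫ pullback.snd f f)
      (by simp only [Category.assoc, pullback.condition])
    have e' : (toMor p ≫ pullback.fst f f) ≫ pullback.diagonal f = toMor p := by
      apply pullback.hom_ext
      · rw [Category.assoc, Category.assoc, pullback.diagonal_fst, Category.comp_id]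
      · rw [Category.assoc, Category.assoc, pullback.diagonal_snd, Category.comp_id, e]
    exact ⟨Points.ofPt (toMor p ≫ pullback.fst f f) _, by rw [Points.map_ofPt, e']⟩
  · intro h K _ str a b e
    let c : (yon S).obj (Over.mk str) ⟶ pullback f f := pullback.lift a b e
    have hd := repWith_diagonal_properties hF f
    let sq := hd.1.isPullback c
    have : Mono (hd.1.snd c).left := hd.2.2.2.2.property c _ _ sq
    have : Surjective (hd.1.snd c).left :=
      ((repWith_surjective_iff hd.1).2 h).property c _ _ sq
    have : LocallyOfFiniteType (hd.1.snd c).left := hd.2.1.property c _ _ sq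
    have : Subsingleton ↥(hd.1.pullback c).left :=
      (hd.1.snd c).left.injective.subsingleton (β := PrimeSpectrum K)
    have : QuasiCompact (hd.1.snd c).left :=
      ⟨fun U _ _ => (Set.subsingleton_of_subsingleton.finite).isCompact⟩
    have : Subsingleton ↥(Over.mk str).left := inferInstanceAs (Subsingleton (PrimeSpectrum K))
    have : IsIntegral (Over.mk str).left := inferInstanceAs (IsIntegral (Spec (CommRingCat.of K)))
    have : Flat (hd.1.snd c).left := inferInstance
    have : IsIso ((Over.forget S).map (hd.1.snd c)) := Flat.isIso_of_surjective_of_mono (hd.1.snd c).left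
    have : IsIso (hd.1.snd c) := isIso_of_reflects_iso _ (Over.forget S)
    have hc : ((yon S).map (inv (hd.1.snd c)) ≫ hd.1.fst c) ≫ pullback.diagonal f = c := by
      rw [Category.assoc, hd.1.w, ← Functor.map_comp_assoc, IsIso.inv_hom_id]
      erw [(yon S).map_id]
      exact Category.id_comp _
    have h1 := congrArg (· ≫ pullback.fst f f) hc
    have h2 := congrArg (· ≫ pullback.snd f f) hc
    simp only [c, Category.assoc, pullback.diagonal_fst, pullback.diagonal_snd, pullback.lift_fst,
      pullback.lift_snd, Category.comp_id] at h1 h2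
    exact h1.symm.trans h2

theorem repWith_universallyInjective_iff {F G : Sp S} {f : F ⟶ G} (hf : Representable f) :
    RepWith @UniversallyInjective f ↔ FieldInjective f := by
  constructor
  · intro h K _ str a b e
    let sq := hf.isPullback (a ≫ f)
    have : UniversallyInjective (hf.snd (a ≫ f)).left := h.property _ _ _ sq
    obtain ⟨s, hs⟩ := (yon S).map_surjective (sq.lift a ((yon S).map (𝟙 _)) (by simp))
    obtain ⟨t, ht⟩ := (yon S).map_surjective (sq.lift b ((yon S).map (𝟙 _)) (by simpa using e.symm))
    have hs' : s ≫ hf.snd (a ≫ f) = 𝟙 _ := (yon S).map_injective (by rw [Functor.map_comp, hs, sq.lift_snd])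
    have ht' : t ≫ hf.snd (a ≫ f) = 𝟙 _ := (yon S).map_injective (by rw [Functor.map_comp, ht, sq.lift_snd])
    have : s.left = t.left :=
      (((tfae_universallyInjective (hf.snd (a ≫ f)).left).out 0 1 (a := UniversallyInjective (hf.snd (a ≫ f)).left)
        (b := ∀ (K : Type u) [Field K], Function.Injective (fun g : Spec (.of K) ⟶ _ => g ≫ (hf.snd (a ≫ f)).left))
        rfl rfl).1 this) K (by
        change s.left ≫ _ = t.left ≫ _
        rw [← Over.comp_left, ← Over.comp_left, hs', ht'])
    have hst : s = t := Over.OverMorphism.ext this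
    rw [← sq.lift_fst a ((yon S).map (𝟙 _)) (by simp), ← hs, hst, ht, sq.lift_fst]
  · refine fun h => ⟨hf, fun T W g fst snd sq => ?_⟩
    refine (((tfae_universallyInjective snd.left).out 0 1 (a := UniversallyInjective snd.left)
      (b := ∀ (K : Type u) [Field K], Function.Injective (fun g : Spec (.of K) ⟶ _ => g ≫ snd.left))
      rfl rfl).2 ?_)
    intro K hK x y e
    let str : Spec (CommRingCat.of K) ⟶ S := x ≫ W.hom
    let x' : Over.mk str ⟶ W := Over.homMk x rfl
    have e' : x ≫ snd.left = y ≫ snd.left := e
    let y' : Over.mk str ⟶ W := Over.homMk y (by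
      change y ≫ W.hom = x ≫ W.hom
      rw [← Over.w snd, ← Category.assoc, ← e', Category.assoc, Over.w snd])
    have e'' : x' ≫ snd = y' ≫ snd := Over.OverMorphism.ext e'
    have hf' : ((yon S).map x' ≫ fst) ≫ f = ((yon S).map y' ≫ fst) ≫ f := by
      rw [Category.assoc, Category.assoc, sq.w, ← Functor.map_comp_assoc, e'', Functor.map_comp_assoc]
    have : x' = y' := (yon S).map_injective (sq.hom_ext (h K str hf')
      (by rw [← Functor.map_comp, ← Functor.map_comp, e'']))
    exact congrArg CommaMorphism.left this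

theorem isUnivOpenMor_of_flat_lfp {F G : Sp S} (hF : IsAlgSpace F) (hG : IsAlgSpace G) {f : F ⟶ G}
    (h1 : LocP @Flat f) (h2 : LocP @LocallyOfFinitePresentation f) : IsUnivOpenMor f := by
  refine (univSp_iff_affine descends_isOpenMor).2 fun Z _ g P fst snd sq => ?_
  have hP := isAlgSpace_of_isPullback hF (IsAlgSpace.yon_obj Z) hG sq
  obtain ⟨U, a, ha, has⟩ := hP.atlas
  obtain ⟨φ, hφ⟩ := (yon S).map_surjective (a ≫ snd)
  have e : a ≫ snd = (yon S).map φ ≫ 𝟙 _ := by rw [hφ, Category.comp_id]
  have : Flat φ.left :=
    locP_of_isPullback hF hG (IsAlgSpace.yon_obj Z) sq h1 a (𝟙 _) φ ha (repWith_id _ Z) e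
  have : LocallyOfFinitePresentation φ.left :=
    locP_of_isPullback hF hG (IsAlgSpace.yon_obj Z) sq h2 a (𝟙 _) φ ha (repWith_id _ Z) e
  intro A hA
  have key : Points.map snd '' A =
      Points.map ((yon S).map φ) '' (Points.map a ⁻¹' A) := by
    rw [hφ, show Points.map (a ≫ snd) = Points.map snd ∘ Points.map a from funext (Points.map_comp a snd),
      Set.image_comp, Set.image_preimage_eq _ (map_surjective_of_repWith has)]
  rw [key]
  exact (isOpenMap_map_yon_iff φ).2 φ.left.isOpenMap _ (hA.preimage (Points.continuous_map a))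

/-- The summands of a coproduct of sheaves are jointly surjective on points. -/
theorem exists_point_cofan {ι : Type u} {F : ι → Sp S} (c : Cofan F) (hc : IsColimit c) (x : Points c.pt) :
    ∃ i, x ∈ Set.range (Points.map (c.inj i)) := by
  let W : Set (Points c.pt) := ⋃ i, Set.range (Points.map (c.inj i))
  have key : ∀ i, ∃ l : F i ⟶ openSub c.pt W, l ≫ openSubι c.pt W = c.inj i := by
    intro i
    have hle : Subfunctor.range (c.inj i).hom ≤ openSubfunctor c.pt W := by
      rintro T _ ⟨s, rfl⟩ t
      let g : (yon S).obj T.unop ⟶ F i := (AlgSp.J S).uliftYonedaEquiv.{u+1}.symm s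
      refine Set.mem_iUnion.2 ⟨i, Points.ofPt g t, ?_⟩
      rw [Points.map_ofPt]
      refine congrArg (Points.ofPt · t) ((Equiv.eq_symm_apply _).2 ?_)
      exact (GrothendieckTopology.uliftYonedaEquiv_comp.{u+1} (AlgSp.J S) g (c.inj i)).trans
        (congrArg _ ((AlgSp.J S).uliftYonedaEquiv.{u+1}.apply_symm_apply s))
    exact ⟨⟨Subfunctor.lift (c.inj i).hom hle⟩, rfl⟩
  choose l hl using key
  let d := Cofan.IsColimit.desc hc l
  have hd : d ≫ openSubι c.pt W = 𝟙 c.pt :=
    Cofan.IsColimit.hom_ext hc _ _ fun i => by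
      rw [Category.comp_id, ← Category.assoc, Cofan.IsColimit.fac, hl]
  have : x ∈ W := by
    rw [← range_openSubι c.pt (W := W)]
    exact ⟨Points.map d x, by rw [← Points.map_comp, hd, Points.map_id]⟩
  simpa [W] using this

theorem locP_lfp_of_lft {F G : Sp S} (hGn : IsLocNoethSp G) {f : F ⟶ G}
    (hf : LocP @LocallyOfFiniteType f) : LocP @LocallyOfFinitePresentation f := fun U V a b h ha hb e => by
  have := isLocallyNoetherian_of_chart hGn hb
  exact LocallyOfFinitePresentation.iff_locallyOfFiniteType.2 (hf a b h ha hb e)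

theorem locP_lfp_of_comp {F G H : Sp S} (hF : IsAlgSpace F) (hG : IsAlgSpace G) (hH : IsAlgSpace H)
    {f : F ⟶ G} {g : G ⟶ H} (hfg : LocP @LocallyOfFinitePresentation (f ≫ g))
    (hg : LocP @LocallyOfFiniteType g) : LocP @LocallyOfFinitePresentation f := by
  obtain ⟨V, W, b, c, k, hb, hbs, hc, -, e⟩ := exists_chart hG hH g
  obtain ⟨U, a, h, ha, has, e'⟩ := exists_chart_over hF hG f b hb hbs
  refine locP_of_chart ha has hb e' ?_
  have : LocallyOfFiniteType k.left := hg b c k hb hc e
  have : LocallyOfFinitePresentation (h.left ≫ k.left) := by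
    rw [← Over.comp_left]
    exact hfg a c (h ≫ k) ha hc (by rw [reassoc_of% e', e, Functor.map_comp, Category.assoc])
  exact lfp_of_comp_lft h.left k.left

theorem isQuasiSeparatedSp_of_mor {F G : Sp S} {f : F ⟶ G} (hf : IsQuasiSeparatedMor f)
    (hG : IsQuasiSeparatedSp G) : IsQuasiSeparatedSp F := by
  have e : Limits.diag F = pullback.diagonal f ≫ prod.lift (pullback.fst f f) (pullback.snd f f) := by
    apply prod.hom_ext <;>
      simp only [Category.assoc, prod.lift_fst, prod.lift_snd, pullback.diagonal_fst, pullback.diagonal_snd]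
  unfold IsQuasiSeparatedSp
  rw [e]
  exact repWith_comp hf (repWith_of_isPullback (isPullback_diag_prod (IsPullback.of_hasPullback f f)) hG)

theorem isQuasiCompactSp_of_mor {F G : Sp S} (hG : IsAlgSpace G) {f : F ⟶ G} (hf : IsQuasiCompactMor f)
    (hGc : IsQuasiCompactSp G) : IsQuasiCompactSp F :=
  hf hG hGc (𝟙 G) (𝟙 F) f (IsPullback.id_horiz f)

theorem finite_irreducibleComponents_opens {F : Sp S} (h : IsLocNoethSp F) {U : Over S}
    {a : (yon S).obj U ⟶ F} (ha : RepWith @Etale a) (W : U.left.Opens) (hW : IsCompact (W : Set U.left)) :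
    (irreducibleComponents ↥W).Finite := by
  have := isLocallyNoetherian_of_chart h ha
  have : IsLocallyNoetherian W.toScheme := LocallyOfFiniteType.isLocallyNoetherian W.ι
  have : CompactSpace W.toScheme := isCompact_iff_compactSpace.1 hW
  have : IsNoetherian W.toScheme := ⟨⟩
  exact TopologicalSpace.NoetherianSpace.finite_irreducibleComponents (α := ↥W.toScheme)

theorem isUnivClosedMor_of_surjective {F G H : Sp S} (hF : IsAlgSpace F) (hG : IsAlgSpace G) (hH : IsAlgSpace H)
    {f : F ⟶ G} {g : G ⟶ H} (hf : IsSurjectiveMor f) (hfg : IsUnivClosedMor (f ≫ g)) : IsUnivClosedMor g := by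
  intro Z Z' hZ k fst snd sq
  let P := pullback f fst
  have sq1 := IsPullback.of_hasPullback f fst
  have h1 : IsClosedMor (pullback.snd f fst ≫ snd) := hfg hZ k (pullback.fst f fst) _ (sq1.paste_vert sq)
  have hs := map_surjective_of_isPullback sq1 hf
  intro A hA
  have key : Points.map snd '' A =
      Points.map (pullback.snd f fst ≫ snd) '' (Points.map (pullback.snd f fst) ⁻¹' A) := by
    rw [show Points.map (pullback.snd f fst ≫ snd) = Points.map snd ∘ Points.map (pullback.snd f fst) from
      funext (Points.map_comp _ snd), Set.image_comp, Set.image_preimage_eq _ hs]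
  rw [key]
  exact h1 _ (hA.preimage (Points.continuous_map _))

attribute [local instance] specializationOrder in
theorem topologicalKrullDim_le_of_generalizing {X Y : Type*} [TopologicalSpace X] [TopologicalSpace Y]
    [QuasiSober X] [T0Space X] [QuasiSober Y] [T0Space Y] {g : X → Y} (hg : GeneralizingMap g)
    (hs : Function.Surjective g) : topologicalKrullDim Y ≤ topologicalKrullDim X := by
  rw [topologicalKrullDim, topologicalKrullDim, Order.krullDim_eq_of_orderIso irreducibleSetEquivPoints,
    Order.krullDim_eq_of_orderIso (irreducibleSetEquivPoints (α := X))]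
  refine iSup_le fun p => ?_
  suffices ∃ q : LTSeries X, q.length = p.length ∧ g q.last = p.last by
    obtain ⟨q, hq, -⟩ := this
    exact hq ▸ Order.LTSeries.length_le_krullDim q
  induction p using RelSeries.inductionOn' with
  | singleton y => exact (hs y).elim fun x hx => ⟨RelSeries.singleton _ x, rfl, hx⟩
  | snoc p y hy hp =>
    obtain ⟨q, hq, e⟩ := hp
    have h1 : p.last < y := hy
    have h2 : y ⤳ g q.last := by rw [e]; exact h1.le
    obtain ⟨x, hx, rfl⟩ := hg h2
    have h3 : q.last < x := lt_of_le_of_ne hx fun h => h1.ne (by rw [← e, h])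
    exact ⟨q.snoc x h3, by simp [hq], by simp⟩

theorem dim_eq_of_isEtaleMor {F G : Sp S} (hF : IsAlgSpace F) (hG : IsAlgSpace G) {f : F ⟶ G}
    (hf : IsEtaleMor f) (hs : IsSurjectiveMor f) : AlgSp.dim F = AlgSp.dim G := by
  refine le_antisymm (iSup_le fun U => iSup_le fun a => iSup_le fun ha => ?_)
    (iSup_le fun V => iSup_le fun b => iSup_le fun hb => ?_)
  · exact le_iSup_of_le U (le_iSup_of_le (a ≫ f) (le_iSup_of_le (hf a ha) le_rfl))
  · have sq := IsPullback.of_hasPullback f b
    have hP := isAlgSpace_pullback hF (IsAlgSpace.yon_obj V) hG f b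
    obtain ⟨W, p, hp, hps⟩ := hP.atlas
    have he : RepWith @Etale (p ≫ pullback.snd f b) :=
      isEtaleMor_of_isPullback hF hG (IsAlgSpace.yon_obj V) sq hf p hp
    obtain ⟨φ, hφ⟩ := (yon S).map_surjective (p ≫ pullback.snd f b)
    have : Etale φ.left := etale_left (by rw [hφ]; exact he)
    have hsur : Function.Surjective φ.left := by
      have h2 : Function.Surjective (Points.map ((yon S).map φ)) := by
        rw [hφ, show Points.map (p ≫ pullback.snd f b) = Points.map (pullback.snd f b) ∘ Points.map p from
          funext (Points.map_comp p (pullback.snd f b))]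
        exact (map_surjective_of_isPullback sq hs).comp (map_surjective_of_repWith hps)
      rw [Points.map_yon_map_eq] at h2
      exact (Function.Surjective.of_comp_left h2 (Points.schemeHomeo V).injective).of_comp
    refine (topologicalKrullDim_le_of_generalizing (Flat.generalizingMap φ.left) hsur).trans ?_
    have hW : RepWith @Etale (p ≫ pullback.fst f b) :=
      isEtaleMor_of_isPullback (IsAlgSpace.yon_obj V) hG hF sq.flip
        ((isEtaleMor_iff_locP hG).2 (locP_of_repWith hb)) p hp
    exact le_iSup_of_le W (le_iSup_of_le _ (le_iSup_of_le hW le_rfl))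

end AlgSpLib
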