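import Groth.Agent.AlgSpLib.Qc
/-!
# Diagonals and separation axioms
-/

set_option autoImplicit false
universe u
open CategoryTheory CategoryTheory.Limits AlgebraicGeometry Opposite AlgSp

namespace AlgSpLib

variable {S : Scheme.{u}}

instance (P : MorphismProperty Scheme.{u}) : (RepWith (S := S) P).RespectsIso :=
  MorphismProperty.IsStableUnderBaseChange.respectsIso

theorem repWith_of_isIso {P : MorphismProperty Scheme.{u}} [P.IsStableUnderBaseChange]
    [P.ContainsIdentities] {F G : Sp S} (f : F ⟶ G) [IsIso f] : RepWith P f := by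
  have : P.RespectsIso := MorphismProperty.IsStableUnderBaseChange.respectsIso
  refine MorphismProperty.relative.of_exists fun T g =>
    ⟨T, g ≫ inv f, 𝟙 T, ⟨⟨by simp⟩, ⟨?_⟩⟩, P.id_mem T.left⟩
  exact PullbackCone.IsLimit.mk _ (fun c => c.snd) (fun c => by rw [← Category.assoc, ← c.condition]; simp)
    (fun c => by simp) (fun c m _ h => by simpa using h)

/-- The standard square comparing a fibre product with the diagonal of the base. -/
theorem isPullback_diag_prod {F G H W : Sp S} {fst : W ⟶ F} {snd : W ⟶ H} {f : F ⟶ G} {g : H ⟶ G}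
    (h : IsPullback fst snd f g) :
    IsPullback (fst ≫ f) (prod.lift fst snd) (Limits.diag G) (prod.map f g) := by
  refine ⟨⟨?_⟩, ⟨PullbackCone.IsLimit.mk _ (fun s => h.lift (s.snd ≫ prod.fst) (s.snd ≫ prod.snd) ?_)
    (fun s => ?_) (fun s => ?_) (fun s m h1 h2 => ?_)⟩⟩
  · apply Limits.prod.hom_ext <;> simp [h.w]
  · have h1 := congrArg (· ≫ prod.fst) s.condition
    have h2 := congrArg (· ≫ prod.snd) s.condition
    simp only [Category.assoc, Limits.prod.map_fst, Limits.prod.map_snd, Limits.prod.lift_fst,
      Limits.prod.lift_snd, Category.comp_id] at h1 h2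
    simp only [Category.assoc]
    rw [← h1, ← h2]
  · have h1 := congrArg (· ≫ prod.fst) s.condition
    simp only [Category.assoc, Limits.prod.map_fst, Limits.prod.lift_fst, Category.comp_id] at h1
    rw [h.lift_fst_assoc, Category.assoc, ← h1]
  · apply Limits.prod.hom_ext <;>
      simp only [Category.assoc, Limits.prod.lift_fst, Limits.prod.lift_snd, h.lift_fst, h.lift_snd]
  · apply h.hom_ext
    · rw [h.lift_fst, ← h2]; simp only [Category.assoc, Limits.prod.lift_fst]
    · rw [h.lift_snd, ← h2]; simp only [Category.assoc, Limits.prod.lift_snd]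

theorem repWith_prod_map {P : MorphismProperty Scheme.{u}} [P.IsStableUnderComposition]
    {A B A' B' : Sp S} {a : A ⟶ B} {b : A' ⟶ B'} (ha : RepWith P a) (hb : RepWith P b) :
    RepWith P (prod.map a b) := by
  have h2 : RepWith P (prod.map (𝟙 B) b) := by
    have e : prod.map (𝟙 B) b =
        (prod.braiding B A').hom ≫ prod.map b (𝟙 B) ≫ (prod.braiding B' B).hom := by
      apply Limits.prod.hom_ext <;>
        simp only [prod.braiding_hom, Category.assoc, Limits.prod.lift_fst, Limits.prod.lift_snd,
          Limits.prod.map_fst, Limits.prod.map_snd, Category.comp_id, Limits.prod.lift_fst_assoc,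
          Limits.prod.lift_snd_assoc]
    rw [e]
    exact ((RepWith P).cancel_left_of_respectsIso _ _).2 (((RepWith P).cancel_right_of_respectsIso _ _).2
      (repWith_of_isPullback (IsPullback.of_prod_fst_with_id b B) hb))
  have : prod.map a b = prod.map a (𝟙 A') ≫ prod.map (𝟙 B) b := by simp
  rw [this]
  exact repWith_comp (repWith_of_isPullback (IsPullback.of_prod_fst_with_id a A') ha) h2

theorem mono_left_of_mono {U V : Over S} {φ : U ⟶ V} [Mono ((yon S).map φ)] : Mono φ.left :=
  have : Mono φ := (yon S).mono_of_mono_map ‹_›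
  inferInstanceAs (Mono ((Over.forget S).map φ))

theorem repWith_mono_of_mono {F G : Sp S} {f : F ⟶ G} [Mono f] (hf : Representable f) :
    RepWith (MorphismProperty.monomorphisms Scheme.{u}) f := by
  refine ⟨hf, fun T W g fst snd sq => ?_⟩
  have : Mono ((yon S).map snd) :=
    MorphismProperty.of_isPullback (P := MorphismProperty.monomorphisms (Sp S)) sq ‹Mono f›
  exact mono_left_of_mono

theorem repWith_isSeparated_of_mono {F G : Sp S} {f : F ⟶ G} [Mono f] (hf : Representable f) :
    RepWith @IsSeparated f :=
  repWith_mono (fun _ _ g (_ : Mono g) => (inferInstance : IsSeparated g)) (repWith_mono_of_mono hf)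

instance mono_diag (F : Sp S) : Mono (Limits.diag F) :=
  ⟨fun a b e => by
    have := congrArg (· ≫ prod.fst) e
    simpa only [Limits.diag, Category.assoc, Limits.prod.lift_fst, Category.comp_id] using this⟩

/-- The diagonal of an algebraic space is locally quasi-finite and locally of finite type. -/
theorem repWith_lqf_lft_diag {F : Sp S} (hF : IsAlgSpace F) :
    RepWith (@LocallyQuasiFinite ⊓ @LocallyOfFiniteType : MorphismProperty Scheme.{u}) (Limits.diag F) := by
  obtain ⟨U, p, hp, hps⟩ := hF.atlas
  obtain ⟨R, t, s, sq⟩ := exists_isPullback_yon p p hp.rep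
  have sqd := isPullback_diag_prod sq
  let c := PreservesLimitPair.iso (yon S) U U
  have hpp : RepWith @Etale (prod.map p p) := repWith_prod_map hp hp
  have hpps : RepWith @Surjective (prod.map p p) := repWith_prod_map hps hps
  refine repWith_of_locP (isAlgSpace_prod hF hF) hF.diag ?_
  have ht : Etale t.left := etale_left (repWith_of_isPullback sq.flip hp)
  refine locP_of_chart (h₀ := prod.lift t s) (repWith_of_isPullback sqd.flip hpp)
    (repWith_of_isPullback sqd.flip hpps)
    (b₀ := c.hom ≫ prod.map p p) (((RepWith _).cancel_left_of_respectsIso c.hom _).2 hpp) ?_ ?_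
  · rw [sqd.w, ← Category.assoc]
    congr 1
    apply Limits.prod.hom_ext
    · rw [Category.assoc, Limits.prod.lift_fst, PreservesLimitPair.iso_hom, prodComparison_fst,
        ← Functor.map_comp, Limits.prod.lift_fst]
    · rw [Category.assoc, Limits.prod.lift_snd, PreservesLimitPair.iso_hom, prodComparison_snd,
        ← Functor.map_comp, Limits.prod.lift_snd]
  · refine lqf_lft_of_comp _ (prod.fst : U ⨯ U ⟶ U).left ?_
    rw [← Over.comp_left, Limits.prod.lift_fst]
    exact @etale_le_list _ _ t.left ht

/-- `X ⟶ X ×_Y X` is a base change of the diagonal of `X`. -/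
theorem repWith_diagonal_of_diag {P : MorphismProperty Scheme.{u}} {F G : Sp S} (f : F ⟶ G)
    (h : RepWith P (Limits.diag F)) : RepWith P (pullback.diagonal f) := by
  let ι : pullback f f ⟶ F ⨯ F := prod.lift (pullback.fst f f) (pullback.snd f f)
  have : Mono ι := ⟨fun a b e => by
    have h1 := congrArg (· ≫ prod.fst) e
    have h2 := congrArg (· ≫ prod.snd) e
    simp only [ι, Category.assoc, Limits.prod.lift_fst, Limits.prod.lift_snd] at h1 h2
    exact pullback.hom_ext h1 h2⟩
  have hι : pullback.diagonal f ≫ ι = Limits.diag F := by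
    apply Limits.prod.hom_ext <;> simp [ι, Category.assoc]
  refine repWith_of_isPullback (fst := 𝟙 F) (g := ι) ?_ h
  refine ⟨⟨by simp [hι]⟩, ⟨PullbackCone.IsLimit.mk _ (fun c => c.fst) (fun c => by simp)
    (fun c => ?_) (fun c m h1 _ => by simpa using h1)⟩⟩
  rw [← cancel_mono ι, Category.assoc, hι, c.condition]

theorem repWith_diagonal_properties {F : Sp S} (hF : IsAlgSpace F) {G : Sp S} (f : F ⟶ G) :
    Representable (pullback.diagonal f) ∧ RepWith @LocallyOfFiniteType (pullback.diagonal f) ∧
      RepWith (@LocallyQuasiFinite ⊓ @LocallyOfFiniteType : MorphismProperty Scheme.{u}) (pullback.diagonal f) ∧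
      RepWith @IsSeparated (pullback.diagonal f) ∧
      RepWith (MorphismProperty.monomorphisms Scheme.{u}) (pullback.diagonal f) := by
  have h := repWith_diagonal_of_diag f (repWith_lqf_lft_diag hF)
  exact ⟨h.rep, repWith_mono (fun _ _ g hg => hg.2) h, h, repWith_isSeparated_of_mono h.rep,
    repWith_mono_of_mono h.rep⟩

theorem repWith_mapDesc {P : MorphismProperty Scheme.{u}} {X Y Z T : Sp S} (f : X ⟶ Z) (g : Y ⟶ Z)
    (h : Z ⟶ T) (hd : RepWith P (pullback.diagonal h)) : RepWith P (pullback.mapDesc f g h) :=
  repWith_of_isPullback (pullback_map_diagonal_isPullback f g h) hd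

theorem repWith_section {P : MorphismProperty Scheme.{u}} {X T : Sp S} {f : X ⟶ T} {s : T ⟶ X}
    (hs : s ≫ f = 𝟙 T) (hd : RepWith P (pullback.diagonal f)) : RepWith P s := by
  refine repWith_of_isPullback (fst := s)
    (g := pullback.lift (f ≫ s) (𝟙 X) (by simp [hs])) ?_ hd
  have hl1 : pullback.lift (f ≫ s) (𝟙 X) (by simp [hs]) ≫ pullback.fst f f = f ≫ s :=
    pullback.lift_fst _ _ _
  have hl2 : pullback.lift (f ≫ s) (𝟙 X) (by simp [hs]) ≫ pullback.snd f f = 𝟙 X :=
    pullback.lift_snd _ _ _
  refine ⟨⟨?_⟩, ⟨PullbackCone.IsLimit.mk _ (fun c => c.snd ≫ f) (fun c => ?_) (fun c => ?_)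
    (fun c m h1 h2 => ?_)⟩⟩
  · apply pullback.hom_ext
    · rw [Category.assoc, Category.assoc, pullback.diagonal_fst, hl1, Category.comp_id, reassoc_of% hs]
    · rw [Category.assoc, Category.assoc, pullback.diagonal_snd, hl2, Category.comp_id]
  · have h1 := congrArg (· ≫ pullback.fst f f) c.condition
    simp only [Category.assoc, pullback.diagonal_fst, hl1, Category.comp_id] at h1
    exact (Category.assoc _ _ _).trans h1.symm
  · have h1 := congrArg (· ≫ pullback.fst f f) c.condition
    have h2 := congrArg (· ≫ pullback.snd f f) c.condition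
    simp only [Category.assoc, pullback.diagonal_fst, pullback.diagonal_snd, hl1, hl2, Category.comp_id] at h1 h2
    exact ((Category.assoc _ _ _).trans h1.symm).trans h2
  · exact ((Category.comp_id m).symm.trans (congrArg (m ≫ ·) hs.symm)).trans
      ((Category.assoc _ _ _).symm.trans (congrArg (· ≫ f) h2))

theorem repWith_diagonal_of_isPullback {P : MorphismProperty Scheme.{u}} {F G F' G' : Sp S}
    {fst : F' ⟶ F} {snd : F' ⟶ G'} {f : F ⟶ G} {g : G' ⟶ G} (sq : IsPullback fst snd f g)
    (h : RepWith P (pullback.diagonal f)) : RepWith P (pullback.diagonal snd) :=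
  MorphismProperty.of_isPullback (P := (RepWith (S := S) P).diagonal) sq h

theorem repWith_diagonal_comp {P : MorphismProperty Scheme.{u}} [P.IsStableUnderComposition]
    {F G H : Sp S} {f : F ⟶ G} {g : G ⟶ H}
    (hf : RepWith P (pullback.diagonal f)) (hg : RepWith P (pullback.diagonal g)) :
    RepWith P (pullback.diagonal (f ≫ g)) :=
  MorphismProperty.comp_mem (RepWith (S := S) P).diagonal f g hf hg

/-- Separation axioms of a representable morphism. -/
theorem repWith_diagonal_iff {P Q : MorphismProperty Scheme.{u}} [P.IsStableUnderBaseChange]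
    (hPQ : ∀ {A B : Scheme.{u}} (g : A ⟶ B), P (pullback.diagonal g) ↔ Q g)
    {F G : Sp S} {f : F ⟶ G} (hf : Representable f) :
    RepWith P (pullback.diagonal f) ↔ RepWith Q f := by
  constructor
  · refine fun h => ⟨hf, fun T W g fst snd sq => (hPQ _).1 ?_⟩
    exact (repWith_diagonal_yon_map_iff P snd).1 (repWith_diagonal_of_isPullback sq h)
  · intro h
    refine MorphismProperty.relative.of_exists fun T c => ?_
    let g := (c ≫ pullback.fst f f) ≫ f
    let sqW := hf.isPullback g
    let q := hf.snd g
    have hg2 : (c ≫ pullback.snd f f) ≫ f = g := by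
      simp only [g, Category.assoc, pullback.condition]
    obtain ⟨s, hs⟩ := (yon S).map_surjective (sqW.lift (c ≫ pullback.fst f f) ((yon S).map (𝟙 T))
      (by simp [g]))
    obtain ⟨t, ht⟩ := (yon S).map_surjective (sqW.lift (c ≫ pullback.snd f f) ((yon S).map (𝟙 T))
      (by simp [hg2]))
    have hs' : s ≫ q = 𝟙 T := (yon S).map_injective (by rw [Functor.map_comp, hs]; exact sqW.lift_snd _ _ _)
    have ht' : t ≫ q = 𝟙 T := (yon S).map_injective (by rw [Functor.map_comp, ht]; exact sqW.lift_snd _ _ _)
    have hsf : (yon S).map s ≫ hf.fst g = c ≫ pullback.fst f f := by rw [hs]; exact sqW.lift_fst _ _ _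
    have htf : (yon S).map t ≫ hf.fst g = c ≫ pullback.snd f f := by rw [ht]; exact sqW.lift_fst _ _ _
    let st : T ⟶ pullback q q := pullback.lift s t (hs'.trans ht'.symm)
    let E : Over S := pullback (pullback.diagonal q) st
    let e : E ⟶ T := pullback.snd (pullback.diagonal q) st
    have hes : e ≫ s = e ≫ t := by
      have := congrArg (· ≫ pullback.fst q q) (pullback.condition (f := pullback.diagonal q) (g := st))
      have h2 := congrArg (· ≫ pullback.snd q q) (pullback.condition (f := pullback.diagonal q) (g := st))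
      simp only [st, Category.assoc, pullback.diagonal_fst, pullback.diagonal_snd, pullback.lift_fst,
        pullback.lift_snd, Category.comp_id] at this h2
      exact this.symm.trans h2
    refine ⟨E, (yon S).map e ≫ c ≫ pullback.fst f f, e, isPullback_of_forall_existsUnique ?_ ?_, ?_⟩
    · apply pullback.hom_ext
      · simp
      · simp only [Category.assoc, pullback.diagonal_snd, Category.comp_id]
        rw [← hsf, ← htf, ← Functor.map_comp_assoc, hes, Functor.map_comp_assoc]
    · intro R a b hab
      obtain ⟨b, rfl⟩ := (yon S).map_surjective b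
      have h1 := congrArg (· ≫ pullback.fst f f) hab
      have h2 := congrArg (· ≫ pullback.snd f f) hab
      simp only [Category.assoc, pullback.diagonal_fst, pullback.diagonal_snd, Category.comp_id] at h1 h2
      have hbst : b ≫ s = b ≫ t := by
        apply (yon S).map_injective
        apply sqW.hom_ext
        · rw [Functor.map_comp, Functor.map_comp, Category.assoc, Category.assoc, hsf, htf, ← h1, ← h2]
        · rw [← Functor.map_comp, ← Functor.map_comp, Category.assoc, Category.assoc, hs', ht']
      let m : R ⟶ E := pullback.lift (b ≫ s) b (by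
        apply pullback.hom_ext <;>
          simp only [st, Category.assoc, pullback.diagonal_fst, pullback.diagonal_snd, pullback.lift_fst,
            pullback.lift_snd, Category.comp_id, hbst])
      refine ⟨(yon S).map m, ⟨?_, ?_⟩, fun y hy => ?_⟩
      · rw [← Functor.map_comp_assoc, pullback.lift_snd, h1]
      · rw [← Functor.map_comp, pullback.lift_snd]
      · obtain ⟨y, rfl⟩ := (yon S).map_surjective y
        have hye : y ≫ e = b := (yon S).map_injective (by rw [Functor.map_comp]; exact hy.2)
        refine congrArg _ (pullback.hom_ext ?_ (hye.trans (pullback.lift_snd _ _ _).symm))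
        rw [pullback.lift_fst]
        have := congrArg (· ≫ pullback.fst q q) (pullback.condition (f := pullback.diagonal q) (g := st))
        simp only [st, Category.assoc, pullback.diagonal_fst, pullback.lift_fst, Category.comp_id] at this
        rw [this, ← Category.assoc, hye]
    · have hP : RepWith P (pullback.diagonal ((yon S).map q)) :=
        (repWith_diagonal_yon_map_iff P q).2 ((hPQ _).2 (h.property g _ _ sqW))
      rw [diagonal_yon_map] at hP
      have hP2 : P (pullback.diagonal q).left :=
        (repWith_yon_map_iff P _).1 (((RepWith P).cancel_right_of_respectsIso _ _).1 hP)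
      exact P.of_isPullback ((IsPullback.of_hasPullback (pullback.diagonal q) st).map (Over.forget S)) hP2

theorem lfp_of_comp_lft {A B C : Scheme.{u}} (f : A ⟶ B) (g : B ⟶ C) [LocallyOfFiniteType g]
    [LocallyOfFinitePresentation (f ≫ g)] : LocallyOfFinitePresentation f := by
  rw [HasRingHomProperty.iff_exists_appLE (P := @LocallyOfFinitePresentation)
    ((RingHom.finitePresentation_stableUnderComposition.stableUnderCompositionWithLocalizationAway
      RingHom.finitePresentation_holdsForLocalizationAway).1)]
  intro x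
  obtain ⟨W, hW, hxW, -⟩ := exists_isAffineOpen_mem_and_subset (U := ⊤) (x := g (f x)) trivial
  obtain ⟨V, hV, hxV, hVW⟩ := exists_isAffineOpen_mem_and_subset (U := g ⁻¹ᵁ W) (x := f x) hxW
  obtain ⟨U, hU, hxU, hUV⟩ := exists_isAffineOpen_mem_and_subset (U := f ⁻¹ᵁ V) (x := x) hxV
  refine ⟨⟨V, hV⟩, ⟨U, hU⟩, hxU, hUV, ?_⟩
  have h1 := HasRingHomProperty.appLE (P := @LocallyOfFinitePresentation) (f ≫ g) ‹_› ⟨W, hW⟩ ⟨U, hU⟩
    (fun _ hy => hVW (hUV hy))
  rw [← Scheme.Hom.appLE_comp_appLE f g W V U hVW hUV, CommRingCat.hom_comp] at h1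
  exact RingHom.FinitePresentation.of_comp_finiteType _ h1
    (HasRingHomProperty.appLE (P := @LocallyOfFiniteType) g ‹_› ⟨W, hW⟩ ⟨V, hV⟩ hVW)

theorem lfp_diagonal {A B : Scheme.{u}} (f : A ⟶ B) [LocallyOfFiniteType f] :
    LocallyOfFinitePresentation (pullback.diagonal f) := by
  have : LocallyOfFinitePresentation (pullback.diagonal f ≫ pullback.fst f f) := by
    rw [pullback.diagonal_fst]; infer_instance
  exact lfp_of_comp_lft _ (pullback.fst f f)

theorem isEtaleMor_of_comp {F G H : Sp S} (hG : IsAlgSpace G) {f : F ⟶ G} {g : G ⟶ H}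
    (hfg : IsEtaleMor (f ≫ g)) (hg : IsEtaleMor g) : IsEtaleMor f :=
  (isEtaleMor_iff_locP hG).2 fun A B a b k ha hb e => etale_cancel k (b ≫ g)
    (by rw [← Category.assoc, ← e, Category.assoc]; exact hfg a ha) (hg b hb)

theorem repWith_lfp_diagonal {F G : Sp S} (hF : IsAlgSpace F) (hG : IsAlgSpace G) {f : F ⟶ G}
    (hf : LocP @LocallyOfFiniteType f) :
    RepWith @LocallyOfFinitePresentation (pullback.diagonal f) := by
  refine repWith_of_locP (isAlgSpace_pullback hF hF hG f f) (repWith_diagonal_properties hF f).1 ?_
  obtain ⟨U, V, a, b, h, ha, has, hb, -, e⟩ := exists_chart hF hG f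
  have : LocallyOfFiniteType h.left := hf a b h ha hb e
  -- the diagonal of the chart of the target is etale
  have hV := IsAlgSpace.yon_obj V
  have hfst : RepWith @Etale (pullback.fst b b) := repWith_of_isPullback (IsPullback.of_hasPullback b b).flip hb
  have hΔb : RepWith @Etale (pullback.diagonal b) := by
    refine repWith_of_locP (isAlgSpace_pullback hV hV hG b b) (repWith_diagonal_properties hV b).1 ?_
    refine locP_etale_of_isEtaleMor (isEtaleMor_of_comp (g := pullback.fst b b)
      (isAlgSpace_pullback hV hV hG b b) ?_ (isEtaleMor_of_repWith hfst))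
    rw [pullback.diagonal_fst]
    exact isEtaleMor_id _
  -- the comparison map `U ×_V U ⟶ F ×_G F`
  let φ₂ := pullback.map ((yon S).map h ≫ b) ((yon S).map h ≫ b) f f a a (𝟙 G)
    ((Category.comp_id _).trans e.symm) ((Category.comp_id _).trans e.symm)
  have hφ₂ : RepWith @Etale φ₂ := MorphismProperty.pullbackMap ha ha e.symm e.symm
  let φ₁ := pullback.mapDesc ((yon S).map h) ((yon S).map h) b
  have hφ₁ : RepWith @Etale φ₁ := repWith_mapDesc _ _ _ hΔb
  let c := PreservesPullback.iso (yon S) h h
  refine locP_of_chart (h₀ := pullback.diagonal h) ha has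
    (b₀ := c.hom ≫ φ₁ ≫ φ₂) (((RepWith _).cancel_left_of_respectsIso c.hom _).2 (repWith_comp hφ₁ hφ₂)) ?_ ?_
  · rw [← Category.assoc ((yon S).map (pullback.diagonal h)), ← diagonal_yon_map]
    apply pullback.hom_ext
    · simp only [φ₁, φ₂, pullback.mapDesc, Category.assoc, pullback.lift_fst, pullback.lift_fst_assoc,
        pullback.diagonal_fst, pullback.diagonal_fst_assoc, Category.comp_id, Category.id_comp]
    · simp only [φ₁, φ₂, pullback.mapDesc, Category.assoc, pullback.lift_snd, pullback.lift_snd_assoc,
        pullback.diagonal_snd, pullback.diagonal_snd_assoc, Category.comp_id, Category.id_comp]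
  · have : LocallyOfFinitePresentation (pullback.diagonal ((Over.forget S).map h)) := lfp_diagonal h.left
    rw [diagonal_forget_map] at this
    exact ((MorphismProperty.cancel_right_of_respectsIso (P := @LocallyOfFinitePresentation) _ _).1 this)

theorem isQuasiCompactMor_of_comp {F G H : Sp S} (hF : IsAlgSpace F) (hG : IsAlgSpace G)
    (hH : IsAlgSpace H) {f : F ⟶ G} {g : G ⟶ H} (hgf : IsQuasiCompactMor (f ≫ g))
    (hg : IsQuasiSeparatedMor g) : IsQuasiCompactMor f := by
  have sq := IsPullback.of_hasPullback (f ≫ g) g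
  have hP := isAlgSpace_pullback hF hG hH (f ≫ g) g
  let Γ : F ⟶ pullback (f ≫ g) g := pullback.lift (𝟙 F) f (by simp)
  have h1 : Γ ≫ pullback.fst (f ≫ g) g = 𝟙 F := pullback.lift_fst _ _ _
  have h2 : Γ ≫ pullback.snd (f ≫ g) g = f := pullback.lift_snd _ _ _
  have hΔ : RepWith @QuasiCompact (pullback.diagonal (pullback.fst (f ≫ g) g)) :=
    repWith_diagonal_of_isPullback sq.flip hg
  rw [← h2]
  exact isQuasiCompactMor_comp hP hG (isQuasiCompactMor_of_repWith hF hP (repWith_section h1 hΔ))
    (isQuasiCompactMor_of_isPullback sq hgf)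

theorem isPullback_diagonal {F G F' G' : Sp S} {fst : F' ⟶ F} {snd : F' ⟶ G'} {f : F ⟶ G}
    {g : G' ⟶ G} (sq : IsPullback fst snd f g) :
    IsPullback fst (pullback.diagonal snd) (pullback.diagonal f)
      (pullback.map snd snd f f fst fst g sq.w.symm sq.w.symm) := by
  refine ⟨⟨?_⟩, ⟨PullbackCone.IsLimit.mk _ (fun c => c.snd ≫ pullback.fst snd snd) (fun c => ?_)
    (fun c => ?_) (fun c m h1 h2 => ?_)⟩⟩
  · apply pullback.hom_ext <;>
      simp only [Category.assoc, pullback.diagonal_fst, pullback.diagonal_snd, pullback.lift_fst,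
        pullback.lift_snd, pullback.diagonal_fst_assoc, pullback.diagonal_snd_assoc, Category.comp_id]
  · have h1 := congrArg (· ≫ pullback.fst f f) c.condition
    simp only [Category.assoc, pullback.diagonal_fst, pullback.lift_fst, Category.comp_id] at h1
    exact (Category.assoc _ _ _).trans h1.symm
  · have h1 := congrArg (· ≫ pullback.fst f f) c.condition
    have h2 := congrArg (· ≫ pullback.snd f f) c.condition
    simp only [Category.assoc, pullback.diagonal_fst, pullback.diagonal_snd, pullback.lift_fst,
      pullback.lift_snd, Category.comp_id] at h1 h2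
    have e : c.snd ≫ pullback.fst snd snd = c.snd ≫ pullback.snd snd snd := by
      apply sq.hom_ext
      · exact ((Category.assoc _ _ _).trans (h1.symm.trans h2)).trans (Category.assoc _ _ _).symm
      · exact (Category.assoc _ _ _).trans
          ((congrArg (c.snd ≫ ·) pullback.condition).trans (Category.assoc _ _ _).symm)
    apply pullback.hom_ext
    · rw [Category.assoc (c.snd ≫ pullback.fst snd snd), pullback.diagonal_fst, Category.comp_id]
    · rw [Category.assoc (c.snd ≫ pullback.fst snd snd), pullback.diagonal_snd, Category.comp_id, e]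
  · have := congrArg (· ≫ pullback.fst snd snd) h2
    simp only [Category.assoc, pullback.diagonal_fst, Category.comp_id] at this
    exact this

/-- Representable properties Zariski local on the target can be checked over affine schemes. -/
theorem repWith_of_forall_affine {P : MorphismProperty Scheme.{u}} [IsZariskiLocalAtTarget P]
    {F G : Sp S} {f : F ⟶ G} (hf : Representable f)
    (h : ∀ (Z W : Over S), IsAffine Z.left → ∀ (g : (yon S).obj Z ⟶ G) (fst : (yon S).obj W ⟶ F)
      (snd : W ⟶ Z), IsPullback fst ((yon S).map snd) f g → P snd.left) : RepWith P f := by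
  refine ⟨hf, fun T W g fst snd sq => ?_⟩
  refine IsZariskiLocalAtTarget.of_openCover T.left.affineCover fun i => ?_
  let Z : Over S := Over.mk (T.left.affineCover.f i ≫ T.hom)
  let j : Z ⟶ T := Over.homMk (T.left.affineCover.f i) rfl
  have : IsAffine Z.left := inferInstanceAs (IsAffine (T.left.affineCover.X i))
  have := h Z _ this ((yon S).map j ≫ g) _ (pullback.snd snd j)
    (((IsPullback.of_hasPullback snd j).map (yon S)).paste_horiz sq)
  have sq1 : IsPullback (pullback.fst snd j).left (pullback.snd snd j).left snd.left (T.left.affineCover.f i) :=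
    (IsPullback.of_hasPullback snd j).map (Over.forget S)
  rw [← sq1.isoPullback_hom_snd] at this
  exact (P.cancel_left_of_respectsIso sq1.isoPullback.hom _).1 this

/-- Separation axioms can be checked after base change to affine schemes. -/
theorem repWith_diagonal_of_forall_affine {P : MorphismProperty Scheme.{u}} [IsZariskiLocalAtTarget P]
    {F G : Sp S} (hF : IsAlgSpace F) {f : F ⟶ G}
    (h : ∀ (Z : Over S), IsAffine Z.left → ∀ (g : (yon S).obj Z ⟶ G) (F' : Sp S) (fst : F' ⟶ F)
      (snd : F' ⟶ (yon S).obj Z), IsPullback fst snd f g → RepWith P (pullback.diagonal snd)) :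
    RepWith P (pullback.diagonal f) := by
  refine repWith_of_forall_affine (repWith_diagonal_properties hF f).1 fun Z W hZ g fst snd sq => ?_
  have sqP := IsPullback.of_hasPullback f ((g ≫ pullback.fst f f) ≫ f)
  let s₁ := sqP.lift (g ≫ pullback.fst f f) (𝟙 _) (by rw [Category.id_comp])
  let s₂ := sqP.lift (g ≫ pullback.snd f f) (𝟙 _) (by
    rw [Category.id_comp, Category.assoc, ← pullback.condition, Category.assoc])
  let l := pullback.lift s₁ s₂ ((sqP.lift_snd _ _ _).trans (sqP.lift_snd _ _ _).symm)
  have hl : l ≫ pullback.map _ _ f f (pullback.fst f ((g ≫ pullback.fst f f) ≫ f))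
      (pullback.fst f ((g ≫ pullback.fst f f) ≫ f)) ((g ≫ pullback.fst f f) ≫ f) sqP.w.symm sqP.w.symm = g := by
    apply pullback.hom_ext
    · simp only [l, s₁, Category.assoc, pullback.lift_fst, pullback.lift_fst_assoc, IsPullback.lift_fst]
    · simp only [l, s₂, Category.assoc, pullback.lift_snd, pullback.lift_snd_assoc, IsPullback.lift_fst]
  have sqD := isPullback_diagonal sqP
  have hd := h Z hZ _ _ _ _ sqP
  let e := sqD.lift fst ((yon S).map snd ≫ l) (by rw [Category.assoc, hl]; exact sq.w)
  refine hd.property l e snd (IsPullback.of_right ?_ (sqD.lift_snd _ _ _) sqD)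
  rw [sqD.lift_fst, hl]
  exact sq

end AlgSpLib
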