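import Groth.Agent.AlgSpLib.Fppf
import Mathlib.CategoryTheory.Sites.LeftExact
/-!
# Finite disjoint unions of schemes as sheaves, and a criterion for fpqc locality on the base
-/

set_option autoImplicit false
universe u
open CategoryTheory CategoryTheory.Limits AlgebraicGeometry Opposite AlgSp

namespace AlgSpLib

variable {S : Scheme.{u}}

theorem subsingleton_obj_of_isEmpty (G : Sp S) {Z : Over S} [IsEmpty ↥Z.left] :
    Subsingleton (G.obj.obj (op Z)) := by
  refine ⟨fun x y => ?_⟩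
  have hs := (isSheaf_iff_isSheaf_of_type _ _).1 G.property _ (ofArrows_mem_J (T := Z)
    (κ := PEmpty) (Tk := fun k => k.elim) (fun k => k.elim) (fun k => k.elim) (fun k => k.elim)
    (fun t => isEmptyElim t))
  refine hs.isSeparatedFor.ext ?_
  rintro W f ⟨_, _, _, ⟨k⟩, -⟩
  exact k.elim

/-- The sheaf of a disjoint union is the coproduct of the sheaves. -/
theorem nonempty_isColimit_yon_cofan {κ : Type u} {V : Over S} {W : κ → Over S} (s : ∀ j, W j ⟶ V)
    (hs : ∀ j, IsOpenImmersion (s j).left) (hcov : ∀ v : V.left, ∃ j, v ∈ Set.range (s j).left)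
    (hdisj : ∀ i j, i ≠ j → Disjoint (Set.range (s i).left) (Set.range (s j).left)) :
    Nonempty (IsColimit (Cofan.mk ((yon S).obj V) fun j => (yon S).map (s j))) := by
  have hex : ∀ (G : Sp S) (f : ∀ j, (yon S).obj (W j) ⟶ G),
      ∃! b : (yon S).obj V ⟶ G, ∀ j, (yon S).map (s j) ≫ b = f j := by
    intro G f
    have hsf : (Presieve.ofArrows W s).IsSheafFor G.obj := by
      have := (isSheaf_iff_isSheaf_of_type _ _).1 G.property _ (ofArrows_mem_J s
        (fun j => inferInstance) (fun j => inferInstance) hcov)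
      rwa [Sieve.ofArrows, ← Presieve.isSheafFor_iff_generate] at this
    let e := fun (T : Over S) =>
      (GrothendieckTopology.uliftYonedaEquiv.{u + 1} (J := AlgSp.J S) (X := T) (F := G))
    obtain ⟨t, ht, huniq⟩ := (Presieve.isSheafFor_arrows_iff G.obj s).1 hsf (fun j => e _ (f j))
      (fun i j Z gi gj hg => by
        rcases eq_or_ne i j with rfl | hne
        · have hmono : gi = gj := Over.OverMorphism.ext ((cancel_mono (s i).left).1 (by
            rw [← Over.comp_left, hg, Over.comp_left]))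
          rw [hmono]
        · have : IsEmpty ↥Z.left := ⟨fun z => Set.disjoint_left.1 (hdisj i j hne)
            ⟨gi.left z, rfl⟩ ⟨gj.left z, ((Scheme.Hom.comp_apply _ _ _).symm.trans
              (congrArg (fun k : Z ⟶ V => k.left z) hg.symm)).trans (Scheme.Hom.comp_apply _ _ _)⟩⟩
          exact (subsingleton_obj_of_isEmpty G).elim _ _)
    refine ⟨(e V).symm t, fun j => (e _).injective ?_, fun b hb => ?_⟩
    · rw [← GrothendieckTopology.uliftYonedaEquiv_naturality, Equiv.apply_symm_apply]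
      exact ht j
    · rw [Equiv.eq_symm_apply]
      refine huniq _ fun j => ?_
      rw [← hb j]
      exact GrothendieckTopology.uliftYonedaEquiv_naturality.{u + 1} (J := AlgSp.J S) b (s j)
  choose b hb hu using fun G f => hex G f
  exact ⟨mkCofanColimit _ (fun t => b t.pt t.inj) (fun t j => hb t.pt t.inj j)
    fun t m hm => hu t.pt t.inj m hm⟩

theorem isLocalOnBase_fpqc_of_affine_criterion (P : MorphismProperty (Sp S))
    (h1 : ∀ ⦃ι : Type u⦄ [Finite ι] (Xi Yi : ι → Sp S) (fi : ∀ i, Xi i ⟶ Yi i) (cX : Cofan Xi)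
      (cY : Cofan Yi) (_ : IsColimit cX) (_ : IsColimit cY) (m : cX.pt ⟶ cY.pt),
      (∀ i, IsAlgSpace (Xi i)) → (∀ i, IsAlgSpace (Yi i)) → IsAlgSpace cX.pt → IsAlgSpace cY.pt →
      (∀ i, cX.inj i ≫ m = fi i ≫ cY.inj i) → (∀ i, P (fi i)) → P m)
    (h2 : ∀ ⦃X Y : Sp S⦄, IsAlgSpace X → IsAlgSpace Y → ∀ (f : X ⟶ Y), P f ↔
      ∀ (Z : Over S), IsAffine Z.left → ∀ (g : (yon S).obj Z ⟶ Y) (W : Sp S) (fst : W ⟶ X)
        (snd : W ⟶ (yon S).obj Z), IsAlgSpace W → IsPullback fst snd f g → P snd)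
    (h3 : ∀ ⦃Z Z' : Over S⦄ (c : Z' ⟶ Z), IsAffine Z.left → IsAffine Z'.left → Surjective c.left →
      Flat c.left → ∀ ⦃X X' : Sp S⦄ (f : X ⟶ (yon S).obj Z) (fst : X' ⟶ X)
        (f' : X' ⟶ (yon S).obj Z'), IsAlgSpace X → IsAlgSpace X' →
        IsPullback fst f' f ((yon S).map c) → P f' → P f) :
    IsLocalOnBase (IsFpqcCover (S := S)) P := by
  intro ι Y Yi g hY hYi hτ X f hX Xi p q hXi sq
  refine ⟨fun hf i => (h2 (hXi i) (hYi i) (p i)).2 fun Z hZ k W fst snd hW sqW => ?_, fun h => ?_⟩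
  · exact (h2 hX hY f).1 hf Z hZ (k ≫ g i) W (fst ≫ q i) snd hW (sqW.paste_horiz (sq i))
  refine (h2 hX hY f).2 fun Z hZ k W fst snd hW sqW => ?_
  obtain ⟨m, T, c, hT, hcf, hcs, hl⟩ := hτ.2 Z hZ k
  choose i l hl using hl
  let A : ULift.{u} (Fin m) → Scheme.{u} := fun j => (T j.down).left
  let π : (∐ A) ⟶ Z.left := Sigma.desc fun j => (c j.down).left
  let V : Over S := Over.mk (π ≫ Z.hom)
  let cV : V ⟶ Z := Over.homMk π rfl
  let s : ∀ j : ULift.{u} (Fin m), T j.down ⟶ V := fun j => Over.homMk (Sigma.ι A j) (by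
    change Sigma.ι A j ≫ π ≫ Z.hom = _
    rw [Sigma.ι_desc_assoc, Over.w])
  have hsc : ∀ j, s j ≫ cV = c j.down := fun j => Over.OverMorphism.ext (Sigma.ι_desc _ j)
  have hV : IsAffine V.left := by
    have : ∀ j, IsAffine (A j) := fun j => hT j.down
    exact inferInstanceAs (IsAffine (∐ A))
  have hπf : Flat cV.left := IsZariskiLocalAtSource.sigmaDesc (P := @Flat) fun j => hcf j.down
  have hπs : Surjective cV.left := ⟨fun z => by
    obtain ⟨j, y, hy⟩ := hcs z
    refine ⟨Sigma.ι A ⟨j⟩ y, ?_⟩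
    change π _ = z
    rw [← Scheme.Hom.comp_apply, Sigma.ι_desc]
    exact hy⟩
  obtain ⟨hcY⟩ := nonempty_isColimit_yon_cofan s
    (fun j => inferInstanceAs (IsOpenImmersion ((sigmaOpenCover A).f j)))
    (fun v => (sigmaOpenCover A).exists_eq v)
    (fun a b hab => Set.disjoint_left.2 (by
      rintro v ⟨x, rfl⟩ ⟨y, hy⟩
      exact hab ((Sigma.mk.inj_iff.1 ((sigmaMk A).injective (a₁ := ⟨a, x⟩) (a₂ := ⟨b, y⟩)
        (by rw [sigmaMk_mk, sigmaMk_mk]; exact hy.symm))).1)))
  let W' := pullback snd ((yon S).map cV)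
  have hW' : IsAlgSpace W' :=
    isAlgSpace_pullback hW (IsAlgSpace.yon_obj V) (IsAlgSpace.yon_obj Z) _ _
  refine h3 cV hZ hV hπs hπf snd (pullback.fst _ _) (pullback.snd _ _) hW hW'
    (IsPullback.of_hasPullback snd ((yon S).map cV)) ?_
  let Wj : ULift.{u} (Fin m) → Sp S := fun j =>
    pullback (pullback.snd snd ((yon S).map cV)) ((yon S).map (s j))
  have hWj : ∀ j, IsAlgSpace (Wj j) := fun j =>
    isAlgSpace_pullback hW' (IsAlgSpace.yon_obj _) (IsAlgSpace.yon_obj V) _ _
  let cX : Cofan Wj := Cofan.mk W' fun j => pullback.fst _ _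
  have hcX : IsColimit cX := by
    refine ((FinitaryExtensive.isVanKampen_finiteCoproducts hcY) cX
      (Discrete.natTrans fun j => pullback.snd (pullback.snd snd ((yon S).map cV)) ((yon S).map (s j.as))) (pullback.snd snd ((yon S).map cV)) ?_ ?_).2
      (fun j => ?_) |>.some
    · refine NatTrans.ext (funext fun ⟨j⟩ => ?_)
      exact (pullback.condition (f := pullback.snd snd ((yon S).map cV)) (g := (yon S).map (s j))).symm
    · exact .of_discrete _
    · exact IsPullback.of_hasPullback _ _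
  refine h1 Wj (fun j => (yon S).obj (T j.down)) (fun j => pullback.snd _ _) cX _ hcX hcY _ hWj
    (fun j => IsAlgSpace.yon_obj _) hW' (IsAlgSpace.yon_obj V) (fun j => pullback.condition) fun j => ?_
  have big : IsPullback (pullback.fst _ _ ≫ pullback.fst _ _ ≫ fst)
      (pullback.snd (pullback.snd snd ((yon S).map cV)) ((yon S).map (s j))) f
      (l j.down ≫ g (i j.down)) := by
    rw [hl, ← hsc j, Functor.map_comp, Category.assoc]
    exact (IsPullback.of_hasPullback _ _).paste_horiz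
      ((IsPullback.of_hasPullback snd ((yon S).map cV)).paste_horiz sqW)
  refine (h2 (hXi (i j.down)) (hYi (i j.down)) (p (i j.down))).1 (h (i j.down)) (T j.down) (hT _)
    (l j.down) _ ((sq (i j.down)).lift (pullback.fst _ _ ≫ pullback.fst _ _ ≫ fst)
      (pullback.snd _ _ ≫ l j.down) (by rw [big.w, Category.assoc])) _ (hWj j) ?_
  refine IsPullback.of_right ?_ ((sq (i j.down)).lift_snd _ _ _) (sq (i j.down))
  rw [(sq (i j.down)).lift_fst]
  exact big

end AlgSpLib
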