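import Groth.Agent.AlgSpLib.Iso
import Mathlib.AlgebraicGeometry.ZariskisMainTheorem
import Mathlib.RingTheory.Finiteness.Descent
/-!
# Further properties that are fpqc local on the base
-/

set_option autoImplicit false
universe u
open CategoryTheory CategoryTheory.Limits AlgebraicGeometry Opposite AlgSp Topology TensorProduct

namespace AlgSpLib

theorem quasiFinite_codescendsAlong :
    RingHom.CodescendsAlong RingHom.QuasiFinite RingHom.FaithfullyFlat := by
  refine .mk _ RingHom.QuasiFinite.respectsIso fun R S T _ _ _ _ _ h h' => ?_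
  rw [RingHom.quasiFinite_algebraMap] at h' ⊢
  rw [RingHom.faithfullyFlat_algebraMap_iff] at h
  refine ⟨fun p _ => ?_⟩
  obtain ⟨q, hq⟩ := PrimeSpectrum.comap_surjective_of_faithfullyFlat (B := S) ⟨p, inferInstance⟩
  have hqp : p = q.asIdeal.comap (algebraMap R S) := (congrArg PrimeSpectrum.asIdeal hq).symm
  let f : p.ResidueField →+* q.asIdeal.ResidueField :=
    Ideal.ResidueField.map p q.asIdeal (algebraMap R S) hqp
  letI := f.toAlgebra
  have : IsScalarTower R p.ResidueField q.asIdeal.ResidueField :=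
    IsScalarTower.of_algebraMap_eq fun r => by
      change _ = f (algebraMap R p.ResidueField r)
      rw [IsScalarTower.algebraMap_apply R S q.asIdeal.ResidueField]
      exact (Ideal.ResidueField.map_algebraMap p q.asIdeal (algebraMap R S) hqp r).symm
  have hfin : Module.Finite q.asIdeal.ResidueField (q.asIdeal.Fiber (S ⊗[R] T)) := inferInstance
  let e₁ : q.asIdeal.ResidueField ⊗[S] (S ⊗[R] T) ≃ₗ[q.asIdeal.ResidueField] q.asIdeal.ResidueField ⊗[R] T :=
    AlgebraTensorModule.cancelBaseChange R S q.asIdeal.ResidueField q.asIdeal.ResidueField T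
  let e₂ : q.asIdeal.ResidueField ⊗[p.ResidueField] (p.ResidueField ⊗[R] T) ≃ₗ[q.asIdeal.ResidueField]
      q.asIdeal.ResidueField ⊗[R] T :=
    AlgebraTensorModule.cancelBaseChange R p.ResidueField q.asIdeal.ResidueField q.asIdeal.ResidueField T
  have : Module.Finite q.asIdeal.ResidueField (q.asIdeal.ResidueField ⊗[p.ResidueField] (p.Fiber T)) :=
    Module.Finite.equiv (e₁.trans e₂.symm)
  exact Module.Finite.of_finite_tensorProduct_of_faithfullyFlat q.asIdeal.ResidueField

instance descendsAlong_locallyQuasiFinite :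
    MorphismProperty.DescendsAlong (@LocallyQuasiFinite : MorphismProperty Scheme.{u})
      (@Surjective ⊓ @Flat ⊓ @QuasiCompact) :=
  HasRingHomProperty.descendsAlong_flat quasiFinite_codescendsAlong

theorem descendsAlong_inf {C : Type*} [Category C] {P Q W : MorphismProperty C} [P.DescendsAlong W]
    [Q.DescendsAlong W] : (P ⊓ Q).DescendsAlong W :=
  ⟨fun sq hw h => ⟨MorphismProperty.of_isPullback_of_descendsAlong sq hw h.1,
    MorphismProperty.of_isPullback_of_descendsAlong sq hw h.2⟩⟩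

instance descendsAlong_isClosedImmersion :
    MorphismProperty.DescendsAlong (@IsClosedImmersion : MorphismProperty Scheme.{u})
      (@Surjective ⊓ @Flat ⊓ @QuasiCompact) := by
  refine MorphismProperty.DescendsAlong.mk' fun {X Y Z} f g _ hf hg => ?_
  have : IsClosedImmersion (pullback.fst f g) := hg
  have : UniversallyClosed g := MorphismProperty.of_pullback_fst_of_descendsAlong
    (P := @UniversallyClosed) (Q := @Surjective ⊓ @Flat ⊓ @QuasiCompact) hf inferInstance
  have : LocallyOfFiniteType g := MorphismProperty.of_pullback_fst_of_descendsAlong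
    (P := @LocallyOfFiniteType) (Q := @Surjective ⊓ @Flat ⊓ @QuasiCompact) hf inferInstance
  have h : (MorphismProperty.isomorphisms Scheme.{u}).diagonal g :=
    MorphismProperty.of_pullback_fst_of_descendsAlong
      (P := (MorphismProperty.isomorphisms Scheme.{u}).diagonal) (Q := @Surjective ⊓ @Flat ⊓ @QuasiCompact) hf
      (inferInstanceAs (IsIso (pullback.diagonal (pullback.fst f g))))
  have : IsIso (pullback.diagonal g) := h
  have : Mono g := (pullback.isIso_diagonal_iff g).1 this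
  exact (IsClosedImmersion.iff_isProper_and_mono g).2 ⟨{}, this⟩

variable {S : Scheme.{u}}

theorem isLocalOnBase_fpqc_repWith_diagonal (P : MorphismProperty Scheme.{u}) [IsZariskiLocalAtTarget P]
    [P.DescendsAlong (@Surjective ⊓ @Flat ⊓ @QuasiCompact)] :
    IsLocalOnBase (IsFpqcCover (S := S)) (fun _ _ f => RepWith P (pullback.diagonal f)) := by
  intro ι Y Yi g hY hYi hτ X f hX Xi p q hXi sq
  refine ⟨fun hf i => repWith_diagonal_of_isPullback (sq i) hf, fun h => ?_⟩
  have hXX := isAlgSpace_pullback hX hX hY f f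
  exact repWith_of_fpqc (isFpqcCover_of_isPullback hY hXX hYi hτ fun i => isPullback_map_self (sq i))
    (repWith_diagonal_properties hX f).1 (fun i => isPullback_diagonal (sq i)) h

theorem isLocalOnBase_fpqc_isSeparatedMor (S : Scheme.{u}) :
    IsLocalOnBase (IsFpqcCover (S := S)) IsSeparatedMor :=
  isLocalOnBase_fpqc_repWith_diagonal @IsClosedImmersion

theorem isLocalOnBase_fpqc_monomorphisms (S : Scheme.{u}) :
    IsLocalOnBase (IsFpqcCover (S := S)) (MorphismProperty.monomorphisms (Sp S)) := by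
  intro ι Y Yi g hY hYi hτ X f hX Xi p q hXi sq
  refine ⟨fun hf i => ?_, fun h => mono_of_fpqc hY hYi hτ hX sq h⟩
  have : Mono f := hf
  exact ⟨fun a b e => (sq i).hom_ext ((cancel_mono f).1 (by
    rw [Category.assoc, Category.assoc, (sq i).w, ← Category.assoc, e, Category.assoc])) e⟩

theorem isLocalOnBase_fpqc_isEtaleMor (S : Scheme.{u}) :
    IsLocalOnBase (IsFpqcCover (S := S)) IsEtaleMor := by
  intro ι Y Yi g hY hYi hτ X f hX Xi p q hXi sq
  rw [← locP_etale_iff hY, isLocalOnBase_fpqc_locP_of_descendsAlong S @Etale Yi g hY hYi hτ f hX Xi p q hXi sq]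
  exact forall_congr' fun i => locP_etale_iff (hYi i)

/-- Composites of fpqc coverings. -/
theorem isFpqcCover_sigma {ι : Type u} {X : Sp S} (hX : IsAlgSpace X) {Xi : ι → Sp S} (hXi : ∀ i, IsAlgSpace (Xi i))
    {g : ∀ i, Xi i ⟶ X} {κ : ι → Type u} {Xij : ∀ i, κ i → Sp S} (hXij : ∀ i j, IsAlgSpace (Xij i j))
    {gij : ∀ i j, Xij i j ⟶ Xi i} (h : IsFpqcCover Xi g) (hij : ∀ i, IsFpqcCover (Xij i) (gij i)) :
    IsFpqcCover (fun r : Σ i, κ i => Xij r.1 r.2) (fun r => gij r.1 r.2 ≫ g r.1) := by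
  refine ⟨fun r => locP_comp (hXij _ _) (hXi _) hX ((hij _).1 _) (h.1 _), fun Z hZ k => ?_⟩
  obtain ⟨m, W, c, hW, hc, hs, hl⟩ := h.2 Z hZ k
  choose i l hl using hl
  choose n W' c' hW' hc' hs' hl' using fun j => (hij (i j)).2 (W j) (hW j) (l j)
  let e := Fintype.equivFin (Σ j, Fin (n j))
  refine ⟨Fintype.card (Σ j, Fin (n j)), fun r => W' (e.symm r).1 (e.symm r).2,
    fun r => c' (e.symm r).1 (e.symm r).2 ≫ c (e.symm r).1, fun r => hW' _ _, fun r => ?_, fun z => ?_, fun r => ?_⟩
  · have := hc (e.symm r).1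
    have := hc' (e.symm r).1 (e.symm r).2
    rw [Over.comp_left]
    infer_instance
  · obtain ⟨j, w, rfl⟩ := hs z
    obtain ⟨k, v, rfl⟩ := hs' j w
    refine ⟨e ⟨j, k⟩, ?_⟩
    exact (fun r (hr : r = (⟨j, k⟩ : Σ j, Fin (n j))) =>
        (show ((c j).left ((c' j k).left v)) ∈ Set.range (c' r.1 r.2 ≫ c r.1).left by subst hr; exact ⟨v, rfl⟩))
      _ (e.symm_apply_apply ⟨j, k⟩)
  · obtain ⟨j', l', e'⟩ := hl' (e.symm r).1 (e.symm r).2
    refine ⟨⟨_, j'⟩, l', ?_⟩
    rw [← Category.assoc, e', Category.assoc, hl, Functor.map_comp, Category.assoc]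

/-- Descent of a covering along a single covering map. -/
theorem isFpqcCover_of_base {ι : Type u} {X U : Sp S} (hX : IsAlgSpace X) (hU : IsAlgSpace U)
    {Xi Ui : ι → Sp S} (hXi : ∀ i, IsAlgSpace (Xi i)) {g : ∀ i, Xi i ⟶ X} {p : U ⟶ X}
    (hp : IsFpqcCover (fun _ : PUnit.{u + 1} => U) (fun _ => p))
    {q : ∀ i, Ui i ⟶ U} {p' : ∀ i, Ui i ⟶ Xi i} (sq : ∀ i, IsPullback (p' i) (q i) (g i) p)
    (h : IsFpqcCover Ui q) : IsFpqcCover Xi g := by
  refine ⟨fun i => ?_, fun Z hZ k => ?_⟩
  · exact (isLocalOnBase_fpqc_locP_of_descendsAlong S @Flat (fun _ : PUnit.{u + 1} => U) (fun _ => p) hX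
      (fun _ => hU) hp (g i) (hXi i) (fun _ => Ui i) (fun _ => q i) (fun _ => p' i)
      (fun _ => isAlgSpace_of_isPullback (hXi i) hU hX (sq i)) fun _ => sq i).2 fun _ => h.1 i
  · obtain ⟨m, W, c, hW, hc, hs, hl⟩ := hp.2 Z hZ k
    choose i l hl using hl
    choose n W' c' hW' hc' hs' hl' using fun j => h.2 (W j) (hW j) (l j)
    let e := Fintype.equivFin (Σ j, Fin (n j))
    refine ⟨Fintype.card (Σ j, Fin (n j)), fun r => W' (e.symm r).1 (e.symm r).2,
      fun r => c' (e.symm r).1 (e.symm r).2 ≫ c (e.symm r).1, fun r => hW' _ _, fun r => ?_, fun z => ?_, fun r => ?_⟩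
    · have := hc (e.symm r).1
      have := hc' (e.symm r).1 (e.symm r).2
      rw [Over.comp_left]
      infer_instance
    · obtain ⟨j, w, rfl⟩ := hs z
      obtain ⟨k', v, rfl⟩ := hs' j w
      refine ⟨e ⟨j, k'⟩, ?_⟩
      exact (fun r (hr : r = (⟨j, k'⟩ : Σ j, Fin (n j))) =>
          (show ((c j).left ((c' j k').left v)) ∈ Set.range (c' r.1 r.2 ≫ c r.1).left by subst hr; exact ⟨v, rfl⟩))
        _ (e.symm_apply_apply ⟨j, k'⟩)
    · obtain ⟨i', l', e'⟩ := hl' (e.symm r).1 (e.symm r).2
      refine ⟨i', l' ≫ p' i', ?_⟩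
      rw [Category.assoc, (sq i').w, ← Category.assoc, e', Category.assoc, hl, Functor.map_comp, Category.assoc]

/-- An etale surjective chart is an fpqc covering. -/
theorem isFpqcCover_chart {X : Sp S} {U : Over S} {p : (yon S).obj U ⟶ X} (hp : RepWith @Etale p)
    (hps : RepWith @Surjective p) : IsFpqcCover (fun _ : PUnit.{u + 1} => (yon S).obj U) (fun _ => p) := by
  refine ⟨fun _ => locP_of_repWith (repWith_mono (fun _ _ g (_ : Etale g) => (inferInstance : Flat g)) hp),
    fun Z hZ h => ?_⟩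
  have : Etale (hp.rep.snd h).left := hp.property h _ _ (hp.rep.isPullback h)
  have : Surjective (hp.rep.snd h).left := hps.property h _ _ (hp.rep.isPullback h)
  have : IsAffine Z.left := hZ
  obtain ⟨E, k, hE, hke, hks, -⟩ := exists_affine_etale_surjective (hp.rep.snd h).left
  let E' : Over S := Over.mk (k ≫ (hp.rep.pullback h).hom)
  let k' : E' ⟶ hp.rep.pullback h := Over.homMk k rfl
  refine ⟨1, fun _ => E', fun _ => k' ≫ hp.rep.snd h, fun _ => hE, fun _ => ?_, fun z => ⟨0, ?_⟩,
    fun _ => ⟨⟨⟩, (yon S).map k' ≫ hp.rep.fst h, ?_⟩⟩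
  · rw [Over.comp_left]
    change Flat (k ≫ _)
    infer_instance
  · have : Surjective (k' ≫ hp.rep.snd h).left := by rw [Over.comp_left]; assumption
    exact this.surj z
  · rw [Category.assoc, hp.rep.w, Functor.map_comp, Category.assoc]

end AlgSpLib
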