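import Groth.Agent.AlgSpLib.Points
/-!
# The category of algebraic spaces has fibre products; presentations
-/

set_option autoImplicit false
universe u
open CategoryTheory CategoryTheory.Limits AlgebraicGeometry Opposite AlgSp

namespace AlgSpLib

variable {S : Scheme.{u}}

instance isClosedUnderPullbacks (S : Scheme.{u}) :
    ObjectProperty.IsClosedUnderLimitsOfShape (IsAlgSpace (S := S)) WalkingCospan where
  limitsOfShape_le := by
    rintro X ⟨p⟩
    exact isAlgSpace_of_isPullback (p.prop_diag_obj _) (p.prop_diag_obj _) (p.prop_diag_obj _)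
      (IsPullback.of_isLimit_cone p.isLimit)

theorem isEtaleEqvRel_of_isPullback {F : Sp S} {R U : Over S} {s t : R ⟶ U}
    {a : (yon S).obj U ⟶ F} (ha : RepWith @Etale a)
    (sq : IsPullback ((yon S).map t) ((yon S).map s) a a) : IsEtaleEqvRel s t where
  injective T r r' h1 h2 := (yon S).map_injective (sq.hom_ext
    (by rw [← Functor.map_comp, ← Functor.map_comp, h1])
    (by rw [← Functor.map_comp, ← Functor.map_comp, h2]))
  equivalence T := by
    have key : ∀ x y : T ⟶ U, (∃ r : T ⟶ R, r ≫ t = x ∧ r ≫ s = y) ↔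
        (yon S).map x ≫ a = (yon S).map y ≫ a := fun x y => by
      constructor
      · rintro ⟨r, rfl, rfl⟩
        simp only [Functor.map_comp, Category.assoc, sq.w]
      · intro h
        obtain ⟨r, hr⟩ := (yon S).map_surjective (sq.lift _ _ h)
        refine ⟨r, (yon S).map_injective ?_, (yon S).map_injective ?_⟩
        · rw [Functor.map_comp, hr, sq.lift_fst]
        · rw [Functor.map_comp, hr, sq.lift_snd]
    simp only [key]
    exact ⟨fun _ => rfl, Eq.symm, Eq.trans⟩
  etale_left := etale_left (repWith_of_isPullback sq ha)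
  etale_right := etale_left (repWith_of_isPullback sq.flip ha)

/-- Cartesian squares may be pushed through a monomorphism. -/
theorem isPullback_comp_mono {F G : Sp S} {A B W : Sp S} {p : W ⟶ A} {q : W ⟶ B} {a : A ⟶ F}
    {b : B ⟶ F} (j : F ⟶ G) [Mono j] (sq : IsPullback p q (a ≫ j) (b ≫ j)) : IsPullback p q a b :=
  have w : p ≫ a = q ≫ b := (cancel_mono j).1 (by simpa using sq.w)
  ⟨⟨w⟩, ⟨PullbackCone.IsLimit.mk w
    (fun c => sq.lift c.fst c.snd (by simp [reassoc_of% c.condition]))
    (fun _ => sq.lift_fst _ _ _) (fun _ => sq.lift_snd _ _ _)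
    (fun c m h1 h2 => sq.hom_ext (by rw [h1, sq.lift_fst]) (by rw [h2, sq.lift_snd]))⟩⟩

theorem exists_factor_etale_surjective {F F' : Sp S} {U : Over S} (a : (yon S).obj U ⟶ F)
    (ha : RepWith @Etale a) {j : F' ⟶ F} (hj : RepWith @IsOpenImmersion j)
    (himage : Set.range (Points.map j) = Set.range (Points.ofPt a)) :
    ∃ a' : (yon S).obj U ⟶ F', a' ≫ j = a ∧ RepWith @Etale a' ∧ RepWith @Surjective a' := by
  obtain ⟨a', e⟩ := (exists_factor_iff hj a).2 (by rw [himage, range_ofPt])
  have : Mono j := mono_of_openImmersion hj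
  have sq : IsPullback (𝟙 ((yon S).obj U)) a' a j := by
    refine ⟨⟨by simp [e]⟩, ⟨PullbackCone.IsLimit.mk _ (fun c => c.fst) (fun c => by simp)
      (fun c => ?_) (fun c m h1 _ => by simpa using h1)⟩⟩
    rw [← cancel_mono j, Category.assoc, e, c.condition]
  have he : RepWith @Etale a' := repWith_of_isPullback sq ha
  refine ⟨a', e, he, (repWith_surjective_iff he.rep).2 fun y => ?_⟩
  have : y ∈ Set.range (Points.map a') := by
    rw [range_map_of_isPullback sq, ← range_ofPt, ← himage]
    exact ⟨y, rfl⟩
  exact this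

end AlgSpLib
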