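import Groth.Agent.AlgSpLib.RepBase
import Groth.Agent.AlgSpLib.FpqcMore
import Groth.Agent.AlgSpLib.Space
/-!
# Quotients by etale equivalence relations are algebraic spaces
-/

set_option autoImplicit false
set_option backward.isDefEq.respectTransparency false
set_option backward.isDefEq.respectTransparency.types false
universe u
open CategoryTheory CategoryTheory.Limits AlgebraicGeometry Opposite AlgSp

namespace AlgSpLib

variable {S : Scheme.{u}}

/-- Products of local surjections are local surjections. -/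
lemma isLocallySurjective_prodMap {F F' G G' : Sp S} (a : F ⟶ G) (b : F' ⟶ G') [Sheaf.IsLocallySurjective a]
    [Sheaf.IsLocallySurjective b] : Sheaf.IsLocallySurjective (prod.map a b) := by
  refine ⟨fun {T} s => ?_⟩
  let c : (yon S).obj T ⟶ G ⨯ G' := yEq.symm s
  refine GrothendieckTopology.superset_covering _ ?_ (GrothendieckTopology.intersection_covering _
    (Presheaf.imageSieve_mem (AlgSp.J S) a.hom (yEq (c ≫ prod.fst)))
    (Presheaf.imageSieve_mem (AlgSp.J S) b.hom (yEq (c ≫ prod.snd))))
  rintro V g ⟨⟨p, hp⟩, ⟨p', hp'⟩⟩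
  refine ⟨yEq (prod.lift (yEq.symm p) (yEq.symm p')), ?_⟩
  refine (yEq_comp _ (prod.map a b)).symm.trans ?_
  have key : prod.lift (yEq.symm p) (yEq.symm p') ≫ prod.map a b = (yon S).map g ≫ c := by
    apply prod.hom_ext
    · simp only [Category.assoc, prod.map_fst, prod.lift_fst_assoc]
      apply yEq.injective
      rw [yEq_comp, Equiv.apply_symm_apply, yEq_map]
      exact hp
    · simp only [Category.assoc, prod.map_snd, prod.lift_snd_assoc]
      apply yEq.injective
      rw [yEq_comp, Equiv.apply_symm_apply, yEq_map]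
      exact hp'
  rw [key, yEq_map, Equiv.apply_symm_apply]

lemma isPullback_diag_prodMap {F U₀ R₀ : Sp S} {a : U₀ ⟶ F} {t s : R₀ ⟶ U₀} (sq : IsPullback t s a a) :
    IsPullback (t ≫ a) (prod.lift t s) (Limits.diag F) (prod.map a a) := by
  refine isPullback_of_forall_existsUnique (by ext <;> simp [sq.w]) fun T x y h => ?_
  have h1 : y ≫ prod.fst ≫ a = x := by simpa using (congrArg (· ≫ prod.fst) h).symm
  have h2 : y ≫ prod.snd ≫ a = x := by simpa using (congrArg (· ≫ prod.snd) h).symm
  refine ⟨sq.lift (y ≫ prod.fst) (y ≫ prod.snd) (by rw [Category.assoc, Category.assoc, h1, h2]),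
    ⟨by rw [sq.lift_fst_assoc, Category.assoc, h1], by ext <;> simp⟩, fun l hl => ?_⟩
  apply sq.hom_ext <;> simp [← hl.2]

/-- The two maps of a monomorphic relation with etale first projection. -/
lemma sepLqf_lift {R U : Over S} (t s : R ⟶ U) [LocallyOfFiniteType t.left]
    (hinj : ∀ (T : Over S) (r r' : T ⟶ R), r ≫ t = r' ≫ t → r ≫ s = r' ≫ s → r = r') :
    SepLqf (prod.lift t s).left := by
  haveI : Mono (prod.lift t s) := ⟨fun r r' h => hinj _ r r' (by simpa using congrArg (· ≫ prod.fst) h)
    (by simpa using congrArg (· ≫ prod.snd) h)⟩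
  haveI : Mono (prod.lift t s).left := inferInstanceAs (Mono ((Over.forget S).map (prod.lift t s)))
  haveI : LocallyOfFiniteType ((prod.lift t s).left ≫ (prod.fst : U ⨯ U ⟶ U).left) := by
    rw [← Over.comp_left, prod.lift_fst]; infer_instance
  haveI : LocallyOfFiniteType (prod.lift t s).left :=
    locallyOfFiniteType_of_comp _ (prod.fst : U ⨯ U ⟶ U).left
  exact ⟨inferInstance, inferInstance, inferInstance⟩

/-- A sheaf with a locally surjective map from a scheme whose kernel pair is an etale equivalence relation. -/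
theorem isAlgSpace_of_kernelPair {F : Sp S} {R U : Over S} {s t : R ⟶ U} {a : (yon S).obj U ⟶ F}
    [Sheaf.IsLocallySurjective a] (sq : IsPullback ((yon S).map t) ((yon S).map s) a a)
    (h : IsEtaleEqvRel s t) :
    Representable (Limits.diag F) ∧ RepWith @Etale a ∧ RepWith @Surjective a ∧ IsAlgSpace F := by
  haveI := h.etale_left
  haveI := h.etale_right
  haveI := isLocallySurjective_prodMap a a
  haveI : (SepLqf : MorphismProperty Scheme.{u}).RespectsIso :=
    MorphismProperty.IsStableUnderBaseChange.respectsIso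
  have hlift : RepWith SepLqf (prod.lift ((yon S).map t) ((yon S).map s)) := by
    have e : prod.lift ((yon S).map t) ((yon S).map s) =
        (yon S).map (prod.lift t s) ≫ prodComparison (yon S) U U := by
      apply prod.hom_ext <;> simp [← Functor.map_comp]
    rw [e]
    exact MorphismProperty.RespectsIso.postcomp _ _ _
      ((repWith_yon_map_iff _ _).2 (sepLqf_lift t s h.injective))
  have hd : Representable (Limits.diag F) :=
    representable_of_cover isEffClass_sepLqf (isPullback_diag_prodMap sq) hlift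
  have ha : Representable a := Functor.relativelyRepresentable.of_diag hd a
  have he : RepWith @Etale a := repWith_of_cover sq ha ((repWith_yon_map_iff _ _).2 h.etale_left)
  have hsurj : Surjective s.left := by
    obtain ⟨r, hrt, hrs⟩ := (h.equivalence U).refl (𝟙 U)
    refine ⟨fun x => ⟨r.left x, ?_⟩⟩
    rw [← Scheme.Hom.comp_apply, ← Over.comp_left, hrs]; rfl
  have hs : RepWith @Surjective a := repWith_of_cover sq ha ((repWith_yon_map_iff _ _).2 hsurj)
  exact ⟨hd, he, hs, hd, U, a, he, hs⟩

/-- A sheaf with a representable etale surjective map from a scheme is an algebraic space. -/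
theorem isAlgSpace_of_atlas {F : Sp S} {U : Over S} (a : (yon S).obj U ⟶ F) (he : RepWith @Etale a)
    (hs : RepWith @Surjective a) : IsAlgSpace F := by
  haveI : Sheaf.IsLocallySurjective a := isLocallySurjective_of_repWith
    (repWith_mono (fun _ _ g (_ : Etale g) => (inferInstance : Flat g)) he)
    (repWith_mono (fun _ _ g (_ : Etale g) => (inferInstance : LocallyOfFinitePresentation g)) he) hs
  obtain ⟨R, t, s, sq⟩ := exists_isPullback_yon a a he.rep
  exact (isAlgSpace_of_kernelPair sq (isEtaleEqvRel_of_isPullback he sq)).2.2.2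

/-- A sheaf with a representable etale surjective map from an algebraic space is an algebraic space. -/
theorem isAlgSpace_of_space_atlas {X F : Sp S} (hX : IsAlgSpace X) (f : X ⟶ F) (he : RepWith @Etale f)
    (hs : RepWith @Surjective f) : IsAlgSpace F := by
  obtain ⟨U, p, hp, hps⟩ := hX.atlas
  exact isAlgSpace_of_atlas (p ≫ f) (MorphismProperty.comp_mem _ _ _ hp he)
    (MorphismProperty.comp_mem _ _ _ hps hs)

section Quot

variable {R U : Over S} (s t : R ⟶ U)

lemma repIso_naturality {V W : Over S} (g : V ⟶ W) :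
    QuotSh.repMap Scheme.fppfPrecoverage g ≫ (QuotSh.repIsoUliftYoneda Scheme.fppfPrecoverage W).hom =
      (QuotSh.repIsoUliftYoneda Scheme.fppfPrecoverage V).hom ≫ (yon S).map g :=
by
  rw [← Iso.eq_comp_inv, Category.assoc, ← Iso.inv_comp_eq]
  ext : 1
  exact (toSheafify_naturality (AlgSp.J S) ((yon S).map g).hom).symm

/-- The quotient map on the representable sheaf. -/
noncomputable def qπ : (yon S).obj U ⟶ QuotSh.quot Scheme.fppfPrecoverage s t :=
  (QuotSh.repIsoUliftYoneda Scheme.fppfPrecoverage U).inv ≫ QuotSh.quotπ Scheme.fppfPrecoverage s t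

lemma qπ_condition : (yon S).map s ≫ qπ s t = (yon S).map t ≫ qπ s t := by
  have key : ∀ g : R ⟶ U, (yon S).map g ≫ qπ s t = (QuotSh.repIsoUliftYoneda Scheme.fppfPrecoverage R).inv ≫
      QuotSh.repMap Scheme.fppfPrecoverage g ≫ QuotSh.quotπ Scheme.fppfPrecoverage s t := fun g => by
    rw [qπ, Iso.eq_inv_comp, ← Category.assoc, ← Category.assoc, ← repIso_naturality]
    simp
  rw [key, key, QuotSh.quot_condition]

instance : Sheaf.IsLocallySurjective (qπ s t) := by
  haveI : Epi (QuotSh.quotπ Scheme.fppfPrecoverage s t) := coequalizer.π_epi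
  haveI : Epi (qπ s t) := epi_comp _ _
  exact (Sheaf.isLocallySurjective_iff_epi _).mpr inferInstance

/-- The relation on sections. -/
def Rel (T : Over S) (a b : ((yon S).obj U).obj.obj (op T)) : Prop :=
  ∃ r : T ⟶ R, r ≫ t = a.down ∧ r ≫ s = b.down

/-- The presheaf quotient. -/
def quotPsh : (Over S)ᵒᵖ ⥤ Type (u + 1) where
  obj T := Quot (Rel s t T.unop)
  map {T T'} g := TypeCat.ofHom (Quot.map (fun a => ⟨g.unop ≫ a.down⟩) fun a b ⟨r, h₁, h₂⟩ =>
    ⟨g.unop ≫ r, by simp [h₁], by simp [h₂]⟩)
  map_id T := by ext ⟨a⟩; exact congrArg (Quot.mk _) (ULift.ext _ _ (Category.id_comp a.down))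
  map_comp f g := by ext ⟨a⟩; exact congrArg (Quot.mk _) (ULift.ext _ _ (Category.assoc g.unop f.unop a.down))

/-- The projection to the presheaf quotient. -/
def toQuotPsh : ((yon S).obj U).obj ⟶ quotPsh s t where
  app T := TypeCat.ofHom (Quot.mk _)
  naturality T T' g := by ext a; rfl

/-- Sheafified quotient map. -/
noncomputable def toQuotSh : (yon S).obj U ⟶ (presheafToSheaf (AlgSp.J S) (Type (u + 1))).obj (quotPsh s t) :=
  ⟨toQuotPsh s t ≫ toSheafify (AlgSp.J S) (quotPsh s t)⟩

theorem isPullback_qπ (h : IsEqvRel s t) :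
    IsPullback ((yon S).map t) ((yon S).map s) (qπ s t) (qπ s t) := by
  refine isPullback_of_forall_existsUnique (qπ_condition s t).symm fun T a b hab => ?_
  obtain ⟨a, rfl⟩ := (yon S).map_surjective a
  obtain ⟨b, rfl⟩ := (yon S).map_surjective b
  -- compare in the sheafified quotient
  have hx : (yon S).map s ≫ toQuotSh s t = (yon S).map t ≫ toQuotSh s t := by
    apply yEq.injective
    rw [yEq_map, yEq_map]
    have e : yEq (toQuotSh s t) = (toSheafify (AlgSp.J S) (quotPsh s t)).app (op U) (Quot.mk _ ⟨𝟙 U⟩) := rfl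
    rw [e, ← NatTrans.naturality_apply, ← NatTrans.naturality_apply]
    refine congrArg _ (Quot.sound ?_).symm
    exact ⟨𝟙 R, by simp, by simp⟩
  let D := coequalizer.desc (f := QuotSh.repMap Scheme.fppfPrecoverage s) (g := QuotSh.repMap Scheme.fppfPrecoverage t)
    ((QuotSh.repIsoUliftYoneda Scheme.fppfPrecoverage U).hom ≫ toQuotSh s t) (by
      rw [← Category.assoc, repIso_naturality, ← Category.assoc, repIso_naturality, Category.assoc,
        Category.assoc, hx])
  have hD : qπ s t ≫ D = toQuotSh s t := by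
    rw [qπ, Category.assoc]
    erw [coequalizer.π_desc]
    rw [Iso.inv_hom_id_assoc]
  have hab' : (yon S).map a ≫ toQuotSh s t = (yon S).map b ≫ toQuotSh s t := by
    rw [← hD, ← Category.assoc, hab, Category.assoc]
  have happ : ∀ c : T ⟶ U, yEq ((yon S).map c ≫ toQuotSh s t) =
      (toSheafify (AlgSp.J S) (quotPsh s t)).app (op T) (Quot.mk _ ⟨c⟩) := fun c => by
    rw [yEq_map]
    have e : yEq (toQuotSh s t) = (toSheafify (AlgSp.J S) (quotPsh s t)).app (op U) (Quot.mk _ ⟨𝟙 U⟩) := rfl
    rw [e, ← NatTrans.naturality_apply]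
    exact congrArg _ (congrArg (Quot.mk _) (ULift.ext _ _ (Category.comp_id c)))
  have hsieve : Presheaf.equalizerSieve (F := quotPsh s t) (X := op T) (Quot.mk _ ⟨a⟩) (Quot.mk _ ⟨b⟩) ∈
      AlgSp.J S T := by
    refine Presheaf.equalizerSieve_mem (AlgSp.J S) (toSheafify (AlgSp.J S) (quotPsh s t)) _ _ ?_
    rw [← happ, ← happ, hab']
  obtain ⟨V, c, hc, hcf, hcp, hcs⟩ := exists_family_of_mem hsieve
  have hr : ∀ i, ∃ r : V i ⟶ R, r ≫ t = c i ≫ a ∧ r ≫ s = c i ≫ b := fun i => by
    have h1 : Quot.mk (Rel s t (V i)) ⟨c i ≫ a⟩ = Quot.mk _ ⟨c i ≫ b⟩ := hc i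
    have := congrArg (Quot.lift (fun x => fun y : ((yon S).obj U).obj.obj (op (V i)) => Rel s t (V i) x y)
      (fun x y hxy => funext fun z => propext
        ⟨fun h' => (h.equivalence _).trans ((h.equivalence _).symm hxy) h', (h.equivalence _).trans hxy⟩)) h1
    exact (iff_of_eq (congrFun this ⟨c i ≫ b⟩)).mpr ((h.equivalence (V i)).refl (c i ≫ b))
  choose r hrt hrs using hr
  obtain ⟨l, hl⟩ := exists_amalgamation c hcf hcp (fun x => ⟨x, hcs x⟩) (fun i => (yon S).map (r i))
    fun i j Z gi gj hg => by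
      rw [← Functor.map_comp, ← Functor.map_comp]
      exact congrArg _ (h.injective Z _ _
        (by rw [Category.assoc, Category.assoc, hrt, hrt, ← Category.assoc, hg, Category.assoc])
        (by rw [Category.assoc, Category.assoc, hrs, hrs, ← Category.assoc, hg, Category.assoc]))
  refine ⟨l, ⟨?_, ?_⟩, fun l' hl' => ?_⟩
  · refine hom_ext_of_cover c hcf hcp (fun x => ⟨x, hcs x⟩) fun i => ?_
    rw [← Category.assoc, hl, ← Functor.map_comp, ← Functor.map_comp, hrt]
  · refine hom_ext_of_cover c hcf hcp (fun x => ⟨x, hcs x⟩) fun i => ?_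
    rw [← Category.assoc, hl, ← Functor.map_comp, ← Functor.map_comp, hrs]
  · obtain ⟨l, rfl⟩ := (yon S).map_surjective l'
    refine hom_ext_of_cover c hcf hcp (fun x => ⟨x, hcs x⟩) fun i => ?_
    rw [hl, ← Functor.map_comp]
    refine congrArg _ (h.injective _ _ _ ?_ ?_)
    · rw [hrt, Category.assoc]; congr 1; exact (yon S).map_injective (by rw [Functor.map_comp, hl'.1])
    · rw [hrs, Category.assoc]; congr 1; exact (yon S).map_injective (by rw [Functor.map_comp, hl'.2])

theorem isAlgSpace_quot (h : IsEtaleEqvRel s t) :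
    IsAlgSpace (QuotSh.quot Scheme.fppfPrecoverage s t) :=
  (isAlgSpace_of_kernelPair (isPullback_qπ s t h.toIsEqvRel) h).2.2.2

theorem isPresentation_qπ (h : IsEtaleEqvRel s t) : IsPresentation s t (qπ s t) :=
  have sq := isPullback_qπ s t h.toIsEqvRel
  ⟨h, (isAlgSpace_of_kernelPair sq h).2.1, (isAlgSpace_of_kernelPair sq h).2.2.1, sq⟩

end Quot

end AlgSpLib
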