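import Mathlib
/-!
# Lifting standard etale algebras along square-zero ideals
-/

set_option autoImplicit false
universe u
open Polynomial

namespace AlgSpLib

theorem exists_standardEtalePair_lift {A : Type u} [CommRing A] (I : Ideal A) (hI : I ^ 2 = ⊥)
    (P : StandardEtalePair (A ⧸ I)) :
    ∃ Q : StandardEtalePair A, Q.f.map (Ideal.Quotient.mk I) = P.f ∧
      Q.g.map (Ideal.Quotient.mk I) = P.g := by
  obtain ⟨p₁, p₂, n, e⟩ := P.cond
  have hs := Polynomial.map_surjective (Ideal.Quotient.mk I) Ideal.Quotient.mk_surjective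
  obtain ⟨f, hf, hfm⟩ : ∃ f : A[X], f.map (Ideal.Quotient.mk I) = P.f ∧ f.Monic := by
    rcases subsingleton_or_nontrivial (A ⧸ I) with h | h
    · exact ⟨1, Subsingleton.elim _ _, monic_one⟩
    · obtain ⟨f, hf, -, hfm⟩ := Polynomial.lifts_and_degree_eq_and_monic
        (show P.f ∈ Polynomial.lifts (Ideal.Quotient.mk I) from hs P.f) P.monic_f
      exact ⟨f, hf, hfm⟩
  obtain ⟨g, hg⟩ := hs P.g
  obtain ⟨q₁, hq₁⟩ := hs p₁
  obtain ⟨q₂, hq₂⟩ := hs p₂
  have hδ : derivative f * q₁ + f * q₂ - g ^ n ∈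
      RingHom.ker (Polynomial.mapRingHom (Ideal.Quotient.mk I)) := by
    rw [RingHom.mem_ker, Polynomial.coe_mapRingHom, Polynomial.map_sub, Polynomial.map_add,
      Polynomial.map_mul, Polynomial.map_mul, Polynomial.map_pow, ← Polynomial.derivative_map,
      hf, hg, hq₁, hq₂, e, sub_self]
  rw [Polynomial.ker_mapRingHom, Ideal.mk_ker] at hδ
  have h0 : (derivative f * q₁ + f * q₂ - g ^ n) * (derivative f * q₁ + f * q₂ - g ^ n) = 0 := by
    have := Ideal.mul_mem_mul hδ hδ
    rw [← Ideal.map_mul, ← pow_two I, hI, Ideal.map_bot, Ideal.mem_bot] at this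
    exact this
  refine ⟨⟨f, hfm, g, q₁ * (g ^ n - (derivative f * q₁ + f * q₂ - g ^ n)),
    q₂ * (g ^ n - (derivative f * q₁ + f * q₂ - g ^ n)), n + n, ?_⟩, hf, hg⟩
  linear_combination -h0

/-- An etale algebra over `A ⧸ I` lifts, near each prime, to an etale algebra over `A`. -/
theorem exists_etale_lift_near {A : Type u} [CommRing A] (I : Ideal A) (hI : I ^ 2 = ⊥)
    {C : Type u} [CommRing C] [Algebra (A ⧸ I) C] [Algebra.Etale (A ⧸ I) C]
    (q : PrimeSpectrum C) :
    ∃ (B : Type u) (_ : CommRing B) (φ : A →+* B) (ψ : C →+* B ⧸ I.map φ),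
      φ.Etale ∧ ψ.comp (algebraMap (A ⧸ I) C) = Ideal.quotientMap (I.map φ) φ Ideal.le_comap_map ∧
      ∃ Q : PrimeSpectrum B, (PrimeSpectrum.comap φ Q) =
        PrimeSpectrum.comap ((algebraMap (A ⧸ I) C).comp (Ideal.Quotient.mk I)) q := by
  obtain ⟨r, hr, hstd⟩ := Algebra.IsEtaleAt.exists_isStandardEtale (R := A ⧸ I) q.asIdeal
  obtain ⟨Pp⟩ := hstd.nonempty_standardEtalePresentation
  obtain ⟨Q, hQf, hQg⟩ := exists_standardEtalePair_lift I hI Pp.P
  let φ := algebraMap A Q.Ring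
  let := (Ideal.quotientMap (I.map φ) φ Ideal.le_comap_map).toAlgebra
  have : IsScalarTower A (A ⧸ I) (Q.Ring ⧸ I.map φ) := IsScalarTower.of_algebraMap_eq fun x =>
    (Ideal.quotientMap_mk).symm
  let y : Q.Ring ⧸ I.map φ := Ideal.Quotient.mk _ Q.X
  have hy : Pp.P.HasMap y := by
    have := Q.hasMap_X.map (Ideal.Quotient.mkₐ A (I.map φ))
    rw [StandardEtalePair.HasMap, ← hQf, ← hQg] at *
    rw [← Ideal.Quotient.algebraMap_eq, Polynomial.aeval_map_algebraMap,
      Polynomial.aeval_map_algebraMap]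
    exact this
  let ψ : C →ₐ[A ⧸ I] Q.Ring ⧸ I.map φ :=
    (Pp.P.lift y hy).comp ((Pp.equivRing : _ →ₐ[A ⧸ I] Pp.P.Ring).comp
      (IsScalarTower.toAlgHom (A ⧸ I) C (Localization.Away r)))
  refine ⟨Q.Ring, inferInstance, φ, ψ, RingHom.etale_algebraMap.2 inferInstance, ψ.comp_algebraMap, ?_⟩
  -- the prime over `q`
  let := ((algebraMap (A ⧸ I) (Localization.Away r)).comp (Ideal.Quotient.mk I)).toAlgebra
  have : IsScalarTower A (A ⧸ I) (Localization.Away r) := IsScalarTower.of_algebraMap_eq fun _ => rfl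
  have hx : Q.HasMap Pp.x := by
    have h := Pp.hasMap
    rw [StandardEtalePair.HasMap, ← hQf, ← hQg, ← Ideal.Quotient.algebraMap_eq,
      Polynomial.aeval_map_algebraMap, Polynomial.aeval_map_algebraMap] at h
    exact h
  obtain ⟨qr, hqr⟩ : q ∈ Set.range (PrimeSpectrum.comap (algebraMap C (Localization.Away r))) := by
    rw [PrimeSpectrum.localization_away_comap_range (Localization.Away r) r]
    exact hr
  refine ⟨PrimeSpectrum.comap (Q.lift Pp.x hx).toRingHom qr, ?_⟩
  rw [← hqr, ← PrimeSpectrum.comap_comp_apply, ← PrimeSpectrum.comap_comp_apply]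
  congr 1
  exact RingHom.ext fun a => ((Q.lift Pp.x hx).commutes a).trans (by
    change algebraMap (A ⧸ I) (Localization.Away r) _ = _
    rw [IsScalarTower.algebraMap_apply (A ⧸ I) C (Localization.Away r)]
    rfl)

end AlgSpLib
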