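import Mathlib
/-!
# Reduction of an etale algebra modulo an ideal
-/

set_option autoImplicit false
universe u
open TensorProduct

namespace AlgSpLib

theorem etale_quotientMap {A B : Type u} [CommRing A] [CommRing B] (φ : A →+* B) (hφ : φ.Etale)
    (I : Ideal A) : (Ideal.quotientMap (I.map φ) φ Ideal.le_comap_map).Etale := by
  algebraize [φ]
  let := (Ideal.quotientMap (I.map φ) φ Ideal.le_comap_map).toAlgebra
  change Algebra.Etale (A ⧸ I) (B ⧸ I.map φ)
  have : IsScalarTower A (A ⧸ I) (B ⧸ I.map φ) := IsScalarTower.of_algebraMap_eq fun x =>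
    (Ideal.quotientMap_mk).symm
  let e : (A ⧸ I) ⊗[A] B ≃+* B ⧸ I.map φ :=
    ((Algebra.TensorProduct.comm A (A ⧸ I) B).toRingEquiv).trans
      (Algebra.TensorProduct.quotIdealMapEquivTensorQuot B I).symm.toRingEquiv
  refine Algebra.Etale.of_equiv (A := (A ⧸ I) ⊗[A] B) (AlgEquiv.ofRingEquiv (f := e) fun x => ?_)
  obtain ⟨a, rfl⟩ := Ideal.Quotient.mk_surjective x
  change (Algebra.TensorProduct.quotIdealMapEquivTensorQuot B I).symm
    ((1 : B) ⊗ₜ[A] (Ideal.Quotient.mk I a)) = _
  rw [AlgEquiv.symm_apply_eq]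
  change _ = Algebra.TensorProduct.quotIdealMapEquivTensorQuot B I (Ideal.Quotient.mk _ (φ a))
  rw [Algebra.TensorProduct.quotIdealMapEquivTensorQuot_mk,
    show φ a = a • (1 : B) from (Algebra.algebraMap_eq_smul_one a),
    TensorProduct.smul_tmul]
  simp [Algebra.smul_def]

end AlgSpLib
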