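import Groth.Agent.AlgSpLib.SrcDescent
/-!
# Fppf coverings of algebraic spaces
-/

set_option autoImplicit false
universe u
open CategoryTheory CategoryTheory.Limits AlgebraicGeometry Opposite AlgSp Topology

namespace AlgSpLib

variable {S : Scheme.{u}}

/-- Around each point of a scheme mapping to the base, an fppf covering lifts after an affine flat
locally finitely presented neighbourhood. -/
theorem exists_affine_fppf_nhd {ι : Type u} {X : Sp S} (hX : IsAlgSpace X) {Xi : ι → Sp S}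
    (hXi : ∀ i, IsAlgSpace (Xi i)) {g : ∀ i, Xi i ⟶ X} (hτ : IsFppfCover Xi g) {Z : Over S}
    (h : (yon S).obj Z ⟶ X) (z : Z.left) :
    ∃ (E : Over S) (c : E ⟶ Z), IsAffine E.left ∧ Flat c.left ∧
      LocallyOfFinitePresentation c.left ∧ z ∈ Set.range c.left ∧
      ∃ (i : ι) (l : (yon S).obj E ⟶ Xi i), l ≫ g i = (yon S).map c ≫ h := by
  obtain ⟨i, y, hy⟩ := hτ.2 (Points.ofPt h z)
  have sq := IsPullback.of_hasPullback (g i) h
  obtain ⟨U, a, ha, has⟩ := (isAlgSpace_pullback (hXi i) (IsAlgSpace.yon_obj Z) hX (g i) h).atlas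
  obtain ⟨φ, hφ⟩ := (yon S).map_surjective (a ≫ pullback.snd (g i) h)
  obtain ⟨w, -, hw⟩ := exists_point_isPullback sq y (Points.ofScheme Z z)
    (by rw [hy, ← Points.ofPt_eq_map_ofScheme])
  obtain ⟨p, hp⟩ := map_surjective_of_repWith has w
  obtain ⟨u, rfl⟩ := (Points.schemeEquiv U).surjective p
  have hu : φ.left u = z := by
    apply (Points.schemeEquiv Z).injective
    refine (Points.map_yon_map_apply φ u).symm.trans ?_
    rw [hφ, Points.map_comp]
    exact (congrArg _ hp).trans hw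
  have e : a ≫ pullback.snd (g i) h = (yon S).map φ ≫ 𝟙 _ := by rw [Category.comp_id, hφ]
  have : Flat φ.left := locP_of_isPullback (hXi i) hX (IsAlgSpace.yon_obj Z) sq (hτ.1 i).1
    a (𝟙 _) φ ha (repWith_id _ _) e
  have : LocallyOfFinitePresentation φ.left :=
    locP_of_isPullback (hXi i) hX (IsAlgSpace.yon_obj Z) sq (hτ.1 i).2 a (𝟙 _) φ ha (repWith_id _ _) e
  obtain ⟨W, hW, huW, -⟩ := exists_isAffineOpen_mem_and_subset (X := U.left) (x := u) (U := ⊤) trivial
  let E : Over S := Over.mk (W.ι ≫ U.hom)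
  let s : E ⟶ U := Over.homMk W.ι rfl
  refine ⟨E, s ≫ φ, hW, ?_, ?_, ⟨⟨u, huW⟩, hu⟩, i, (yon S).map s ≫ a ≫ pullback.fst (g i) h, ?_⟩
  · exact inferInstanceAs (Flat (W.ι ≫ φ.left))
  · exact inferInstanceAs (LocallyOfFinitePresentation (W.ι ≫ φ.left))
  · rw [Functor.map_comp, hφ]
    simp only [Category.assoc, pullback.condition]

theorem isFpqcCover_of_isFppfCover {ι : Type u} {X : Sp S} (hX : IsAlgSpace X) {Xi : ι → Sp S}
    (hXi : ∀ i, IsAlgSpace (Xi i)) {g : ∀ i, Xi i ⟶ X} (hτ : IsFppfCover Xi g) :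
    IsFpqcCover Xi g := by
  refine ⟨fun i => (hτ.1 i).1, fun Z hZ h => ?_⟩
  choose E c hE hcf hcp hz i l hl using exists_affine_fppf_nhd hX hXi hτ h
  have hopen : ∀ z, IsOpenMap (c z).left := fun z => by
    have := hcf z
    have := hcp z
    exact ((c z).left).isOpenMap
  obtain ⟨t, ht⟩ := CompactSpace.isCompact_univ.elim_finite_subcover
    (fun z : Z.left => Set.range (c z).left) (fun z => (hopen z).isOpen_range)
    (fun z _ => Set.mem_iUnion.2 ⟨z, hz z⟩)
  let e := t.equivFin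
  refine ⟨t.card, fun r => E (e.symm r).1, fun r => c (e.symm r).1, fun r => hE _, fun r => hcf _,
    fun z => ?_, fun r => ⟨i _, l _, hl _⟩⟩
  obtain ⟨z', hz', hmem⟩ := Set.mem_iUnion₂.1 (ht (Set.mem_univ z))
  refine ⟨e ⟨z', hz'⟩, ?_⟩
  show z ∈ Set.range (c (e.symm (e ⟨z', hz'⟩)).1).left
  rw [show (e.symm (e ⟨z', hz'⟩)) = ⟨z', hz'⟩ from e.symm_apply_apply _]
  exact hmem

/-- A jointly surjective family of flat, locally finitely presented morphisms is a covering of the big site. -/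
theorem ofArrows_mem_J {T : Over S} {κ : Type u} {Tk : κ → Over S} (c : ∀ k, Tk k ⟶ T)
    (hf : ∀ k, Flat (c k).left) (hp : ∀ k, LocallyOfFinitePresentation (c k).left)
    (hs : ∀ t : T.left, ∃ k, t ∈ Set.range (c k).left) : Sieve.ofArrows Tk c ∈ AlgSp.J S T := by
  rw [GrothendieckTopology.mem_over_iff, Sieve.ofArrows, Sieve.overEquiv_generate]
  refine GrothendieckTopology.superset_covering _ ?_ (Precoverage.generate_mem_toGrothendieck
    (R := Presieve.ofArrows (fun k => (Tk k).left) (fun k => (c k).left))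
    ((Scheme.ofArrows_mem_precoverage_iff _).2 ⟨hs, fun k => ⟨hf k, hp k⟩⟩))
  refine (Sieve.generate_le_iff _ _).2 ?_
  rintro _ _ ⟨k⟩
  exact Sieve.le_generate _ _ _ ⟨Tk k, c k, 𝟙 _, ⟨k⟩, (Category.id_comp _).symm⟩

theorem exists_fppf_local_lift {ι : Type u} {X : Sp S} (hX : IsAlgSpace X) {Xi : ι → Sp S}
    (hXi : ∀ i, IsAlgSpace (Xi i)) {g : ∀ i, Xi i ⟶ X} (hτ : IsFppfCover Xi g) (T : Over S)
    (t : (yon S).obj T ⟶ X) :
    ∃ (κ : Type u) (Tk : κ → Over S) (c : ∀ k, Tk k ⟶ T), Sieve.ofArrows Tk c ∈ AlgSp.J S T ∧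
      ∀ k, ∃ (i : ι) (l : (yon S).obj (Tk k) ⟶ Xi i), l ≫ g i = (yon S).map (c k) ≫ t := by
  choose E c _ hcf hcp hz i l hl using exists_affine_fppf_nhd hX hXi hτ t
  exact ⟨T.left, E, c, ofArrows_mem_J c hcf hcp fun x => ⟨x, hz x⟩, fun k => ⟨i k, l k, hl k⟩⟩

end AlgSpLib
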