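import Groth.Agent.AlgSpLib.FormalCharts
import Groth.Agent.AlgSpLib.Fppf
import Groth.Agent.AlgSpLib.EtaleAlgLift
import Groth.Agent.AlgSpLib.EtaleQuot
/-!
# Formally etale morphisms on charts: gluing local infinitesimal lifts
-/

set_option autoImplicit false
universe u
open CategoryTheory CategoryTheory.Limits AlgebraicGeometry Opposite AlgSp Topology

namespace AlgSpLib

variable {S : Scheme.{u}}

theorem hom_ext_of_cover {G : Sp S} {T : Over S} {κ : Type u} {Tk : κ → Over S} (c : ∀ k, Tk k ⟶ T)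
    (hf : ∀ k, Flat (c k).left) (hp : ∀ k, LocallyOfFinitePresentation (c k).left)
    (hs : ∀ t : T.left, ∃ k, t ∈ Set.range (c k).left) {a b : (yon S).obj T ⟶ G}
    (h : ∀ k, (yon S).map (c k) ≫ a = (yon S).map (c k) ≫ b) : a = b := by
  apply (AlgSp.J S).uliftYonedaEquiv.{u + 1}.injective
  refine ((isSheaf_iff_isSheaf_of_type _ _).1 G.property _ (ofArrows_mem_J c hf hp hs)).isSeparatedFor.ext ?_
  rintro Z f ⟨W, g, _, ⟨k⟩, rfl⟩
  rw [GrothendieckTopology.uliftYonedaEquiv_naturality, GrothendieckTopology.uliftYonedaEquiv_naturality,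
    Functor.map_comp, Category.assoc, Category.assoc, h]

theorem exists_amalgamation {G : Sp S} {T : Over S} {κ : Type u} {Tk : κ → Over S} (c : ∀ k, Tk k ⟶ T)
    (hf : ∀ k, Flat (c k).left) (hp : ∀ k, LocallyOfFinitePresentation (c k).left)
    (hs : ∀ t : T.left, ∃ k, t ∈ Set.range (c k).left) (l : ∀ k, (yon S).obj (Tk k) ⟶ G)
    (hl : ∀ i j (Z : Over S) (gi : Z ⟶ Tk i) (gj : Z ⟶ Tk j), gi ≫ c i = gj ≫ c j →
      (yon S).map gi ≫ l i = (yon S).map gj ≫ l j) :
    ∃ b : (yon S).obj T ⟶ G, ∀ k, (yon S).map (c k) ≫ b = l k := by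
  have hsf : (Presieve.ofArrows Tk c).IsSheafFor G.obj := by
    have := (isSheaf_iff_isSheaf_of_type _ _).1 G.property _ (ofArrows_mem_J c hf hp hs)
    rwa [Sieve.ofArrows, ← Presieve.isSheafFor_iff_generate] at this
  let e := fun (T : Over S) =>
    (GrothendieckTopology.uliftYonedaEquiv.{u + 1} (J := AlgSp.J S) (X := T) (F := G))
  obtain ⟨t, ht, -⟩ := (Presieve.isSheafFor_arrows_iff G.obj c).1 hsf (fun j => e _ (l j))
    (fun i j Z gi gj hg => by
      rw [GrothendieckTopology.uliftYonedaEquiv_naturality, GrothendieckTopology.uliftYonedaEquiv_naturality]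
      exact congrArg _ (hl i j Z gi gj hg))
  exact ⟨(e T).symm t, fun j => (e _).injective (by
    rw [← GrothendieckTopology.uliftYonedaEquiv_naturality, Equiv.apply_symm_apply]
    exact ht j)⟩

/-- A map out of a pulled-back test scheme, as a refinement of test schemes. -/
theorem exists_ptT_hom {F G : Sp S} {f : F ⟶ G} (sq : InfSq f) {B D : Type u} [CommRing B] [CommRing D]
    (φ : sq.A →+* B) (ψ : sq.A →+* D) (g : (pullSq sq ψ).ptT' ⟶ (pullSq sq φ).ptT')
    (hg : g ≫ pullSqHom sq φ = pullSqHom sq ψ) :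
    ∃ r : (pullSq sq ψ).ptT ⟶ (pullSq sq φ).ptT,
      r ≫ (pullSq sq φ).j = (pullSq sq ψ).j ≫ g ∧
        (yon S).map r ≫ (pullSq sq φ).top = (pullSq sq ψ).top := by
  obtain ⟨ρ, hρ⟩ : ∃ ρ : CommRingCat.of B ⟶ CommRingCat.of D, Spec.map ρ = g.left :=
    ⟨Spec.preimage g.left, Spec.map_preimage _⟩
  have hψ : ρ.hom.comp φ = ψ := by
    have := congrArg CommaMorphism.left hg
    change g.left ≫ Spec.map (CommRingCat.ofHom φ) = Spec.map (CommRingCat.ofHom ψ) at this
    rw [← hρ, ← Spec.map_comp] at this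
    exact congrArg CommRingCat.Hom.hom (Spec.map_injective this)
  have hle : sq.I.map φ ≤ Ideal.comap ρ.hom (sq.I.map ψ) := by
    rw [← Ideal.map_le_iff_le_comap, Ideal.map_map, hψ]
  refine ⟨Over.homMk (U := (pullSq sq ψ).ptT) (V := (pullSq sq φ).ptT)
    (Spec.map (CommRingCat.ofHom (Ideal.quotientMap (sq.I.map ψ) ρ.hom hle))) ?_, ?_, ?_⟩
  · change Spec.map _ ≫ Spec.map _ ≫ Spec.map _ ≫ sq.str = Spec.map _ ≫ Spec.map _ ≫ sq.str
    rw [← Spec.map_comp_assoc, ← Spec.map_comp_assoc, ← Spec.map_comp_assoc, ← CommRingCat.ofHom_comp,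
      ← CommRingCat.ofHom_comp, ← CommRingCat.ofHom_comp, Ideal.quotientMap_comp_mk]
    rw [RingHom.comp_assoc, hψ]
  · refine Over.OverMorphism.ext ?_
    change Spec.map _ ≫ Spec.map _ = Spec.map _ ≫ g.left
    rw [← hρ, ← Spec.map_comp, ← Spec.map_comp, ← CommRingCat.ofHom_comp,
      Ideal.quotientMap_comp_mk]
    rfl
  · change (yon S).map _ ≫ (yon S).map _ ≫ sq.top = (yon S).map _ ≫ sq.top
    rw [← Functor.map_comp_assoc]
    refine congrArg (fun k => (yon S).map k ≫ sq.top) (Over.OverMorphism.ext ?_)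
    change Spec.map _ ≫ Spec.map _ = Spec.map _
    rw [← Spec.map_comp, ← CommRingCat.ofHom_comp]
    congr 2
    refine Ideal.Quotient.ringHom_ext ?_
    rw [RingHom.comp_assoc, Ideal.quotientMap_comp_mk, ← RingHom.comp_assoc,
      Ideal.quotientMap_comp_mk, Ideal.quotientMap_comp_mk, RingHom.comp_assoc, hψ]

/-- Local lifts of a formally unramified morphism glue. -/
theorem hasUniqLift_of_local' {F G : Sp S} {f : F ⟶ G} (sq : InfSq f)
    (hu : ∀ sq' : InfSq f,
      (∃ r : (yon S).obj sq'.ptT ⟶ (yon S).obj sq.ptT, sq'.top = r ≫ sq.top) → sq'.HasUniq)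
    (hl : ∀ z : sq.ptT'.left, ∃ (B : Type u) (_ : CommRing B) (φ : sq.A →+* B), φ.Etale ∧
      z ∈ Set.range (pullSqHom sq φ).left ∧ (pullSq sq φ).HasLift) :
    sq.HasUniqLift := by
  suffices sq.HasLift by
    obtain ⟨l, hl'⟩ := this
    exact ⟨l, hl', fun l' h' => hu sq ⟨𝟙 _, (Category.id_comp _).symm⟩ l' l h'.1 h'.2 hl'.1 hl'.2⟩
  choose B _ φ hφ hz l hl1 hl2 using hl
  let c := fun z => pullSqHom sq (φ z)
  have hce : ∀ z, Etale (c z).left := fun z =>
    (HasRingHomProperty.Spec_iff (P := @Etale)).2 (hφ z)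
  obtain ⟨L, hL⟩ := exists_amalgamation c (fun z => have := hce z; inferInstance)
    (fun z => have := hce z; inferInstance) (fun z => ⟨z, hz z⟩) l (fun i j Z gi gj hg => by
      refine hom_ext_of_cover (T := Z) (Tk := fun x : Z.left.affineCover.I₀ =>
          Over.mk (Z.left.affineCover.f x ≫ Z.hom)) (fun x => Over.homMk (Z.left.affineCover.f x) rfl)
        (fun x => inferInstanceAs (Flat (Z.left.affineCover.f x)))
        (fun x => inferInstanceAs (LocallyOfFinitePresentation (Z.left.affineCover.f x)))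
        (fun t => Z.left.affineCover.exists_eq t) fun x => ?_
      let D := Γ(Z.left.affineCover.X x, ⊤)
      let X' : Over S := Over.mk (Z.left.affineCover.f x ≫ Z.hom)
      let s : X' ⟶ Z := Over.homMk (Z.left.affineCover.f x) rfl
      let m : Spec D ⟶ Spec (CommRingCat.of sq.A) :=
        (Z.left.affineCover.X x).isoSpec.inv ≫ Z.left.affineCover.f x ≫ gi.left ≫ (c i).left
      let ψ : sq.A →+* D := (Spec.preimage m).hom
      have hm : Spec.map (CommRingCat.ofHom ψ) = m := Spec.map_preimage m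
      let ι : (pullSq sq ψ).ptT' ⟶ X' := Over.homMk (Z.left.affineCover.X x).isoSpec.inv (by
        change _ ≫ Z.left.affineCover.f x ≫ Z.hom = Spec.map (CommRingCat.ofHom ψ) ≫ sq.str
        rw [hm, ← Over.w gi, ← Over.w (c i)]
        simp [m])
      have : IsIso ι.left := inferInstanceAs (IsIso (Z.left.affineCover.X x).isoSpec.inv)
      have : IsIso ι := by
        have : IsIso ((Over.forget S).map ι) := ‹IsIso ι.left›
        exact isIso_of_reflects_iso ι (Over.forget S)
      have hgi : (ι ≫ s ≫ gi) ≫ pullSqHom sq (φ i) = pullSqHom sq ψ := Over.OverMorphism.ext (by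
        change ((Z.left.affineCover.X x).isoSpec.inv ≫ Z.left.affineCover.f x ≫ gi.left) ≫ (c i).left
          = Spec.map (CommRingCat.ofHom ψ)
        rw [hm]; simp [m])
      have hgj : (ι ≫ s ≫ gj) ≫ pullSqHom sq (φ j) = pullSqHom sq ψ := by
        rw [← hgi, Category.assoc, Category.assoc, Category.assoc, Category.assoc]
        exact congrArg (fun k => ι ≫ s ≫ k) hg.symm
      obtain ⟨ri, hri, hti⟩ := exists_ptT_hom sq (φ i) ψ _ hgi
      obtain ⟨rj, hrj, htj⟩ := exists_ptT_hom sq (φ j) ψ _ hgj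
      have key := hu (pullSq sq ψ) ⟨_, rfl⟩ ((yon S).map (ι ≫ s ≫ gi) ≫ l i) ((yon S).map (ι ≫ s ≫ gj) ≫ l j)
        (by rw [← Functor.map_comp_assoc, ← hri, Functor.map_comp, Category.assoc, hl1, hti])
        (by
          rw [Category.assoc, hl2]
          change (yon S).map _ ≫ (yon S).map _ ≫ sq.bot = (yon S).map _ ≫ sq.bot
          rw [← Functor.map_comp_assoc]
          exact congrArg (fun k => (yon S).map k ≫ sq.bot) hgi)
        (by rw [← Functor.map_comp_assoc, ← hrj, Functor.map_comp, Category.assoc, hl1, htj])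
        (by
          rw [Category.assoc, hl2]
          change (yon S).map _ ≫ (yon S).map _ ≫ sq.bot = (yon S).map _ ≫ sq.bot
          rw [← Functor.map_comp_assoc]
          exact congrArg (fun k => (yon S).map k ≫ sq.bot) hgj)
      simp only [Functor.map_comp, Category.assoc] at key
      exact (cancel_epi ((yon S).map ι)).1 key)
  refine ⟨L, ?_, hom_ext_of_cover c (fun z => have := hce z; inferInstance)
    (fun z => have := hce z; inferInstance) (fun z => ⟨z, hz z⟩) fun z => ?_⟩
  · let r : ∀ z, (pullSq sq (φ z)).ptT ⟶ sq.ptT := fun z =>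
      Over.homMk (U := (pullSq sq (φ z)).ptT) (V := sq.ptT)
        (Spec.map (CommRingCat.ofHom (Ideal.quotientMap (sq.I.map (φ z)) (φ z) Ideal.le_comap_map))) (by
        change Spec.map _ ≫ Spec.map _ ≫ sq.str = Spec.map _ ≫ Spec.map _ ≫ sq.str
        rw [← Spec.map_comp_assoc, ← Spec.map_comp_assoc, ← CommRingCat.ofHom_comp,
          ← CommRingCat.ofHom_comp, Ideal.quotientMap_comp_mk])
    have hre : ∀ z, Etale (r z).left := fun z =>
      (HasRingHomProperty.Spec_iff (P := @Etale)).2 (etale_quotientMap (φ z) (hφ z) sq.I)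
    refine hom_ext_of_cover r (fun z => have := hre z; inferInstance)
      (fun z => have := hre z; inferInstance) (fun t => ?_) fun z => ?_
    · obtain ⟨Q, hQ⟩ := hz (sq.j.left t)
      refine ⟨sq.j.left t, ?_⟩
      have hle : sq.I.map (φ (sq.j.left t)) ≤ Q.asIdeal := by
        rw [Ideal.map_le_iff_le_comap]
        change sq.I ≤ (PrimeSpectrum.comap (φ (sq.j.left t)) Q).asIdeal
        rw [show PrimeSpectrum.comap (φ (sq.j.left t)) Q = PrimeSpectrum.comap (Ideal.Quotient.mk sq.I) t from hQ]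
        intro a ha
        change Ideal.Quotient.mk sq.I a ∈ t.asIdeal
        rw [Ideal.Quotient.eq_zero_iff_mem.2 ha]
        exact t.asIdeal.zero_mem
      obtain ⟨Q', hQ'⟩ : Q ∈ Set.range (PrimeSpectrum.comap
          (Ideal.Quotient.mk (sq.I.map (φ (sq.j.left t))))) := by
        rw [range_comap_of_surjective _ _ Ideal.Quotient.mk_surjective, Ideal.mk_ker]
        exact hle
      refine ⟨Q', PrimeSpectrum.comap_injective_of_surjective (Ideal.Quotient.mk sq.I)
        Ideal.Quotient.mk_surjective ?_⟩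
      refine Eq.trans ?_ hQ
      rw [← hQ']
      change PrimeSpectrum.comap _ (PrimeSpectrum.comap _ Q') = PrimeSpectrum.comap _ (PrimeSpectrum.comap _ Q')
      rw [← PrimeSpectrum.comap_comp_apply, ← PrimeSpectrum.comap_comp_apply]
      simp only [CommRingCat.hom_ofHom, Ideal.quotientMap_comp_mk]
    · have h1 : r z ≫ sq.j = (pullSq sq (φ z)).j ≫ c z := Over.OverMorphism.ext (by
        change Spec.map _ ≫ Spec.map _ = Spec.map _ ≫ Spec.map _
        rw [← Spec.map_comp, ← Spec.map_comp, ← CommRingCat.ofHom_comp, ← CommRingCat.ofHom_comp,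
          Ideal.quotientMap_comp_mk])
      rw [← Functor.map_comp_assoc, h1, Functor.map_comp, Category.assoc, hL, hl1]
  · rw [← Category.assoc, hL, hl2]

theorem hasUniqLift_of_local {F G : Sp S} {f : F ⟶ G} (hu : IsFormallyUnramifiedMor f) (sq : InfSq f)
    (hl : ∀ z : sq.ptT'.left, ∃ (B : Type u) (_ : CommRing B) (φ : sq.A →+* B), φ.Etale ∧
      z ∈ Set.range (pullSqHom sq φ).left ∧ (pullSq sq φ).HasLift) :
    sq.HasUniqLift := hasUniqLift_of_local' sq (fun sq' _ => hu sq') hl

/-- Local lifts of a point through an etale surjective map. -/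
theorem exists_etale_refine {F G : Sp S} {f : F ⟶ G} (sq : InfSq f) {W : Over S} (e : W ⟶ sq.ptT)
    [Etale e.left] [Surjective e.left] (z : sq.ptT'.left) :
    ∃ (B : Type u) (_ : CommRing B) (φ : sq.A →+* B), φ.Etale ∧
      z ∈ Set.range (pullSqHom sq φ).left ∧
      ∃ k : (pullSq sq φ).ptT ⟶ W, (yon S).map k ≫ (yon S).map e ≫ sq.top = (pullSq sq φ).top := by
  obtain ⟨t, ht⟩ : ∃ t : sq.ptT.left, sq.j.left t = z := (thick_quotient sq.A sq.I sq.sq_zero).2.surj z
  obtain ⟨w, hw⟩ := e.left.surjective t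
  obtain ⟨O, hO, hwO, -⟩ := exists_isAffineOpen_mem_and_subset (X := W.left) (x := w) (U := ⊤) trivial
  have : IsAffine (O : Scheme) := hO
  let m : Spec Γ(O, ⊤) ⟶ Spec (CommRingCat.of (sq.A ⧸ sq.I)) :=
    (O : Scheme).isoSpec.inv ≫ O.ι ≫ e.left
  let α := (Spec.preimage m).hom
  have hα : Spec.map (CommRingCat.ofHom α) = m := Spec.map_preimage m
  let := α.toAlgebra
  have : Algebra.Etale (sq.A ⧸ sq.I) Γ(O, ⊤) := by
    have : Etale (Spec.map (CommRingCat.ofHom α)) := by
      rw [hα]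
      exact inferInstanceAs (Etale ((O : Scheme).isoSpec.inv ≫ O.ι ≫ e.left))
    exact (HasRingHomProperty.Spec_iff (P := @Etale)).1 this
  let q : PrimeSpectrum Γ(O, ⊤) := (O : Scheme).isoSpec.hom ⟨w, hwO⟩
  obtain ⟨B, _, φ, ψ, hφ, hψ, Q, hQ⟩ := exists_etale_lift_near sq.I sq.sq_zero q
  have hψ' : ψ.comp α = Ideal.quotientMap (sq.I.map φ) φ Ideal.le_comap_map := hψ
  refine ⟨B, inferInstance, φ, hφ, ⟨Q, ?_⟩, Over.homMk (U := (pullSq sq φ).ptT) (V := W)
    (Spec.map (CommRingCat.ofHom ψ) ≫ (O : Scheme).isoSpec.inv ≫ O.ι) ?_, ?_⟩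
  · refine Eq.trans hQ ?_
    rw [← ht, PrimeSpectrum.comap_comp_apply]
    change PrimeSpectrum.comap (Ideal.Quotient.mk sq.I) _ = PrimeSpectrum.comap (Ideal.Quotient.mk sq.I) t
    congr 1
    change (Spec.map (CommRingCat.ofHom α)) q = t
    rw [hα, ← hw]
    change ((O : Scheme).isoSpec.hom ≫ (O : Scheme).isoSpec.inv ≫ O.ι ≫ e.left) ⟨w, hwO⟩ = _
    rw [Iso.hom_inv_id_assoc]
    rfl
  · have : (O : Scheme).isoSpec.inv ≫ O.ι ≫ W.hom = Spec.map (CommRingCat.ofHom α) ≫ sq.ptT.hom := by
      rw [hα, ← Over.w e]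
      simp [m]
    change (Spec.map _ ≫ (O : Scheme).isoSpec.inv ≫ O.ι) ≫ W.hom = Spec.map _ ≫ Spec.map _ ≫ sq.str
    rw [Category.assoc, Category.assoc, this]
    change Spec.map _ ≫ Spec.map _ ≫ Spec.map _ ≫ sq.str = _
    rw [← Spec.map_comp_assoc, ← Spec.map_comp_assoc, ← Spec.map_comp_assoc, ← CommRingCat.ofHom_comp,
      ← CommRingCat.ofHom_comp, ← CommRingCat.ofHom_comp, hψ',
      Ideal.quotientMap_comp_mk]
  · change (yon S).map _ ≫ (yon S).map e ≫ sq.top = (yon S).map _ ≫ sq.top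
    rw [← Functor.map_comp_assoc]
    refine congrArg (fun k => (yon S).map k ≫ sq.top) (Over.OverMorphism.ext ?_)
    change (Spec.map _ ≫ (O : Scheme).isoSpec.inv ≫ O.ι) ≫ e.left = Spec.map _
    rw [Category.assoc, Category.assoc, show (O : Scheme).isoSpec.inv ≫ O.ι ≫ e.left = m from rfl, ← hα,
      ← Spec.map_comp, ← CommRingCat.ofHom_comp, hψ']

/-- A square for `a ≫ b` yields local lifts of squares for `b` when `a` is etale surjective. -/
theorem isFormallyEtaleMor_of_etale_precomp {F G H : Sp S} {a : F ⟶ G} {b : G ⟶ H}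
    (ha : RepWith @Etale a) (has : RepWith @Surjective a) (hu : IsFormallyUnramifiedMor b)
    (h : IsFormallySmoothMor (a ≫ b)) : IsFormallyEtaleMor b := fun sq => by
  refine hasUniqLift_of_local hu sq fun z => ?_
  obtain ⟨W, p, e, sqW⟩ : ∃ (W : Over S) (p : (yon S).obj W ⟶ F) (e : W ⟶ sq.ptT),
      IsPullback p ((yon S).map e) a sq.top := ⟨_, _, _, ha.rep.isPullback sq.top⟩
  have : Etale e.left := etale_left (repWith_of_isPullback sqW ha)
  have : Surjective e.left := surjective_left (repWith_of_isPullback sqW has)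
  obtain ⟨B, _, φ, hφ, hz, k, hk⟩ := exists_etale_refine sq e z
  let sq' := pullSq sq φ
  let s : InfSq (a ≫ b) :=
  { A := sq'.A, I := sq'.I, sq_zero := sq'.sq_zero, str := sq'.str,
    top := (yon S).map k ≫ p, bot := sq'.bot,
    comm := by
      rw [Category.assoc, ← Category.assoc p, sqW.w, Category.assoc, ← Category.assoc ((yon S).map k),
        ← Category.assoc ((yon S).map k ≫ (yon S).map e), Category.assoc ((yon S).map k), hk]
      exact sq'.comm }
  obtain ⟨l, hl1, hl2⟩ := h s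
  refine ⟨B, inferInstance, φ, hφ, hz, l ≫ a, ?_, (Category.assoc _ _ _).trans hl2⟩
  change (yon S).map s.j ≫ l ≫ a = _
  rw [← Category.assoc, hl1]
  change ((yon S).map k ≫ p) ≫ a = _
  rw [Category.assoc, sqW.w]
  exact hk

theorem isFormallyEtaleMor_yon_iff {U V : Over S} (h : U ⟶ V) :
    IsFormallyEtaleMor ((yon S).map h) ↔ MoreMor.IsFormallyEtaleHom h.left := by
  constructor
  · intro hh A _ I hI a b w
    obtain ⟨L, ⟨hL1, hL2⟩, huniq⟩ := hh (sqOfScheme h I hI a b w)
    obtain ⟨L, rfl⟩ := (yon S).map_surjective L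
    rw [← Functor.map_comp] at hL1 hL2
    refine ⟨L.left, ⟨congrArg CommaMorphism.left ((yon S).map_injective hL1),
      congrArg CommaMorphism.left ((yon S).map_injective hL2)⟩, fun l' hl' => ?_⟩
    have h' := huniq ((yon S).map (Over.homMk l' (by
        change l' ≫ U.hom = b ≫ V.hom
        rw [← hl'.2, Category.assoc, Over.w h]) : (sqOfScheme h I hI a b w).ptT' ⟶ U))
      ⟨by rw [← Functor.map_comp]; exact congrArg (yon S).map (Over.OverMorphism.ext hl'.1),
       by rw [← Functor.map_comp]; exact congrArg (yon S).map (Over.OverMorphism.ext hl'.2)⟩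
    exact congrArg CommaMorphism.left ((yon S).map_injective h')
  · intro hh sq
    obtain ⟨a, ha⟩ := (yon S).map_surjective sq.top
    obtain ⟨b, hb⟩ := (yon S).map_surjective sq.bot
    have w : sq.j ≫ b = a ≫ h := (yon S).map_injective (by
      rw [Functor.map_comp, Functor.map_comp, ha, hb]; exact sq.comm.symm)
    obtain ⟨L, ⟨hL1, hL2⟩, huniq⟩ := hh sq.A sq.I sq.sq_zero a.left b.left (congrArg CommaMorphism.left w)
    refine ⟨(yon S).map (Over.homMk L (by
        change L ≫ U.hom = sq.str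
        rw [← Over.w h, ← Category.assoc, hL2, Over.w b]
        rfl) : sq.ptT' ⟶ U), ⟨?_, ?_⟩, ?_⟩
    · rw [← Functor.map_comp, ← ha]
      exact congrArg (yon S).map (Over.OverMorphism.ext hL1)
    · rw [← Functor.map_comp, ← hb]
      exact congrArg (yon S).map (Over.OverMorphism.ext hL2)
    · rintro l' ⟨h1, h2⟩
      obtain ⟨l', rfl⟩ := (yon S).map_surjective l'
      rw [← Functor.map_comp, ← ha] at h1
      rw [← Functor.map_comp, ← hb] at h2
      exact congrArg (yon S).map (Over.OverMorphism.ext (huniq l'.left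
        ⟨congrArg CommaMorphism.left ((yon S).map_injective h1),
         congrArg CommaMorphism.left ((yon S).map_injective h2)⟩))

theorem isFormallyEtaleMor_iff_locP {F G : Sp S} (hF : IsAlgSpace F) (hG : IsAlgSpace G) (f : F ⟶ G) :
    IsFormallyEtaleMor f ↔ LocP @MoreMor.IsFormallyEtaleHom f := by
  constructor
  · intro hf U V a b h ha hb e
    rw [← isFormallyEtaleMor_yon_iff]
    refine Formal.etale_of_comp (b := b) (isFormallyUnramifiedMor_of_repWith_etale hb) ?_
    rw [← e]
    exact Formal.etale_comp (isFormallyEtaleMor_of_isEtaleMor (IsAlgSpace.yon_obj U) hF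
      (isEtaleMor_of_repWith ha)) hf
  · intro hf
    obtain ⟨U, V, a, b, h, ha, has, hb, -, e⟩ := exists_chart hF hG f
    exact isFormallyEtaleMor_of_chartHom hF hG ha has hb e (hf a b h ha hb e)
where
  /-- Formally etale from one chart. -/
  isFormallyEtaleMor_of_chartHom {F G : Sp S} (hF : IsAlgSpace F) (hG : IsAlgSpace G) {f : F ⟶ G}
      {U V : Over S} {a : (yon S).obj U ⟶ F} {b : (yon S).obj V ⟶ G} {h : U ⟶ V}
      (ha : RepWith @Etale a) (has : RepWith @Surjective a) (hb : RepWith @Etale b)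
      (e : a ≫ f = (yon S).map h ≫ b) (hh : MoreMor.IsFormallyEtaleHom h.left) :
      IsFormallyEtaleMor f := by
    have hfe := (isFormallyEtaleMor_yon_iff h).2 hh
    have : FormallyUnramified h.left := formallyUnramified_left (Formal.etale_iff.1 hfe).2
    refine isFormallyEtaleMor_of_etale_precomp ha has
      (isFormallyUnramifiedMor_of_chart hF hG ha has hb e) ?_
    rw [e]
    exact Formal.smooth_comp (Formal.etale_iff.1 hfe).1 (Formal.etale_iff.1
      (isFormallyEtaleMor_of_isEtaleMor (IsAlgSpace.yon_obj V) hG (isEtaleMor_of_repWith hb))).1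

end AlgSpLib
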