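import Groth.Agent.AlgSpLib.SheafDesc
import Groth.Agent.AlgSpLib.FormalLocal
import Mathlib.AlgebraicGeometry.Gluing
/-!
# A sheaf covered by open representable subsheaves is representable
-/

set_option autoImplicit false
set_option backward.isDefEq.respectTransparency false
set_option backward.isDefEq.respectTransparency.types false
universe u
open CategoryTheory CategoryTheory.Limits AlgebraicGeometry Opposite AlgSp
open CategoryTheory.Functor.relativelyRepresentable

namespace AlgSpLib

variable {S : Scheme.{u}}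

/-- A sheaf represented by a scheme. -/
def IsRepSh (G : Sp S) : Prop := ∃ W : Over S, Nonempty ((yon S).obj W ≅ G)

lemma IsRepSh.of_iso {G G' : Sp S} (h : IsRepSh G) (e : G ≅ G') : IsRepSh G' := by
  obtain ⟨W, ⟨i⟩⟩ := h
  exact ⟨W, ⟨i ≪≫ e⟩⟩

namespace OpenGlue

variable {G : Sp S} {ι : Type u} {W : ι → Over S} {f : ∀ i, (yon S).obj (W i) ⟶ G}
  (hf : ∀ i, RepWith @IsOpenImmersion (f i))

include hf in
lemma mono_f (i : ι) : Mono (f i) :=
  mono_of_repWith (fun g hg => @IsOpenImmersion.mono _ _ g hg) (hf i)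

include hf in
lemma isOpenImmersion_fst' (i j : ι) : IsOpenImmersion ((hf i).rep.fst' (f j)).left :=
  (hf j).property _ _ _ ((hf i).rep.isPullback' (f j)).flip

include hf in
lemma isIso_fst'_self (i : ι) : IsIso ((hf i).rep.fst' (f i)).left := by
  have := mono_f hf i
  have := ((hf i).rep.isPullback' (f i)).isIso_fst_of_mono
  have : IsIso ((hf i).rep.fst' (f i)) := isIso_of_reflects_iso _ (yon S)
  exact inferInstanceAs (IsIso ((Over.forget S).map ((hf i).rep.fst' (f i))))

/-- The intersection of two members. -/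
noncomputable abbrev V (i j : ι) : Over S := (hf i).rep.pullback (f j)

/-- The triple intersection. -/
noncomputable abbrev V₃ (i j k : ι) : Over S :=
  Over.mk (pullback.fst ((hf i).rep.fst' (f j)).left ((hf i).rep.fst' (f k)).left ≫ (V hf i j).hom)

noncomputable def q₁ (i j k : ι) : V₃ hf i j k ⟶ V hf i j := Over.homMk (pullback.fst _ _) rfl

noncomputable def q₂ (i j k : ι) : V₃ hf i j k ⟶ V hf i k :=
  Over.homMk (pullback.snd _ _) (by
    have h1 := Over.w ((hf i).rep.fst' (f j))
    have h2 := Over.w ((hf i).rep.fst' (f k))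
    change pullback.snd _ _ ≫ (V hf i k).hom = pullback.fst _ _ ≫ (V hf i j).hom
    rw [← h1, ← h2, pullback.condition_assoc])

lemma q_cond (i j k : ι) : q₁ hf i j k ≫ (hf i).rep.fst' (f j) = q₂ hf i j k ≫ (hf i).rep.fst' (f k) :=
  Over.OverMorphism.ext pullback.condition

lemma w₃ (i j k : ι) : (yon S).map (q₁ hf i j k ≫ (hf i).rep.snd (f j)) ≫ f j =
    (yon S).map (q₂ hf i j k ≫ (hf i).rep.snd (f k)) ≫ f k := by
  simp only [Functor.map_comp, Category.assoc, ← ((hf i).rep.isPullback' _).w]
  rw [← Functor.map_comp_assoc, q_cond, Functor.map_comp_assoc]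

lemma w₁ (i j k : ι) : (yon S).map (q₁ hf i j k ≫ (hf i).rep.snd (f j)) ≫ f j =
    (yon S).map (q₁ hf i j k ≫ (hf i).rep.fst' (f j)) ≫ f i := by
  simp only [Functor.map_comp, Category.assoc, ← ((hf i).rep.isPullback' _).w]

/-- Transition on triple intersections. -/
noncomputable def t' (i j k : ι) : (V₃ hf i j k).left ⟶ (V₃ hf j k i).left :=
  pullback.lift ((hf j).rep.lift' _ _ (w₃ hf i j k)).left ((hf j).rep.lift' _ _ (w₁ hf i j k)).left
    (by simp only [← Over.comp_left, lift'_fst])

noncomputable def t'Over (i j k : ι) : V₃ hf i j k ⟶ V₃ hf j k i :=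
  Over.homMk (t' hf i j k) (by
    change t' hf i j k ≫ pullback.fst _ _ ≫ _ = _
    rw [t', pullback.lift_fst_assoc]
    exact Over.w ((hf j).rep.lift' _ _ (w₃ hf i j k)))

lemma t'_q₁ (i j k : ι) : t'Over hf i j k ≫ q₁ hf j k i = (hf j).rep.lift' _ _ (w₃ hf i j k) :=
  Over.OverMorphism.ext (pullback.lift_fst _ _ _)

lemma t'_q₂ (i j k : ι) : t'Over hf i j k ≫ q₂ hf j k i = (hf j).rep.lift' _ _ (w₁ hf i j k) :=
  Over.OverMorphism.ext (pullback.lift_snd _ _ _)

lemma q_ext {i j k : ι} {Z : Over S} {a b : Z ⟶ V₃ hf i j k} (h₁ : a ≫ q₁ hf i j k = b ≫ q₁ hf i j k)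
    (h₂ : a ≫ q₂ hf i j k = b ≫ q₂ hf i j k) : a = b :=
  Over.OverMorphism.ext (pullback.hom_ext (congrArg Over.Hom.left h₁) (congrArg Over.Hom.left h₂))

/-- The glueing data. -/
noncomputable def glueData : Scheme.GlueData where
  J := ι
  U i := (W i).left
  V p := (V hf p.1 p.2).left
  f i j := ((hf i).rep.fst' (f j)).left
  f_mono i j := have := isOpenImmersion_fst' hf i j; IsOpenImmersion.mono _
  f_id i := isIso_fst'_self hf i
  t i j := ((hf i).rep.symmetry (hf j).rep).left
  t_id i := by
    have := mono_f hf i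
    have hfs : (hf i).rep.fst' (f i) = (hf i).rep.snd (f i) :=
      (yon S).map_injective ((cancel_mono (f i)).mp ((hf i).rep.isPullback' (f i)).w)
    have : (hf i).rep.symmetry (hf i).rep = 𝟙 _ :=
      (hf i).rep.hom_ext' (by rw [symmetry_fst, Category.id_comp, hfs])
        (by rw [symmetry_snd, Category.id_comp, hfs])
    exact congrArg Over.Hom.left this
  t' i j k := t' hf i j k
  t_fac i j k := by
    have : t'Over hf i j k ≫ q₂ hf j k i = q₁ hf i j k ≫ (hf i).rep.symmetry (hf j).rep :=
      (hf j).rep.hom_ext' (by simp [t'_q₂]) (by simp [t'_q₂])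
    exact congrArg Over.Hom.left this
  cocycle i j k := by
    have e1 : ∀ a b c : ι, t'Over hf a b c ≫ q₁ hf b c a ≫ (hf b).rep.fst' (f c) =
        q₁ hf a b c ≫ (hf a).rep.snd (f b) := fun a b c => by rw [← Category.assoc, t'_q₁, lift'_fst]
    have e2 : ∀ a b c : ι, t'Over hf a b c ≫ q₁ hf b c a ≫ (hf b).rep.snd (f c) =
        q₂ hf a b c ≫ (hf a).rep.snd (f c) := fun a b c => by rw [← Category.assoc, t'_q₁, lift'_snd]
    have e3 : ∀ a b c : ι, t'Over hf a b c ≫ q₂ hf b c a ≫ (hf b).rep.snd (f a) =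
        q₁ hf a b c ≫ (hf a).rep.fst' (f b) := fun a b c => by rw [← Category.assoc, t'_q₂, lift'_snd]
    have : t'Over hf i j k ≫ t'Over hf j k i ≫ t'Over hf k i j = 𝟙 _ := by
      refine q_ext hf ?_ ?_ <;> rw [Category.id_comp] <;> simp only [Category.assoc]
      · refine (hf i).rep.hom_ext' ?_ ?_ <;> simp only [Category.assoc]
        · rw [e1, e2, e3]
        · rw [e2, e3, e1]
      · refine (hf i).rep.hom_ext' ?_ ?_ <;> simp only [Category.assoc]
        · rw [← q_cond, e1, e2, e3, q_cond]
        · rw [e3, e1, e2]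
    exact congrArg Over.Hom.left this
  f_open i j := isOpenImmersion_fst' hf i j

/-- The glued scheme over `S`. -/
noncomputable def glued : Over S :=
  Over.mk (Multicoequalizer.desc _ _ (fun i => (W i).hom) (fun ⟨i, j⟩ => by
    change ((hf i).rep.fst' (f j)).left ≫ (W i).hom =
      (((hf i).rep.symmetry (hf j).rep).left ≫ ((hf j).rep.fst' (f i)).left) ≫ (W j).hom
    simp only [Category.assoc, Over.w]) : (glueData hf).glued ⟶ S)

noncomputable def incl (i : ι) : W i ⟶ glued hf :=
  Over.homMk ((glueData hf).ι i) (by exact Multicoequalizer.π_desc (glueData hf).toGlueData.diagram _ _ _ i)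

instance (i : ι) : IsOpenImmersion (incl hf i).left :=
  inferInstanceAs (IsOpenImmersion ((glueData hf).ι i))

lemma incl_surj (x : (glued hf).left) : ∃ i, x ∈ Set.range (incl hf i).left :=
  let ⟨i, y, hy⟩ := (glueData hf).ι_jointly_surjective x; ⟨i, y, hy⟩

lemma comp_incl_iff {Z : Over S} {i j : ι} (a : Z ⟶ W i) (b : Z ⟶ W j) :
    a ≫ incl hf i = b ≫ incl hf j ↔ (yon S).map a ≫ f i = (yon S).map b ≫ f j := by
  constructor
  · intro h
    let l := PullbackCone.IsLimit.lift ((glueData hf).vPullbackConeIsLimit i j) a.left b.left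
      (congrArg Over.Hom.left h)
    have hl₁ : l ≫ ((hf i).rep.fst' (f j)).left = a.left :=
      PullbackCone.IsLimit.lift_fst ((glueData hf).vPullbackConeIsLimit i j) _ _ _
    have hl₂ : l ≫ (((hf i).rep.symmetry (hf j).rep).left ≫ ((hf j).rep.fst' (f i)).left) = b.left :=
      PullbackCone.IsLimit.lift_snd ((glueData hf).vPullbackConeIsLimit i j) _ _ _
    let lo : Z ⟶ V hf i j := Over.homMk l (by rw [← Over.w ((hf i).rep.fst' (f j)), ← Category.assoc, hl₁, Over.w])
    have ea : lo ≫ (hf i).rep.fst' (f j) = a := Over.OverMorphism.ext hl₁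
    have eb : lo ≫ (hf i).rep.snd (f j) = b := by
      rw [← symmetry_fst (hf i).rep (hf j).rep]; exact Over.OverMorphism.ext hl₂
    rw [← ea, ← eb, Functor.map_comp_assoc, Functor.map_comp_assoc, ((hf i).rep.isPullback' (f j)).w]
  · intro h
    rw [← (hf i).rep.lift'_fst a b h, Category.assoc]
    conv_rhs => rw [← (hf i).rep.lift'_snd a b h, Category.assoc, ← symmetry_fst (hf i).rep (hf j).rep]
    refine congrArg _ (Over.OverMorphism.ext ?_)
    simp only [Over.comp_left, Category.assoc]
    exact ((glueData hf).glue_condition i j).symm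

lemma exists_toSheaf : ∃ Φ : (yon S).obj (glued hf) ⟶ G, ∀ i, (yon S).map (incl hf i) ≫ Φ = f i :=
  exists_amalgamation (incl hf) (fun _ => inferInstance) (fun _ => inferInstance)
    (incl_surj hf) f fun _ _ _ gi gj h => (comp_incl_iff hf gi gj).mp h

end OpenGlue

open OpenGlue in
/-- A sheaf covered by open representable subsheaves is representable. -/
theorem isRepSh_of_openCover {G : Sp S} {ι : Type u} {W : ι → Over S} (f : ∀ i, (yon S).obj (W i) ⟶ G)
    (hf : ∀ i, RepWith @IsOpenImmersion (f i))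
    (hcov : ∀ (T : Over S) (b : (yon S).obj T ⟶ G) (t : T.left), ∃ i, t ∈ Set.range ((hf i).rep.snd b).left) :
    IsRepSh G := by
  obtain ⟨Φ, hΦ⟩ := exists_toSheaf hf
  refine ⟨glued hf, ⟨@asIso _ _ _ _ Φ (isIso_of_bijective fun T => ⟨?_, ?_⟩)⟩⟩
  · intro a b hab
    obtain ⟨a, rfl⟩ := (yon S).map_surjective a
    obtain ⟨b, rfl⟩ := (yon S).map_surjective b
    have loc : ∀ t : T.left, ∃ (U : Over S) (c : U ⟶ T), IsOpenImmersion c.left ∧ t ∈ Set.range c.left ∧
        c ≫ a = c ≫ b := fun t => by
      obtain ⟨i, hi⟩ := incl_surj hf (a.left t)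
      obtain ⟨j, hj⟩ := incl_surj hf (b.left t)
      let O : T.left.Opens := a.left ⁻¹ᵁ (incl hf i).left.opensRange ⊓ b.left ⁻¹ᵁ (incl hf j).left.opensRange
      let U : Over S := Over.mk (O.ι ≫ T.hom)
      let c : U ⟶ T := Over.homMk O.ι
      have ha : Set.range (c ≫ a).left ⊆ Set.range (incl hf i).left := by
        rintro _ ⟨x, rfl⟩; exact x.2.1
      have hb : Set.range (c ≫ b).left ⊆ Set.range (incl hf j).left := by
        rintro _ ⟨x, rfl⟩; exact x.2.2
      let a' : U ⟶ W i := Over.homMk (IsOpenImmersion.lift _ _ ha) (by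
        rw [← Over.w (incl hf i), IsOpenImmersion.lift_fac_assoc, Over.w])
      let b' : U ⟶ W j := Over.homMk (IsOpenImmersion.lift _ _ hb) (by
        rw [← Over.w (incl hf j), IsOpenImmersion.lift_fac_assoc, Over.w])
      have ea : a' ≫ incl hf i = c ≫ a := Over.OverMorphism.ext (IsOpenImmersion.lift_fac _ _ _)
      have eb : b' ≫ incl hf j = c ≫ b := Over.OverMorphism.ext (IsOpenImmersion.lift_fac _ _ _)
      refine ⟨U, c, inferInstanceAs (IsOpenImmersion O.ι), ⟨⟨t, hi, hj⟩, rfl⟩, ?_⟩
      rw [← ea, ← eb, comp_incl_iff, ← hΦ i, ← hΦ j, ← Functor.map_comp_assoc, ← Functor.map_comp_assoc,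
        ea, eb, Functor.map_comp, Functor.map_comp, Category.assoc, Category.assoc]
      exact congrArg _ hab
    choose U c hc ht he using loc
    exact hom_ext_of_cover c (fun t => have := hc t; inferInstance) (fun t => have := hc t; inferInstance)
      (fun t => ⟨t, ht t⟩) fun t => by rw [← Functor.map_comp, ← Functor.map_comp, he t]
  · intro b
    choose i hi using hcov T b
    have hop : ∀ t, IsOpenImmersion ((hf (i t)).rep.snd b).left := fun t => (hf (i t)).property_snd b
    obtain ⟨a, ha⟩ := exists_amalgamation (G := (yon S).obj (glued hf)) (fun t => (hf (i t)).rep.snd b)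
      (fun t => have := hop t; inferInstance) (fun t => have := hop t; inferInstance)
      (fun t => ⟨t, hi t⟩) (fun t => (yon S).map ((hf (i t)).rep.fst' b ≫ incl hf (i t)))
      (fun s t Z gs gt h => by
        rw [← Functor.map_comp, ← Functor.map_comp, ← Category.assoc, ← Category.assoc]
        refine congrArg _ ((comp_incl_iff hf _ _).mpr ?_)
        simp only [Functor.map_comp, Category.assoc, ((hf _).rep.isPullback' b).w]
        rw [← Functor.map_comp_assoc, h, Functor.map_comp_assoc])
    refine ⟨a, hom_ext_of_cover (fun t => (hf (i t)).rep.snd b) (fun t => have := hop t; inferInstance)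
      (fun t => have := hop t; inferInstance) (fun t => ⟨t, hi t⟩) fun t => ?_⟩
    rw [← Category.assoc, ha, Functor.map_comp_assoc, hΦ, ((hf (i t)).rep.isPullback' b).w]

end AlgSpLib
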