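import Groth.Agent.AlgSpLib.SrcScheme
import Mathlib.AlgebraicGeometry.Morphisms.FormallyUnramified
import Mathlib.RingTheory.Unramified.LocalStructure
/-!
# Properties of morphisms of schemes that are etale local on source and target
-/

set_option autoImplicit false
universe u
open CategoryTheory CategoryTheory.Limits AlgebraicGeometry TensorProduct

namespace AlgSpLib

/-- A faithfully flat `A → B` descends quasi-finiteness of `R → B` to `R → A`. -/
theorem quasiFinite_of_faithfullyFlat_comp (R A B : Type u) [CommRing R] [CommRing A] [CommRing B]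
    [Algebra R A] [Algebra A B] [Algebra R B] [IsScalarTower R A B] [Module.FaithfullyFlat A B]
    [Algebra.QuasiFinite R B] : Algebra.QuasiFinite R A := by
  refine ⟨fun P _ => ?_⟩
  let i : A →ₗ[R] B := (IsScalarTower.toAlgHom R A B).toLinearMap
  have hi : Function.Injective (i.rTensor P.ResidueField) := by
    have : ∀ z, i.rTensor P.ResidueField z =
        AlgebraTensorModule.cancelBaseChange R A A B P.ResidueField (1 ⊗ₜ z) := by
      intro z
      induction z with
      | zero => simp
      | tmul a n => simp [i, Algebra.algebraMap_eq_smul_one]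
      | add x y hx hy => simp [hx, hy, TensorProduct.tmul_add]
    intro x y h
    rw [this, this] at h
    exact Module.FaithfullyFlat.tensorProduct_mk_injective (A := A) (B := B)
      (A ⊗[R] P.ResidueField) ((AlgebraTensorModule.cancelBaseChange R A A B P.ResidueField).injective h)
  have hi' : Function.Injective (i.lTensor P.ResidueField) := by
    rw [← LinearMap.comm_comp_rTensor_comp_comm_eq]
    simpa using hi
  exact Module.Finite.of_injective
    (AlgebraTensorModule.map (LinearMap.id : P.ResidueField →ₗ[P.ResidueField] P.ResidueField) i) hi'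

/-- A property of morphisms of schemes that is etale local on the source and on the target, in the strong sense
needed for the chart notion `AlgSp.LocP`. -/
class EtLocProp (P : MorphismProperty Scheme.{u}) : Prop where
  baseChange : P.IsStableUnderBaseChange
  etale_comp : ∀ {X Y Z : Scheme.{u}} (g : X ⟶ Y) (f : Y ⟶ Z) [Etale g], P f → P (g ≫ f)
  comp_etale : ∀ {X Y Z : Scheme.{u}} (f : X ⟶ Y) (g : Y ⟶ Z) [Etale g], P f → P (f ≫ g)
  srcDescent : ∀ {U U' Y : Scheme.{u}} (g : U' ⟶ U) (f : U ⟶ Y) [Etale g] [Surjective g],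
    P (g ≫ f) → P f
  sigmaDesc : ∀ {ι : Type u} {U : ι → Scheme.{u}} {Y : Scheme.{u}} (f : ∀ i, U i ⟶ Y),
    (∀ i, P (f i)) → P (Sigma.desc f)

namespace EtLocProp

variable {P : MorphismProperty Scheme.{u}} [EtLocProp P]

theorem isStableUnderBaseChange : P.IsStableUnderBaseChange := EtLocProp.baseChange

theorem respectsIso : P.RespectsIso :=
  have := isStableUnderBaseChange (P := P)
  MorphismProperty.IsStableUnderBaseChange.respectsIso

/-- Cancellation of an etale morphism on the target side. -/
theorem cancel_etale {X Y Z : Scheme.{u}} (f : X ⟶ Y) (g : Y ⟶ Z) [Etale g] (h : P (f ≫ g)) :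
    P f := by
  have := isStableUnderBaseChange (P := P)
  let s : X ⟶ pullback (f ≫ g) g := pullback.lift (𝟙 X) f (by simp)
  have : Etale (s ≫ pullback.fst (f ≫ g) g) := by
    rw [pullback.lift_fst]; infer_instance
  have : Etale s := Etale.of_comp s (pullback.fst (f ≫ g) g)
  have e : s ≫ pullback.snd (f ≫ g) g = f := pullback.lift_snd _ _ _
  rw [← e]
  exact etale_comp s _ (P.pullback_snd _ _ h)

/-- Descent along an etale surjection of the target. -/
theorem targetDescent {X Y X' Y' : Scheme.{u}} {f : X ⟶ Y} {c : Y' ⟶ Y} {c' : X' ⟶ X}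
    {f' : X' ⟶ Y'} (sq : IsPullback c' f' f c) [Etale c] [Surjective c] (h : P f') : P f := by
  have : Etale c' := MorphismProperty.of_isPullback (P := @Etale) sq.flip ‹_›
  have : Surjective c' := MorphismProperty.of_isPullback (P := @Surjective) sq.flip ‹_›
  refine srcDescent c' f ?_
  rw [sq.w]
  exact comp_etale f' c h

end EtLocProp

theorem srcDescent_locallyOfFiniteType {U U' Y : Scheme.{u}} (g : U' ⟶ U) (f : U ⟶ Y) [Etale g]
    [Surjective g] (h : LocallyOfFiniteType (g ≫ f)) : LocallyOfFiniteType f :=
  of_etale_surjective_comp (P := @LocallyOfFiniteType) (Q := RingHom.FiniteType)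
    (fun {R A B} _ _ _ φ ψ h1 h2 h3 => by
      algebraize [φ, ψ, ψ.comp φ]
      exact finiteType_of_smooth_faithfullyFlat_comp R A B) g f h

instance : EtLocProp (@Flat : MorphismProperty Scheme.{u}) where
  baseChange := inferInstance
  sigmaDesc _ h := IsZariskiLocalAtSource.sigmaDesc (P := @Flat) h
  etale_comp g f _ (_ : Flat f) := (inferInstance : Flat (g ≫ f))
  comp_etale f g _ (_ : Flat f) := (inferInstance : Flat (f ≫ g))
  srcDescent g f _ _ h :=
    of_etale_surjective_comp (P := @Flat) (Q := RingHom.Flat)
      (fun {R A B} _ _ _ φ ψ h1 h2 h3 => by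
        algebraize [φ, ψ, ψ.comp φ]
        exact flat_of_faithfullyFlat_comp R A B) g f h

instance : EtLocProp (@LocallyOfFiniteType : MorphismProperty Scheme.{u}) where
  baseChange := inferInstance
  sigmaDesc _ h := IsZariskiLocalAtSource.sigmaDesc (P := @LocallyOfFiniteType) h
  etale_comp g f _ (_ : LocallyOfFiniteType f) := (inferInstance : LocallyOfFiniteType (g ≫ f))
  comp_etale f g _ (_ : LocallyOfFiniteType f) := (inferInstance : LocallyOfFiniteType (f ≫ g))
  srcDescent g f _ _ h := srcDescent_locallyOfFiniteType g f h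

instance : EtLocProp (@LocallyOfFinitePresentation : MorphismProperty Scheme.{u}) where
  baseChange := inferInstance
  sigmaDesc _ h := IsZariskiLocalAtSource.sigmaDesc (P := @LocallyOfFinitePresentation) h
  etale_comp g f _ (_ : LocallyOfFinitePresentation f) :=
    (inferInstance : LocallyOfFinitePresentation (g ≫ f))
  comp_etale f g _ (_ : LocallyOfFinitePresentation f) :=
    (inferInstance : LocallyOfFinitePresentation (f ≫ g))
  srcDescent g f _ _ h :=
    of_etale_surjective_comp (P := @LocallyOfFinitePresentation) (Q := RingHom.FinitePresentation)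
      (fun {R A B} _ _ _ φ ψ h1 h2 h3 => by
        algebraize [φ, ψ, ψ.comp φ]
        exact finitePresentation_of_smooth_faithfullyFlat_comp R A B) g f h

instance : EtLocProp (@Smooth : MorphismProperty Scheme.{u}) where
  baseChange := inferInstance
  sigmaDesc _ h := IsZariskiLocalAtSource.sigmaDesc (P := @Smooth) h
  etale_comp g f _ (_ : Smooth f) := (inferInstance : Smooth (g ≫ f))
  comp_etale f g _ (_ : Smooth f) := (inferInstance : Smooth (f ≫ g))
  srcDescent g f _ _ h :=
    of_etale_surjective_comp (P := @Smooth) (Q := RingHom.Smooth)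
      (fun {R A B} _ _ _ φ ψ h1 h2 h3 => by
        algebraize [φ, ψ, ψ.comp φ]
        exact smooth_of_etale_faithfullyFlat_comp R A B) g f h

instance : EtLocProp (@Etale : MorphismProperty Scheme.{u}) where
  baseChange := inferInstance
  sigmaDesc _ h := IsZariskiLocalAtSource.sigmaDesc (P := @Etale) h
  etale_comp g f _ (_ : Etale f) := (inferInstance : Etale (g ≫ f))
  comp_etale f g _ (_ : Etale f) := (inferInstance : Etale (f ≫ g))
  srcDescent g f _ _ h :=
    of_etale_surjective_comp (P := @Etale) (Q := RingHom.Etale)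
      (fun {R A B} _ _ _ φ ψ h1 h2 h3 => by
        algebraize [φ, ψ, ψ.comp φ]
        exact etale_of_etale_faithfullyFlat_comp R A B) g f h

instance : EtLocProp (@LocallyOfFiniteType ⊓ @FormallyUnramified : MorphismProperty Scheme.{u}) where
  baseChange := inferInstance
  sigmaDesc _ h := ⟨IsZariskiLocalAtSource.sigmaDesc (P := @LocallyOfFiniteType) fun i => (h i).1,
    IsZariskiLocalAtSource.sigmaDesc (P := @FormallyUnramified) fun i => (h i).2⟩
  etale_comp g f _ h := by
    obtain ⟨(_ : LocallyOfFiniteType f), (_ : FormallyUnramified f)⟩ := h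
    exact ⟨(inferInstance : LocallyOfFiniteType (g ≫ f)), MorphismProperty.comp_mem @FormallyUnramified g f inferInstance ‹_›⟩
  comp_etale f g _ h := by
    obtain ⟨(_ : LocallyOfFiniteType f), (_ : FormallyUnramified f)⟩ := h
    exact ⟨(inferInstance : LocallyOfFiniteType (f ≫ g)), MorphismProperty.comp_mem @FormallyUnramified f g ‹_› inferInstance⟩
  srcDescent g f _ _ h := ⟨srcDescent_locallyOfFiniteType g f h.1,
    of_etale_surjective_comp (P := @FormallyUnramified) (Q := RingHom.FormallyUnramified)
      (fun {R A B} _ _ _ φ ψ h1 h2 h3 => by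
        algebraize [φ, ψ, ψ.comp φ]
        exact formallyUnramified_of_formallyEtale_faithfullyFlat_comp R A B) g f h.2⟩

theorem locallyQuasiFinite_of_etale {X Y : Scheme.{u}} (g : X ⟶ Y) [Etale g] :
    LocallyQuasiFinite g := by
  rw [HasRingHomProperty.iff_appLE (P := @LocallyQuasiFinite)]
  intro U V e
  have := HasRingHomProperty.appLE (P := @Etale) g ‹_› U V e
  algebraize [(g.appLE U V e).hom]
  change Algebra.QuasiFinite _ _
  infer_instance

instance : EtLocProp (@LocallyQuasiFinite ⊓ @LocallyOfFiniteType : MorphismProperty Scheme.{u}) where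
  baseChange := inferInstance
  sigmaDesc _ h := ⟨IsZariskiLocalAtSource.sigmaDesc (P := @LocallyQuasiFinite) fun i => (h i).1,
    IsZariskiLocalAtSource.sigmaDesc (P := @LocallyOfFiniteType) fun i => (h i).2⟩
  etale_comp g f _ h := by
    obtain ⟨(_ : LocallyQuasiFinite f), (_ : LocallyOfFiniteType f)⟩ := h
    have := locallyQuasiFinite_of_etale g
    exact ⟨(inferInstance : LocallyQuasiFinite (g ≫ f)), (inferInstance : LocallyOfFiniteType (g ≫ f))⟩
  comp_etale f g _ h := by
    obtain ⟨(_ : LocallyQuasiFinite f), (_ : LocallyOfFiniteType f)⟩ := h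
    have := locallyQuasiFinite_of_etale g
    exact ⟨(inferInstance : LocallyQuasiFinite (f ≫ g)), (inferInstance : LocallyOfFiniteType (f ≫ g))⟩
  srcDescent g f _ _ h := ⟨of_etale_surjective_comp (P := @LocallyQuasiFinite) (Q := RingHom.QuasiFinite)
      (fun {R A B} _ _ _ φ ψ h1 h2 h3 => by
        algebraize [φ, ψ, ψ.comp φ]
        exact quasiFinite_of_faithfullyFlat_comp R A B) g f h.1,
    srcDescent_locallyOfFiniteType g f h.2⟩

theorem eq_lqf_inf_lft {P : MorphismProperty Scheme.{u}}
    (h : ∀ ⦃A B : Scheme.{u}⦄ (g : A ⟶ B), P g ↔ (LocallyQuasiFinite g ∧ LocallyOfFiniteType g)) :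
    P = (@LocallyQuasiFinite ⊓ @LocallyOfFiniteType : MorphismProperty Scheme.{u}) :=
  MorphismProperty.ext _ _ fun _ _ g => h g

theorem eq_lft_inf_unramified {P : MorphismProperty Scheme.{u}}
    (h : ∀ ⦃A B : Scheme.{u}⦄ (g : A ⟶ B), P g ↔ (LocallyOfFiniteType g ∧ FormallyUnramified g)) :
    P = (@LocallyOfFiniteType ⊓ @FormallyUnramified : MorphismProperty Scheme.{u}) :=
  MorphismProperty.ext _ _ fun _ _ g => h g

/-- The list of classes that occurs in the statements. -/
theorem etLocProp_of_list {P : MorphismProperty Scheme.{u}}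
    (hP : P = @LocallyOfFiniteType ∨ P = @LocallyOfFinitePresentation ∨ P = @Flat ∨ P = @Smooth ∨
      P = @Etale ∨ (∀ ⦃A B : Scheme.{u}⦄ (g : A ⟶ B), P g ↔ (LocallyQuasiFinite g ∧ LocallyOfFiniteType g)) ∨
      (∀ ⦃A B : Scheme.{u}⦄ (g : A ⟶ B), P g ↔ (LocallyOfFiniteType g ∧ FormallyUnramified g))) :
    EtLocProp P := by
  rcases hP with h | h | h | h | h | h | h
  · subst h; infer_instance
  · subst h; infer_instance
  · subst h; infer_instance
  · subst h; infer_instance
  · subst h; infer_instance
  · obtain rfl := eq_lqf_inf_lft h; infer_instance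
  · obtain rfl := eq_lft_inf_unramified h; infer_instance

end AlgSpLib
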