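import Groth.Agent.AlgSpLib.Basic
import Groth.Agent.AlgSpLib.EtLocProp
import Groth.Prelude.Def_AlgSpCov
import Groth.Prelude.Def_AlgSpDec
/-!
# The chart notion `LocP P` for properties etale local on source and target

`locP_of_chart`, `locP_iff_repWith`, composition, base change, locality on the base and on the source.
-/

set_option autoImplicit false
universe u
open CategoryTheory CategoryTheory.Limits AlgebraicGeometry AlgSp

namespace AlgSpLib

variable {S : Scheme.{u}}

/-- A square of schemes over `S` that is cartesian in sheaves is cartesian in schemes. -/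
theorem isPullback_left {W U V T : Over S} {p : W ⟶ U} {q : W ⟶ V} {f : U ⟶ T} {g : V ⟶ T}
    (h : IsPullback ((yon S).map p) ((yon S).map q) ((yon S).map f) ((yon S).map g)) :
    IsPullback p.left q.left f.left g.left :=
  (IsPullback.of_map (F := yon S) ((yon S).map_injective (by simpa using h.w)) h).map (Over.forget S)

theorem etale_left {U V : Over S} {φ : U ⟶ V} (h : RepWith @Etale ((yon S).map φ)) : Etale φ.left :=
  (repWith_yon_map_iff (P := (@Etale : MorphismProperty Scheme.{u})) φ).1 h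

theorem surjective_left {U V : Over S} {φ : U ⟶ V} (h : RepWith @Surjective ((yon S).map φ)) :
    Surjective φ.left :=
  (repWith_yon_map_iff (P := (@Surjective : MorphismProperty Scheme.{u})) φ).1 h

variable {P : MorphismProperty Scheme.{u}}

/-- One chart diagram with surjective etale source chart suffices. -/
theorem locP_of_chart [EtLocProp P] {F G : Sp S} {f : F ⟶ G} {U₀ V₀ : Over S}
    {a₀ : (yon S).obj U₀ ⟶ F} {b₀ : (yon S).obj V₀ ⟶ G} {h₀ : U₀ ⟶ V₀}
    (ha : RepWith @Etale a₀) (has : RepWith @Surjective a₀) (hb : RepWith @Etale b₀)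
    (comm : a₀ ≫ f = (yon S).map h₀ ≫ b₀) (hh : P h₀.left) : LocP P f := by
  intro U V a b h hea heb e
  obtain ⟨U', q, p, sqU⟩ := exists_isPullback_yon a₀ a ha.rep
  have : Etale p.left := etale_left (repWith_of_isPullback sqU ha)
  have : Surjective p.left := surjective_left (repWith_of_isPullback sqU has)
  have : Etale q.left := etale_left (repWith_of_isPullback sqU.flip hea)
  obtain ⟨V', r₀, r, sqV⟩ := exists_isPullback_yon b₀ b hb.rep
  have : Etale r.left := etale_left (repWith_of_isPullback sqV hb)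
  have : Etale r₀.left := etale_left (repWith_of_isPullback sqV.flip heb)
  let s : (yon S).obj U' ⟶ (yon S).obj V' :=
    sqV.lift ((yon S).map (q ≫ h₀)) ((yon S).map (p ≫ h)) (by
      simp only [Functor.map_comp, Category.assoc, ← comm, ← e]
      exact congrArg (· ≫ f) sqU.w |>.trans (Category.assoc _ _ _) |> (Category.assoc _ _ _).symm.trans)
  obtain ⟨s', hs'⟩ := (yon S).map_surjective s
  have e₀ : s'.left ≫ r₀.left = q.left ≫ h₀.left := by
    rw [← Over.comp_left, ← Over.comp_left]
    refine congrArg CommaMorphism.left ((yon S).map_injective ?_)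
    rw [Functor.map_comp, hs']
    exact sqV.lift_fst _ _ _
  have e₁ : s'.left ≫ r.left = p.left ≫ h.left := by
    rw [← Over.comp_left, ← Over.comp_left]
    refine congrArg CommaMorphism.left ((yon S).map_injective ?_)
    rw [Functor.map_comp, hs']
    exact sqV.lift_snd _ _ _
  refine EtLocProp.srcDescent p.left h.left ?_
  rw [← e₁]
  refine EtLocProp.comp_etale _ _ (EtLocProp.cancel_etale _ r₀.left ?_)
  rw [e₀]
  exact EtLocProp.etale_comp _ _ hh

/-- An atlas of `F ×_G h_V`. -/
theorem exists_atlas_pullback {F G : Sp S} (hF : IsAlgSpace F) (hG : IsAlgSpace G) (f : F ⟶ G)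
    {V : Over S} (b : (yon S).obj V ⟶ G) :
    ∃ (U : Over S) (c : (yon S).obj U ⟶ pullback f b) (h : U ⟶ V),
      RepWith @Etale c ∧ RepWith @Surjective c ∧ c ≫ pullback.snd f b = (yon S).map h := by
  obtain ⟨U, c, hc, hcs⟩ := (isAlgSpace_pullback hF (IsAlgSpace.yon_obj V) hG f b).atlas
  obtain ⟨h, hh⟩ := (yon S).map_surjective (c ≫ pullback.snd f b)
  exact ⟨U, c, h, hc, hcs, hh.symm⟩

/-- Existence of a chart diagram with surjective etale charts, over any chart of the target. -/
theorem exists_chart_over {F G : Sp S} (hF : IsAlgSpace F) (hG : IsAlgSpace G) (f : F ⟶ G)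
    {V : Over S} (b : (yon S).obj V ⟶ G) (hb : RepWith @Etale b) (hbs : RepWith @Surjective b) :
    ∃ (U : Over S) (a : (yon S).obj U ⟶ F) (h : U ⟶ V),
      RepWith @Etale a ∧ RepWith @Surjective a ∧ a ≫ f = (yon S).map h ≫ b := by
  have sq := IsPullback.of_hasPullback f b
  obtain ⟨U, c, hc, hcs⟩ := (isAlgSpace_pullback hF (IsAlgSpace.yon_obj V) hG f b).atlas
  obtain ⟨h, hh⟩ := (yon S).map_surjective (c ≫ pullback.snd f b)
  refine ⟨U, c ≫ pullback.fst f b, h, repWith_comp hc (repWith_of_isPullback sq.flip hb),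
    repWith_comp hcs (repWith_of_isPullback sq.flip hbs), ?_⟩
  rw [hh, Category.assoc, Category.assoc, sq.w]

theorem exists_chart {F G : Sp S} (hF : IsAlgSpace F) (hG : IsAlgSpace G) (f : F ⟶ G) :
    ∃ (U V : Over S) (a : (yon S).obj U ⟶ F) (b : (yon S).obj V ⟶ G) (h : U ⟶ V),
      RepWith @Etale a ∧ RepWith @Surjective a ∧ RepWith @Etale b ∧ RepWith @Surjective b ∧
      a ≫ f = (yon S).map h ≫ b := by
  obtain ⟨V, b, hb, hbs⟩ := hG.atlas
  obtain ⟨U, a, h, ha, has, e⟩ := exists_chart_over hF hG f b hb hbs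
  exact ⟨U, V, a, b, h, ha, has, hb, hbs, e⟩

theorem locP_iff_exists_chart [EtLocProp P] {F G : Sp S} (hF : IsAlgSpace F) (hG : IsAlgSpace G)
    (f : F ⟶ G) : LocP P f ↔ ∃ (U V : Over S) (a : (yon S).obj U ⟶ F) (b : (yon S).obj V ⟶ G)
      (h : U ⟶ V), RepWith @Etale a ∧ RepWith @Surjective a ∧ RepWith @Etale b ∧
      a ≫ f = (yon S).map h ≫ b ∧ P h.left := by
  refine ⟨fun hf => ?_, fun ⟨_, _, _, _, _, ha, has, hb, e, hh⟩ => locP_of_chart ha has hb e hh⟩
  obtain ⟨U, V, a, b, h, ha, has, hb, -, e⟩ := exists_chart hF hG f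
  exact ⟨U, V, a, b, h, ha, has, hb, e, hf a b h ha hb e⟩

/-- A morphism representable with property `P` has `P` in the chart sense. -/
theorem locP_of_repWith [EtLocProp P] {F G : Sp S} {f : F ⟶ G} (hf : RepWith P f) : LocP P f := by
  intro U V a b h ha hb e
  let sq := hf.rep.isPullback b
  obtain ⟨s, hs⟩ := (yon S).map_surjective (sq.lift a ((yon S).map h) e)
  have hW : RepWith @Etale (hf.rep.fst b) := repWith_of_isPullback sq.flip hb
  have hsa : (yon S).map s ≫ hf.rep.fst b = a := by rw [hs]; exact sq.lift_fst _ _ _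
  have : Etale s.left := etale_cancel s _ (hsa ▸ ha) hW
  have e' : s ≫ hf.rep.snd b = h := by
    apply (yon S).map_injective
    rw [Functor.map_comp, hs]
    exact sq.lift_snd _ _ _
  rw [← e', Over.comp_left]
  exact EtLocProp.etale_comp _ _ (hf.property_snd b)

/-- For a representable morphism into an algebraic space the chart notion implies the representable one. -/
theorem repWith_of_locP [EtLocProp P] {F G : Sp S} (hG : IsAlgSpace G) {f : F ⟶ G}
    (hrep : Representable f) (hf : LocP P f) : RepWith P f := by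
  obtain ⟨V, b, hb, hbs⟩ := hG.atlas
  let sqV := hrep.isPullback b
  have hV : P (hrep.snd b).left :=
    hf (hrep.fst b) b (hrep.snd b) (repWith_of_isPullback sqV.flip hb) hb sqV.w
  refine ⟨hrep, fun T W g fst snd sq => ?_⟩
  obtain ⟨T', v, t, sqT⟩ := exists_isPullback_yon b g hb.rep
  have : Etale t.left := etale_left (repWith_of_isPullback sqT hb)
  have : Surjective t.left := surjective_left (repWith_of_isPullback sqT hbs)
  let W' : Over S := pullback snd t
  have sqW : IsPullback ((yon S).map (pullback.fst snd t)) ((yon S).map (pullback.snd snd t))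
      ((yon S).map snd) ((yon S).map t) := (IsPullback.of_hasPullback snd t).map (yon S)
  have sqF : IsPullback ((yon S).map (pullback.fst snd t) ≫ fst) ((yon S).map (pullback.snd snd t)) f
      ((yon S).map v ≫ b) := by
    rw [sqT.w]; exact sqW.paste_horiz sq
  let l := sqV.lift ((yon S).map (pullback.fst snd t) ≫ fst) ((yon S).map (pullback.snd snd t ≫ v))
    (by rw [sqF.w, Functor.map_comp, Category.assoc])
  obtain ⟨l', hl'⟩ := (yon S).map_surjective l
  have sqL : IsPullback ((yon S).map l') ((yon S).map (pullback.snd snd t))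
      ((yon S).map (hrep.snd b)) ((yon S).map v) := by
    rw [hl']
    refine IsPullback.of_right ?_ ((sqV.lift_snd _ _ _).trans (Functor.map_comp _ _ _)) sqV
    rw [sqV.lift_fst]
    exact sqF
  have := EtLocProp.isStableUnderBaseChange (P := P)
  exact EtLocProp.targetDescent (Y := T.left) (Y' := T'.left) (c := t.left) (isPullback_left sqW)
    (P.of_isPullback (isPullback_left sqL) hV)

theorem locP_iff_repWith [EtLocProp P] {F G : Sp S} (hG : IsAlgSpace G) {f : F ⟶ G}
    (hrep : Representable f) : LocP P f ↔ RepWith P f :=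
  ⟨repWith_of_locP hG hrep, locP_of_repWith⟩

/-- The chart notion on a morphism of schemes. -/
theorem locP_yon_map_iff [EtLocProp P] {U V : Over S} (φ : U ⟶ V) :
    LocP P ((yon S).map φ) ↔ P φ.left :=
  ⟨locP_yon_map, fun h => locP_of_chart (repWith_id _ U) (repWith_id _ U) (repWith_id _ V) (by simp) h⟩

theorem isEtaleMor_iff_locP {F G : Sp S} (hG : IsAlgSpace G) {f : F ⟶ G} :
    IsEtaleMor f ↔ LocP @Etale f := by
  refine ⟨locP_etale_of_isEtaleMor, fun h U φ hφ => ?_⟩
  refine repWith_of_locP hG (hG.representable_from_yon _) ?_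
  intro U' V a b k ha hb e
  exact h (a ≫ φ) b k (repWith_comp (P := (@Etale : MorphismProperty Scheme.{u})) ha hφ) hb
    ((Category.assoc _ _ _).trans e)

/-- Precomposition with an etale morphism. -/
theorem locP_etale_comp {F' F G : Sp S} {g : F' ⟶ F} (hg : IsEtaleMor g) {f : F ⟶ G}
    (hf : LocP P f) : LocP P (g ≫ f) :=
  fun _ _ a b h ha hb e => hf (a ≫ g) b h (hg a ha) hb ((Category.assoc _ _ _).trans e)

/-- Postcomposition with an etale morphism. -/
theorem locP_comp_etale [EtLocProp P] {F G H : Sp S} (hF : IsAlgSpace F) (hG : IsAlgSpace G)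
    {f : F ⟶ G} (hf : LocP P f) {g : G ⟶ H} (hg : IsEtaleMor g) : LocP P (f ≫ g) := by
  obtain ⟨U, V, a, b, h, ha, has, hb, -, e⟩ := exists_chart hF hG f
  exact locP_of_chart ha has (hg b hb) (by rw [reassoc_of% e]) (hf a b h ha hb e)

theorem locP_comp [EtLocProp P] [P.IsStableUnderComposition] {F G H : Sp S} (hF : IsAlgSpace F)
    (hG : IsAlgSpace G) (hH : IsAlgSpace H) {f : F ⟶ G} (hf : LocP P f) {g : G ⟶ H}
    (hg : LocP P g) : LocP P (f ≫ g) := by
  obtain ⟨V, W, b, c, k, hb, hbs, hc, -, e⟩ := exists_chart hG hH g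
  obtain ⟨U, a, h, ha, has, e'⟩ := exists_chart_over hF hG f b hb hbs
  refine locP_of_chart (h₀ := h ≫ k) ha has hc ?_
    (by rw [Over.comp_left]; exact P.comp_mem _ _ (hf a b h ha hb e') (hg b c k hb hc e))
  rw [reassoc_of% e', e, Functor.map_comp, Category.assoc]

theorem locP_id [EtLocProp P] [P.ContainsIdentities] {F : Sp S} (hF : IsAlgSpace F) :
    LocP P (𝟙 F) := by
  obtain ⟨U, a, ha, has⟩ := hF.atlas
  exact locP_of_chart (h₀ := 𝟙 U) ha has ha (by simp) (P.id_mem _)

/-- Base change along an arbitrary morphism of algebraic spaces. -/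
theorem locP_of_isPullback [EtLocProp P] {F G F' G' : Sp S} (hF : IsAlgSpace F) (hG : IsAlgSpace G)
    (hG' : IsAlgSpace G') {f : F ⟶ G} {g : G' ⟶ G} {fst : F' ⟶ F} {snd : F' ⟶ G'}
    (sq : IsPullback fst snd f g) (hf : LocP P f) : LocP P snd := by
  obtain ⟨V, b, hb, hbs⟩ := hG.atlas
  obtain ⟨V', b', v, hb', hbs', e'⟩ := exists_chart_over hG' hG g b hb hbs
  obtain ⟨U, r, h, hr, hrs, hrh⟩ := exists_atlas_pullback hF hG f b
  have hh : P h.left := hf (r ≫ pullback.fst f b) b h
    (repWith_comp hr (repWith_of_isPullback (IsPullback.of_hasPullback f b).flip hb)) hb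
    (by rw [Category.assoc, pullback.condition, reassoc_of% hrh])
  let U' : Over S := pullback h v
  have sqU : IsPullback ((yon S).map (pullback.fst h v)) ((yon S).map (pullback.snd h v))
      ((yon S).map h) ((yon S).map v) := (IsPullback.of_hasPullback h v).map (yon S)
  have hsqF' := IsPullback.of_hasPullback snd b'
  let l : pullback snd b' ⟶ pullback f b := pullback.lift (pullback.fst snd b' ≫ fst)
    (pullback.snd snd b' ≫ (yon S).map v) (by
      rw [Category.assoc, Category.assoc, sq.w, ← e', reassoc_of% hsqF'.w])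
  have sqX : IsPullback l (pullback.snd snd b') (pullback.snd f b) ((yon S).map v) := by
    refine IsPullback.of_right ?_ (pullback.lift_snd _ _ _) (IsPullback.of_hasPullback f b)
    rw [pullback.lift_fst, ← e']
    exact hsqF'.paste_horiz sq
  let m : (yon S).obj U' ⟶ pullback snd b' :=
    sqX.lift ((yon S).map (pullback.fst h v) ≫ r) ((yon S).map (pullback.snd h v)) (by
      rw [Category.assoc, hrh]; exact sqU.w)
  have hm : IsPullback ((yon S).map (pullback.fst h v)) m r l := by
    refine IsPullback.of_bot ?_ (sqX.lift_fst _ _ _).symm sqX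
    rw [hrh, sqX.lift_snd]
    exact sqU
  refine locP_of_chart (a₀ := m ≫ pullback.fst snd b') (b₀ := b') (h₀ := pullback.snd h v)
    (repWith_comp (repWith_of_isPullback hm hr) (repWith_of_isPullback hsqF'.flip hb'))
    (repWith_comp (repWith_of_isPullback hm hrs) (repWith_of_isPullback hsqF'.flip hbs')) hb' ?_ ?_
  · rw [Category.assoc, hsqF'.w, sqX.lift_snd_assoc]
  · have := EtLocProp.isStableUnderBaseChange (P := P)
    exact P.of_isPullback (isPullback_left sqU) hh

/-- Etale morphisms are stable under base change. -/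
theorem isEtaleMor_of_isPullback {F G F' G' : Sp S} (hF : IsAlgSpace F) (hG : IsAlgSpace G)
    (hG' : IsAlgSpace G') {f : F ⟶ G} {g : G' ⟶ G} {fst : F' ⟶ F} {snd : F' ⟶ G'}
    (sq : IsPullback fst snd f g) (hf : IsEtaleMor f) : IsEtaleMor snd :=
  (isEtaleMor_iff_locP hG').2 (locP_of_isPullback hF hG hG' sq ((isEtaleMor_iff_locP hG).1 hf))

/-- The chart notion can be checked after a jointly surjective family of etale morphisms to the source. -/
theorem locP_of_cover [EtLocProp P] {ι : Type u} {F : Sp S} (hF : IsAlgSpace F) {Fi : ι → Sp S}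
    (hFi : ∀ i, IsAlgSpace (Fi i)) (g : ∀ i, Fi i ⟶ F) (hg : ∀ i, IsEtaleMor (g i))
    (hs : ∀ x : Points F, ∃ i, x ∈ Set.range (Points.map (g i)))
    {G : Sp S} {f : F ⟶ G} (h : ∀ i, LocP P (g i ≫ f)) : LocP P f := by
  intro U V a b k ha hb e
  have hW : ∀ i, IsAlgSpace (pullback (g i) a) :=
    fun i => isAlgSpace_pullback (hFi i) (IsAlgSpace.yon_obj U) hF _ _
  choose Ui c hc hcs using fun i => (hW i).atlas
  choose p hp using fun i => (yon S).map_surjective (c i ≫ pullback.snd (g i) a)
  have hq : ∀ i, RepWith @Etale (c i ≫ pullback.fst (g i) a) := fun i =>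
    repWith_comp (hc i) (repWith_of_isPullback (IsPullback.of_hasPullback (g i) a).flip ha)
  have het : ∀ i, Etale (p i).left := fun i => by
    refine etale_left ?_
    rw [hp i]
    exact isEtaleMor_of_isPullback (hFi i) hF (IsAlgSpace.yon_obj U)
      (IsPullback.of_hasPullback (g i) a) (hg i) (c i) (hc i)
  have hP : ∀ i, P ((p i).left ≫ k.left) := fun i => by
    rw [← Over.comp_left]
    refine h i (c i ≫ pullback.fst (g i) a) b (p i ≫ k) (hq i) hb ?_
    rw [Functor.map_comp, hp i, Category.assoc, Category.assoc, pullback.condition_assoc, e]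
    rw [Category.assoc]
  let π := Sigma.desc fun i => (p i).left
  have : Etale π := IsZariskiLocalAtSource.sigmaDesc (P := @Etale) het
  have : Surjective π := ⟨fun x => by
    obtain ⟨i, y, hy⟩ := hs (Points.ofPt a x)
    obtain ⟨w, -, hw⟩ := exists_point_isPullback (IsPullback.of_hasPullback (g i) a) y
      (Points.ofScheme U x) (by rw [hy, ← Points.ofPt_eq_map_ofScheme])
    obtain ⟨z, hz⟩ := map_surjective_of_repWith (hcs i) w
    obtain ⟨z, rfl⟩ := (Points.schemeEquiv (Ui i)).surjective z
    refine ⟨Sigma.ι (fun i => (Ui i).left) i z, ?_⟩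
    rw [← Scheme.Hom.comp_apply, Sigma.ι_desc]
    apply (Points.schemeEquiv U).injective
    refine (Points.map_yon_map_apply (p i) z).symm.trans ?_
    change Points.map ((yon S).map (p i)) _ = _
    rw [hp i, Points.map_comp]
    exact (congrArg _ hz).trans hw⟩
  refine EtLocProp.srcDescent π k.left ?_
  have : π ≫ k.left = Sigma.desc fun i => (p i).left ≫ k.left := by
    ext i; simp [π]
  rw [this]
  exact EtLocProp.sigmaDesc _ hP

theorem isLocalOnSource_locP (S : Scheme.{u}) (P : MorphismProperty Scheme.{u}) [EtLocProp P] :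
    IsLocalOnSource (IsEtCover (S := S)) (LocP P) :=
  fun _ _ _ g hX hXi hτ _ _ _ =>
    ⟨fun hf i => locP_etale_comp (hτ.1 i) hf, locP_of_cover hX hXi g hτ.1 hτ.2⟩

theorem isLocalOnBase_locP (S : Scheme.{u}) (P : MorphismProperty Scheme.{u}) [EtLocProp P] :
    IsLocalOnBase (IsEtCover (S := S)) (LocP P) := by
  intro ι Y Yi g hY hYi hτ X f hX Xi p q hXi sq
  refine ⟨fun hf i => locP_of_isPullback hX hY (hYi i) (sq i) hf, fun h => ?_⟩
  refine locP_of_cover hX hXi q
    (fun i => isEtaleMor_of_isPullback (hYi i) hY hX (sq i).flip (hτ.1 i)) (fun x => ?_) fun i => ?_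
  · obtain ⟨i, y, hy⟩ := hτ.2 (Points.map f x)
    obtain ⟨w, hw, -⟩ := exists_point_isPullback (sq i) x y hy.symm
    exact ⟨i, w, hw⟩
  · rw [(sq i).w]
    exact locP_comp_etale (hXi i) (hYi i) (h i) (hτ.1 i)

theorem isLocalOnSource_isEtaleMor (S : Scheme.{u}) :
    IsLocalOnSource (IsEtCover (S := S)) IsEtaleMor :=
  fun ι X Xi g hX hXi hτ Y f hY =>
    (isEtaleMor_iff_locP hY).trans ((isLocalOnSource_locP S @Etale Xi g hX hXi hτ f hY).trans
      (forall_congr' fun _ => (isEtaleMor_iff_locP hY).symm))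

theorem isLocalOnBase_isEtaleMor (S : Scheme.{u}) :
    IsLocalOnBase (IsEtCover (S := S)) IsEtaleMor :=
  fun ι Y Yi g hY hYi hτ X f hX Xi p q hXi sq =>
    (isEtaleMor_iff_locP hY).trans ((isLocalOnBase_locP S @Etale Yi g hY hYi hτ f hX Xi p q hXi sq).trans
      (forall_congr' fun i => (isEtaleMor_iff_locP (hYi i)).symm))

/-- Cancellation for a property of schemes with cancellation. -/
theorem locP_of_comp [EtLocProp P]
    (hP : ∀ {A B C : Scheme.{u}} (h : A ⟶ B) (k : B ⟶ C), P (h ≫ k) → P h)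
    {F G H : Sp S} (hF : IsAlgSpace F) (hG : IsAlgSpace G) (hH : IsAlgSpace H) {f : F ⟶ G}
    {g : G ⟶ H} (hfg : LocP P (f ≫ g)) : LocP P f := by
  obtain ⟨V, W, b, c, k, hb, hbs, hc, -, e⟩ := exists_chart hG hH g
  obtain ⟨U, a, h, ha, has, e'⟩ := exists_chart_over hF hG f b hb hbs
  refine locP_of_chart ha has hb e' (hP h.left k.left ?_)
  rw [← Over.comp_left]
  exact hfg a c (h ≫ k) ha hc (by rw [reassoc_of% e', e, Functor.map_comp, Category.assoc])

theorem lft_of_comp {A B C : Scheme.{u}} (h : A ⟶ B) (k : B ⟶ C)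
    (hk : LocallyOfFiniteType (h ≫ k)) : LocallyOfFiniteType h :=
  locallyOfFiniteType_of_comp h k

theorem lqf_lft_of_comp {A B C : Scheme.{u}} (h : A ⟶ B) (k : B ⟶ C)
    (hk : (@LocallyQuasiFinite ⊓ @LocallyOfFiniteType : MorphismProperty Scheme.{u}) (h ≫ k)) :
    (@LocallyQuasiFinite ⊓ @LocallyOfFiniteType : MorphismProperty Scheme.{u}) h :=
  have : LocallyQuasiFinite (h ≫ k) := hk.1
  ⟨LocallyQuasiFinite.of_comp h k, lft_of_comp h k hk.2⟩

theorem unramified_of_comp {A B C : Scheme.{u}} (h : A ⟶ B) (k : B ⟶ C)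
    (hk : (@LocallyOfFiniteType ⊓ @FormallyUnramified : MorphismProperty Scheme.{u}) (h ≫ k)) :
    (@LocallyOfFiniteType ⊓ @FormallyUnramified : MorphismProperty Scheme.{u}) h :=
  have : FormallyUnramified (h ≫ k) := hk.2
  ⟨lft_of_comp h k hk.1, FormallyUnramified.of_comp h k⟩

theorem etale_le_list : (@Etale : MorphismProperty Scheme.{u}) ≤
    (@LocallyQuasiFinite ⊓ @LocallyOfFiniteType : MorphismProperty Scheme.{u}) :=
  fun _ _ g (_ : Etale g) => ⟨locallyQuasiFinite_of_etale g, (inferInstance : LocallyOfFiniteType g)⟩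

/-- The chart notion is local for open neighbourhoods of points. -/
theorem locP_iff_forall_hasAtMor [EtLocProp P] [IsZariskiLocalAtSource P] {F G : Sp S}
    (hF : IsAlgSpace F) (hG : IsAlgSpace G) (f : F ⟶ G) : LocP P f ↔ ∀ x : Points F,
      HasAtMor (fun U _ h u => ∃ W : U.Opens, u ∈ W ∧ P (W.ι ≫ h)) f x := by
  constructor
  · intro hf x
    obtain ⟨U, V, a, b, h, ha, has, hb, -, e⟩ := exists_chart hF hG f
    obtain ⟨w, hw⟩ := map_surjective_of_repWith has x
    obtain ⟨u, rfl⟩ := (Points.schemeEquiv U).surjective w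
    exact ⟨U, V, a, b, h, u, ha, hb, e, (Points.ofPt_eq_map_ofScheme a u).trans hw, ⊤, trivial,
      IsZariskiLocalAtSource.comp (hf a b h ha hb e) _⟩
  · intro H
    choose U V a b h u ha hb e hu W huW hW using H
    -- shrink the index set
    obtain ⟨U₁, a₁, ha₁, has₁⟩ := hF.atlas
    let x : U₁.left → Points F := fun t => Points.ofPt a₁ t
    let Wo : ↥U₁.left → Over S := fun t => Over.mk ((W (x t)).ι ≫ (U (x t)).hom)
    let j : ∀ t, Wo t ⟶ U (x t) := fun t => Over.homMk (W (x t)).ι rfl
    have hj : ∀ t, RepWith @Etale ((yon S).map (j t) ≫ a (x t)) := fun t =>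
      repWith_comp ((repWith_yon_map_iff (P := (@Etale : MorphismProperty Scheme.{u})) (j t)).2
        (inferInstanceAs (Etale (W (x t)).ι))) (ha _)
    refine locP_of_cover hF (fun t => IsAlgSpace.yon_obj (Wo t))
      (fun t => (yon S).map (j t) ≫ a (x t)) (fun t => isEtaleMor_of_repWith (hj t)) (fun y => ?_)
      fun t => ?_
    · obtain ⟨w, rfl⟩ := map_surjective_of_repWith has₁ y
      obtain ⟨t, rfl⟩ := (Points.schemeEquiv U₁).surjective w
      refine ⟨t, Points.ofScheme (Wo t) ⟨u (x t), huW (x t)⟩, ?_⟩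
      rw [← Points.ofPt_eq_map_ofScheme, ofPt_yon_comp]
      exact (hu (x t)).trans (Points.ofPt_eq_map_ofScheme a₁ t)
    · have : ((yon S).map (j t) ≫ a (x t)) ≫ f = (yon S).map (j t ≫ h (x t)) ≫ b (x t) := by
        rw [Category.assoc, e, Functor.map_comp, Category.assoc]
      rw [this]
      exact locP_comp_etale (IsAlgSpace.yon_obj _) (IsAlgSpace.yon_obj _)
        ((locP_yon_map_iff _).2 (hW (x t))) (isEtaleMor_of_repWith (hb _))

theorem isZariskiLocalAtSource_of_list {P : MorphismProperty Scheme.{u}}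
    (hP : P = @LocallyOfFiniteType ∨ P = @LocallyOfFinitePresentation ∨ P = @Flat ∨ P = @Smooth ∨
      P = @Etale ∨ (∀ ⦃A B : Scheme.{u}⦄ (g : A ⟶ B), P g ↔ (LocallyQuasiFinite g ∧ LocallyOfFiniteType g)) ∨
      (∀ ⦃A B : Scheme.{u}⦄ (g : A ⟶ B), P g ↔ (LocallyOfFiniteType g ∧ FormallyUnramified g))) :
    IsZariskiLocalAtSource P := by
  rcases hP with h | h | h | h | h | h | h
  · subst h; infer_instance
  · subst h; infer_instance
  · subst h; infer_instance
  · subst h; infer_instance
  · subst h; infer_instance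
  · obtain rfl := eq_lqf_inf_lft h; exact MorphismProperty.IsLocalAtSource.inf _ _
  · obtain rfl := eq_lft_inf_unramified h; exact MorphismProperty.IsLocalAtSource.inf _ _

theorem isStableUnderComposition_of_list {P : MorphismProperty Scheme.{u}}
    (hP : P = @LocallyOfFiniteType ∨ P = @LocallyOfFinitePresentation ∨ P = @Flat ∨ P = @Smooth ∨
      P = @Etale ∨ (∀ ⦃A B : Scheme.{u}⦄ (g : A ⟶ B), P g ↔ (LocallyQuasiFinite g ∧ LocallyOfFiniteType g)) ∨
      (∀ ⦃A B : Scheme.{u}⦄ (g : A ⟶ B), P g ↔ (LocallyOfFiniteType g ∧ FormallyUnramified g))) :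
    P.IsStableUnderComposition := by
  rcases hP with h | h | h | h | h | h | h
  · subst h; infer_instance
  · subst h; infer_instance
  · subst h; infer_instance
  · subst h; infer_instance
  · subst h; infer_instance
  · obtain rfl := eq_lqf_inf_lft h
    exact ⟨fun _ _ h1 h2 => ⟨MorphismProperty.comp_mem _ _ _ h1.1 h2.1,
      MorphismProperty.comp_mem _ _ _ h1.2 h2.2⟩⟩
  · obtain rfl := eq_lft_inf_unramified h
    exact ⟨fun _ _ h1 h2 => ⟨MorphismProperty.comp_mem _ _ _ h1.1 h2.1,
      MorphismProperty.comp_mem _ _ _ h1.2 h2.2⟩⟩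

end AlgSpLib
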