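import Groth.Agent.AlgSpLib.Sheaf
import Groth.Agent.AlgSpLib.LocP
import Mathlib.CategoryTheory.Sites.Subsheaf
/-!
# Points of algebraic spaces and open subspaces
-/

set_option autoImplicit false
universe u
open CategoryTheory CategoryTheory.Limits AlgebraicGeometry Opposite AlgSp Topology

namespace AlgSpLib

variable {S : Scheme.{u}}

theorem ofPt_comp_ofScheme {F : Sp S} {T : Over S} (a : (yon S).obj T ⟶ F) :
    Points.ofPt a = Points.map a ∘ Points.schemeHomeo T :=
  funext fun t => Points.ofPt_eq_map_ofScheme a t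

theorem range_ofPt {F : Sp S} {T : Over S} (a : (yon S).obj T ⟶ F) :
    Set.range (Points.ofPt a) = Set.range (Points.map a) := by
  rw [ofPt_comp_ofScheme, Set.range_comp, (Points.schemeHomeo T).surjective.range_eq, Set.image_univ]

theorem surjective_ofPt {F : Sp S} {T : Over S} {a : (yon S).obj T ⟶ F}
    (h : RepWith @Surjective a) : Function.Surjective (Points.ofPt a) := by
  rw [ofPt_comp_ofScheme]
  exact (map_surjective_of_repWith h).comp (Points.schemeHomeo T).surjective

/-- Two points of schemes agree in `F` exactly when a point of the fibre product lies over both. -/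
theorem ofPt_eq_ofPt_iff {F : Sp S} {U V W : Over S} {a : (yon S).obj U ⟶ F} {b : (yon S).obj V ⟶ F}
    {p : W ⟶ U} {q : W ⟶ V} (sq : IsPullback ((yon S).map p) ((yon S).map q) a b)
    (u : ↥U.left) (v : ↥V.left) :
    Points.ofPt a u = Points.ofPt b v ↔ ∃ w : ↥W.left, p.left w = u ∧ q.left w = v := by
  constructor
  · intro h
    rw [ofPt_comp_ofScheme, ofPt_comp_ofScheme] at h
    obtain ⟨w, h1, h2⟩ := exists_point_isPullback sq _ _ h
    obtain ⟨w, rfl⟩ := (Points.schemeHomeo W).surjective w
    rw [Points.map_yon_map_apply] at h1 h2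
    exact ⟨w, (Points.schemeHomeo U).injective h1, (Points.schemeHomeo V).injective h2⟩
  · rintro ⟨w, rfl, rfl⟩
    rw [← ofPt_yon_comp, ← ofPt_yon_comp, sq.w]

/-- The image of an etale map from a scheme is open, as are the images of its opens. -/
theorem isOpenMap_ofPt {F : Sp S} {U : Over S} {a : (yon S).obj U ⟶ F} (ha : RepWith @Etale a) :
    IsOpenMap (Points.ofPt a) := by
  intro O hO
  refine Points.isOpen_iff.2 fun T g => ?_
  obtain ⟨W, p, q, sq⟩ := exists_isPullback_yon a g ha.rep
  have : Etale q.left := etale_left (repWith_of_isPullback sq ha)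
  have : Points.ofPt g ⁻¹' (Points.ofPt a '' O) = q.left '' (p.left ⁻¹' O) := by
    ext t
    constructor
    · rintro ⟨u, hu, e⟩
      obtain ⟨w, rfl, rfl⟩ := (ofPt_eq_ofPt_iff sq u t).1 e
      exact ⟨w, hu, rfl⟩
    · rintro ⟨w, hw, rfl⟩
      exact ⟨p.left w, hw, (ofPt_eq_ofPt_iff sq _ _).2 ⟨w, rfl, rfl⟩⟩
  rw [this]
  exact q.left.isOpenMap _ (hO.preimage p.left.continuous)

theorem isQuotientMap_ofPt {F : Sp S} {U : Over S} {a : (yon S).obj U ⟶ F} (ha : RepWith @Etale a)
    (has : RepWith @Surjective a) : IsQuotientMap (Points.ofPt a) :=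
  ((isOpenMap_ofPt ha).isQuotientMap (Points.continuous_ofPt a) (surjective_ofPt has))

theorem isOpenMap_map_of_isEtaleMor {F G : Sp S} (hF : IsAlgSpace F) {f : F ⟶ G}
    (hf : IsEtaleMor f) : IsOpenMap (Points.map f) := by
  obtain ⟨U, a, ha, has⟩ := hF.atlas
  intro O hO
  have : Points.map f '' O = Points.ofPt (a ≫ f) '' (Points.ofPt a ⁻¹' O) := by
    have : Points.ofPt (a ≫ f) = Points.map f ∘ Points.ofPt a :=
      funext fun t => (Points.map_ofPt a f t).symm
    rw [this, Set.image_comp, Set.image_preimage_eq _ (surjective_ofPt has)]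
  rw [this]
  exact isOpenMap_ofPt (hf a ha) _ (hO.preimage (Points.continuous_ofPt a))

theorem map_surjective_of_isPullback {F G F' G' : Sp S} {fst : F' ⟶ F} {snd : F' ⟶ G'}
    {f : F ⟶ G} {g : G' ⟶ G} (sq : IsPullback fst snd f g)
    (hf : Function.Surjective (Points.map f)) : Function.Surjective (Points.map snd) := fun y => by
  obtain ⟨x, hx⟩ := hf (Points.map g y)
  obtain ⟨w, -, hw⟩ := exists_point_isPullback sq x y hx
  exact ⟨w, hw⟩

theorem range_map_of_isPullback {F G F' G' : Sp S} {fst : F' ⟶ F} {snd : F' ⟶ G'}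
    {f : F ⟶ G} {g : G' ⟶ G} (sq : IsPullback fst snd f g) :
    Set.range (Points.map snd) = Points.map g ⁻¹' Set.range (Points.map f) := by
  ext y
  constructor
  · rintro ⟨w, rfl⟩
    exact ⟨Points.map fst w, by rw [← Points.map_comp, ← Points.map_comp, sq.w]⟩
  · rintro ⟨x, hx⟩
    obtain ⟨w, -, hw⟩ := exists_point_isPullback sq x y hx
    exact ⟨w, hw⟩

/-- For representable morphisms surjectivity is surjectivity on points. -/
theorem repWith_surjective_iff {F G : Sp S} {f : F ⟶ G} (hf : Representable f) :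
    RepWith @Surjective f ↔ Function.Surjective (Points.map f) := by
  refine ⟨map_surjective_of_repWith, fun h => ⟨hf, fun T W g fst snd sq => ⟨fun t => ?_⟩⟩⟩
  obtain ⟨w, hw⟩ := map_surjective_of_isPullback sq h (Points.schemeHomeo T t)
  obtain ⟨w, rfl⟩ := (Points.schemeHomeo W).surjective w
  rw [Points.map_yon_map_apply] at hw
  exact ⟨w, (Points.schemeHomeo T).injective hw⟩

/-! ## Open subspaces -/

/-- The subpresheaf of the sections all of whose points lie in `W`. -/
def openSubfunctor (F : Sp S) (W : Set (Points F)) : Subfunctor F.obj where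
  obj T := {s | ∀ t, Points.ofPt ((AlgSp.J S).uliftYonedaEquiv.symm s : (yon S).obj T.unop ⟶ F) t ∈ W}
  map {T T'} i s hs t := by
    have := hs (i.unop.left t)
    rw [← ofPt_yon_comp] at this
    rw [GrothendieckTopology.uliftYonedaEquiv_symm_map]
    exact this

theorem isSheaf_openSubfunctor (F : Sp S) (W : Set (Points F)) :
    Presheaf.IsSheaf (AlgSp.J S) (openSubfunctor F W).toFunctor := by
  rw [isSheaf_iff_isSheaf_of_type]
  refine ((openSubfunctor F W).isSheaf_iff ((isSheaf_iff_isSheaf_of_type _ _).1 F.property)).2 ?_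
  intro T s hs t
  obtain ⟨T', f, hf, t', rfl⟩ := exists_mem_range_of_mem_J hs t
  have := hf t'
  rw [GrothendieckTopology.uliftYonedaEquiv_symm_map] at this
  rw [← ofPt_yon_comp]
  exact this

/-- The open subspace with given points. -/
def openSub (F : Sp S) (W : Set (Points F)) : Sp S :=
  ⟨(openSubfunctor F W).toFunctor, isSheaf_openSubfunctor F W⟩

/-- Its inclusion. -/
def openSubι (F : Sp S) (W : Set (Points F)) : openSub F W ⟶ F := ⟨(openSubfunctor F W).ι⟩

theorem exists_lift_openSub {F : Sp S} {W : Set (Points F)} {T : Over S} (a : (yon S).obj T ⟶ F) :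
    (∃ l : (yon S).obj T ⟶ openSub F W, l ≫ openSubι F W = a) ↔ ∀ t, Points.ofPt a t ∈ W := by
  constructor
  · rintro ⟨l, rfl⟩ t
    have := ((AlgSp.J S).uliftYonedaEquiv l).2 t
    have e : (AlgSp.J S).uliftYonedaEquiv.symm ((AlgSp.J S).uliftYonedaEquiv l).1 = l ≫ openSubι F W :=
      (AlgSp.J S).uliftYonedaEquiv.symm_apply_eq.2 rfl
    rwa [e] at this
  · intro h
    refine ⟨(AlgSp.J S).uliftYonedaEquiv.symm ⟨(AlgSp.J S).uliftYonedaEquiv a, fun t => ?_⟩, ?_⟩
    · rw [Equiv.symm_apply_apply]
      exact h t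
    · apply (AlgSp.J S).uliftYonedaEquiv.injective
      rw [GrothendieckTopology.uliftYonedaEquiv_comp, Equiv.apply_symm_apply]
      rfl

instance mono_openSubι (F : Sp S) (W : Set (Points F)) : Mono (openSubι F W) :=
  (sheafToPresheaf _ _).mono_of_mono_map (inferInstanceAs (Mono (openSubfunctor F W).ι))

theorem repWith_openSubι (F : Sp S) {W : Set (Points F)} (hW : IsOpen W) :
    RepWith @IsOpenImmersion (openSubι F W) := by
  refine MorphismProperty.relative.of_exists fun T g => ?_
  let O : T.left.Opens := ⟨Points.ofPt g ⁻¹' W, hW.preimage (Points.continuous_ofPt g)⟩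
  let T' : Over S := Over.mk (O.ι ≫ T.hom)
  let j : T' ⟶ T := Over.homMk O.ι rfl
  obtain ⟨l, hl⟩ := (exists_lift_openSub (W := W) ((yon S).map j ≫ g)).2 fun t => by
    rw [ofPt_yon_comp]; exact t.2
  have hj : Mono ((yon S).map j) := by
    have : Mono j := (Over.forget S).mono_of_mono_map (inferInstanceAs (Mono O.ι))
    exact (yon S).map_mono j
  refine ⟨T', l, j, isPullback_of_forall_existsUnique hl fun R a b e => ?_,
    (inferInstance : IsOpenImmersion O.ι)⟩
  obtain ⟨b, rfl⟩ := (yon S).map_surjective b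
  have hb : Set.range b.left ⊆ Set.range O.ι := by
    rintro _ ⟨r, rfl⟩
    rw [Scheme.Opens.range_ι]
    show Points.ofPt g (b.left r) ∈ W
    rw [← ofPt_yon_comp]
    exact (exists_lift_openSub _).1 ⟨a, e⟩ r
  let m : R ⟶ T' := Over.homMk (IsOpenImmersion.lift O.ι b.left hb) (by
    change IsOpenImmersion.lift O.ι b.left hb ≫ O.ι ≫ T.hom = R.hom
    rw [IsOpenImmersion.lift_fac_assoc, Over.w b])
  have hm : (yon S).map m ≫ (yon S).map j = (yon S).map b := by
    rw [← Functor.map_comp]
    exact congrArg _ (Over.OverMorphism.ext (IsOpenImmersion.lift_fac _ _ hb))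
  refine ⟨(yon S).map m, ⟨?_, hm⟩, fun y hy => ?_⟩
  · rw [← cancel_mono (openSubι F W), Category.assoc, hl, ← Category.assoc, hm, e]
  · rw [← cancel_mono ((yon S).map j), hy.2, hm]

theorem range_openSubι (F : Sp S) {W : Set (Points F)} :
    Set.range (Points.map (openSubι F W)) = W := by
  ext x
  constructor
  · rintro ⟨y, rfl⟩
    obtain ⟨T, a, t, rfl⟩ := exists_ofPt_eq y
    rw [Points.map_ofPt]
    exact (exists_lift_openSub _).1 ⟨a, rfl⟩ t
  · intro hx
    induction x using Points.ind with
    | h p =>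
    rw [mk_eq_ofPt_toMor] at hx ⊢
    obtain ⟨l, hl⟩ := (exists_lift_openSub (W := W) (toMor p)).2 fun t => by
      rwa [Subsingleton.elim (α := PrimeSpectrum p.K) t (IsLocalRing.closedPoint p.K)]
    exact ⟨Points.ofPt l (IsLocalRing.closedPoint p.K), by rw [Points.map_ofPt, hl]⟩

theorem isAlgSpace_openSub {F : Sp S} (hF : IsAlgSpace F) {W : Set (Points F)} (hW : IsOpen W) :
    IsAlgSpace (openSub F W) :=
  isAlgSpace_of_representable hF _ (repWith_openSubι F hW).rep

/-- A representable open immersion that is surjective on points is an isomorphism. -/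
theorem isIso_of_openImmersion_surjective {F G : Sp S} {j : F ⟶ G}
    (hj : RepWith @IsOpenImmersion j) (hs : Function.Surjective (Points.map j)) : IsIso j :=
  isIso_of_repWith (P := (@IsOpenImmersion ⊓ @Surjective : MorphismProperty Scheme.{u}))
    (fun g hg => have : IsOpenImmersion g := hg.1
      have : Epi g.base := (TopCat.epi_iff_surjective _).2 hg.2.surj
      IsOpenImmersion.isIso g)
    ⟨hj.rep, fun _ _ _ _ _ sq => ⟨hj.property _ _ _ sq, ((repWith_surjective_iff hj.rep).2 hs).property _ _ _ sq⟩⟩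

/-- The universal property of an open subspace. -/
theorem exists_factor_iff {F' F H : Sp S} {j : F' ⟶ F} (hj : RepWith @IsOpenImmersion j) (f : H ⟶ F) :
    (∃ g : H ⟶ F', g ≫ j = f) ↔ Set.range (Points.map f) ⊆ Set.range (Points.map j) := by
  constructor
  · rintro ⟨g, rfl⟩ _ ⟨x, rfl⟩
    exact ⟨Points.map g x, (Points.map_comp g j x).symm⟩
  · intro h
    have sq := IsPullback.of_hasPullback j f
    have : IsIso (pullback.snd j f) := isIso_of_openImmersion_surjective (repWith_of_isPullback sq hj)
      fun y => by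
        have : y ∈ Set.range (Points.map (pullback.snd j f)) := by
          rw [range_map_of_isPullback sq]; exact h ⟨y, rfl⟩
        exact this
    exact ⟨inv (pullback.snd j f) ≫ pullback.fst j f, by
      rw [Category.assoc, pullback.condition, IsIso.inv_hom_id_assoc]⟩

theorem mono_of_openImmersion {F G : Sp S} {j : F ⟶ G} (hj : RepWith @IsOpenImmersion j) : Mono j :=
  mono_of_repWith (fun g (_ : IsOpenImmersion g) => inferInstance) hj

theorem isEtaleMor_of_openImmersion {F G : Sp S} {j : F ⟶ G} (hj : RepWith @IsOpenImmersion j) :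
    IsEtaleMor j :=
  isEtaleMor_of_repWith (repWith_mono (fun _ _ g (_ : IsOpenImmersion g) => (inferInstance : Etale g)) hj)

end AlgSpLib
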