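import Groth.Agent.AlgSpLib.Coprod
import Groth.Agent.AlgSpLib.Bootstrap
import Groth.Agent.AlgSpLib.Points
import Groth.Agent.AlgSpLib.OpenGlue
import Mathlib.CategoryTheory.Sites.LeftExact
import Mathlib.AlgebraicGeometry.Morphisms.ClosedImmersion

/-!
# Coproducts of sheaves and algebraic spaces glued from open subspaces
-/

set_option autoImplicit false
set_option backward.isDefEq.respectTransparency false
set_option backward.isDefEq.respectTransparency.types false

universe u

open CategoryTheory CategoryTheory.Limits AlgebraicGeometry Opposite AlgSp Topology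

namespace AlgSpLib

variable {S : Scheme.{u}}

/-- The coprojections of a binary coproduct of sheaves are open and closed immersions. -/
theorem repWith_inl {F G : Sp S} (c : BinaryCofan F G) (hc : IsColimit c) :
    RepWith (@IsOpenImmersion ⊓ @IsClosedImmersion) c.inl := by
  let One : Over S := Over.mk (𝟙 S)
  let Two : Over S := Over.mk (coprod.desc (𝟙 S) (𝟙 S) : (S ⨿ S : Scheme.{u}) ⟶ S)
  let s : ULift.{u} Bool → (One ⟶ Two) := fun b =>
    Over.homMk (bif b.down then (coprod.inr : S ⟶ S ⨿ S) else coprod.inl) (by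
      obtain ⟨_ | _⟩ := b <;> simp [One, Two])
  have hso : ∀ b, IsOpenImmersion (s b).left := by
    rintro ⟨_ | _⟩
    · exact inferInstanceAs (IsOpenImmersion (coprod.inl : S ⟶ S ⨿ S))
    · exact inferInstanceAs (IsOpenImmersion (coprod.inr : S ⟶ S ⨿ S))
  have hcompl := isCompl_range_inl_inr S S
  have hcov : ∀ v : Two.left, ∃ b, v ∈ Set.range (s b).left := fun v => by
    rcases Set.eq_univ_iff_forall.1 hcompl.sup_eq_top v with h | h
    · exact ⟨⟨false⟩, h⟩
    · exact ⟨⟨true⟩, h⟩
  have hdisj : ∀ i j, i ≠ j → Disjoint (Set.range (s i).left) (Set.range (s j).left) := by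
    rintro ⟨_ | _⟩ ⟨_ | _⟩ hij
    · exact absurd rfl hij
    · exact hcompl.1
    · exact hcompl.1.symm
    · exact absurd rfl hij
  obtain ⟨hC⟩ := nonempty_isColimit_yon_cofan (W := fun _ : ULift.{u} Bool => One) s hso hcov hdisj
  let c₀ : BinaryCofan ((yon S).obj One) ((yon S).obj One) :=
    BinaryCofan.mk ((yon S).map (s ⟨false⟩)) ((yon S).map (s ⟨true⟩))
  have hc₀ : IsColimit c₀ := BinaryCofan.isColimitMk
    (fun t => Cofan.IsColimit.desc hC fun b => bif b.down then t.inr else t.inl)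
    (fun t => Cofan.IsColimit.fac hC _ ⟨false⟩) (fun t => Cofan.IsColimit.fac hC _ ⟨true⟩)
    (fun t m h1 h2 => Cofan.IsColimit.hom_ext hC _ _ fun b => by
      rw [Cofan.IsColimit.fac hC]
      obtain ⟨_ | _⟩ := b
      · exact h1
      · exact h2)
  have hT : IsTerminal ((yon S).obj One) := IsTerminal.isTerminalObj (yon S) One Over.mkIdTerminal
  let φ : c.pt ⟶ (yon S).obj Two :=
    hc.desc (BinaryCofan.mk (hT.from F ≫ (yon S).map (s ⟨false⟩)) (hT.from G ≫ (yon S).map (s ⟨true⟩)))
  have h1 : c.inl ≫ φ = hT.from F ≫ (yon S).map (s ⟨false⟩) := hc.fac _ ⟨WalkingPair.left⟩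
  have h2 : c.inr ≫ φ = hT.from G ≫ (yon S).map (s ⟨true⟩) := hc.fac _ ⟨WalkingPair.right⟩
  have hvk := (BinaryCofan.isVanKampen_iff c₀).1 (FinitaryExtensive.vanKampen c₀ hc₀) c (hT.from F) (hT.from G) φ
    h1.symm h2.symm
  refine repWith_of_isPullback (hvk.1 ⟨hc⟩).1.flip ((repWith_yon_map_iff _ _).2 ⟨hso _, ?_⟩)
  refine IsClosedImmersion.of_isPreimmersion _ ?_
  change IsClosed (Set.range (coprod.inl : S ⟶ S ⨿ S))
  rw [hcompl.eq_compl, isClosed_compl_iff]
  exact (coprod.inr : S ⟶ S ⨿ S).isOpenEmbedding.isOpen_range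

/-- The coprojections of a coproduct of sheaves are open and closed immersions. -/
theorem repWith_inj {ι : Type u} {F : ι → Sp S} (c : Cofan F) (hc : IsColimit c) (i : ι) :
    RepWith (@IsOpenImmersion ⊓ @IsClosedImmersion) (c.inj i) := by
  classical
  let r : (∐ fun j : {j : ι // j ≠ i} => F j.1) ⟶ c.pt := Sigma.desc fun j => c.inj j.1
  exact repWith_inl (BinaryCofan.mk (c.inj i) r) (BinaryCofan.isColimitMk
    (fun t => Cofan.IsColimit.desc hc fun j =>
      if h : j = i then eqToHom (congrArg F h) ≫ t.inl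
      else Sigma.ι (fun j : {j : ι // j ≠ i} => F j.1) ⟨j, h⟩ ≫ t.inr)
    (fun t => by simp [Cofan.IsColimit.fac])
    (fun t => Sigma.hom_ext _ _ fun j => by
      rw [Sigma.ι_desc_assoc, Cofan.IsColimit.fac, dif_neg j.2])
    (fun t m h1 h2 => Cofan.IsColimit.hom_ext hc _ _ fun j => by
      rw [Cofan.IsColimit.fac]
      split
      · next h => subst h; simp [← h1]
      · next h => rw [← h2, Sigma.ι_desc_assoc]))

/-- The coprojections are jointly surjective on points. -/
theorem exists_mem_range_inj {ι : Type u} {F : ι → Sp S} (c : Cofan F) (hc : IsColimit c) (x : Points c.pt) :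
    ∃ i, x ∈ Set.range (Points.map (c.inj i)) := by
  let W : Set (Points c.pt) := ⋃ i, Set.range (Points.map (c.inj i))
  have key : ∀ i, ∃ l : F i ⟶ openSub c.pt W, l ≫ openSubι c.pt W = c.inj i := fun i => by
    haveI : IsIso (pullback.fst (c.inj i) (openSubι c.pt W)) := by
      refine isIso_of_bijective fun T => ⟨fun a b e => ?_, fun a => ?_⟩
      · exact (cancel_mono _).1 e
      · obtain ⟨l, hl⟩ := (exists_lift_openSub (W := W) (a ≫ c.inj i)).2 fun t =>
          Set.mem_iUnion.2 ⟨i, Points.ofPt a t, Points.map_ofPt _ _ _⟩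
        exact ⟨pullback.lift a l hl.symm, pullback.lift_fst _ _ _⟩
    exact ⟨inv (pullback.fst (c.inj i) (openSubι c.pt W)) ≫ pullback.snd _ _, by
      rw [Category.assoc, ← pullback.condition, IsIso.inv_hom_id_assoc]⟩
  choose l hl using key
  have hs : Cofan.IsColimit.desc hc l ≫ openSubι c.pt W = 𝟙 _ :=
    Cofan.IsColimit.hom_ext hc _ _ fun i => by
      rw [← Category.assoc, Cofan.IsColimit.fac, hl, Category.comp_id]
  have hx : x ∈ W := (range_openSubι c.pt).subset
    ⟨Points.map (Cofan.IsColimit.desc hc l) x, by rw [← Points.map_comp, hs, Points.map_id]⟩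
  exact Set.mem_iUnion.1 hx

/-- Sheaves covered by open pieces: representable properties local on the source. -/
theorem repWith_of_source_cover {P : MorphismProperty Scheme.{u}} [P.IsStableUnderBaseChange]
    [IsZariskiLocalAtSource P] {κ : Type u} {X Y : Sp S} {f : X ⟶ Y} {Xj : κ → Sp S} (m : ∀ j, Xj j ⟶ X)
    (hm : ∀ j, RepWith @IsOpenImmersion (m j)) (hs : ∀ x : Points X, ∃ j, x ∈ Set.range (Points.map (m j)))
    (h : ∀ j, RepWith P (m j ≫ f)) : RepWith P f := by
  suffices key : ∀ (T : Over S) (ξ : (yon S).obj T ⟶ Y), ∃ (W : Over S) (e : (yon S).obj W ≅ pullback f ξ)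
      (s : W ⟶ T), (yon S).map s = e.hom ≫ pullback.snd f ξ ∧ P s.left by
    refine MorphismProperty.relative.of_exists fun T ξ => ?_
    obtain ⟨W, e, s, hs, hP⟩ := key T ξ
    exact ⟨W, e.hom ≫ pullback.fst f ξ, s, (IsPullback.of_hasPullback f ξ).of_iso e.symm (Iso.refl _) (Iso.refl _)
      (Iso.refl _) (by simp) (by simp [hs]) (by simp) (by simp), hP⟩
  intro T ξ
  have sq := IsPullback.of_hasPullback f ξ
  let b : ∀ j, (yon S).obj ((h j).rep.pullback ξ) ⟶ pullback f ξ := fun j =>
    sq.lift ((h j).rep.fst ξ ≫ m j) ((yon S).map ((h j).rep.snd ξ)) (by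
      rw [Category.assoc]; exact ((h j).rep.isPullback ξ).w)
  have sqb : ∀ j, IsPullback ((h j).rep.fst ξ) (b j) (m j) (pullback.fst f ξ) := fun j =>
    IsPullback.of_bot (by rw [sq.lift_snd]; exact (h j).rep.isPullback ξ) (sq.lift_fst _ _ _).symm sq
  have hb : ∀ j, RepWith @IsOpenImmersion (b j) := fun j => repWith_of_isPullback (sqb j) (hm j)
  have hcov : ∀ (V : Over S) (v : (yon S).obj V ⟶ pullback f ξ) (t : V.left),
      ∃ j, t ∈ Set.range ((hb j).rep.snd v).left := fun V v t => by
    obtain ⟨j, hj⟩ := hs (Points.map (pullback.fst f ξ) (Points.ofPt v t))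
    refine ⟨j, ?_⟩
    have h1 : Points.ofPt v t ∈ Set.range (Points.map (b j)) := by
      rw [range_map_of_isPullback (sqb j)]; exact hj
    rw [← range_ofPt] at h1
    obtain ⟨z, hz⟩ := h1
    obtain ⟨r, -, hr⟩ := (ofPt_eq_ofPt_iff ((hb j).rep.isPullback' v) z t).1 hz
    exact ⟨r, hr⟩
  obtain ⟨W, ⟨e⟩⟩ := isRepSh_of_openCover b hb hcov
  obtain ⟨s, hs'⟩ := (yon S).map_surjective (e.hom ≫ pullback.snd f ξ)
  refine ⟨W, e, s, hs', ?_⟩
  choose k hk using fun j => (yon S).map_surjective (b j ≫ e.inv)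
  have hks : ∀ j, k j ≫ s = (h j).rep.snd ξ := fun j => (yon S).map_injective (by
    rw [Functor.map_comp, hk, hs', Category.assoc, e.inv_hom_id_assoc, sq.lift_snd])
  have hko : ∀ j, IsOpenImmersion (k j).left := fun j =>
    (repWith_yon_map_iff (P := (@IsOpenImmersion : MorphismProperty Scheme.{u})) (k j)).1 (by
      rw [hk]; exact MorphismProperty.RespectsIso.postcomp _ _ _ (hb j))
  choose g hg using fun w : W.left => hcov W e.hom w
  refine IsZariskiLocalAtSource.of_iSup_eq_top (fun j => @Scheme.Hom.opensRange _ _ (k j).left (hko j))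
    (eq_top_iff.2 fun w _ => ?_) fun j => ?_
  · refine TopologicalSpace.Opens.mem_iSup.2 ⟨g w, ?_⟩
    obtain ⟨r, hr⟩ := hg w
    obtain ⟨q, hq⟩ := (yon S).map_surjective ((hb (g w)).rep.fst e.hom)
    have hqk : q ≫ k (g w) = (hb (g w)).rep.snd e.hom := (yon S).map_injective (by
      rw [Functor.map_comp, hk, hq, ← Category.assoc, ((hb (g w)).rep.isPullback e.hom).w, Category.assoc,
        e.hom_inv_id, Category.comp_id])
    exact ⟨q.left r, by rw [← Scheme.Hom.comp_apply, ← Over.comp_left, hqk, hr]⟩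
  · haveI := hko j
    rw [← P.cancel_left_of_respectsIso (k j).left.isoOpensRange.hom, ← Category.assoc,
      Scheme.Hom.isoOpensRange_hom_ι, ← Over.comp_left, hks]
    exact (h j).property_snd ξ

end AlgSpLib
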