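import Groth.Agent.AlgSpLib.MonoAux
import Groth.Agent.AlgSpLib.Bootstrap
import Mathlib.RingTheory.Unramified.LocalStructure
import Mathlib.AlgebraicGeometry.Morphisms.FlatMono
import Mathlib.AlgebraicGeometry.Morphisms.FormallyUnramified
/-!
# A space with a monomorphism locally of finite type to a scheme is a scheme

For an affine etale chart `a : U ⟶ G`, `G ⊆ T`, the scheme `Wb` of invariant functions receives `G`;
etale locally on `T` a neighbourhood of a point of `U` is a closed subscheme of the base, hence a clopen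
piece of the invariants, so `G ⟶ Wb` is an open immersion.
-/

set_option autoImplicit false
set_option backward.isDefEq.respectTransparency false
set_option backward.isDefEq.respectTransparency.types false
universe u
open CategoryTheory CategoryTheory.Limits AlgebraicGeometry Opposite AlgSp
open CategoryTheory.Functor.relativelyRepresentable

namespace AlgSpLib

variable {S : Scheme.{u}}

/-- Local structure of unramified morphisms of affine schemes. -/
theorem exists_etale_nbhd_closedImmersion {U T : Scheme.{u}} [IsAffine U] [IsAffine T] (p : U ⟶ T)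
    [FormallyUnramified p] [LocallyOfFiniteType p] (x : U) :
    ∃ (U' V : Scheme.{u}) (j : U' ⟶ U) (ι : U' ⟶ V) (q : V ⟶ T), IsAffine U' ∧ IsAffine V ∧
      IsOpenImmersion j ∧ IsClosedImmersion ι ∧ Etale q ∧ x ∈ Set.range j ∧ j ≫ p = ι ≫ q := by
  letI : Algebra Γ(T, ⊤) Γ(U, ⊤) := p.appTop.hom.toAlgebra
  haveI : Algebra.FormallyUnramified Γ(T, ⊤) Γ(U, ⊤) :=
    HasRingHomProperty.appTop @FormallyUnramified p inferInstance
  haveI : Algebra.FiniteType Γ(T, ⊤) Γ(U, ⊤) := HasRingHomProperty.appTop @LocallyOfFiniteType p inferInstance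
  let Q : PrimeSpectrum Γ(U, ⊤) := U.isoSpec.hom x
  obtain ⟨f, hf, P, φ, hφ⟩ := Algebra.IsUnramifiedAt.exists_hasStandardEtaleSurjectionOn
    (R := Γ(T, ⊤)) Q.asIdeal
  let am : Γ(U, ⊤) ⟶ CommRingCat.of (Localization.Away f) := CommRingCat.ofHom (algebraMap _ _)
  let qm : Γ(T, ⊤) ⟶ CommRingCat.of P.Ring := CommRingCat.ofHom (algebraMap _ _)
  let φm : CommRingCat.of P.Ring ⟶ CommRingCat.of (Localization.Away f) := CommRingCat.ofHom φ.toRingHom
  have hm : p.appTop ≫ am = qm ≫ φm := by
    ext a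
    change algebraMap Γ(U, ⊤) (Localization.Away f) (algebraMap Γ(T, ⊤) Γ(U, ⊤) a) = φ (algebraMap _ _ a)
    rw [φ.commutes, ← IsScalarTower.algebraMap_apply]
  haveI : IsOpenImmersion (Spec.map am) := IsOpenImmersion.of_isLocalization f
  haveI : IsClosedImmersion (Spec.map φm) := IsClosedImmersion.spec_of_surjective φm hφ
  haveI : Etale (Spec.map qm) := (HasRingHomProperty.Spec_iff (P := @Etale)).2
    (RingHom.etale_algebraMap.2 inferInstance)
  refine ⟨_, _, Spec.map am ≫ U.isoSpec.inv, Spec.map φm, Spec.map qm ≫ T.isoSpec.inv, inferInstance,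
    inferInstance, inferInstance, inferInstance, inferInstance, ?_, ?_⟩
  · obtain ⟨y, hy⟩ : Q ∈ Set.range (Spec.map am) := by
      change Q ∈ Set.range (PrimeSpectrum.comap (algebraMap Γ(U, ⊤) (Localization.Away f)))
      rw [PrimeSpectrum.localization_away_comap_range _ f]; exact hf
    refine ⟨y, ?_⟩
    rw [Scheme.Hom.comp_apply, hy]
    change (U.isoSpec.hom ≫ U.isoSpec.inv) x = x
    rw [Iso.hom_inv_id]; rfl
  · rw [Category.assoc, ← Spec.map_comp_assoc, ← hm, Spec.map_comp_assoc, Scheme.isoSpec_inv_naturality]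

variable {G : Sp S} {T U : Over S} [IsAffine T.left] [IsAffine U.left]

/-- The affine case. -/
theorem isRepSh_of_mono_affine (i : G ⟶ (yon S).obj T) [Mono i] (a : (yon S).obj U ⟶ G)
    (ha : RepWith @Etale a) (has : RepWith @Surjective a) (p : U ⟶ T) (hp : (yon S).map p = a ≫ i)
    [LocallyOfFiniteType p.left] : IsRepSh G := by
  haveI : Sheaf.IsLocallySurjective a := isLocallySurjective_of_repWith
    (repWith_mono (fun _ _ g (_ : Etale g) => (inferInstance : Flat g)) ha)
    (repWith_mono (fun _ _ g (_ : Etale g) => (inferInstance : LocallyOfFinitePresentation g)) ha) has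
  let R : Over S := pullback p p
  let s : R ⟶ U := pullback.fst p p
  let t : R ⟶ U := pullback.snd p p
  have sR : IsPullback s t p p := IsPullback.of_hasPullback p p
  have sqR : IsPullback ((yon S).map s) ((yon S).map t) a a :=
    isPullback_comp_mono i (by rw [← hp]; exact sR.map (yon S))
  haveI : Etale s.left := (isEtaleEqvRel_of_isPullback ha sqR).etale_right
  haveI : Etale t.left := (isEtaleEqvRel_of_isPullback ha sqR).etale_left
  have sRl : IsPullback s.left t.left p.left p.left := sR.map (Over.forget S)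
  haveI : IsAffineHom t.left := MorphismProperty.of_isPullback sRl (inferInstanceAs (IsAffineHom p.left))
  haveI : IsAffine R.left := isAffine_of_isAffineHom t.left
  haveI : FormallyUnramified p.left := by
    let e := sRl.isoPullback
    have he : e.inv ≫ s.left = pullback.fst p.left p.left := sRl.isoPullback_inv_fst
    haveI : Etale (pullback.fst p.left p.left) := by rw [← he]; infer_instance
    haveI : Etale (pullback.diagonal p.left ≫ pullback.fst p.left p.left) := by
      rw [pullback.diagonal_fst]; infer_instance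
    haveI : Etale (pullback.diagonal p.left) := Etale.of_comp _ (pullback.fst p.left p.left)
    haveI : IsOpenImmersion (pullback.diagonal p.left) := IsOpenImmersion.of_flat_of_mono _
    infer_instance
  let B := RingHom.eqLocus s.left.appTop.hom t.left.appTop.hom
  let Wb : Scheme.{u} := Spec (CommRingCat.of B)
  let ιB : CommRingCat.of B ⟶ Γ(U.left, ⊤) := CommRingCat.ofHom B.subtype
  have hpB : ∀ c, p.left.appTop c ∈ B := fun c => by
    change s.left.appTop (p.left.appTop c) = t.left.appTop (p.left.appTop c)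
    rw [← comp_appTop_apply, ← comp_appTop_apply, ← Over.comp_left, ← Over.comp_left, sR.w]
  let bm : Γ(T.left, ⊤) ⟶ CommRingCat.of B := CommRingCat.ofHom (p.left.appTop.hom.codRestrict B hpB)
  let hW : U.left ⟶ Wb := U.left.toSpecΓ ≫ Spec.map ιB
  let β : Wb ⟶ T.left := Spec.map bm ≫ T.left.isoSpec.inv
  have hβ : hW ≫ β = p.left := by
    have : bm ≫ ιB = p.left.appTop := rfl
    simp only [hW, β, Category.assoc, ← Spec.map_comp_assoc, this, ← Scheme.toSpecΓ_naturality_assoc]
    simp
  have hWapp : hW.appTop = (Scheme.ΓSpecIso (CommRingCat.of B)).hom ≫ ιB := by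
    simp only [hW, Scheme.Hom.comp_appTop, Scheme.toSpecΓ_appTop]
    exact Scheme.ΓSpecIso_naturality ιB
  have hWw : s.left ≫ hW = t.left ≫ hW := ext_of_isAffine (by
    simp only [Scheme.Hom.comp_appTop, hWapp, Category.assoc]
    congr 1
    ext b
    exact b.2)
  have Heq : IsEqFun s.left t.left hW := ⟨by
    rw [hWapp]; exact Subtype.val_injective.comp (ConcreteCategory.bijective_of_isIso _).1, fun x hx => by
    refine ⟨(Scheme.ΓSpecIso (CommRingCat.of B)).inv ⟨x, hx⟩, ?_⟩
    rw [hWapp]
    change ιB ((Scheme.ΓSpecIso (CommRingCat.of B)).hom ((Scheme.ΓSpecIso (CommRingCat.of B)).inv _)) = x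
    rw [← CommRingCat.comp_apply (Scheme.ΓSpecIso _).inv, Iso.inv_hom_id]
    rfl⟩
  let Wo : Over S := Over.mk (β ≫ T.hom)
  let ho : U ⟶ Wo := Over.homMk hW (by change hW ≫ β ≫ T.hom = U.hom; rw [reassoc_of% hβ, Over.w p])
  let βo : Wo ⟶ T := Over.homMk β rfl
  have hhb : ho ≫ βo = p := Over.OverMorphism.ext hβ
  have hho : s ≫ ho = t ≫ ho := Over.OverMorphism.ext hWw
  obtain ⟨k, hk⟩ := exists_desc a ((yon S).map ho) fun Z b b' hbb => by
    obtain ⟨r, rfl, rfl⟩ : ∃ r, r ≫ (yon S).map s = b ∧ r ≫ (yon S).map t = b' :=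
      ⟨sqR.lift b b' hbb, sqR.lift_fst _ _ _, sqR.lift_snd _ _ _⟩
    simp only [Category.assoc, ← Functor.map_comp, hho]
  have hkβ : k ≫ (yon S).map βo = i := by
    rw [← cancel_epi a, ← Category.assoc, hk, ← Functor.map_comp, hhb, hp]
  haveI : Mono k := mono_of_mono_fac hkβ
  -- an open piece of `Wb` around each point
  have piece : ∀ x : U.left, ∃ (E : Wb.Opens) (f : (yon S).obj (Over.mk (E.ι ≫ Wo.hom)) ⟶ G),
      RepWith @IsOpenImmersion f ∧ hW x ∈ E ∧
        f ≫ k = (yon S).map (Over.homMk E.ι rfl : Over.mk (E.ι ≫ Wo.hom) ⟶ Wo) := by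
    intro x
    obtain ⟨U', V, j, ι, q, hU', hV, hj, hι, hq, hx, hjq⟩ := exists_etale_nbhd_closedImmersion p.left x
    let U₁ := pullback p.left q
    let R₁ := pullback (s.left ≫ hW ≫ β) q
    let W₁ := pullback β q
    have sU : IsPullback (pullback.fst p.left q) (pullback.snd p.left q) (hW ≫ β) q := by
      rw [hβ]; exact IsPullback.of_hasPullback _ _
    haveI : IsAffine U₁ := inferInstance
    haveI : IsAffine R₁ := inferInstance
    haveI : IsAffine W₁ := inferInstance
    let s₁ : R₁ ⟶ U₁ := pullback.lift (pullback.fst _ _ ≫ s.left) (pullback.snd _ _) (by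
      rw [Category.assoc]; nth_rw 1 [← hβ]; exact pullback.condition)
    let t₁ : R₁ ⟶ U₁ := pullback.lift (pullback.fst _ _ ≫ t.left) (pullback.snd _ _) (by
      rw [Category.assoc]; nth_rw 1 [← hβ]; rw [← reassoc_of% hWw]; exact pullback.condition)
    let h₁ : U₁ ⟶ W₁ := pullback.lift (pullback.fst _ _ ≫ hW) (pullback.snd _ _) (by
      rw [Category.assoc, hβ]; exact pullback.condition)
    have Heq₁ : IsEqFun s₁ t₁ h₁ := Heq.baseChange β q hWw sU (IsPullback.of_hasPullback _ _)
      (IsPullback.of_hasPullback _ _) ⟨pullback.lift_fst _ _ _, pullback.lift_snd _ _ _⟩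
      ⟨pullback.lift_fst _ _ _, pullback.lift_snd _ _ _⟩ ⟨pullback.lift_fst _ _ _, pullback.lift_snd _ _ _⟩
    have hw₁ : s₁ ≫ h₁ = t₁ ≫ h₁ := by
      apply pullback.hom_ext <;>
        simp only [s₁, t₁, h₁, Category.assoc, pullback.lift_fst, pullback.lift_fst_assoc, pullback.lift_snd, hWw]
    let σ : U' ⟶ U₁ := pullback.lift j ι hjq
    let z := pullback.fst (pullback.snd p.left q) ι
    let y := pullback.snd (pullback.snd p.left q) ι
    have sM := IsPullback.of_hasPullback (pullback.snd p.left q) ι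
    haveI : IsAffine (pullback (pullback.snd p.left q) ι) := inferInstance
    let r := sRl.lift (z ≫ pullback.fst p.left q) (y ≫ j) (by
      change (z ≫ pullback.fst p.left q) ≫ p.left = (y ≫ j) ≫ p.left
      simp only [Category.assoc, pullback.condition, hjq]
      exact congrArg (· ≫ q) sM.w)
    have hr₁ : r ≫ s.left = z ≫ pullback.fst p.left q := sRl.lift_fst _ _ _
    have hr₂ : r ≫ t.left = y ≫ j := sRl.lift_snd _ _ _
    have sqr : IsPullback r y t.left j := IsPullback.of_right
      (by rw [hr₁, hjq]; exact sM.paste_horiz (IsPullback.of_hasPullback p.left q)) hr₂ sRl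
    haveI : IsOpenImmersion r := MorphismProperty.of_isPullback sqr.flip hj
    haveI : Etale (z ≫ pullback.fst p.left q) := by rw [← hr₁]; infer_instance
    haveI : Etale (pullback.fst p.left q) := inferInstance
    haveI : Etale z := Etale.of_comp z (pullback.fst p.left q)
    haveI : IsClosedImmersion z := inferInstance
    haveI : IsOpenImmersion z := IsOpenImmersion.of_flat_of_mono z
    have hz : z ≫ h₁ = y ≫ σ ≫ h₁ := by
      apply pullback.hom_ext
      · simp only [σ, h₁, Category.assoc, pullback.lift_fst, pullback.lift_fst_assoc]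
        rw [← reassoc_of% hr₁, hWw, reassoc_of% hr₂]
      · simp only [σ, h₁, Category.assoc, pullback.lift_snd]
        exact sM.w
    haveI := isOpenImmersion_of_piece Heq₁ hw₁ (qV := pullback.snd p.left q)
      (by simp only [s₁, t₁, pullback.lift_snd]) sM (σ := σ) (pullback.lift_snd _ _ _) hz
    haveI : Etale (j ≫ hW) := by
      have : j ≫ hW = (σ ≫ h₁) ≫ pullback.fst β q := by
        simp only [σ, h₁, Category.assoc, pullback.lift_fst, pullback.lift_fst_assoc]
      rw [this]; infer_instance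
    let E : Wb.Opens := ⟨Set.range (j ≫ hW), (j ≫ hW).isOpenMap.isOpen_range⟩
    have hxE : hW x ∈ E := by
      obtain ⟨w, rfl⟩ := hx
      exact ⟨w, Scheme.Hom.comp_apply _ _ _⟩
    let Eo : Over S := Over.mk (E.ι ≫ Wo.hom)
    let Ei : Eo ⟶ Wo := Over.homMk E.ι rfl
    let U'o : Over S := Over.mk (j ≫ U.hom)
    let jo : U'o ⟶ U := Over.homMk j rfl
    let e := IsOpenImmersion.lift E.ι (j ≫ hW) (by rw [Scheme.Opens.range_ι]; rfl)
    have he : e ≫ E.ι = j ≫ hW := IsOpenImmersion.lift_fac _ _ _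
    let eo : U'o ⟶ Eo := Over.homMk e (by
      change e ≫ E.ι ≫ Wo.hom = j ≫ U.hom
      rw [reassoc_of% he]; exact congrArg (j ≫ ·) (Over.w ho))
    haveI : Etale eo.left := by
      haveI : Etale (e ≫ E.ι) := by rw [he]; infer_instance
      exact Etale.of_comp e E.ι
    haveI : Surjective eo.left := ⟨fun (v : ↥E) => by
      obtain ⟨w, hw⟩ := v.2
      refine ⟨w, E.ι.injective ?_⟩
      exact ((Scheme.Hom.comp_apply e E.ι w).symm.trans (by rw [he])).trans hw⟩
    have hje : jo ≫ ho = eo ≫ Ei := Over.OverMorphism.ext he.symm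
    have sq : IsPullback ((yon S).map jo ≫ a) (𝟙 _) k ((yon S).map eo ≫ (yon S).map Ei) := by
      refine isPullback_of_forall_existsUnique (by rw [Category.assoc, hk, ← Functor.map_comp, hje]; simp)
        fun Z g v hgv => ?_
      refine ⟨v, ⟨(cancel_mono k).1 ?_, Category.comp_id _⟩, fun w hw => by simpa using hw.2⟩
      rw [hgv, Category.assoc, Category.assoc, hk, ← Functor.map_comp, hje, Functor.map_comp]
    have hG := IsPullback.of_hasPullback k ((yon S).map Ei)
    have top : IsPullback (hG.lift ((yon S).map jo ≫ a) ((yon S).map eo) (by simpa using sq.w)) (𝟙 _)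
        (pullback.snd k ((yon S).map Ei)) ((yon S).map eo) :=
      IsPullback.of_right (by rw [IsPullback.lift_fst]; exact sq) (by simp) hG
    haveI := isLocallySurjective_yon_map eo
    haveI := isIso_of_isPullback top
    refine ⟨E, inv (pullback.snd k ((yon S).map Ei)) ≫ pullback.fst k ((yon S).map Ei), ?_, hxE, ?_⟩
    · exact MorphismProperty.RespectsIso.precomp _ _ _ (repWith_of_isPullback hG.flip
        ((repWith_yon_map_iff _ _).2 (inferInstanceAs (IsOpenImmersion E.ι))))
    · rw [Category.assoc, pullback.condition, IsIso.inv_hom_id_assoc]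
  choose E f hf hE hfk using piece
  refine isRepSh_of_openCover f hf fun X b x => ?_
  obtain ⟨bk, hbk⟩ := (yon S).map_surjective (b ≫ k)
  obtain ⟨V, c, -, -, hc, hl⟩ := exists_lift_of_isLocallySurjective a b
  obtain ⟨v, hv⟩ := hc x
  obtain ⟨l, hl⟩ := hl x
  obtain ⟨l, rfl⟩ := (yon S).map_surjective l
  have hlc : c x ≫ bk = l ≫ ho := (yon S).map_injective (by
    rw [Functor.map_comp, Functor.map_comp, hbk, ← hk, ← reassoc_of% hl])
  have hmem : bk.left x ∈ E (l.left v) := by
    have := congrArg (fun m => m.left v) hlc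
    simp only [Over.comp_left, Scheme.Hom.comp_apply, hv] at this
    rw [this]; exact hE _
  let O := bk.left ⁻¹ᵁ E (l.left v)
  let Oo : Over S := Over.mk (O.ι ≫ X.hom)
  let o : Oo ⟶ X := Over.homMk O.ι rfl
  let m : Oo ⟶ Over.mk ((E (l.left v)).ι ≫ Wo.hom) := Over.homMk (bk.left ∣_ E (l.left v)) (by
    change (bk.left ∣_ _) ≫ _ ≫ Wo.hom = O.ι ≫ X.hom
    rw [morphismRestrict_ι_assoc, Over.w bk])
  have hm : m ≫ (Over.homMk (E (l.left v)).ι rfl : _ ⟶ Wo) = o ≫ bk :=
    Over.OverMorphism.ext (morphismRestrict_ι _ _)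
  let n := (hf (l.left v)).rep.lift (g := b) ((yon S).map m) o (by
    rw [← cancel_mono k, Category.assoc, hfk, Category.assoc, ← hbk, ← Functor.map_comp, ← Functor.map_comp, hm])
  refine ⟨l.left v, n.left ⟨x, hmem⟩, ?_⟩
  rw [← Scheme.Hom.comp_apply, ← Over.comp_left, lift_snd]
  rfl

omit [IsAffine T.left] [IsAffine U.left] in
/-- A space with a monomorphism locally of finite type to a scheme is a scheme. -/
theorem isRepSh_of_mono (i : G ⟶ (yon S).obj T) [Mono i] (a : (yon S).obj U ⟶ G)
    (ha : RepWith @Etale a) (has : RepWith @Surjective a) (p : U ⟶ T) (hp : (yon S).map p = a ≫ i)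
    [LocallyOfFiniteType p.left] : IsRepSh G := by
  have hpt : ∀ x : U.left, ∃ (T₀ : T.left.Opens) (U₀ : U.left.Opens), IsAffineOpen T₀ ∧ IsAffineOpen U₀ ∧
      x ∈ U₀ ∧ U₀ ≤ p.left ⁻¹ᵁ T₀ := fun x => by
    obtain ⟨T₀, hT₀, hx, -⟩ := exists_isAffineOpen_mem_and_subset (X := T.left) (U := ⊤)
      (x := p.left x) trivial
    obtain ⟨U₀, hU₀, hx₀, hle⟩ := exists_isAffineOpen_mem_and_subset (X := U.left) (U := p.left ⁻¹ᵁ T₀) (x := x) hx
    exact ⟨T₀, U₀, hT₀, hU₀, hx₀, hle⟩
  choose T₀ U₀ hT₀ hU₀ hxU hle using hpt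
  let ju : ∀ x, Over.mk ((U₀ x).ι ≫ U.hom) ⟶ U := fun x => Over.homMk (U₀ x).ι rfl
  let ax : ∀ x, (yon S).obj (Over.mk ((U₀ x).ι ≫ U.hom)) ⟶ G := fun x => (yon S).map (ju x) ≫ a
  have hax : ∀ x, RepWith @Etale (ax x) := fun x => MorphismProperty.comp_mem _ _ _
    ((repWith_yon_map_iff _ _).2 (inferInstanceAs (Etale (U₀ x).ι))) ha
  have hW : ∀ x, IsOpen (Set.range (Points.ofPt (ax x))) := fun x => (isOpenMap_ofPt (hax x)).isOpen_range
  have hrep : ∀ x, IsRepSh (openSub G (Set.range (Points.ofPt (ax x)))) := fun x => by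
    have hj := repWith_openSubι G (hW x)
    obtain ⟨a', he', hae, has'⟩ := exists_factor_etale_surjective (ax x) (hax x) hj (range_openSubι G)
    let To : Over S := Over.mk ((T₀ x).ι ≫ T.hom)
    let jt : To ⟶ T := Over.homMk (T₀ x).ι rfl
    let p₀ : Over.mk ((U₀ x).ι ≫ U.hom) ⟶ To := Over.homMk (p.left.resLE (T₀ x) (U₀ x) (hle x)) (by
      change p.left.resLE _ _ _ ≫ (T₀ x).ι ≫ T.hom = (U₀ x).ι ≫ U.hom
      rw [Scheme.Hom.resLE_comp_ι_assoc, Over.w p])
    have hp₀ : p₀ ≫ jt = ju x ≫ p := Over.OverMorphism.ext (Scheme.Hom.resLE_comp_ι _ _)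
    haveI : Mono jt := (Over.forget S).mono_of_mono_map (inferInstanceAs (Mono (T₀ x).ι))
    haveI : Mono ((yon S).map jt) := inferInstance
    haveI : Sheaf.IsLocallySurjective a' := isLocallySurjective_of_repWith
      (repWith_mono (fun _ _ g (_ : Etale g) => (inferInstance : Flat g)) hae)
      (repWith_mono (fun _ _ g (_ : Etale g) => (inferInstance : LocallyOfFinitePresentation g)) hae) has'
    have hfac : a' ≫ openSubι G _ ≫ i = (yon S).map p₀ ≫ (yon S).map jt := by
      rw [← Category.assoc, he', Category.assoc, ← hp, ← Functor.map_comp, ← Functor.map_comp, hp₀]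
    obtain ⟨i', hi'⟩ := exists_desc a' ((yon S).map p₀) fun Z b b' hbb => by
      rw [← cancel_mono ((yon S).map jt), Category.assoc, Category.assoc, ← hfac, reassoc_of% hbb]
    have hi'' : i' ≫ (yon S).map jt = openSubι G _ ≫ i := by
      rw [← cancel_epi a', ← Category.assoc, hi', hfac]
    haveI : Mono i' := mono_of_mono_fac hi''
    haveI : LocallyOfFiniteType p₀.left := by
      haveI : LocallyOfFiniteType (p₀.left ≫ (T₀ x).ι) := by
        change LocallyOfFiniteType (p.left.resLE _ _ (hle x) ≫ _)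
        rw [Scheme.Hom.resLE_comp_ι]; infer_instance
      exact locallyOfFiniteType_of_comp p₀.left (T₀ x).ι
    haveI : IsAffine To.left := hT₀ x
    haveI : IsAffine (Over.mk ((U₀ x).ι ≫ U.hom)).left := hU₀ x
    exact isRepSh_of_mono_affine i' a' hae has' p₀ hi'.symm
  choose Wx hWx using hrep
  let f : ∀ x, (yon S).obj (Wx x) ⟶ G := fun x => (hWx x).some.hom ≫ openSubι G _
  have hf : ∀ x, RepWith @IsOpenImmersion (f x) := fun x =>
    MorphismProperty.RespectsIso.precomp _ _ _ (repWith_openSubι G (hW x))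
  refine isRepSh_of_openCover f hf fun X b t => ?_
  obtain ⟨x, hx⟩ := surjective_ofPt has (Points.ofPt b t)
  let O : X.left.Opens := ⟨Points.ofPt b ⁻¹' Set.range (Points.ofPt (ax x)),
    (hW x).preimage (Points.continuous_ofPt b)⟩
  have hmem : t ∈ O := ⟨⟨x, hxU x⟩, by
    change Points.ofPt ((yon S).map (ju x) ≫ a) _ = _
    rw [ofPt_yon_comp, ← hx]; rfl⟩
  let Oo : Over S := Over.mk (O.ι ≫ X.hom)
  let o : Oo ⟶ X := Over.homMk O.ι rfl
  obtain ⟨l, hl⟩ := (exists_lift_openSub (W := Set.range (Points.ofPt (ax x))) ((yon S).map o ≫ b)).2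
    fun s => by rw [ofPt_yon_comp]; exact s.2
  let n := (hf x).rep.lift (g := b) (l ≫ (hWx x).some.inv) o (by
    simp only [f, Category.assoc, Iso.inv_hom_id_assoc, hl])
  refine ⟨x, n.left ⟨t, hmem⟩, ?_⟩
  rw [← Scheme.Hom.comp_apply, ← Over.comp_left, lift_snd]
  rfl

end AlgSpLib
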