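import Groth.Agent.AlgSpLib.QAffDescent
import Groth.Agent.AlgSpLib.FpqcMore
import Groth.Prelude.Def_AlgSpMor5

/-!
# fpqc descent of affine, integral and finite morphisms
-/

set_option autoImplicit false
set_option backward.isDefEq.respectTransparency false
set_option backward.isDefEq.respectTransparency.types false

universe u

open CategoryTheory CategoryTheory.Limits AlgebraicGeometry Topology

namespace AlgSpLib

theorem quasiSeparatedSpace_of_affine_surjective {W Y : Scheme.{u}} [IsAffine W] (p : W ⟶ Y) [IsAffineHom p]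
    [Surjective p] : QuasiSeparatedSpace Y :=
  quasiSeparatedSpace_iff_forall_affineOpens.2 fun U V => by
    have h := ((U.2.preimage p).isCompact.inter_of_isOpen (V.2.preimage p).isCompact (p ⁻¹ᵁ U.1).isOpen
      (p ⁻¹ᵁ V.1).isOpen).image p.continuous
    exact Set.image_preimage_eq ((U.1 : Set Y) ∩ V.1) p.surjective ▸ h

/-- A scheme over an affine base which becomes affine after a faithfully flat affine base change is affine. -/
theorem isAffine_of_descent {Y Z X W : Scheme.{u}} {g : Y ⟶ Z} {f : X ⟶ Z} [IsAffine Z] [IsAffine X] [Flat f]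
    [Surjective f] {fst : W ⟶ Y} {snd : W ⟶ X} (sq : IsPullback fst snd g f) [IsAffine W] : IsAffine Y := by
  haveI : Surjective fst := MorphismProperty.of_isPullback (P := @Surjective) sq.flip inferInstance
  haveI : IsAffineHom fst := MorphismProperty.of_isPullback (P := @IsAffineHom) sq.flip inferInstance
  haveI : CompactSpace Y := ⟨fst.surjective.range_eq ▸ isCompact_range fst.continuous⟩
  haveI := quasiSeparatedSpace_of_affine_surjective fst
  let β : Spec Γ(Y, ⊤) ⟶ Z := Spec.map g.appTop ≫ Z.isoSpec.inv
  let h := Y.toSpecΓ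
  have hw : h ≫ β = g := by
    simp only [β, h, ← Category.assoc, ← Scheme.toSpecΓ_naturality]
    simp [Scheme.isoSpec]
  have sqP := IsPullback.of_hasPullback β f
  let k : W ⟶ pullback β f := sqP.lift (fst ≫ h) snd (by rw [Category.assoc, hw, sq.w])
  have top : IsPullback fst k h (pullback.fst β f) :=
    IsPullback.of_bot (by rw [sqP.lift_snd, hw]; exact sq) (sqP.lift_fst _ _ _).symm sqP
  haveI : IsIso h.appTop := by rw [Scheme.toSpecΓ_appTop]; infer_instance
  have hP := isPushout_appTop_of_flat sqP
  have hW := isPushout_appTop_of_flat sq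
  have e₁ : β.appTop ≫ h.appTop = g.appTop := by rw [← Scheme.Hom.comp_appTop, hw]
  have hW' : IsPushout β.appTop f.appTop (h.appTop ≫ fst.appTop) snd.appTop :=
    hW.of_iso (Iso.refl _) (asIso h.appTop).symm (Iso.refl _) (Iso.refl _)
      (by simp [← e₁]) (by simp) (by simp) (by simp)
  have ek : (hP.isoIsPushout _ _ hW').hom = k.appTop := hP.hom_ext
    (by rw [IsPushout.inl_isoIsPushout_hom, ← Scheme.Hom.comp_appTop, ← Scheme.Hom.comp_appTop, sqP.lift_fst])
    (by rw [IsPushout.inr_isoIsPushout_hom, ← Scheme.Hom.comp_appTop, sqP.lift_snd])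
  haveI : IsIso k.appTop := ek ▸ inferInstance
  haveI : IsIso k := by
    have := Scheme.toSpecΓ_naturality k
    haveI : IsIso (k ≫ (pullback β f).toSpecΓ) := by rw [this]; infer_instance
    exact IsIso.of_isIso_comp_right k (pullback β f).toSpecΓ
  haveI : IsIso h := MorphismProperty.of_isPullback_of_descendsAlong (P := MorphismProperty.isomorphisms Scheme)
    (Q := @Surjective ⊓ @Flat ⊓ @QuasiCompact) top.flip ⟨⟨inferInstance, inferInstance⟩, inferInstance⟩
    (inferInstanceAs (IsIso k))
  exact ⟨inferInstanceAs (IsIso h)⟩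

instance descendsAlong_isAffineHom : MorphismProperty.DescendsAlong (@IsAffineHom : MorphismProperty Scheme.{u})
    (@Surjective ⊓ @Flat ⊓ @QuasiCompact) := by
  apply IsZariskiLocalAtTarget.descendsAlong_inf_quasiCompact
  · rw [inf_comm]
    exact inf_le_inf le_rfl (IsLocalIso.le_of_isZariskiLocalAtSource _)
  intro R A Y φ g ⟨h₁, h₂⟩ hfst
  haveI : Surjective (Spec.map φ) := h₁
  haveI : Flat (Spec.map φ) := h₂
  haveI : IsAffineHom (pullback.fst (Spec.map φ) g) := hfst
  haveI : IsAffine (pullback (Spec.map φ) g) := isAffine_of_isAffineHom (pullback.fst (Spec.map φ) g)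
  haveI := isAffine_of_descent (IsPullback.of_hasPullback (Spec.map φ) g).flip
  infer_instance

instance descendsAlong_isAffineHom_fppf : MorphismProperty.DescendsAlong (@IsAffineHom : MorphismProperty Scheme.{u})
    (@Surjective ⊓ @Flat ⊓ @LocallyOfFinitePresentation) := inferInstance

instance descendsAlong_isIntegralHom_fppf : MorphismProperty.DescendsAlong
    (@IsIntegralHom : MorphismProperty Scheme.{u}) (@Surjective ⊓ @Flat ⊓ @LocallyOfFinitePresentation) :=
  IsIntegralHom.eq_universallyClosed_inf_isAffineHom ▸ descendsAlong_inf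

instance descendsAlong_isFinite_fppf : MorphismProperty.DescendsAlong
    (@IsFinite : MorphismProperty Scheme.{u}) (@Surjective ⊓ @Flat ⊓ @LocallyOfFinitePresentation) :=
  IsFinite.eq_inf ▸ descendsAlong_inf

instance descendsAlong_finLocFree_fppf : MorphismProperty.DescendsAlong
    (AlgSp.finLocFree : MorphismProperty Scheme.{u}) (@Surjective ⊓ @Flat ⊓ @LocallyOfFinitePresentation) :=
  ⟨fun sq hq ⟨h₁, h₂, h₃⟩ =>
    ⟨MorphismProperty.of_isPullback_of_descendsAlong (P := @IsFinite) sq hq h₁,
      MorphismProperty.of_isPullback_of_descendsAlong (P := @Flat) sq hq h₂,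
      MorphismProperty.of_isPullback_of_descendsAlong (P := @LocallyOfFinitePresentation) sq hq h₃⟩⟩

end AlgSpLib
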