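import Groth.Agent.AlgSpLib.QAffDescent
import Mathlib.AlgebraicGeometry.Morphisms.ClosedImmersion
import Mathlib.AlgebraicGeometry.Morphisms.OpenImmersion
/-!
# Equalizer affine schemes: flat base change and open pieces

For affine `s t : R ⇉ U`, the affine scheme `Wb` with `Γ(Wb) = eq(Γ(U) ⇉ Γ(R))` is stable under flat
base change; a clopen piece of `U` embedding in the base gives an open piece of `Wb`.
-/

set_option autoImplicit false
set_option backward.isDefEq.respectTransparency false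
universe u
open CategoryTheory CategoryTheory.Limits AlgebraicGeometry TensorProduct

namespace AlgSpLib

/-- `h : U ⟶ Wb` identifies the global functions of `Wb` with the invariant functions on `U`. -/
structure IsEqFun {R U Wb : Scheme.{u}} (s t : R ⟶ U) (h : U ⟶ Wb) : Prop where
  injective : Function.Injective h.appTop
  exists_eq : ∀ x, s.appTop x = t.appTop x → ∃ b, h.appTop b = x

lemma appTop_eq {X Y : Scheme.{u}} {f g : X ⟶ Y} (e : f = g) (x : Γ(Y, ⊤)) : f.appTop x = g.appTop x := by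
  rw [e]

lemma comp_appTop_apply {X Y Z : Scheme.{u}} (f : X ⟶ Y) (g : Y ⟶ Z) (x : Γ(Z, ⊤)) :
    (f ≫ g).appTop x = f.appTop (g.appTop x) := by
  rw [Scheme.Hom.comp_appTop]; rfl

/-- Invariant functions commute with flat base change. -/
theorem IsEqFun.baseChange {R U Wb T V : Scheme.{u}} [IsAffine R] [IsAffine U] [IsAffine Wb] [IsAffine T]
    [IsAffine V] {s t : R ⟶ U} {h : U ⟶ Wb} (H : IsEqFun s t h) (β : Wb ⟶ T) (q : V ⟶ T) [Flat q]
    {U₁ R₁ Wb₁ : Scheme.{u}} {uU : U₁ ⟶ U} {qU : U₁ ⟶ V} {uR : R₁ ⟶ R} {qR : R₁ ⟶ V} {uB : Wb₁ ⟶ Wb}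
    {qB : Wb₁ ⟶ V} (hw : s ≫ h = t ≫ h) (sU : IsPullback uU qU (h ≫ β) q)
    (sR : IsPullback uR qR (s ≫ h ≫ β) q)
    (sB : IsPullback uB qB β q) {s₁ t₁ : R₁ ⟶ U₁} {h₁ : U₁ ⟶ Wb₁}
    (hs : s₁ ≫ uU = uR ≫ s ∧ s₁ ≫ qU = qR) (ht : t₁ ≫ uU = uR ≫ t ∧ t₁ ≫ qU = qR)
    (hh : h₁ ≫ uB = uU ≫ h ∧ h₁ ≫ qB = qU) : IsEqFun s₁ t₁ h₁ := by
  letI algV : Algebra Γ(T, ⊤) Γ(V, ⊤) := q.appTop.hom.toAlgebra
  letI algB : Algebra Γ(T, ⊤) Γ(Wb, ⊤) := β.appTop.hom.toAlgebra
  letI algU : Algebra Γ(T, ⊤) Γ(U, ⊤) := (h ≫ β).appTop.hom.toAlgebra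
  letI algR : Algebra Γ(T, ⊤) Γ(R, ⊤) := (s ≫ h ≫ β).appTop.hom.toAlgebra
  haveI : Module.Flat Γ(T, ⊤) Γ(V, ⊤) := q.flat_appTop
  obtain ⟨eB, heB⟩ := exists_tensor_equiv (isPushout_appTop_of_isPullback sB) rfl rfl
  obtain ⟨eU, heU⟩ := exists_tensor_equiv (isPushout_appTop_of_isPullback sU) rfl rfl
  obtain ⟨eR, heR⟩ := exists_tensor_equiv (isPushout_appTop_of_isPullback sR) rfl rfl
  let hl : Γ(Wb, ⊤) →ₗ[Γ(T, ⊤)] Γ(U, ⊤) :=
    { toFun := h.appTop
      map_add' := map_add _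
      map_smul' := fun a x => by
        change h.appTop (β.appTop a * x) = (h ≫ β).appTop a * h.appTop x
        rw [map_mul, comp_appTop_apply] }
  let δ : Γ(U, ⊤) →ₗ[Γ(T, ⊤)] Γ(R, ⊤) :=
    { toFun := fun x => s.appTop x - t.appTop x
      map_add' := fun x y => by simp only [map_add]; abel
      map_smul' := fun a x => by
        change s.appTop ((h ≫ β).appTop a * x) - t.appTop ((h ≫ β).appTop a * x) =
          (s ≫ h ≫ β).appTop a * (s.appTop x - t.appTop x)
        rw [map_mul, map_mul, ← comp_appTop_apply, ← comp_appTop_apply, ← reassoc_of% hw, mul_sub] }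
  have hex : Function.Exact hl δ := fun x => by
    constructor
    · intro hx
      exact H.exists_eq x (sub_eq_zero.mp hx)
    · rintro ⟨b, rfl⟩
      change s.appTop (h.appTop b) - t.appTop (h.appTop b) = 0
      rw [← comp_appTop_apply, ← comp_appTop_apply, hw, sub_self]
  have hexT := Module.Flat.rTensor_exact (M := Γ(V, ⊤)) hex
  have hinj : Function.Injective (hl.rTensor Γ(V, ⊤)) :=
    Module.Flat.rTensor_preserves_injective_linearMap hl H.injective
  have kB : ∀ z, eU (hl.rTensor Γ(V, ⊤) z) = h₁.appTop (eB z) := fun z => by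
    induction z using TensorProduct.induction_on with
    | zero => simp
    | tmul b v =>
      simp only [LinearMap.rTensor_tmul]
      rw [heU, heB, map_mul, ← comp_appTop_apply h₁, ← comp_appTop_apply h₁, hh.1, hh.2, comp_appTop_apply]
      rfl
    | add x y hx hy => simp only [map_add, hx, hy]
  have kU : ∀ z, eR (δ.rTensor Γ(V, ⊤) z) = s₁.appTop (eU z) - t₁.appTop (eU z) := fun z => by
    induction z using TensorProduct.induction_on with
    | zero => simp
    | tmul b v =>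
      simp only [LinearMap.rTensor_tmul]
      rw [heR, heU, map_mul, map_mul, ← comp_appTop_apply s₁, ← comp_appTop_apply s₁, ← comp_appTop_apply t₁,
        ← comp_appTop_apply t₁, hs.1, hs.2, ht.1, ht.2, comp_appTop_apply, comp_appTop_apply, ← sub_mul]
      exact congrArg (· * _) (map_sub _ _ _)
    | add x y hx hy => simp only [map_add, hx, hy]; abel
  constructor
  · intro a b hab
    obtain ⟨a, rfl⟩ := eB.surjective a
    obtain ⟨b, rfl⟩ := eB.surjective b
    exact congrArg eB (hinj (eU.injective (by rw [kB, kB, hab])))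
  · intro x hx
    obtain ⟨x, rfl⟩ := eU.surjective x
    obtain ⟨b, rfl⟩ := (hexT x).mp (eR.injective (by rw [kU, hx, sub_self, map_zero]))
    exact ⟨eB b, (kB b).symm⟩

lemma exists_closedSubscheme {X : Scheme.{u}} [IsAffine X] (e : Γ(X, ⊤)) :
    ∃ (N : Scheme.{u}) (n : N ⟶ X), IsAffine N ∧ n.appTop e = 0 ∧
      ∀ x, n.appTop x = 0 → ∃ c, x = c * e := by
  let π : Γ(X, ⊤) ⟶ CommRingCat.of (Γ(X, ⊤) ⧸ Ideal.span {e}) := CommRingCat.ofHom (Ideal.Quotient.mk _)
  let n : Spec (CommRingCat.of (Γ(X, ⊤) ⧸ Ideal.span {e})) ⟶ X := Spec.map π ≫ X.isoSpec.inv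
  have hn : n.appTop ≫ (Scheme.ΓSpecIso _).hom = π := by
    simp [n, Scheme.Hom.comp_appTop, Scheme.isoSpec, Scheme.toSpecΓ_appTop]
  have hz : ∀ x, n.appTop x = 0 ↔ π x = 0 := fun x => by
    rw [← hn]
    change _ ↔ (Scheme.ΓSpecIso _).hom (n.appTop x) = 0
    exact (map_eq_zero_iff _ (ConcreteCategory.bijective_of_isIso _).1).symm
  refine ⟨_, n, inferInstance, (hz e).2 ?_, fun x hx => ?_⟩
  · exact Ideal.Quotient.eq_zero_iff_mem.mpr (Ideal.mem_span_singleton_self e)
  · obtain ⟨c, hc⟩ := Ideal.mem_span_singleton'.mp (Ideal.Quotient.eq_zero_iff_mem.mp ((hz x).1 hx))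
    exact ⟨c, hc.symm⟩

lemma eq_spec_appTop {X Y : Scheme.{u}} [IsAffine Y] (f : X ⟶ Y) :
    f = X.toSpecΓ ≫ Spec.map f.appTop ≫ Y.isoSpec.inv := by
  rw [← Scheme.toSpecΓ_naturality_assoc]; simp [Scheme.isoSpec]

lemma isOpenImmersion_iff_of_appTop_surjective {X Y : Scheme.{u}} [IsAffine X] [IsAffine Y] (f : X ⟶ Y)
    (hf : Function.Surjective f.appTop) :
    IsOpenImmersion f ↔ ∃ e, IsIdempotentElem e ∧ RingHom.ker f.appTop.hom = Ideal.span {e} := by
  rw [← isOpenImmersion_SpecMap_iff_of_surjective f.appTop hf]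
  constructor
  · intro h
    rw [eq_spec_appTop f] at h
    exact (MorphismProperty.cancel_left_of_respectsIso @IsOpenImmersion X.isoSpec.hom _).1
      ((MorphismProperty.cancel_right_of_respectsIso @IsOpenImmersion _ Y.isoSpec.inv).1
        (by simpa [Category.assoc, Scheme.isoSpec] using h))
  · intro h
    rw [eq_spec_appTop f]
    infer_instance

/-- Two maps factoring through the clopen piece: it is the pullback of the monomorphism `ι`. -/
theorem isOpenImmersion_of_piece {R₁ U₁ Wb₁ M U' V : Scheme.{u}} [IsAffine R₁] [IsAffine U₁]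
    [IsAffine Wb₁] [IsAffine U'] [IsAffine V] [IsAffine M] {s t : R₁ ⟶ U₁} {h : U₁ ⟶ Wb₁}
    (H : IsEqFun s t h) (hw : s ≫ h = t ≫ h) {qV : U₁ ⟶ V} (hV : s ≫ qV = t ≫ qV) {ι : U' ⟶ V}
    [IsClosedImmersion ι] {z : M ⟶ U₁} {y : M ⟶ U'} (sq : IsPullback z y qV ι) [IsOpenImmersion z]
    {σ : U' ⟶ U₁} (hσ : σ ≫ qV = ι) (hz : z ≫ h = y ≫ σ ≫ h) : IsOpenImmersion (σ ≫ h) := by
  haveI : IsClosedImmersion z := MorphismProperty.of_isPullback sq.flip inferInstance
  have hzsurj : Function.Surjective z.appTop := z.app_surjective ⊤ (isAffineOpen_top _)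
  obtain ⟨e, he, hker⟩ := (isOpenImmersion_iff_of_appTop_surjective z hzsurj).1 inferInstance
  have hze : z.appTop e = 0 := by
    rw [← RingHom.mem_ker, hker]; exact Ideal.mem_span_singleton_self e
  have hzero : ∀ x, z.appTop x = 0 → (1 - e) * x = 0 := fun x hx => by
    obtain ⟨c, rfl⟩ := Ideal.mem_span_singleton'.mp (hker ▸ (RingHom.mem_ker.mpr hx : x ∈ RingHom.ker z.appTop.hom))
    rw [mul_comm c, ← mul_assoc, sub_mul, one_mul, he, sub_self, zero_mul]
  -- points killing `e` factor through `z`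
  have fac : ∀ {N : Scheme.{u}} [IsAffine N] (f : N ⟶ U₁), f.appTop e = 0 → ∃ l, l ≫ z = f := by
    intro N _ f hf
    let g : Γ(M, ⊤) →+* Γ(N, ⊤) := z.appTop.hom.liftOfSurjective hzsurj ⟨f.appTop.hom, by
      rw [hker, Ideal.span_le, Set.singleton_subset_iff]; exact hf⟩
    refine ⟨N.toSpecΓ ≫ Spec.map (CommRingCat.ofHom g) ≫ M.isoSpec.inv, ext_of_isAffine ?_⟩
    have : (N.toSpecΓ ≫ Spec.map (CommRingCat.ofHom g) ≫ M.isoSpec.inv).appTop = CommRingCat.ofHom g := by
      simp [Scheme.Hom.comp_appTop, Scheme.isoSpec, Scheme.toSpecΓ_appTop]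
      exact congrArg (· ≫ CommRingCat.ofHom g) (Scheme.toSpecΓ_appTop M).symm
    rw [Scheme.Hom.comp_appTop, this]
    ext x
    exact RingHom.liftOfSurjective_comp_apply z.appTop.hom hzsurj _ x
  -- invariance of `e`
  have hinv : ∀ {a b : R₁ ⟶ U₁}, a ≫ qV = b ≫ qV → ∃ c, b.appTop e = c * a.appTop e := fun {a b} hab => by
    obtain ⟨N, n, hN, hn, hn'⟩ := exists_closedSubscheme (a.appTop e)
    obtain ⟨l, hl⟩ := fac (n ≫ a) (by rw [comp_appTop_apply, hn])
    let l' := sq.lift (n ≫ b) (l ≫ y) (by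
      rw [Category.assoc, ← hab, ← Category.assoc, ← hl, Category.assoc, Category.assoc, sq.w])
    refine hn' _ ?_
    have hl' : l' ≫ z = n ≫ b := sq.lift_fst _ _ _
    rw [← comp_appTop_apply, ← hl', comp_appTop_apply, hze, map_zero]
  have hse : IsIdempotentElem (s.appTop e) := he.map _
  have hte : IsIdempotentElem (t.appTop e) := he.map _
  have heq : s.appTop e = t.appTop e := by
    obtain ⟨c, hc⟩ := hinv hV
    obtain ⟨d, hd⟩ := hinv hV.symm
    calc s.appTop e = s.appTop e * t.appTop e := by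
          conv_rhs => rw [hd, mul_assoc, hte]
          exact hd
      _ = t.appTop e := by
          conv_lhs => rw [hc, mul_left_comm, hse]
          exact hc.symm
  obtain ⟨e₀, he₀⟩ := H.exists_eq e heq
  have he₀' : IsIdempotentElem e₀ := H.injective (by rw [map_mul, he₀, he])
  have hσz : ∀ {N : Scheme.{u}} (l : N ⟶ M), l ≫ z ≫ h = (l ≫ y) ≫ σ ≫ h := fun l => by
    rw [hz, Category.assoc]
  obtain ⟨l, hl⟩ : ∃ l, l ≫ z = σ :=
    ⟨sq.lift σ (𝟙 U') (by rw [hσ, Category.id_comp]), sq.lift_fst _ _ _⟩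
  have hσe : σ.appTop e = 0 := by rw [← hl, comp_appTop_apply, hze, map_zero]
  have hsurj : Function.Surjective (σ ≫ h).appTop := fun ψ => by
    obtain ⟨x, hx⟩ := hzsurj (y.appTop ψ)
    obtain ⟨b, hb⟩ := H.exists_eq ((1 - e) * x) (by
      obtain ⟨N, n, hN, hn, hn'⟩ := exists_closedSubscheme (s.appTop e)
      obtain ⟨ls, hls⟩ := fac (n ≫ s) (by rw [comp_appTop_apply, hn])
      obtain ⟨lt, hlt⟩ := fac (n ≫ t) (by rw [comp_appTop_apply, ← heq, hn])
      have hy : ls ≫ y = lt ≫ y := by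
        haveI : Mono ι := inferInstance
        rw [← cancel_mono ι, Category.assoc, Category.assoc, ← sq.w, reassoc_of% hls, reassoc_of% hlt, hV]
      obtain ⟨c, hc⟩ := hn' (s.appTop x - t.appTop x) (by
        rw [map_sub, ← comp_appTop_apply, ← comp_appTop_apply, ← hls, ← hlt, comp_appTop_apply,
          comp_appTop_apply, hx, ← comp_appTop_apply, ← comp_appTop_apply, hy, sub_self])
      rw [map_mul, map_mul, map_sub, map_sub, map_one, map_one, ← heq, ← sub_eq_zero, ← mul_sub, hc,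
        mul_comm c, ← mul_assoc, sub_mul, one_mul, hse, sub_self, zero_mul])
    refine ⟨b, ?_⟩
    have hly : l ≫ y = 𝟙 U' := by
      haveI : Mono ι := inferInstance
      rw [← cancel_mono ι, Category.assoc, ← sq.w, reassoc_of% hl, hσ, Category.id_comp]
    rw [comp_appTop_apply, hb, map_mul, map_sub, map_one, hσe, sub_zero, one_mul, ← hl, comp_appTop_apply, hx,
      ← comp_appTop_apply, hly, Scheme.Hom.id_appTop]
    rfl
  refine (isOpenImmersion_iff_of_appTop_surjective _ hsurj).2 ⟨e₀, he₀', le_antisymm ?_ ?_⟩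
  · intro b hb
    have hb' : (σ ≫ h).appTop b = 0 := hb
    have h0 : z.appTop (h.appTop b) = 0 := by
      rw [← comp_appTop_apply, hz, comp_appTop_apply, hb', map_zero]
    have h1 : h.appTop ((1 - e₀) * b) = 0 := by
      rw [map_mul, map_sub, map_one, he₀, hzero _ h0]
    have h2 : (1 - e₀) * b = 0 := H.injective (by rw [h1, map_zero])
    refine Ideal.mem_span_singleton'.mpr ⟨b, ?_⟩
    linear_combination -h2
  · rw [Ideal.span_le, Set.singleton_subset_iff]
    change (σ ≫ h).appTop e₀ = 0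
    rw [comp_appTop_apply, he₀, hσe]

end AlgSpLib
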