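import Groth.Agent.AlgSpLib.SrcRing
import Mathlib.AlgebraicGeometry.Morphisms.QuasiFinite
import Mathlib.AlgebraicGeometry.Morphisms.LocalFlatDescent
/-!
# Properties of morphisms of schemes descend along etale surjective maps to the source
-/

set_option autoImplicit false
universe u
open CategoryTheory CategoryTheory.Limits AlgebraicGeometry

namespace AlgSpLib

/-- A surjective etale cover of an affine scheme can be refined by one affine scheme. -/
theorem exists_affine_etale_surjective {X X' : Scheme.{u}} [IsAffine X] (g : X' ⟶ X) [Etale g]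
    [Surjective g] : ∃ (E : Scheme.{u}) (k : E ⟶ X'), IsAffine E ∧ Etale k ∧ Surjective (k ≫ g) ∧
      ∀ (P : MorphismProperty Scheme.{u}) [IsZariskiLocalAtSource P] {Y : Scheme.{u}} (h : X' ⟶ Y),
        P h → P (k ≫ h) := by
  choose x' hx' using g.surjective
  let U : X'.Opens → Prop := fun O => IsAffineOpen O
  choose O hO hxO using fun x : X => exists_isAffineOpen_mem_and_subset (U := ⊤) (x := x' x) trivial
  have hopen : ∀ x, IsOpen (g '' (O x : Set X')) := fun x => g.isOpenMap _ (O x).2
  obtain ⟨t, ht⟩ := isCompact_univ.elim_finite_subcover (fun x : X => g '' (O x : Set X')) hopen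
    (fun x _ => Set.mem_iUnion.2 ⟨x, x' x, (hxO x).1, hx' x⟩)
  let Z : t → Scheme.{u} := fun i => (O i.1).toScheme
  have : ∀ i, IsAffine (Z i) := fun i => hO i.1
  have : Etale (Sigma.desc fun i : t => (O i.1).ι) :=
    IsZariskiLocalAtSource.sigmaDesc (P := @Etale) fun i => inferInstance
  refine ⟨∐ Z, Sigma.desc fun i => (O i.1).ι, inferInstance, this, ⟨fun x => ?_⟩, fun P _ Y h hh => ?_⟩
  · obtain ⟨i, hi, y, hy, rfl⟩ := Set.mem_iUnion₂.1 (ht (Set.mem_univ x))
    refine ⟨Sigma.ι Z ⟨i, hi⟩ ⟨y, hy⟩, ?_⟩
    rw [← Scheme.Hom.comp_apply, Sigma.ι_desc_assoc, Scheme.Hom.comp_apply]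
    rfl
  · have : Sigma.desc (fun i : t => (O i.1).ι) ≫ h = Sigma.desc fun i : t => (O i.1).ι ≫ h := by
      ext i; simp
    rw [this]
    exact IsZariskiLocalAtSource.sigmaDesc fun i => IsZariskiLocalAtSource.comp hh _

/-- Descent to the source along an etale surjection for a property given by ring maps. -/
theorem of_etale_surjective_comp {P : MorphismProperty Scheme.{u}}
    {Q : ∀ {R S : Type u} [CommRing R] [CommRing S], (R →+* S) → Prop} [HasRingHomProperty P Q]
    (hQ : ∀ {R A B : Type u} [CommRing R] [CommRing A] [CommRing B] (φ : R →+* A) (ψ : A →+* B),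
      ψ.Etale → ψ.FaithfullyFlat → Q (ψ.comp φ) → Q φ)
    {U U' Y : Scheme.{u}} (g : U' ⟶ U) [Etale g] [Surjective g] (f : U ⟶ Y) (h : P (g ≫ f)) :
    P f := by
  -- the affine case
  have key : ∀ {X Y' X' : Scheme.{u}} [IsAffine X] [IsAffine Y'] (f' : X ⟶ Y') (g' : X' ⟶ X)
      [Etale g'] [Surjective g'], P (g' ≫ f') → P f' := by
    intro X Y' X' _ _ f' g' _ _ hh
    obtain ⟨E, k, _, _, hk, hloc⟩ := exists_affine_etale_surjective g'
    have hE : P (k ≫ g' ≫ f') := hloc P _ hh
    rw [← Category.assoc, HasRingHomProperty.iff_of_isAffine (P := P), Scheme.Hom.comp_appTop,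
      CommRingCat.hom_comp] at hE
    rw [HasRingHomProperty.iff_of_isAffine (P := P)]
    have het : ((k ≫ g').appTop).hom.Etale :=
      (HasRingHomProperty.iff_of_isAffine (P := @Etale)).1 inferInstance
    refine hQ _ _ het ?_ hE
    rw [RingHom.FaithfullyFlat.iff_flat_and_comap_surjective]
    refine ⟨(HasRingHomProperty.iff_of_isAffine (P := @Flat)).1 inferInstance, ?_⟩
    have : Surjective (Spec.map (k ≫ g').appTop) := by
      have e1 := Scheme.isoSpec_hom_naturality (k ≫ g')
      have : Surjective (E.isoSpec.hom ≫ Spec.map (k ≫ g').appTop) := by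
        rw [e1]; infer_instance
      exact .of_comp E.isoSpec.hom _
    exact (Spec.map (k ≫ g').appTop).surjective
  rw [IsZariskiLocalAtTarget.iff_of_openCover (P := P) Y.affineCover]
  intro i
  let c := Y.affineCover.f i
  change P (pullback.snd f c)
  let gA := pullback.snd g (pullback.fst f c)
  have sq : IsPullback (pullback.fst g (pullback.fst f c)) (gA ≫ pullback.snd f c) (g ≫ f) c :=
    (IsPullback.of_hasPullback g (pullback.fst f c)).paste_vert
      (IsPullback.of_hasPullback f c)
  have hA : P (gA ≫ pullback.snd f c) := IsZariskiLocalAtTarget.of_isPullback sq h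
  rw [IsZariskiLocalAtSource.iff_of_openCover (P := P) (pullback f c).affineCover]
  intro j
  let k := (pullback f c).affineCover.f j
  refine key _ (pullback.snd gA k) ?_
  rw [← pullback.condition_assoc]
  exact IsZariskiLocalAtSource.comp hA _

end AlgSpLib
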