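import Groth.Agent.AlgSpLib.FormalEtale
import Groth.Agent.AlgSpLib.SrcScheme
/-!
# Infinitesimal lifting on charts: formally unramified morphisms
-/

set_option autoImplicit false
universe u
open CategoryTheory CategoryTheory.Limits AlgebraicGeometry AlgSp Topology

namespace AlgSpLib

variable {S : Scheme.{u}}

theorem isNilpotent_ker_specMap {R T : CommRingCat.{u}} (φ : R ⟶ T)
    (h : RingHom.ker φ.hom ^ 2 = ⊥) : IsNilpotent (Spec.map φ).ker := by
  refine ⟨2, ?_⟩
  rw [pow_two]
  refine Scheme.IdealSheafData.ext_of_isAffine ?_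
  rw [Scheme.IdealSheafData.ideal_mul, Pi.mul_apply, Scheme.Hom.ker_apply]
  change RingHom.ker (Spec.map φ).appTop.hom * RingHom.ker (Spec.map φ).appTop.hom = ⊥
  refine le_bot_iff.1 (Ideal.mul_le.2 fun x hx y hy => ?_)
  have key : ∀ z, z ∈ RingHom.ker (Spec.map φ).appTop.hom →
      (Scheme.ΓSpecIso R).hom z ∈ RingHom.ker φ.hom := by
    intro z hz
    have := congrArg (fun k => k.hom z) (Scheme.ΓSpecIso_naturality φ)
    simp only [CommRingCat.hom_comp, RingHom.comp_apply] at this
    rw [RingHom.mem_ker, ← this, RingHom.mem_ker.1 hz, map_zero]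
  have h2 : (Scheme.ΓSpecIso R).hom (x * y) ∈ RingHom.ker φ.hom ^ 2 := by
    rw [map_mul, pow_two]
    exact Ideal.mul_mem_mul (key x hx) (key y hy)
  rw [h, Ideal.mem_bot] at h2
  rw [Ideal.mem_bot]
  exact (Scheme.ΓSpecIso R).commRingCatIsoToRingEquiv.injective (h2.trans (map_zero _).symm)

/-- The lifting square of a morphism of schemes, as a square of sheaves. -/
noncomputable def sqOfScheme {U V : Over S} (h : U ⟶ V) {A : Type u} [CommRing A] (I : Ideal A)
    (hI : I ^ 2 = ⊥) (a : Spec (.of (A ⧸ I)) ⟶ U.left) (b : Spec (.of A) ⟶ V.left)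
    (w : Spec.map (CommRingCat.ofHom (Ideal.Quotient.mk I)) ≫ b = a ≫ h.left) :
    InfSq ((yon S).map h) :=
  { A := A, I := I, sq_zero := hI, str := b ≫ V.hom,
    top := (yon S).map (Over.homMk a (by
      change a ≫ U.hom = _ ≫ b ≫ V.hom
      rw [← Over.w h, ← Category.assoc, ← w, Category.assoc])),
    bot := (yon S).map (Over.homMk b rfl : Over.mk (b ≫ V.hom) ⟶ V),
    comm := by
      rw [← Functor.map_comp, ← Functor.map_comp]
      exact congrArg (yon S).map (Over.OverMorphism.ext w.symm) }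

theorem formallyUnramified_left {U V : Over S} {h : U ⟶ V}
    (hh : IsFormallyUnramifiedMor ((yon S).map h)) : FormallyUnramified h.left := by
  refine FormallyUnramified.of_hom_ext h.left fun R T φ hφ hker g₁ g₂ e1 e2 => ?_
  let I := RingHom.ker φ.hom
  let ε := RingHom.quotientKerEquivOfSurjective (f := φ.hom) hφ
  have hmk : φ ≫ CommRingCat.ofHom ε.symm.toRingHom = CommRingCat.ofHom (Ideal.Quotient.mk I) := by
    refine CommRingCat.hom_ext (RingHom.ext fun x => ?_)
    change ε.symm (φ.hom x) = Ideal.Quotient.mk I x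
    rw [RingEquiv.symm_apply_eq]
    exact (RingHom.quotientKerEquivOfSurjective_apply_mk hφ x).symm
  have e1' : Spec.map (CommRingCat.ofHom (Ideal.Quotient.mk I)) ≫ g₁ =
      Spec.map (CommRingCat.ofHom (Ideal.Quotient.mk I)) ≫ g₂ := by
    rw [← hmk, Spec.map_comp, Category.assoc, Category.assoc, e1]
  let sq := sqOfScheme h I hker (Spec.map (CommRingCat.ofHom (Ideal.Quotient.mk I)) ≫ g₁)
    (g₁ ≫ h.left) (Category.assoc _ _ _).symm
  have key := hh sq ((yon S).map (Over.homMk g₁ (by
      change g₁ ≫ U.hom = (g₁ ≫ h.left) ≫ V.hom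
      rw [Category.assoc, Over.w h]) : sq.ptT' ⟶ U))
    ((yon S).map (Over.homMk g₂ (by
      change g₂ ≫ U.hom = (g₁ ≫ h.left) ≫ V.hom
      rw [e2, Category.assoc, Over.w h]) : sq.ptT' ⟶ U))
    (by rw [← Functor.map_comp]; exact congrArg (yon S).map (Over.OverMorphism.ext rfl))
    (by rw [← Functor.map_comp]; exact congrArg (yon S).map (Over.OverMorphism.ext rfl))
    (by rw [← Functor.map_comp]; exact congrArg (yon S).map (Over.OverMorphism.ext e1'.symm))
    (by rw [← Functor.map_comp]; exact congrArg (yon S).map (Over.OverMorphism.ext e2.symm))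
  exact congrArg CommaMorphism.left ((yon S).map_injective key)

theorem isFormallyUnramifiedMor_yon {U V : Over S} {h : U ⟶ V} [FormallyUnramified h.left] :
    IsFormallyUnramifiedMor ((yon S).map h) := by
  intro sq l l' h1 h2 h1' h2'
  obtain ⟨m, rfl⟩ := (yon S).map_surjective l
  obtain ⟨m', rfl⟩ := (yon S).map_surjective l'
  refine congrArg (yon S).map (Over.OverMorphism.ext ?_)
  have e1 : sq.j ≫ m = sq.j ≫ m' := (yon S).map_injective
    (by rw [Functor.map_comp, Functor.map_comp]; exact h1.trans h1'.symm)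
  have e2 : m ≫ h = m' ≫ h := (yon S).map_injective
    (by rw [Functor.map_comp, Functor.map_comp]; exact h2.trans h2'.symm)
  have : IsClosedImmersion sq.j.left := (thick_quotient sq.A sq.I sq.sq_zero).1
  exact FormallyUnramified.hom_ext sq.j.left
    (isNilpotent_ker_specMap _ (by rw [CommRingCat.hom_ofHom, Ideal.mk_ker]; exact sq.sq_zero))
    h.left (congrArg CommaMorphism.left e1) (congrArg CommaMorphism.left e2)

theorem isFormallyUnramifiedMor_of_repWith_etale {F G : Sp S} {f : F ⟶ G} (hf : RepWith @Etale f) :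
    IsFormallyUnramifiedMor f := by
  intro s a a' r1 r2 r1' r2'
  have sqP := hf.rep.isPullback s.bot
  have : Etale (hf.rep.snd s.bot).left := hf.property_snd s.bot
  let m := sqP.lift a (𝟙 _) (by rw [Category.id_comp]; exact r2)
  let m' := sqP.lift a' (𝟙 _) (by rw [Category.id_comp]; exact r2')
  let s' : InfSq ((yon S).map (hf.rep.snd s.bot)) :=
    { A := s.A, I := s.I, sq_zero := s.sq_zero, str := s.str,
      top := (yon S).map s.j ≫ m, bot := 𝟙 _,
      comm := by rw [Category.assoc, sqP.lift_snd] }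
  have := isFormallyUnramifiedMor_yon (h := hf.rep.snd s.bot) s' m m' rfl (sqP.lift_snd _ _ _)
    (sqP.hom_ext (by rw [Category.assoc, Category.assoc, sqP.lift_fst, sqP.lift_fst]; exact r1'.trans r1.symm)
      (by rw [Category.assoc, Category.assoc, sqP.lift_snd, sqP.lift_snd])) (sqP.lift_snd _ _ _)
  rw [← sqP.lift_fst a (𝟙 _) (by rw [Category.id_comp]; exact r2),
    ← sqP.lift_fst a' (𝟙 _) (by rw [Category.id_comp]; exact r2')]
  exact congrArg (· ≫ _) this

/-- Pull a lifting square back along a ring map. -/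
noncomputable abbrev pullSq {F G : Sp S} {f : F ⟶ G} (sq : InfSq f) {B : Type u} [CommRing B]
    (φ : sq.A →+* B) : InfSq f :=
  { A := B, I := sq.I.map φ, sq_zero := by rw [← Ideal.map_pow, sq.sq_zero, Ideal.map_bot],
    str := Spec.map (CommRingCat.ofHom φ) ≫ sq.str,
    top := (yon S).map (Over.homMk (U := Over.mk (Spec.map (CommRingCat.ofHom
        (Ideal.Quotient.mk (sq.I.map φ))) ≫ Spec.map (CommRingCat.ofHom φ) ≫ sq.str)) (V := sq.ptT)
      (Spec.map (CommRingCat.ofHom (Ideal.quotientMap (sq.I.map φ) φ Ideal.le_comap_map))) (by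
      change Spec.map _ ≫ Spec.map _ ≫ sq.str = Spec.map _ ≫ Spec.map _ ≫ sq.str
      rw [← Spec.map_comp_assoc, ← Spec.map_comp_assoc, ← CommRingCat.ofHom_comp,
        ← CommRingCat.ofHom_comp, Ideal.quotientMap_comp_mk])) ≫ sq.top,
    bot := (yon S).map (Over.homMk (U := Over.mk (Spec.map (CommRingCat.ofHom φ) ≫ sq.str))
      (V := sq.ptT') (Spec.map (CommRingCat.ofHom φ)) rfl) ≫ sq.bot,
    comm := by
      rw [Category.assoc, sq.comm, ← Functor.map_comp_assoc, ← Functor.map_comp_assoc]
      refine congrArg (fun k => (yon S).map k ≫ sq.bot) (Over.OverMorphism.ext ?_)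
      change Spec.map _ ≫ Spec.map _ = Spec.map _ ≫ Spec.map _
      rw [← Spec.map_comp, ← Spec.map_comp, ← CommRingCat.ofHom_comp, ← CommRingCat.ofHom_comp,
        Ideal.quotientMap_comp_mk] }

/-- The morphism from a refined square to the original one. -/
noncomputable abbrev pullSqHom {F G : Sp S} {f : F ⟶ G} (sq : InfSq f) {B : Type u} [CommRing B]
    (φ : sq.A →+* B) : (pullSq sq φ).ptT' ⟶ sq.ptT' :=
  Over.homMk (Spec.map (CommRingCat.ofHom φ)) rfl

theorem pullSq_j_hom {F G : Sp S} {f : F ⟶ G} (sq : InfSq f) {B : Type u} [CommRing B]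
    (φ : sq.A →+* B) : ∃ r : (pullSq sq φ).ptT ⟶ sq.ptT,
      (pullSq sq φ).j ≫ pullSqHom sq φ = r ≫ sq.j ∧ (pullSq sq φ).top = (yon S).map r ≫ sq.top :=
  ⟨_, Over.OverMorphism.ext (by
    change Spec.map _ ≫ Spec.map _ = Spec.map _ ≫ Spec.map _
    rw [← Spec.map_comp, ← Spec.map_comp, ← CommRingCat.ofHom_comp, ← CommRingCat.ofHom_comp,
      Ideal.quotientMap_comp_mk]), rfl⟩

/-- An etale surjective scheme over the test scheme is refined by a test scheme. -/
theorem exists_affine_refine {F G : Sp S} {f : F ⟶ G} (sq : InfSq f) {W : Over S} (e : W ⟶ sq.ptT')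
    [Etale e.left] [Surjective e.left] :
    ∃ (B : Type u) (_ : CommRing B) (φ : sq.A →+* B) (k : (pullSq sq φ).ptT' ⟶ W),
      k ≫ e = pullSqHom sq φ ∧ Etale (pullSqHom sq φ).left ∧ Surjective (pullSqHom sq φ).left := by
  have : IsAffine (sq.ptT').left := inferInstanceAs (IsAffine (Spec (.of sq.A)))
  obtain ⟨E, k, hE, hke, hks, -⟩ := exists_affine_etale_surjective e.left
  let m : Spec Γ(E, ⊤) ⟶ Spec (.of sq.A) := E.isoSpec.inv ≫ k ≫ e.left
  have hm : Spec.map (Spec.preimage m) = m := Spec.map_preimage m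
  have he : Etale m := inferInstanceAs (Etale (E.isoSpec.inv ≫ k ≫ e.left))
  have hs : Surjective m := inferInstanceAs (Surjective (E.isoSpec.inv ≫ k ≫ e.left))
  refine ⟨Γ(E, ⊤), inferInstance, (Spec.preimage m).hom, Over.homMk (E.isoSpec.inv ≫ k) ?_, ?_, ?_, ?_⟩
  · change (E.isoSpec.inv ≫ k) ≫ W.hom = Spec.map _ ≫ sq.str
    rw [show CommRingCat.ofHom (Spec.preimage m).hom = Spec.preimage m from rfl, hm, ← Over.w e]
    simp [m]
  · refine Over.OverMorphism.ext ?_
    change (E.isoSpec.inv ≫ k) ≫ e.left = Spec.map _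
    rw [show CommRingCat.ofHom (Spec.preimage m).hom = Spec.preimage m from rfl, hm, Category.assoc]
  · change Etale (Spec.map _)
    rw [show CommRingCat.ofHom (Spec.preimage m).hom = Spec.preimage m from rfl, hm]
    exact he
  · change Surjective (Spec.map _)
    rw [show CommRingCat.ofHom (Spec.preimage m).hom = Spec.preimage m from rfl, hm]
    exact hs

theorem isFormallyUnramifiedMor_of_chart {F G : Sp S} (hF : IsAlgSpace F) (hG : IsAlgSpace G)
    {f : F ⟶ G} {U V : Over S} {a : (yon S).obj U ⟶ F} {b : (yon S).obj V ⟶ G} {h : U ⟶ V}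
    (ha : RepWith @Etale a) (has : RepWith @Surjective a) (hb : RepWith @Etale b)
    (e : a ≫ f = (yon S).map h ≫ b) [FormallyUnramified h.left] : IsFormallyUnramifiedMor f := by
  intro sq l l' h1 h2 h1' h2'
  have sqW := ha.rep.isPullback' l
  obtain ⟨W, p, c, sqW⟩ : ∃ (W : Over S) (p : W ⟶ U) (c : W ⟶ sq.ptT'),
      IsPullback ((yon S).map p) ((yon S).map c) a l := exists_isPullback_yon a l ha.rep
  have : Etale c.left := etale_left (repWith_of_isPullback sqW ha)
  have : Surjective c.left := surjective_left (repWith_of_isPullback sqW has)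
  obtain ⟨B, _, φ, k, hk, _, _⟩ := exists_affine_refine sq c
  obtain ⟨r, hr, htop⟩ := pullSq_j_hom sq φ
  let sq' := pullSq sq φ
  let u : (yon S).obj sq'.ptT' ⟶ (yon S).obj U := (yon S).map (k ≫ p)
  have hu : u ≫ a = (yon S).map (pullSqHom sq φ) ≫ l := by
    simp only [u, Functor.map_comp, Category.assoc, sqW.w]
    rw [← Functor.map_comp_assoc, hk]
  have hT : (((yon S).map sq'.j ≫ u) ≫ a) =
      (yon S).map sq'.j ≫ ((yon S).map (pullSqHom sq φ) ≫ l') := by
    rw [Category.assoc, hu, ← Functor.map_comp_assoc, ← Functor.map_comp_assoc, hr,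
      Functor.map_comp, Category.assoc, Category.assoc, h1, h1']
  obtain ⟨u', hu'1, hu'2⟩ := (existsUnique_lift_of_isEtaleMor (IsAlgSpace.yon_obj sq'.ptT)
    (IsAlgSpace.yon_obj sq'.ptT') (IsAlgSpace.yon_obj U) hF (isThickMor_infSq sq')
    (isEtaleMor_of_repWith ha) _ _ hT).exists
  have hh : u ≫ (yon S).map h = u' ≫ (yon S).map h := by
    refine lift_unique (t := (yon S).map sq'.j)
      (map_surjective_of_repWith (repWith_mono inf_le_right (isThickMor_infSq sq')))
      (openImmersion_diagonal_of_isEtaleMor (IsAlgSpace.yon_obj V) hG (isEtaleMor_of_repWith hb))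
      ?_ ?_
    · rw [← Category.assoc, ← Category.assoc, hu'1]
    · rw [Category.assoc, Category.assoc, ← e, ← Category.assoc, ← Category.assoc, hu, hu'2,
        Category.assoc, Category.assoc, h2, h2']
  let sU : InfSq ((yon S).map h) :=
    { A := sq'.A, I := sq'.I, sq_zero := sq'.sq_zero, str := sq'.str,
      top := (yon S).map sq'.j ≫ u, bot := u ≫ (yon S).map h, comm := Category.assoc _ _ _ }
  have := isFormallyUnramifiedMor_yon sU u u' rfl rfl hu'1 hh.symm
  have : Etale (pullSqHom sq φ).left := ‹_›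
  refine eq_of_comp_eq (pullSqHom sq φ) ?_
  rw [← hu, ← hu'2, ‹u = u'›]

theorem locP_formallyUnramified {F G : Sp S} {f : F ⟶ G} (hf : IsFormallyUnramifiedMor f) :
    LocP @FormallyUnramified f := fun U V a b h ha hb e => by
  refine formallyUnramified_left (Formal.unramified_of_comp (b := b) ?_)
  rw [← e]
  exact Formal.unramified_comp (isFormallyUnramifiedMor_of_repWith_etale ha) hf

theorem isFormallyUnramifiedMor_iff_locP {F G : Sp S} (hF : IsAlgSpace F) (hG : IsAlgSpace G)
    (f : F ⟶ G) : IsFormallyUnramifiedMor f ↔ LocP @FormallyUnramified f := by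
  refine ⟨locP_formallyUnramified, fun h => ?_⟩
  obtain ⟨U, V, a, b, k, ha, has, hb, -, e⟩ := exists_chart hF hG f
  have := h a b k ha hb e
  exact isFormallyUnramifiedMor_of_chart hF hG ha has hb e

theorem unramified_of_lft_of_diagonal {F G : Sp S} {f : F ⟶ G}
    (hft : LocP @LocallyOfFiniteType f) (hd : RepWith @IsOpenImmersion (pullback.diagonal f)) :
    LocP (@LocallyOfFiniteType ⊓ @FormallyUnramified) f := fun U V a b h ha hb e =>
  ⟨hft a b h ha hb e, locP_formallyUnramified (isFormallyUnramifiedMor_of_diagonal hd) a b h ha hb e⟩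

end AlgSpLib
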