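import Groth.Prelude.Def_AlgSpInf
/-!
# Formally smooth, etale, unramified morphisms of sheaves: formal properties
-/

set_option autoImplicit false
universe u
open CategoryTheory CategoryTheory.Limits AlgebraicGeometry Opposite AlgSp

namespace AlgSpLib.Formal

variable {S : Scheme.{u}} {F G H : Sp S} {a : F ⟶ G} {b : G ⟶ H}

/-- Push a square for `a ≫ b` to a square for `b`. -/
noncomputable def toSnd (sq : InfSq (a ≫ b)) : InfSq b :=
  { A := sq.A, I := sq.I, sq_zero := sq.sq_zero, str := sq.str, top := sq.top ≫ a, bot := sq.bot,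
    comm := (Category.assoc _ _ _).trans sq.comm }

/-- A lift for the second map gives a square for the first. -/
noncomputable def toFst (sq : InfSq (a ≫ b)) (m : (yon S).obj sq.ptT' ⟶ G)
    (hm : (yon S).map sq.j ≫ m = sq.top ≫ a) : InfSq a :=
  { A := sq.A, I := sq.I, sq_zero := sq.sq_zero, str := sq.str, top := sq.top, bot := m, comm := hm.symm }

/-- A square for `a` gives one for `a ≫ b`. -/
noncomputable def ofFst (sq : InfSq a) : InfSq (a ≫ b) :=
  { A := sq.A, I := sq.I, sq_zero := sq.sq_zero, str := sq.str, top := sq.top, bot := sq.bot ≫ b,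
    comm := ((Category.assoc _ _ _).symm.trans (congrArg (· ≫ b) sq.comm)).trans (Category.assoc _ _ _) }

theorem smooth_comp (ha : IsFormallySmoothMor a) (hb : IsFormallySmoothMor b) :
    IsFormallySmoothMor (a ≫ b) := fun sq => by
  obtain ⟨m, hm, hm'⟩ := hb (toSnd sq)
  obtain ⟨l, hl, hl'⟩ := ha (toFst sq m hm)
  exact ⟨l, hl, ((Category.assoc _ _ _).symm.trans (congrArg (· ≫ b) hl')).trans hm'⟩

theorem unramified_comp (ha : IsFormallyUnramifiedMor a) (hb : IsFormallyUnramifiedMor b) :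
    IsFormallyUnramifiedMor (a ≫ b) := fun sq l l' h1 h2 h1' h2' => by
  have e : l ≫ a = l' ≫ a := hb (toSnd sq) _ _ ((Category.assoc _ _ _).symm.trans (congrArg (· ≫ a) h1))
    ((Category.assoc _ _ _).trans h2) ((Category.assoc _ _ _).symm.trans (congrArg (· ≫ a) h1'))
    ((Category.assoc _ _ _).trans h2')
  exact ha (toFst sq (l ≫ a) ((Category.assoc _ _ _).symm.trans (congrArg (· ≫ a) h1))) l l' h1 rfl h1' e.symm

theorem etale_iff {f : F ⟶ G} :
    IsFormallyEtaleMor f ↔ IsFormallySmoothMor f ∧ IsFormallyUnramifiedMor f := by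
  refine ⟨fun h => ⟨fun sq => (h sq).exists, fun sq l l' h1 h2 h1' h2' => (h sq).unique ⟨h1, h2⟩ ⟨h1', h2'⟩⟩,
    fun ⟨h, h'⟩ sq => ?_⟩
  obtain ⟨l, hl⟩ := h sq
  exact ⟨l, hl, fun l' hl' => h' sq l' l hl'.1 hl'.2 hl.1 hl.2⟩

theorem etale_comp (ha : IsFormallyEtaleMor a) (hb : IsFormallyEtaleMor b) : IsFormallyEtaleMor (a ≫ b) :=
  etale_iff.2 ⟨smooth_comp (etale_iff.1 ha).1 (etale_iff.1 hb).1,
    unramified_comp (etale_iff.1 ha).2 (etale_iff.1 hb).2⟩

theorem unramified_of_comp (h : IsFormallyUnramifiedMor (a ≫ b)) : IsFormallyUnramifiedMor a :=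
  fun sq l l' h1 h2 h1' h2' => h (ofFst sq) l l' h1 ((Category.assoc _ _ _).symm.trans (congrArg (· ≫ b) h2)) h1'
    ((Category.assoc _ _ _).symm.trans (congrArg (· ≫ b) h2'))

theorem smooth_of_comp (hb : IsFormallyUnramifiedMor b) (h : IsFormallySmoothMor (a ≫ b)) :
    IsFormallySmoothMor a := fun sq => by
  obtain ⟨l, hl, hl'⟩ := h (ofFst sq)
  refine ⟨l, hl, hb (toSnd (ofFst sq)) _ _ ?_ ((Category.assoc _ _ _).trans hl') sq.comm.symm rfl⟩
  exact (Category.assoc _ _ _).symm.trans (congrArg (· ≫ a) hl)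

theorem etale_of_comp (hb : IsFormallyUnramifiedMor b) (h : IsFormallyEtaleMor (a ≫ b)) : IsFormallyEtaleMor a :=
  etale_iff.2 ⟨smooth_of_comp hb (etale_iff.1 h).1, unramified_of_comp (etale_iff.1 h).2⟩

section BaseChange

variable {P : Sp S} {g : H ⟶ G} {g' : P ⟶ F} {a' : P ⟶ H}

/-- Push a square for the base change to a square for the map. -/
noncomputable def ofBaseChange (hP : IsPullback g' a' a g) (sq : InfSq a') : InfSq a :=
  { A := sq.A, I := sq.I, sq_zero := sq.sq_zero, str := sq.str, top := sq.top ≫ g', bot := sq.bot ≫ g,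
    comm := by rw [Category.assoc, hP.w, ← Category.assoc, sq.comm, Category.assoc] }

theorem smooth_baseChange (hP : IsPullback g' a' a g) (h : IsFormallySmoothMor a) : IsFormallySmoothMor a' :=
  fun sq => by
  obtain ⟨l, hl, hl'⟩ := h (ofBaseChange hP sq)
  refine ⟨hP.lift l sq.bot hl', hP.hom_ext ?_ ?_, hP.lift_snd _ _ _⟩
  · rw [Category.assoc, hP.lift_fst]; exact hl
  · rw [Category.assoc, hP.lift_snd]; exact sq.comm.symm

theorem unramified_baseChange (hP : IsPullback g' a' a g) (h : IsFormallyUnramifiedMor a) :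
    IsFormallyUnramifiedMor a' := fun sq l l' h1 h2 h1' h2' =>
  hP.hom_ext (h (ofBaseChange hP sq) _ _ ((Category.assoc _ _ _).symm.trans (congrArg (· ≫ g') h1))
    (((Category.assoc _ _ _).trans ((congrArg (l ≫ ·) hP.w).trans (Category.assoc _ _ _).symm)).trans
      (congrArg (· ≫ g) h2)) ((Category.assoc _ _ _).symm.trans (congrArg (· ≫ g') h1'))
    (((Category.assoc _ _ _).trans ((congrArg (l' ≫ ·) hP.w).trans (Category.assoc _ _ _).symm)).trans
      (congrArg (· ≫ g) h2'))) (h2.trans h2'.symm)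

theorem etale_baseChange (hP : IsPullback g' a' a g) (h : IsFormallyEtaleMor a) : IsFormallyEtaleMor a' :=
  etale_iff.2 ⟨smooth_baseChange hP (etale_iff.1 h).1, unramified_baseChange hP (etale_iff.1 h).2⟩

end BaseChange

end AlgSpLib.Formal
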