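import Groth.Agent.AlgSpLib.EtaleLift
import Groth.Agent.AlgSpLib.Formal
/-!
# Etale and unramified morphisms and infinitesimal lifting
-/

set_option autoImplicit false
universe u
open CategoryTheory CategoryTheory.Limits AlgebraicGeometry AlgSp Topology

namespace AlgSpLib

variable {S : Scheme.{u}}

theorem thick_quotient (A : Type u) [CommRing A] (I : Ideal A) (hI : I ^ 2 = ⊥) :
    MoreMor.IsThickening (Spec.map (CommRingCat.ofHom (Ideal.Quotient.mk I))) := by
  refine ⟨IsClosedImmersion.spec_of_surjective _ Ideal.Quotient.mk_surjective, ⟨fun p => ?_⟩⟩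
  have hle : I ≤ p.asIdeal := fun a ha => by
    have : a ^ 2 ∈ I ^ 2 := Ideal.pow_mem_pow ha 2
    rw [hI, Ideal.mem_bot] at this
    exact p.2.mem_of_pow_mem 2 (by rw [this]; exact p.asIdeal.zero_mem)
  have : p ∈ Set.range (PrimeSpectrum.comap (Ideal.Quotient.mk I)) := by
    rw [range_comap_of_surjective _ _ Ideal.Quotient.mk_surjective, Ideal.mk_ker]
    exact hle
  exact this

theorem isThickMor_infSq {F G : Sp S} {f : F ⟶ G} (sq : InfSq f) : IsThickMor ((yon S).map sq.j) :=
  (isThickMor_yon_map_iff _).2 (thick_quotient sq.A sq.I sq.sq_zero)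

theorem isFormallyEtaleMor_of_isEtaleMor {F G : Sp S} (hF : IsAlgSpace F) (hG : IsAlgSpace G)
    {f : F ⟶ G} (hf : IsEtaleMor f) : IsFormallyEtaleMor f := fun sq =>
  existsUnique_lift_of_isEtaleMor (IsAlgSpace.yon_obj _) (IsAlgSpace.yon_obj _) hF hG
    (isThickMor_infSq sq) hf sq.top sq.bot sq.comm

theorem isFormallyUnramifiedMor_of_diagonal {F G : Sp S} {f : F ⟶ G}
    (hd : RepWith @IsOpenImmersion (pullback.diagonal f)) : IsFormallyUnramifiedMor f :=
  fun sq l l' h1 h2 h1' h2' =>
    lift_unique (map_surjective_of_repWith (repWith_mono inf_le_right (isThickMor_infSq sq))) hd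
      (h1.trans h1'.symm) (h2.trans h2'.symm)

theorem openImmersion_diagonal_of_unramified {F G : Sp S} (hF : IsAlgSpace F) (hG : IsAlgSpace G)
    {f : F ⟶ G} (hf : LocP (@LocallyOfFiniteType ⊓ @FormallyUnramified) f) :
    RepWith @IsOpenImmersion (pullback.diagonal f) := by
  have hP := isAlgSpace_pullback hF hF hG f f
  refine repWith_openImmersion_of_mono_etale hF hP _ ((isEtaleMor_iff_locP hP).2 ?_)
  obtain ⟨U, V, a, b, h, ha, has, hb, -, e⟩ := exists_chart hF hG f
  have : LocallyOfFiniteType h.left := (hf a b h ha hb e).1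
  have : FormallyUnramified h.left := (hf a b h ha hb e).2
  -- the diagonal of the chart of the target is etale
  have hV := IsAlgSpace.yon_obj V
  have hfst : RepWith @Etale (pullback.fst b b) := repWith_of_isPullback (IsPullback.of_hasPullback b b).flip hb
  have hΔb : RepWith @Etale (pullback.diagonal b) := by
    refine repWith_of_locP (isAlgSpace_pullback hV hV hG b b) (repWith_diagonal_properties hV b).1 ?_
    refine locP_etale_of_isEtaleMor (isEtaleMor_of_comp (g := pullback.fst b b)
      (isAlgSpace_pullback hV hV hG b b) ?_ (isEtaleMor_of_repWith hfst))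
    rw [pullback.diagonal_fst]
    exact isEtaleMor_id _
  -- the comparison map `U ×_V U ⟶ F ×_G F`
  let φ₂ := pullback.map ((yon S).map h ≫ b) ((yon S).map h ≫ b) f f a a (𝟙 G)
    ((Category.comp_id _).trans e.symm) ((Category.comp_id _).trans e.symm)
  have hφ₂ : RepWith @Etale φ₂ := MorphismProperty.pullbackMap ha ha e.symm e.symm
  let φ₁ := pullback.mapDesc ((yon S).map h) ((yon S).map h) b
  have hφ₁ : RepWith @Etale φ₁ := repWith_mapDesc _ _ _ hΔb
  let c := PreservesPullback.iso (yon S) h h
  refine locP_of_chart (h₀ := pullback.diagonal h) ha has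
    (b₀ := c.hom ≫ φ₁ ≫ φ₂) (((RepWith _).cancel_left_of_respectsIso c.hom _).2 (repWith_comp hφ₁ hφ₂)) ?_ ?_
  · rw [← Category.assoc ((yon S).map (pullback.diagonal h)), ← diagonal_yon_map]
    apply pullback.hom_ext
    · simp only [φ₁, φ₂, pullback.mapDesc, Category.assoc, pullback.lift_fst, pullback.lift_fst_assoc,
        pullback.diagonal_fst, pullback.diagonal_fst_assoc, Category.comp_id, Category.id_comp]
    · simp only [φ₁, φ₂, pullback.mapDesc, Category.assoc, pullback.lift_snd, pullback.lift_snd_assoc,
        pullback.diagonal_snd, pullback.diagonal_snd_assoc, Category.comp_id, Category.id_comp]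
  · have : Etale (pullback.diagonal h.left) := inferInstance
    have : Etale (pullback.diagonal ((Over.forget S).map h)) := this
    rw [diagonal_forget_map] at this
    exact ((MorphismProperty.cancel_right_of_respectsIso (P := @Etale) _ _).1 this)

end AlgSpLib
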