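import Groth.Prelude.Def_AlgSpRep
/-!
# Diagonals of relatively representable maps; representable maps to sheaves
-/

set_option autoImplicit false
universe v₁ v₂ u₁ u₂ u
open CategoryTheory CategoryTheory.Limits AlgebraicGeometry Opposite

namespace AlgSpLib

/-- The relative diagonal of a relatively representable map is relatively representable. -/
theorem relRep_diagonal {C : Type u₁} [Category.{v₁} C] {D : Type u₂} [Category.{v₂} D] (F : C ⥤ D)
    [F.Full] [HasEqualizers C] [PreservesLimitsOfShape WalkingParallelPair F] [HasPullbacks D]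
    {X Y : D} {f : X ⟶ Y} (hf : F.relativelyRepresentable f) :
    F.relativelyRepresentable (pullback.diagonal f) := by
  intro T g
  let x := g ≫ pullback.fst f f
  let y := g ≫ pullback.snd f f
  have hxy : x ≫ f = y ≫ f := by simp [x, y, pullback.condition]
  have hV := hf.isPullback (x ≫ f)
  obtain ⟨σ, hσ⟩ := F.map_surjective (hV.lift x (𝟙 _) (by simp))
  obtain ⟨τ, hτ⟩ := F.map_surjective (hV.lift y (𝟙 _) (by simp [hxy]))
  have hE := isLimitForkMapOfIsLimit F (equalizer.condition σ τ) (equalizerIsEqualizer σ τ)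
  have e : F.map (equalizer.ι σ τ) ≫ x = F.map (equalizer.ι σ τ) ≫ y := by
    have := congrArg (fun m => F.map m ≫ hf.fst (x ≫ f)) (equalizer.condition σ τ)
    simpa [hσ, hτ] using this
  refine ⟨equalizer σ τ, equalizer.ι σ τ, F.map (equalizer.ι σ τ) ≫ x, ?_⟩
  refine IsPullback.of_isLimit' ⟨by
    apply pullback.hom_ext
    · simp [x]
    · simpa [y] using e⟩ ?_
  refine PullbackCone.IsLimit.mk _ (fun c => (Fork.IsLimit.lift' hE c.snd ?_).1) ?_ ?_ ?_
  · apply hV.hom_ext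
    · have h1 := congrArg (· ≫ pullback.fst f f) c.condition
      have h2 := congrArg (· ≫ pullback.snd f f) c.condition
      simp at h1 h2
      simp [hσ, hτ, x, y, ← h1, ← h2]
    · simp [hσ, hτ]
  · intro c
    have h1 := congrArg (· ≫ pullback.fst f f) c.condition
    simp at h1
    have := (Fork.IsLimit.lift' hE c.snd (by
      apply hV.hom_ext
      · have h1 := congrArg (· ≫ pullback.fst f f) c.condition
        have h2 := congrArg (· ≫ pullback.snd f f) c.condition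
        simp at h1 h2
        simp [hσ, hτ, x, y, ← h1, ← h2]
      · simp [hσ, hτ])).2
    simp only [Fork.ι_ofι] at this
    rw [← Category.assoc, this]
    exact h1.symm
  · intro c
    exact (Fork.IsLimit.lift' hE c.snd _).2
  · intro c m _ hm
    apply Fork.IsLimit.hom_ext hE
    rw [(Fork.IsLimit.lift' hE c.snd _).2]
    exact hm

variable {S : Scheme.{u}}

/-- A presheaf with a representable map to a sheaf is a sheaf. -/
theorem isSheaf_of_representable {F G : AlgSp.PSp S} {a : F ⟶ G}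
    (ha : (AlgSp.pyon S).relativelyRepresentable a) (hG : Presheaf.IsSheaf (AlgSp.J S) G) :
    Presheaf.IsSheaf (AlgSp.J S) F := by
  rw [isSheaf_iff_isSheaf_of_type] at hG ⊢
  intro T R hR x hx
  obtain ⟨g, hg, hguniq⟩ := hG R hR (fun V f hf => a.app _ (x f hf)) (fun V₁ V₂ W g₁ g₂ f₁ f₂ h₁ h₂ h => by
    simp only [← NatTrans.naturality_apply]
    exact congrArg _ (hx g₁ g₂ h₁ h₂ h))
  let ξ : (AlgSp.pyon S).obj T ⟶ G := uliftYonedaEquiv.{u + 1}.symm g
  have hξ : ∀ {V : Over S} (f : V ⟶ T), uliftYonedaEquiv.{u + 1} ((AlgSp.pyon S).map f ≫ ξ) = G.map f.op g := by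
    intro V f
    rw [uliftYonedaEquiv_comp, uliftYonedaEquiv_uliftYoneda_map]; rfl
  have hV := ha.isPullback ξ
  have lift : ∀ {V : Over S} (f : V ⟶ T) (s : F.obj (op V)), a.app _ s = G.map f.op g →
      ∃ l : V ⟶ ha.pullback ξ, l ≫ ha.snd ξ = f ∧
        uliftYonedaEquiv.{u + 1} ((AlgSp.pyon S).map l ≫ ha.fst ξ) = s := by
    intro V f s hs
    obtain ⟨l, hl⟩ := (AlgSp.pyon S).map_surjective (hV.lift (uliftYonedaEquiv.{u + 1}.symm s)
      ((AlgSp.pyon S).map f) (uliftYonedaEquiv.{u + 1}.injective (by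
        rw [hξ, uliftYonedaEquiv_comp, Equiv.apply_symm_apply]; exact hs)))
    refine ⟨l, (AlgSp.pyon S).map_injective (by simp [hl]), by simp [hl]⟩
  have ext : ∀ {V : Over S} (l l' : V ⟶ ha.pullback ξ), l ≫ ha.snd ξ = l' ≫ ha.snd ξ →
      uliftYonedaEquiv.{u + 1} ((AlgSp.pyon S).map l ≫ ha.fst ξ) =
        uliftYonedaEquiv.{u + 1} ((AlgSp.pyon S).map l' ≫ ha.fst ξ) → l = l' := fun l l' h h' =>
    ha.hom_ext (uliftYonedaEquiv.{u + 1}.injective h') h
  have act : ∀ {V W : Over S} (k : W ⟶ V) (l : V ⟶ ha.pullback ξ),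
      uliftYonedaEquiv.{u + 1} ((AlgSp.pyon S).map (k ≫ l) ≫ ha.fst ξ) =
        F.map k.op (uliftYonedaEquiv.{u + 1} ((AlgSp.pyon S).map l ≫ ha.fst ξ)) := by
    intro V W k l
    rw [Functor.map_comp, Category.assoc, uliftYonedaEquiv_naturality]; rfl
  choose l hl₁ hl₂ using fun (V : Over S) (f : V ⟶ T) (hf : R f) => lift f (x f hf) (hg f hf).symm
  have hVs : Presieve.IsSheafFor ((AlgSp.pyon S).obj (ha.pullback ξ)) R.arrows :=
    (isSheaf_iff_isSheaf_of_type _ _).1 ((AlgSp.yon S).obj (ha.pullback ξ)).property R hR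
  obtain ⟨⟨σ⟩, hσ, -⟩ := hVs (fun V f hf => ULift.up (l V f hf)) (fun V₁ V₂ W g₁ g₂ f₁ f₂ h₁ h₂ h => by
    refine ULift.ext _ _ (ext (g₁ ≫ l V₁ f₁ h₁) (g₂ ≫ l V₂ f₂ h₂) ?_ ?_)
    · simp [hl₁, h]
    · rw [act, act, hl₂, hl₂]; exact hx g₁ g₂ h₁ h₂ h)
  have hσ' : ∀ {V : Over S} (f : V ⟶ T) (hf : R f), f ≫ σ = l V f hf := fun f hf =>
    congrArg ULift.down (hσ f hf)
  have hσT : σ ≫ ha.snd ξ = 𝟙 T := by
    have hTs : Presieve.IsSeparatedFor ((AlgSp.pyon S).obj T) R.arrows :=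
      ((isSheaf_iff_isSheaf_of_type _ _).1 ((AlgSp.yon S).obj T).property R hR).isSeparatedFor
    exact congrArg ULift.down (hTs.ext (t₁ := ULift.up (σ ≫ ha.snd ξ)) (t₂ := ULift.up (𝟙 T)) fun V f hf =>
      ULift.ext _ _ (by change f ≫ σ ≫ _ = f ≫ 𝟙 T; simp [← Category.assoc, hσ' f hf, hl₁]))
  refine ⟨uliftYonedaEquiv.{u + 1} ((AlgSp.pyon S).map σ ≫ ha.fst ξ), fun V f hf => ?_, fun y hy => ?_⟩
  · change F.map f.op _ = _
    rw [← act, hσ' f hf, hl₂]
  · have hay : a.app _ y = g := hguniq _ fun V f hf => by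
      change G.map f.op (a.app _ y) = a.app _ (x f hf)
      rw [← NatTrans.naturality_apply]; exact congrArg _ (hy f hf)
    obtain ⟨τ, hτ₁, hτ₂⟩ := lift (𝟙 T) y (by simp [hay])
    have : τ = σ := congrArg ULift.down (hVs.isSeparatedFor.ext (t₁ := ULift.up τ) (t₂ := ULift.up σ)
      fun V f hf => ULift.ext _ _ (by
        change f ≫ τ = f ≫ σ
        refine ext _ _ (by simp [hτ₁, hσT]) ?_
        rw [act, act, hτ₂]
        refine (hy f hf).trans ?_
        rw [← act, hσ' f hf, hl₂]))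
    rw [← this, hτ₂]

end AlgSpLib

namespace AlgSpLib

variable {S : Scheme.{u}}

/-- A presheaf over a sheaf with sheaf fibres is a sheaf. -/
theorem isSheaf_of_fibres {F G : AlgSp.PSp S} {a : F ⟶ G} (hG : Presheaf.IsSheaf (AlgSp.J S) G)
    (h : ∀ (T : Over S) (ξ : (AlgSp.pyon S).obj T ⟶ G), Presheaf.IsSheaf (AlgSp.J S) (pullback a ξ)) :
    Presheaf.IsSheaf (AlgSp.J S) F := by
  rw [isSheaf_iff_isSheaf_of_type] at hG ⊢
  intro T R hR x hx
  obtain ⟨g, hg, hguniq⟩ := hG R hR (fun V f hf => a.app _ (x f hf)) (fun V₁ V₂ W g₁ g₂ f₁ f₂ h₁ h₂ h => by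
    simp only [← NatTrans.naturality_apply]
    exact congrArg _ (hx g₁ g₂ h₁ h₂ h))
  let ξ : (AlgSp.pyon S).obj T ⟶ G := uliftYonedaEquiv.{u + 1}.symm g
  have hξ : ∀ {V : Over S} (f : V ⟶ T), uliftYonedaEquiv.{u + 1} ((AlgSp.pyon S).map f ≫ ξ) = G.map f.op g := by
    intro V f
    rw [uliftYonedaEquiv_comp, uliftYonedaEquiv_uliftYoneda_map]; rfl
  let π₁ := pullback.fst a ξ
  let π₂ := pullback.snd a ξ
  have hsh : Presieve.IsSheafFor (pullback a ξ) R.arrows :=
    (isSheaf_iff_isSheaf_of_type _ _).1 (h T ξ) R hR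
  have lift : ∀ {V : Over S} (f : V ⟶ T) (s : F.obj (op V)), a.app _ s = G.map f.op g →
      ∃ l : (pullback a ξ).obj (op V), π₁.app _ l = s ∧ (π₂.app _ l).down = f := by
    intro V f s hs
    refine ⟨uliftYonedaEquiv.{u + 1} (pullback.lift (uliftYonedaEquiv.{u + 1}.symm s) ((AlgSp.pyon S).map f)
      (uliftYonedaEquiv.{u + 1}.injective (by
        rw [hξ, uliftYonedaEquiv_comp, Equiv.apply_symm_apply]; exact hs))), ?_, ?_⟩
    · rw [← uliftYonedaEquiv_comp, pullback.lift_fst, Equiv.apply_symm_apply]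
    · rw [← uliftYonedaEquiv_comp, pullback.lift_snd, uliftYonedaEquiv_uliftYoneda_map]
  have ext : ∀ {V : Over S} (l l' : (pullback a ξ).obj (op V)), π₁.app _ l = π₁.app _ l' →
      (π₂.app _ l).down = (π₂.app _ l').down → l = l' := by
    intro V l l' h₁ h₂
    refine uliftYonedaEquiv.{u + 1}.symm.injective (pullback.hom_ext ?_ ?_) <;>
      refine uliftYonedaEquiv.{u + 1}.injective ?_ <;>
      rw [uliftYonedaEquiv_comp, uliftYonedaEquiv_comp, Equiv.apply_symm_apply, Equiv.apply_symm_apply]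
    · exact h₁
    · exact ULift.ext _ _ h₂
  have act₂ : ∀ {V W : Over S} (k : W ⟶ V) (l : (pullback a ξ).obj (op V)),
      (π₂.app _ ((pullback a ξ).map k.op l)).down = k ≫ (π₂.app _ l).down := fun k l => by
    rw [NatTrans.naturality_apply]; rfl
  choose l hl₁ hl₂ using fun (V : Over S) (f : V ⟶ T) (hf : R f) => lift f (x f hf) (hg f hf).symm
  obtain ⟨σ, hσ, -⟩ := hsh (fun V f hf => l V f hf) (fun V₁ V₂ W g₁ g₂ f₁ f₂ h₁ h₂ h => by
    refine ext _ _ ?_ ?_
    · rw [NatTrans.naturality_apply, NatTrans.naturality_apply, hl₁, hl₁]; exact hx g₁ g₂ h₁ h₂ h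
    · rw [act₂, act₂, hl₂, hl₂, h])
  have hσT : (π₂.app _ σ).down = 𝟙 T := by
    have hTs : Presieve.IsSeparatedFor ((AlgSp.pyon S).obj T) R.arrows :=
      ((isSheaf_iff_isSheaf_of_type _ _).1 ((AlgSp.yon S).obj T).property R hR).isSeparatedFor
    exact congrArg ULift.down (hTs.ext (t₁ := π₂.app _ σ) (t₂ := ULift.up (𝟙 T)) fun V f hf =>
      ULift.ext _ _ (by
        change f ≫ (π₂.app _ σ).down = f ≫ 𝟙 T
        rw [← act₂, hσ f hf, hl₂, Category.comp_id]))
  refine ⟨π₁.app _ σ, fun V f hf => ?_, fun y hy => ?_⟩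
  · change F.map f.op _ = _
    rw [← NatTrans.naturality_apply, hσ f hf, hl₁]
  · have hay : a.app _ y = g := hguniq _ fun V f hf => by
      change G.map f.op (a.app _ y) = a.app _ (x f hf)
      rw [← NatTrans.naturality_apply]; exact congrArg _ (hy f hf)
    obtain ⟨τ, hτ₁, hτ₂⟩ := lift (𝟙 T) y (by simp [hay])
    rw [← hτ₁]
    refine congrArg _ (hsh.isSeparatedFor.ext fun V f hf => ext _ _ ?_ ?_)
    · rw [NatTrans.naturality_apply, hτ₁, hσ f hf, hl₁]; exact hy f hf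
    · rw [act₂, act₂, hτ₂, hσT]

theorem isSheaf_of_repBySp {F G : AlgSp.PSp S} {a : F ⟶ G} (ha : AlgSp.RepBySp a)
    (hG : Presheaf.IsSheaf (AlgSp.J S) G) : Presheaf.IsSheaf (AlgSp.J S) F :=
  isSheaf_of_fibres hG fun _ ξ => (ha ξ _ _ (IsPullback.of_hasPullback a ξ)).1

end AlgSpLib
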