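import Groth.Agent.AlgSpLib.MonoScheme
import Groth.Agent.AlgSpLib.RepDiag
import Groth.Prelude.Def_AlgSp4
/-!
# Morphisms representable by algebraic spaces; bootstrap for etale covers by spaces
-/

set_option autoImplicit false
set_option backward.isDefEq.respectTransparency false
set_option backward.isDefEq.respectTransparency.types false
universe u
open CategoryTheory CategoryTheory.Limits AlgebraicGeometry Opposite AlgSp

namespace AlgSpLib

variable {S : Scheme.{u}}

/-- A cartesian square over a chart gives an equivalence relation. -/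
theorem isEtaleEqvRel_of_etale {F : Sp S} {R U : Over S} {s t : R ⟶ U} {a : (yon S).obj U ⟶ F}
    (sq : IsPullback ((yon S).map t) ((yon S).map s) a a) (hs : Etale s.left) (ht : Etale t.left) :
    IsEtaleEqvRel s t where
  injective T r r' h1 h2 := (yon S).map_injective (sq.hom_ext
    (by rw [← Functor.map_comp, ← Functor.map_comp, h1])
    (by rw [← Functor.map_comp, ← Functor.map_comp, h2]))
  equivalence T := by
    have key : ∀ x y : T ⟶ U, (∃ r : T ⟶ R, r ≫ t = x ∧ r ≫ s = y) ↔
        (yon S).map x ≫ a = (yon S).map y ≫ a := fun x y => by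
      constructor
      · rintro ⟨r, rfl, rfl⟩
        simp only [Functor.map_comp, Category.assoc, sq.w]
      · intro h
        obtain ⟨r, hr⟩ := (yon S).map_surjective (sq.lift _ _ h)
        refine ⟨r, (yon S).map_injective ?_, (yon S).map_injective ?_⟩
        · rw [Functor.map_comp, hr, sq.lift_fst]
        · rw [Functor.map_comp, hr, sq.lift_snd]
    simp only [key]
    exact ⟨fun _ => rfl, Eq.symm, Eq.trans⟩
  etale_left := hs
  etale_right := ht

/-- A space with a monomorphism to a scheme, some chart of which is locally of finite type, is a scheme. -/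
theorem isRepSh_of_space_mono {G : Sp S} (hG : IsAlgSpace G) {T : Over S} (i : G ⟶ (yon S).obj T) [Mono i]
    (h : ∀ (U : Over S) (a : (yon S).obj U ⟶ G) (p : U ⟶ T), RepWith @Etale a → (yon S).map p = a ≫ i →
      LocallyOfFiniteType p.left) : IsRepSh G := by
  obtain ⟨U, a, ha, has⟩ := hG.atlas
  obtain ⟨p, hp⟩ := (yon S).map_surjective (a ≫ i)
  haveI := h U a p ha hp
  exact isRepSh_of_mono i a ha has p hp

lemma ofPt_yon_map {U V : Over S} (g : U ⟶ V) (x : U.left) :
    Points.ofPt ((yon S).map g) x = Points.schemeHomeo V (g.left x) := by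
  rw [ofPt_comp_ofScheme]
  exact Points.map_yon_map_apply g x

/-- A surjective etale map, representable by spaces, is locally surjective. -/
theorem isLocallySurjective_of_repBySp_etale {X F : Sp S} (p : X ⟶ F)
    (hp : RepBySpWith (IsSurjectiveMor ⊓ IsEtaleMor) p.hom) : Sheaf.IsLocallySurjective p := by
  rw [repBySpWith_hom_iff] at hp
  refine ⟨fun {T} s => ?_⟩
  obtain ⟨hP, hps, hpe⟩ := hp (yEq.symm s : (yon S).obj T ⟶ F) _ _ (IsPullback.of_hasPullback _ _)
  obtain ⟨W, b, hb, hbs⟩ := hP.atlas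
  obtain ⟨w, hw⟩ := (yon S).map_surjective (b ≫ pullback.snd p (yEq.symm s))
  haveI : Etale w.left := (isEtaleMor_yon_map_iff w).1 (fun U φ hφ => by
    rw [hw, ← Category.assoc]; exact hpe _ (MorphismProperty.comp_mem _ _ _ hφ hb))
  have hmem : Sieve.ofArrows (fun _ : PUnit.{u + 1} => W) (fun _ => w) ∈ AlgSp.J S T :=
    ofArrows_mem_J _ (fun _ => inferInstance) (fun _ => inferInstance) fun t => by
      obtain ⟨z, hz⟩ := hps (Points.schemeHomeo T t)
      obtain ⟨x, rfl⟩ := surjective_ofPt hbs z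
      refine ⟨⟨⟩, x, (Points.schemeHomeo T).injective ?_⟩
      rw [← ofPt_yon_map, hw, ← Points.map_ofPt]; exact hz
  refine GrothendieckTopology.superset_covering _ ?_ hmem
  rintro V g ⟨_, k, c, ⟨⟩, rfl⟩
  refine ⟨yEq ((yon S).map k ≫ b ≫ pullback.fst p (yEq.symm s)), ?_⟩
  refine (yEq_comp _ p).symm.trans ?_
  rw [Category.assoc, Category.assoc, pullback.condition, ← reassoc_of% hw, ← Functor.map_comp_assoc,
    yEq_map, Equiv.apply_symm_apply]

lemma locallyOfFiniteType_of_etale_left {U W : Over S} (w : W ⟶ U ⨯ U) [Etale (w ≫ prod.fst).left] :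
    LocallyOfFiniteType w.left := by
  haveI : LocallyOfFiniteType (w.left ≫ (prod.fst : U ⨯ U ⟶ U).left) := by
    rw [← Over.comp_left]; infer_instance
  exact locallyOfFiniteType_of_comp w.left (prod.fst : U ⨯ U ⟶ U).left

/-- A sheaf with a surjective etale map, representable by spaces, from a space is a space. -/
theorem isAlgSpace_of_repBySp_etale_cover {X F : Sp S} (hX : IsAlgSpace X) (p : X ⟶ F)
    (hp : RepBySpWith (IsSurjectiveMor ⊓ IsEtaleMor) p.hom) : IsAlgSpace F := by
  haveI := isLocallySurjective_of_repBySp_etale p hp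
  obtain ⟨U, a, ha, has⟩ := hX.atlas
  haveI : Sheaf.IsLocallySurjective a := isLocallySurjective_of_repWith
    (repWith_mono (fun _ _ g (_ : Etale g) => (inferInstance : Flat g)) ha)
    (repWith_mono (fun _ _ g (_ : Etale g) => (inferInstance : LocallyOfFinitePresentation g)) ha) has
  haveI : Sheaf.IsLocallySurjective (a ≫ p) :=
    Presheaf.isLocallySurjective_comp (AlgSp.J S) a.hom p.hom
  rw [repBySpWith_hom_iff] at hp
  have key : ∀ {R : Sp S} (f g : R ⟶ (yon S).obj U), IsPullback f g (a ≫ p) (a ≫ p) →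
      IsAlgSpace R ∧ IsEtaleMor g := by
    intro R f g sq
    have hP := IsPullback.of_hasPullback p (a ≫ p)
    obtain ⟨hPs, -, hPe⟩ := hp (a ≫ p) _ _ hP
    let r : R ⟶ pullback p (a ≫ p) := pullback.lift (f ≫ a) g (by rw [Category.assoc]; exact sq.w)
    have sq' : IsPullback f r a (pullback.fst p (a ≫ p)) :=
      IsPullback.of_bot (by rw [pullback.lift_snd]; exact sq) (by rw [pullback.lift_fst]) hP
    have hr : RepWith @Etale r := repWith_of_isPullback sq' ha
    refine ⟨isAlgSpace_of_representable hPs r hr.rep, ?_⟩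
    have : g = r ≫ pullback.snd p (a ≫ p) := (pullback.lift_snd _ _ _).symm
    rw [this]
    exact isEtaleMor_comp hPe (isEtaleMor_of_repWith hr)
  have sqR := IsPullback.of_hasPullback (a ≫ p) (a ≫ p)
  obtain ⟨hR, hRs⟩ := key _ _ sqR
  obtain ⟨-, hRt⟩ := key _ _ sqR.flip
  let j : pullback (a ≫ p) (a ≫ p) ⟶ (yon S).obj (U ⨯ U) :=
    prod.lift (pullback.fst _ _) (pullback.snd _ _) ≫ inv (prodComparison (yon S) U U)
  have hj₁ : j ≫ (yon S).map prod.fst = pullback.fst _ _ := by
    simp only [j, Category.assoc, inv_prodComparison_map_fst, prod.lift_fst]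
  have hj₂ : j ≫ (yon S).map prod.snd = pullback.snd _ _ := by
    simp only [j, Category.assoc, inv_prodComparison_map_snd, prod.lift_snd]
  haveI : Mono j := ⟨fun {Z} x y h => pullback.hom_ext (by rw [← hj₁, reassoc_of% h]) (by rw [← hj₂, reassoc_of% h])⟩
  obtain ⟨R, ⟨e⟩⟩ := isRepSh_of_space_mono hR j fun W b w hb hw => by
    haveI : Etale (w ≫ prod.fst).left := by
      refine (isEtaleMor_yon_map_iff _).1 ?_
      rw [Functor.map_comp, hw, Category.assoc, hj₁]
      exact isEtaleMor_comp hRt (isEtaleMor_of_repWith hb)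
    exact locallyOfFiniteType_of_etale_left w
  obtain ⟨t, ht⟩ := (yon S).map_surjective (e.hom ≫ pullback.fst (a ≫ p) (a ≫ p))
  obtain ⟨s, hs⟩ := (yon S).map_surjective (e.hom ≫ pullback.snd (a ≫ p) (a ≫ p))
  have sq : IsPullback ((yon S).map t) ((yon S).map s) (a ≫ p) (a ≫ p) :=
    sqR.of_iso e.symm (Iso.refl _) (Iso.refl _) (Iso.refl _) (by simp [ht]) (by simp [hs]) (by simp) (by simp)
  have hs' : Etale s.left := (isEtaleMor_yon_map_iff s).1 (by
    rw [hs]; exact isEtaleMor_comp hRs fun V φ hφ => by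
      exact MorphismProperty.RespectsIso.postcomp _ e.hom φ hφ)
  have ht' : Etale t.left := (isEtaleMor_yon_map_iff t).1 (by
    rw [ht]; exact isEtaleMor_comp hRt fun V φ hφ => by
      exact MorphismProperty.RespectsIso.postcomp _ e.hom φ hφ)
  exact (isAlgSpace_of_kernelPair sq (isEtaleEqvRel_of_etale sq hs' ht')).2.2.2

/-- A presheaf over a space with space fibres is a space. -/
theorem isAlgSpaceP_of_repBySp {F G : PSp S} {a : F ⟶ G} (ha : RepBySp a) (hG : IsAlgSpaceP G) :
    IsAlgSpaceP F := by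
  obtain ⟨hGs, hGa⟩ := hG
  have hFs := isSheaf_of_repBySp ha hGs
  let F' : Sp S := ⟨F, hFs⟩
  let G' : Sp S := ⟨G, hGs⟩
  refine ⟨hFs, ?_⟩
  change IsAlgSpace F'
  let a' : F' ⟶ G' := ObjectProperty.homMk a
  obtain ⟨U, q, hq, hqs⟩ := hGa.atlas
  have sq := IsPullback.of_hasPullback a' q
  exact isAlgSpace_of_space_atlas ((repBySp_hom_iff a').1 ha q _ _ sq) (pullback.fst a' q)
    (repWith_of_isPullback sq.flip hq) (repWith_of_isPullback sq.flip hqs)

end AlgSpLib
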