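import Groth.Agent.AlgSpLib.MorPack
import Groth.Agent.AlgSpLib.FormalEtale
import Groth.Agent.AlgSpLib.FormalCharts
import Groth.Agent.AlgSpLib.RepSpBase

/-!
# Monomorphisms locally of finite type and characterisations of closed immersions
-/

set_option autoImplicit false
set_option backward.isDefEq.respectTransparency false
set_option backward.isDefEq.respectTransparency.types false

universe u

open CategoryTheory CategoryTheory.Limits AlgebraicGeometry Opposite AlgSp Topology

namespace AlgSpLib

variable {S : Scheme.{u}}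

/-- A monomorphism locally of finite type is representable. -/
theorem representable_of_mono_lft {F G : Sp S} (hF : IsAlgSpace F) (hG : IsAlgSpace G) {f : F ⟶ G} [Mono f]
    (hf : LocP @LocallyOfFiniteType f) : Representable f := by
  intro T ξ
  have sq := IsPullback.of_hasPullback f ξ
  have hT := IsAlgSpace.yon_obj (S := S) T
  haveI : Mono (pullback.snd f ξ) := inferInstance
  have hl := locP_of_isPullback hF hG hT sq hf
  obtain ⟨W, ⟨e⟩⟩ := isRepSh_of_space_mono (isAlgSpace_pullback hF hT hG f ξ) (pullback.snd f ξ)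
    fun U a p ha hp => hl a (𝟙 _) p ha (repWith_id _ _) (by rw [Category.comp_id, hp])
  obtain ⟨s, hs⟩ := (yon S).map_surjective (e.hom ≫ pullback.snd f ξ)
  exact ⟨W, s, e.hom ≫ pullback.fst f ξ, sq.of_iso e.symm (Iso.refl _) (Iso.refl _) (Iso.refl _)
    (by simp) (by simp [hs]) (by simp) (by simp)⟩

/-- A universally closed monomorphism locally of finite type is a closed immersion. -/
theorem closedImmersion_of_univClosed_mono_lft {F G : Sp S} (hF : IsAlgSpace F) (hG : IsAlgSpace G) {f : F ⟶ G}
    [Mono f] (hf : LocP @LocallyOfFiniteType f) (hc : IsUnivClosedMor f) : RepWith @IsClosedImmersion f := by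
  have hr := representable_of_mono_lft hF hG hf
  refine ⟨hr, fun T W g fst snd sq => ?_⟩
  haveI : LocallyOfFiniteType snd.left := (repWith_of_locP hG hr hf).property g fst snd sq
  haveI : UniversallyClosed snd.left := ((isUnivClosedMor_iff_repWith hF hG hr).2 hc).property g fst snd sq
  haveI : IsSeparated snd.left := (repWith_isSeparated_of_mono hr).property g fst snd sq
  haveI : Mono snd.left := (repWith_mono_of_mono hr).property g fst snd sq
  exact (IsClosedImmersion.iff_isProper_and_mono snd.left).2 ⟨{}, inferInstance⟩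

theorem mono_of_unramified_univInjective {F G : Sp S} (hF : IsAlgSpace F) (hG : IsAlgSpace G) {f : F ⟶ G}
    (h : LocP (@LocallyOfFiniteType ⊓ @FormallyUnramified) f) (hi : IsUnivInjectiveMor f) : Mono f := by
  haveI : IsIso (pullback.diagonal f) := isIso_of_openImmersion_surjective
    (openImmersion_diagonal_of_unramified hF hG h) ((univInjective_iff_surjective_diagonal hF).1 hi)
  exact (pullback.isIso_diagonal_iff f).1 inferInstance

theorem isUnivInjectiveMor_of_mono {F G : Sp S} (hF : IsAlgSpace F) {f : F ⟶ G} [Mono f] :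
    IsUnivInjectiveMor f :=
  (univInjective_iff_surjective_diagonal hF).2 (isSurjectiveMor_of_isIso _)

theorem closedImmersion_props {F G : Sp S} (hF : IsAlgSpace F) (hG : IsAlgSpace G) {f : F ⟶ G}
    (hf : RepWith @IsClosedImmersion f) :
    IsUnivClosedMor f ∧ LocP (@LocallyOfFiniteType ⊓ @FormallyUnramified) f ∧ Mono f ∧ IsUnivInjectiveMor f ∧
      LocP @LocallyOfFiniteType f ∧ IsFormallyUnramifiedMor f := by
  haveI : Mono f := mono_of_repWith (fun g (_ : IsClosedImmersion g) => inferInstance) hf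
  have hu : LocP (@LocallyOfFiniteType ⊓ @FormallyUnramified) f := locP_of_repWith (repWith_mono
    (fun _ _ g (_ : IsClosedImmersion g) =>
      ⟨(inferInstance : LocallyOfFiniteType g), (inferInstance : FormallyUnramified g)⟩) hf)
  exact ⟨isUnivClosedMor_of_closedImmersion hF hG hf, hu, inferInstance, isUnivInjectiveMor_of_mono hF,
    locP_mono inf_le_left hu, (isFormallyUnramifiedMor_iff_locP hF hG f).2 (locP_mono inf_le_right hu)⟩

theorem closedImmersion_tfae {F G : Sp S} (hF : IsAlgSpace F) (hG : IsAlgSpace G) (f : F ⟶ G) :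
    (RepWith @IsClosedImmersion f ↔
      (IsUnivClosedMor f ∧ LocP (@LocallyOfFiniteType ⊓ @FormallyUnramified) f ∧ Mono f)) ∧
    (RepWith @IsClosedImmersion f ↔
      (IsUnivClosedMor f ∧ LocP (@LocallyOfFiniteType ⊓ @FormallyUnramified) f ∧ IsUnivInjectiveMor f)) ∧
    (RepWith @IsClosedImmersion f ↔
      (IsUnivClosedMor f ∧ LocP @LocallyOfFiniteType f ∧ Mono f)) ∧
    (RepWith @IsClosedImmersion f ↔
      (IsUnivClosedMor f ∧ IsUnivInjectiveMor f ∧ LocP @LocallyOfFiniteType f ∧ IsFormallyUnramifiedMor f)) := by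
  have back : IsUnivClosedMor f → LocP @LocallyOfFiniteType f → Mono f → RepWith @IsClosedImmersion f :=
    fun h1 h2 _ => closedImmersion_of_univClosed_mono_lft hF hG h2 h1
  have back' : IsUnivClosedMor f → LocP (@LocallyOfFiniteType ⊓ @FormallyUnramified) f → IsUnivInjectiveMor f →
      RepWith @IsClosedImmersion f :=
    fun h1 h2 h3 => back h1 (locP_mono inf_le_left h2) (mono_of_unramified_univInjective hF hG h2 h3)
  refine ⟨⟨fun h => ?_, fun ⟨h1, h2, h3⟩ => back h1 (locP_mono inf_le_left h2) h3⟩,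
    ⟨fun h => ?_, fun ⟨h1, h2, h3⟩ => back' h1 h2 h3⟩,
    ⟨fun h => ?_, fun ⟨h1, h2, h3⟩ => back h1 h2 h3⟩,
    ⟨fun h => ?_, fun ⟨h1, h2, h3, h4⟩ => back' h1 (fun U V a b k ha hb e =>
      ⟨h3 a b k ha hb e, (isFormallyUnramifiedMor_iff_locP hF hG f).1 h4 a b k ha hb e⟩) h2⟩⟩
  all_goals obtain ⟨a, b, c, d, e, g⟩ := closedImmersion_props hF hG h
  exacts [⟨a, b, c⟩, ⟨a, b, d⟩, ⟨a, e, c⟩, ⟨a, d, e, g⟩]

/-- Flat, unramified and locally of finite presentation is etale. -/
theorem isEtaleMor_of_lfp_flat_unramified {F G : Sp S} (hG : IsAlgSpace G) {f : F ⟶ G}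
    (h1 : LocP @LocallyOfFinitePresentation f) (h2 : LocP @Flat f)
    (h3 : LocP (@LocallyOfFiniteType ⊓ @FormallyUnramified) f) : IsEtaleMor f :=
  (isEtaleMor_iff_locP hG).2 fun U V a b k ha hb e =>
    Etale.iff_flat_and_formallyUnramified.2 ⟨h2 a b k ha hb e, (h3 a b k ha hb e).2, h1 a b k ha hb e⟩

end AlgSpLib
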