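import Groth.Agent.AlgSpLib.SepLqfAlg
import Groth.Agent.AlgSpLib.MonoAux
import Groth.Agent.AlgSpLib.MonoRep
import Mathlib.AlgebraicGeometry.ZariskisMainTheorem
import Mathlib.RingTheory.RingHom.Etale

/-!
# Separated locally quasi-finite spaces over a scheme are schemes
-/

set_option autoImplicit false
set_option backward.isDefEq.respectTransparency false
set_option backward.isDefEq.respectTransparency.types false

universe u

open CategoryTheory CategoryTheory.Limits AlgebraicGeometry Opposite AlgSp Topology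
open scoped TensorProduct

namespace AlgSpLib

variable {S : Scheme.{u}}

/-- The relation of a space separated over a scheme is closed in the fibre product. -/
lemma isClosedImmersion_pairs {X : Sp S} {T : Over S} {h : X ⟶ (yon S).obj T} (hsep : IsSeparatedMor h)
    {U V R : Over S} {a : (yon S).obj U ⟶ X} {b : (yon S).obj V ⟶ X} {p : R ⟶ U} {q : R ⟶ V}
    (sq : IsPullback ((yon S).map p) ((yon S).map q) a b) {α : U ⟶ T} {β : V ⟶ T}
    (ha : a ≫ h = (yon S).map α) (hb : b ≫ h = (yon S).map β) :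
    ∃ ψ : R ⟶ pullback α β, IsClosedImmersion ψ.left ∧ ψ ≫ pullback.fst α β = p ∧ ψ ≫ pullback.snd α β = q := by
  have sqT := (IsPullback.of_hasPullback α β).map (yon S)
  rw [← ha, ← hb] at sqT
  let e := sqT.isoPullback
  have hd := repWith_mapDesc a b h (show RepWith @IsClosedImmersion (pullback.diagonal h) from hsep)
  obtain ⟨ψ, hψ⟩ := (yon S).map_surjective (sq.isoPullback.hom ≫ pullback.mapDesc a b h ≫ e.inv)
  refine ⟨ψ, (repWith_yon_map_iff (P := (@IsClosedImmersion : MorphismProperty Scheme.{u})) ψ).1 ?_, ?_, ?_⟩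
  · rw [hψ]
    exact MorphismProperty.RespectsIso.precomp _ _ _ (MorphismProperty.RespectsIso.postcomp _ _ _ hd)
  · refine (yon S).map_injective ?_
    rw [Functor.map_comp, hψ, Category.assoc, Category.assoc, IsPullback.isoPullback_inv_fst]
    simp [pullback.mapDesc]
  · refine (yon S).map_injective ?_
    rw [Functor.map_comp, hψ, Category.assoc, Category.assoc, IsPullback.isoPullback_inv_snd]
    simp [pullback.mapDesc]

/-- Invariant functions on a chart. -/
def InvFun {X : Sp S} {U : Over S} (a : (yon S).obj U ⟶ X) (c : Γ(U.left, ⊤)) : Prop :=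
  ∀ (W : Over S) (x y : W ⟶ U), (yon S).map x ≫ a = (yon S).map y ≫ a → x.left.appTop c = y.left.appTop c

lemma comp_appTop {A B C : Over S} (x : A ⟶ B) (y : B ⟶ C) (c : Γ(C.left, ⊤)) :
    (x ≫ y).left.appTop c = x.left.appTop (y.left.appTop c) := by
  rw [Over.comp_left]; exact comp_appTop_apply x.left y.left c

lemma isPullback_open_preimage {U Z : Scheme.{u}} (k : U ⟶ Z) {O : Z.Opens} {E : U.Opens} (h : E = k ⁻¹ᵁ O)
    (kE : E.toScheme ⟶ O.toScheme) (hk : kE ≫ O.ι = E.ι ≫ k) : IsPullback E.ι kE k O.ι := by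
  subst h
  have : kE = k ∣_ O := by rw [← cancel_mono O.ι, hk, morphismRestrict_ι]
  rw [this]
  exact (isPullback_morphismRestrict k O).flip

lemma isIso_of_appTop_bijective {A B : Scheme.{u}} [IsAffine A] [IsAffine B] (φ : A ⟶ B)
    (h : Function.Bijective φ.appTop) : IsIso φ := by
  haveI : IsIso φ.appTop := (ConcreteCategory.isIso_iff_bijective _).2 h
  rw [eq_spec_appTop φ]
  infer_instance

/-- A section killed by pullback to a flat cover of a point vanishes at that point. -/
lemma germ_eq_zero_of_flat {A B : Scheme.{u}} (q : A ⟶ B) [Flat q] {d : Γ(B, ⊤)} (hd : q.appTop d = 0) (r : A) :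
    B.presheaf.germ ⊤ (q r) trivial d = 0 := by
  have hi : Function.Injective (q.stalkMap r).hom := by
    algebraize [(q.stalkMap r).hom]
    have : Module.Flat (B.presheaf.stalk (q r)) (A.presheaf.stalk r) := Flat.stalkMap q r
    have : IsLocalHom (algebraMap (B.presheaf.stalk (q r)) (A.presheaf.stalk r)) := q.toLRSHom.prop r
    have : Module.FaithfullyFlat (B.presheaf.stalk (q r)) (A.presheaf.stalk r) :=
      Module.FaithfullyFlat.of_flat_of_isLocalHom
    exact FaithfulSMul.algebraMap_injective (B.presheaf.stalk (q r)) (A.presheaf.stalk r)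
  refine hi ?_
  rw [map_zero]
  exact (Scheme.Hom.germ_stalkMap_apply q ⊤ r trivial d).trans
    ((congrArg (A.presheaf.germ ⊤ r trivial) hd).trans (map_zero _))

/-- An invariant function vanishing on an open of the atlas is killed by the idempotent of its saturation. -/
lemma mul_eq_zero_of_invFun {X : Sp S} {U V R : Over S} {a : (yon S).obj U ⟶ X} {i : V ⟶ U} {p : R ⟶ V}
    {q : R ⟶ U} (w : (yon S).map p ≫ (yon S).map i ≫ a = (yon S).map q ≫ a) [Flat q.left]
    {e : Γ(U.left, ⊤)} (he : IsIdempotentElem e) (heS : (U.left.basicOpen e : Set U.left) = Set.range q.left)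
    {d : Γ(U.left, ⊤)} (hd : InvFun a d) (hd0 : i.left.appTop d = 0) : e * d = 0 := by
  refine mul_eq_zero_of_restrict he fun y hy => ?_
  obtain ⟨r, rfl⟩ := (Set.ext_iff.1 heS y).1 hy
  refine germ_eq_zero_of_flat q.left ?_ r
  rw [hd R q (p ≫ i) (by rw [Functor.map_comp, Category.assoc, w]), comp_appTop, hd0, map_zero]

/-- The extension by zero of a function on the open of an invariant idempotent that is invariant there. -/
lemma invFun_mul {X : Sp S} {U E M : Over S} {a : (yon S).obj U ⟶ X} {e : Γ(U.left, ⊤)}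
    (he : IsIdempotentElem e) (heinv : InvFun a e) {iE : E ⟶ U} [IsOpenImmersion iE.left]
    (hiE : (U.left.basicOpen e : Set U.left) = Set.range iE.left) {θ : E ⟶ M}
    (hθ : ∀ (W : Over S) (x y : W ⟶ E),
      (yon S).map (x ≫ iE) ≫ a = (yon S).map (y ≫ iE) ≫ a → x ≫ θ = y ≫ θ)
    {f₀ : Γ(M.left, ⊤)} {r₀ : Γ(U.left, ⊤)} (hr : iE.left.appTop r₀ = θ.left.appTop f₀) :
    InvFun a (e * r₀) := by
  intro W x y hxy
  rw [map_mul, map_mul, heinv W x y hxy, ← sub_eq_zero, ← mul_sub]
  refine mul_eq_zero_of_restrict (he.map _) fun t ht => ?_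
  let O : W.left.Opens := W.left.basicOpen (y.left.appTop e)
  let w : Over.mk (O.ι ≫ W.hom) ⟶ W := Over.homMk O.ι rfl
  have hl : ∀ z : W ⟶ U, z.left.appTop e = y.left.appTop e →
      ∃ z' : Over.mk (O.ι ≫ W.hom) ⟶ E, z' ≫ iE = w ≫ z := by
    intro z hz
    have hrange : Set.range (w ≫ z).left ⊆ Set.range iE.left := by
      rintro _ ⟨s, rfl⟩
      rw [← hiE]
      have hs : s.1 ∈ W.left.basicOpen (z.left.appTop e) := by rw [hz]; exact s.2
      rw [← Scheme.preimage_basicOpen_top] at hs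
      exact hs
    refine ⟨Over.homMk (IsOpenImmersion.lift iE.left (w ≫ z).left hrange) ?_,
      Over.OverMorphism.ext (IsOpenImmersion.lift_fac _ _ _)⟩
    rw [← Over.w iE, IsOpenImmersion.lift_fac_assoc, Over.w (w ≫ z)]
  obtain ⟨x', hx'⟩ := hl x (heinv W x y hxy)
  obtain ⟨y', hy'⟩ := hl y rfl
  have h1 : x' ≫ θ = y' ≫ θ := hθ _ _ _ (by
    rw [hx', hy', Functor.map_comp, Functor.map_comp, Category.assoc, Category.assoc, hxy])
  have key : w.left.appTop (x.left.appTop r₀ - y.left.appTop r₀) = 0 := by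
    rw [map_sub, sub_eq_zero, ← comp_appTop, ← comp_appTop, ← hx', ← hy', comp_appTop, comp_appTop, hr,
      ← comp_appTop, ← comp_appTop, h1]
  exact germ_eq_zero_of_flat O.ι key ⟨t, ht⟩

/-- An invariant function, integral over the base on the finite open, is integral over the base. -/
lemma isIntegralElem_of_kill {X : Sp S} {T U V : Over S} {f : X ⟶ (yon S).obj T} {a : (yon S).obj U ⟶ X}
    {u : U ⟶ T} (hu : (yon S).map u = a ≫ f) {i : V ⟶ U} [IsAffine T.left] [IsIntegralHom (i ≫ u).left]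
    {e : Γ(U.left, ⊤)} (hkill : ∀ d, InvFun a d → i.left.appTop d = 0 → e * d = 0)
    {d : Γ(U.left, ⊤)} (hd : InvFun a d) (hed : e * d = d) : u.left.appTop.hom.IsIntegralElem d := by
  obtain ⟨P, hP, hP0⟩ := IsIntegralHom.isIntegral_app (i ≫ u).left ⊤ (isAffineOpen_top _) (i.left.appTop d)
  have hP1 : Polynomial.eval₂ (i ≫ u).left.appTop.hom (i.left.appTop d) P = 0 := hP0
  have hcomp : (i ≫ u).left.appTop.hom = i.left.appTop.hom.comp u.left.appTop.hom :=
    RingHom.ext fun z => comp_appTop i u z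
  have hd' : InvFun a (Polynomial.eval₂ u.left.appTop.hom d P) := fun W x y hxy => by
    have hxu : x ≫ u = y ≫ u := (yon S).map_injective (by
      rw [Functor.map_comp, Functor.map_comp, hu, reassoc_of% hxy])
    change x.left.appTop.hom (Polynomial.eval₂ _ _ _) = y.left.appTop.hom (Polynomial.eval₂ _ _ _)
    rw [Polynomial.hom_eval₂, Polynomial.hom_eval₂]
    congr 1
    · refine RingHom.ext fun z => ?_
      change x.left.appTop (u.left.appTop z) = y.left.appTop (u.left.appTop z)
      rw [← comp_appTop, ← comp_appTop, hxu]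
    · exact hd W x y hxy
  have hd'0 : i.left.appTop (Polynomial.eval₂ u.left.appTop.hom d P) = 0 := by
    change i.left.appTop.hom (Polynomial.eval₂ _ _ _) = 0
    rw [Polynomial.hom_eval₂, ← hcomp]
    exact hP1
  refine ⟨Polynomial.X * P, Polynomial.monic_X.mul hP, ?_⟩
  rw [Polynomial.eval₂_mul, Polynomial.eval₂_X]
  exact (congrArg (· * _) hed).symm.trans (by rw [mul_right_comm, hkill _ hd' hd'0, zero_mul])

/-- The scheme piece of a separated space over an affine base cut out by a finite open of the atlas. -/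
theorem exists_isIso_piece {X : Sp S} (hX : IsAlgSpace X) {T : Over S} [IsAffine T.left] {f : X ⟶ (yon S).obj T}
    (hsep : IsSeparatedMor f) {U : Over S} [IsAffine U.left] {a : (yon S).obj U ⟶ X} (ha : RepWith @Etale a)
    (has : RepWith @Surjective a) {u : U ⟶ T} (hu : (yon S).map u = a ≫ f) (V : U.left.Opens)
    (hV : IsFinite (V.ι ≫ u.left)) {v : U.left} (hv : v ∈ V)
    {Z : Over S} [IsAffine Z.left] {k : U ⟶ Z} {j : X ⟶ (yon S).obj Z} (hj : a ≫ j = (yon S).map k)
    (hinj : Function.Injective k.left.appTop)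
    (hZ : ∀ c : Γ(U.left, ⊤), InvFun a c → u.left.appTop.hom.IsIntegralElem c → ∃ r, k.left.appTop r = c) :
    ∃ (O : Z.left.Opens), k.left v ∈ O ∧
      IsIso (pullback.snd j ((yon S).map (Over.homMk O.ι rfl : Over.mk (O.ι ≫ Z.hom) ⟶ Z))) := by
  let VV : Over S := Over.mk (V.ι ≫ U.hom)
  let i : VV ⟶ U := Over.homMk V.ι rfl
  haveI : IsFinite (i ≫ u).left := hV
  haveI : IsAffine VV.left := isAffine_of_isAffineHom (i ≫ u).left
  have hia : RepWith @Etale ((yon S).map i ≫ a) :=
    repWith_comp ((repWith_yon_map_iff (P := (@Etale : MorphismProperty Scheme.{u})) i).2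
      (inferInstanceAs (Etale V.ι))) ha
  have hiu : ((yon S).map i ≫ a) ≫ f = (yon S).map (i ≫ u) := by rw [Category.assoc, ← hu, Functor.map_comp]
  -- the saturation
  obtain ⟨R', pV, qU, sq'⟩ := exists_isPullback_yon ((yon S).map i ≫ a) a hia.rep
  haveI : Etale qU.left := etale_left (repWith_of_isPullback sq' hia)
  obtain ⟨ψ, hψ, -, hψ2⟩ := isClosedImmersion_pairs hsep sq' hiu hu.symm
  haveI : IsFinite qU.left := by
    haveI := hψ
    haveI : IsFinite (pullback.snd (i ≫ u) u).left :=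
      MorphismProperty.of_isPullback (P := @IsFinite) (left_isPullback (i ≫ u) u) ‹IsFinite (i ≫ u).left›
    rw [← hψ2, Over.comp_left]; infer_instance
  obtain ⟨e, he, heS⟩ := exists_idempotent_of_isClopen (X := U.left) (s := Set.range qU.left)
    ⟨qU.left.isClosedMap.isClosed_range, qU.left.isOpenMap.isOpen_range⟩
  have hmem : ∀ z : U.left, z ∈ U.left.basicOpen e ↔ ∃ w : VV.left, Points.ofPt a z = Points.ofPt a (i.left w) :=
    fun z => by
    have : z ∈ U.left.basicOpen e ↔ z ∈ Set.range qU.left := Set.ext_iff.1 heS z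
    rw [this]
    constructor
    · rintro ⟨r, rfl⟩
      exact ⟨pV.left r, (((ofPt_eq_ofPt_iff sq' _ _).2 ⟨r, rfl, rfl⟩).symm).trans (ofPt_yon_comp i a _)⟩
    · rintro ⟨w, hw⟩
      obtain ⟨r, -, hr⟩ := (ofPt_eq_ofPt_iff sq' w z).1 ((ofPt_yon_comp i a w).trans hw.symm)
      exact ⟨r, hr⟩
  have heinv : InvFun a e := fun W x y hxy => by
    refine idempotent_eq_of_basicOpen (he.map _) (he.map _) (TopologicalSpace.Opens.ext (Set.ext fun t => ?_))
    have hx : Points.ofPt a (x.left t) = Points.ofPt a (y.left t) := by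
      rw [← ofPt_yon_comp, ← ofPt_yon_comp, hxy]
    rw [← Scheme.preimage_basicOpen_top, ← Scheme.preimage_basicOpen_top]
    change x.left t ∈ U.left.basicOpen e ↔ y.left t ∈ U.left.basicOpen e
    rw [hmem, hmem, hx]
  obtain ⟨e', he'⟩ := hZ e heinv ⟨Polynomial.X ^ 2 - Polynomial.X,
    Polynomial.monic_X_pow_sub (Polynomial.degree_X_le.trans_lt (by exact_mod_cast one_lt_two)), by simp [pow_two, he.eq]⟩
  have he'i : IsIdempotentElem e' := hinj (by rw [map_mul, he', he.eq])
  let O : Z.left.Opens := Z.left.basicOpen e'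
  let OO : Over S := Over.mk (O.ι ≫ Z.hom)
  let iO : OO ⟶ Z := Over.homMk O.ι rfl
  let E : U.left.Opens := U.left.basicOpen e
  let EE : Over S := Over.mk (E.ι ≫ U.hom)
  let iE : EE ⟶ U := Over.homMk E.ι rfl
  haveI : IsOpenImmersion iE.left := inferInstanceAs (IsOpenImmersion E.ι)
  have hkE : k.left ⁻¹ᵁ O = E := by rw [Scheme.preimage_basicOpen_top]; exact congrArg _ he'
  haveI : IsAffine OO.left := (isAffineOpen_top Z.left).basicOpen e'
  haveI : IsAffine EE.left := (isAffineOpen_top U.left).basicOpen e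
  have hVE : ∀ w : VV.left, i.left w ∈ E := fun w => (hmem _).2 ⟨w, rfl⟩
  refine ⟨O, (hkE.symm ▸ hVE ⟨v, hv⟩ : v ∈ k.left ⁻¹ᵁ O), ?_⟩
  let kE : EE ⟶ OO := Over.homMk (IsOpenImmersion.lift O.ι (E.ι ≫ k.left) (by
    rintro _ ⟨t, rfl⟩
    exact ⟨⟨k.left t.1, (hkE.symm ▸ t.2 : t.1 ∈ k.left ⁻¹ᵁ O)⟩, (Scheme.Hom.comp_apply E.ι k.left t).symm⟩)) (by
    change IsOpenImmersion.lift _ _ _ ≫ O.ι ≫ Z.hom = E.ι ≫ U.hom
    rw [IsOpenImmersion.lift_fac_assoc, Category.assoc, Over.w k])
  have hkEi : kE ≫ iO = iE ≫ k := Over.OverMorphism.ext (IsOpenImmersion.lift_fac _ _ _)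
  have sqE : IsPullback iE kE k iO :=
    isPullback_over (isPullback_open_preimage k.left hkE.symm kE.left (congrArg Over.Hom.left hkEi))
  -- the piece
  let W := pullback j ((yon S).map iO)
  have sqW : IsPullback (pullback.fst j ((yon S).map iO)) (pullback.snd j ((yon S).map iO)) j ((yon S).map iO) :=
    IsPullback.of_hasPullback _ _
  have hjo : RepWith @IsOpenImmersion (pullback.fst j ((yon S).map iO)) :=
    repWith_of_isPullback sqW.flip
      ((repWith_yon_map_iff (P := (@IsOpenImmersion : MorphismProperty Scheme.{u})) iO).2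
        (inferInstanceAs (IsOpenImmersion O.ι)))
  haveI : Mono (pullback.fst j ((yon S).map iO)) :=
    mono_of_repWith (fun g (_ : IsOpenImmersion g) => inferInstance) hjo
  have hW : IsAlgSpace W := isAlgSpace_of_representable hX _ hjo.rep
  let aE : (yon S).obj EE ⟶ W := sqW.lift ((yon S).map iE ≫ a) ((yon S).map kE) (by
    rw [Category.assoc, hj, ← Functor.map_comp, ← Functor.map_comp, hkEi])
  have sqaE : IsPullback ((yon S).map iE) aE a (pullback.fst j ((yon S).map iO)) :=
    IsPullback.of_bot (by rw [sqW.lift_snd, hj]; exact sqE.map (yon S)) (sqW.lift_fst _ _ _).symm sqW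
  have haE : RepWith @Etale aE := repWith_of_isPullback sqaE ha
  have haEs : RepWith @Surjective aE := repWith_of_isPullback sqaE has
  let l : VV ⟶ EE := Over.homMk (IsOpenImmersion.lift E.ι V.ι (by
    rintro _ ⟨t, rfl⟩
    exact ⟨⟨_, hVE t⟩, rfl⟩)) (by
    change IsOpenImmersion.lift _ _ _ ≫ E.ι ≫ U.hom = V.ι ≫ U.hom
    rw [IsOpenImmersion.lift_fac_assoc])
  have hl : l ≫ iE = i := Over.OverMorphism.ext (IsOpenImmersion.lift_fac _ _ _)
  let b : (yon S).obj VV ⟶ W := (yon S).map l ≫ aE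
  have hbf : b ≫ pullback.fst j ((yon S).map iO) = (yon S).map i ≫ a := by
    rw [Category.assoc, sqW.lift_fst, ← Functor.map_comp_assoc, hl]
  have hb : RepWith @Etale b := by
    haveI : IsOpenImmersion l.left := by
      haveI : IsOpenImmersion (l.left ≫ E.ι) := by
        rw [show l.left ≫ E.ι = V.ι from congrArg Over.Hom.left hl]; infer_instance
      exact IsOpenImmersion.of_comp l.left E.ι
    exact repWith_comp ((repWith_yon_map_iff (P := (@Etale : MorphismProperty Scheme.{u})) l).2 inferInstance) haE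
  have hbs : RepWith @Surjective b := by
    refine (repWith_surjective_iff hb.rep).2 fun z => ?_
    obtain ⟨t, rfl⟩ := surjective_ofPt haEs z
    obtain ⟨w, hw⟩ := (hmem (iE.left t)).1 t.2
    refine ⟨Points.schemeHomeo VV w, injective_map_of_mono (pullback.fst j ((yon S).map iO)) ?_⟩
    rw [← Points.map_comp, hbf, Points.map_ofPt, sqW.lift_fst, ofPt_yon_comp, hw, ← ofPt_yon_comp]
    exact (congrFun (ofPt_comp_ofScheme _) w).symm
  haveI : Sheaf.IsLocallySurjective b := isLocallySurjective_of_repWith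
    (repWith_mono (fun _ _ g (_ : Etale g) => (inferInstance : Flat g)) hb)
    (repWith_mono (fun _ _ g (_ : Etale g) => (inferInstance : LocallyOfFinitePresentation g)) hb) hbs
  obtain ⟨RV, r₁, r₂, sqV⟩ := exists_isPullback_yon b b hb.rep
  haveI : Etale r₂.left := etale_left (repWith_of_isPullback sqV hb)
  haveI : Etale r₁.left := etale_left (repWith_of_isPullback sqV.flip hb)
  have sqVX := isPullback_postcomp_mono sqV (pullback.fst j ((yon S).map iO))
  rw [hbf] at sqVX
  obtain ⟨ψ', hψ', hψ'1, hψ'2⟩ := isClosedImmersion_pairs hsep sqVX hiu hiu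
  haveI := hψ'
  haveI : IsFinite r₁.left := by
    haveI : IsFinite (pullback.fst (i ≫ u) (i ≫ u)).left :=
      MorphismProperty.of_isPullback (P := @IsFinite) (left_isPullback (i ≫ u) (i ≫ u)).flip ‹IsFinite (i ≫ u).left›
    rw [← hψ'1, Over.comp_left]; infer_instance
  haveI : IsFinite r₂.left := by
    haveI : IsFinite (pullback.snd (i ≫ u) (i ≫ u)).left :=
      MorphismProperty.of_isPullback (P := @IsFinite) (left_isPullback (i ≫ u) (i ≫ u)) ‹IsFinite (i ≫ u).left›
    rw [← hψ'2, Over.comp_left]; infer_instance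
  obtain ⟨M, m, c, hM, hmf, hms, hmc⟩ := exists_affine_quotient sqV
    (⟨inferInstance, inferInstance, inferInstance⟩ : Mor2.IsFinLocFree r₂.left)
    (⟨inferInstance, inferInstance, inferInstance⟩ : Mor2.IsFinLocFree r₁.left)
  haveI := hM
  haveI := hmf
  haveI := hms
  obtain ⟨φ, hφ⟩ := (yon S).map_surjective (c.hom ≫ pullback.snd j ((yon S).map iO))
  obtain ⟨θ, hθ⟩ := (yon S).map_surjective (aE ≫ c.inv)
  have hlθ : l ≫ θ = m := (yon S).map_injective (by
    rw [Functor.map_comp, hθ, ← Category.assoc]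
    exact (Iso.comp_inv_eq c).2 hmc.symm)
  have hmφ : m ≫ φ = l ≫ kE := (yon S).map_injective (by
    rw [Functor.map_comp, hφ, ← Category.assoc, hmc, Category.assoc, sqW.lift_snd, Functor.map_comp])
  have hmi : Function.Injective m.left.appTop := appTop_injective_of_flat_surjective m.left
  -- invariant functions vanishing on the finite part
  have hkill : ∀ d : Γ(U.left, ⊤), InvFun a d → i.left.appTop d = 0 → e * d = 0 :=
    fun d hd hd0 => mul_eq_zero_of_invFun (by rw [← sq'.w] : (yon S).map pV ≫ (yon S).map i ≫ a = (yon S).map qU ≫ a) he heS hd hd0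
  have he'O : iO.left.appTop e' = 1 := by
    refine idempotent_eq_of_basicOpen (he'i.map _) .one ?_
    change O.toScheme.basicOpen (O.ι.appTop e') = O.toScheme.basicOpen 1
    rw [← Scheme.preimage_basicOpen_top, Scheme.Opens.ι_preimage_self, Scheme.basicOpen_of_isUnit _ isUnit_one]
  have hiEe : iE.left.appTop e = 1 := by
    refine idempotent_eq_of_basicOpen (he.map _) .one ?_
    change E.toScheme.basicOpen (E.ι.appTop e) = E.toScheme.basicOpen 1
    rw [← Scheme.preimage_basicOpen_top, Scheme.Opens.ι_preimage_self, Scheme.basicOpen_of_isUnit _ isUnit_one]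
  have hkl : i ≫ k = m ≫ φ ≫ iO := by
    rw [← Category.assoc, hmφ, Category.assoc, hkEi, ← Category.assoc, hl]
  haveI : IsIso φ.left := by
    refine isIso_of_appTop_bijective φ.left ⟨?_, ?_⟩
    · refine (injective_iff_map_eq_zero _).2 fun g hg => ?_
      obtain ⟨r, hr⟩ := exists_lift_idempotent he'i g
      have hr' : iO.left.appTop r = g := hr
      have h1 : InvFun a (k.left.appTop r) := fun W x y hxy => by
        have : x ≫ k = y ≫ k := (yon S).map_injective (by
          rw [Functor.map_comp, Functor.map_comp, ← hj, reassoc_of% hxy])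
        rw [← comp_appTop, ← comp_appTop, this]
      have h2 : i.left.appTop (k.left.appTop r) = 0 := by
        rw [← comp_appTop, hkl, comp_appTop, comp_appTop, hr', hg, map_zero]
      have h3 : e' * r = 0 := hinj (by rw [map_mul, he', map_zero]; exact hkill _ h1 h2)
      have := congrArg iO.left.appTop h3
      rwa [map_mul, he'O, one_mul, map_zero, hr'] at this
    · intro f₀
      obtain ⟨r₀, hr₀⟩ := exists_lift_idempotent he (θ.left.appTop f₀)
      have hr₀' : iE.left.appTop r₀ = θ.left.appTop f₀ := hr₀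
      have hd1 : iE.left.appTop (e * r₀) = θ.left.appTop f₀ := by rw [map_mul, hiEe, one_mul, hr₀']
      have hdinv : InvFun a (e * r₀) := invFun_mul he heinv (iE := iE)
        (by simp [iE, EE, E, Scheme.Opens.range_ι]) (fun W x y hxy => (yon S).map_injective (by
          rw [Functor.map_comp, Functor.map_comp, hθ, ← cancel_mono c.hom,
            ← cancel_mono (pullback.fst j ((yon S).map iO))]
          simp only [Category.assoc, Iso.inv_hom_id_assoc]
          rw [sqW.lift_fst, ← Functor.map_comp_assoc, ← Functor.map_comp_assoc, hxy])) hr₀'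
      have hint : u.left.appTop.hom.IsIntegralElem (e * r₀) :=
        isIntegralElem_of_kill hu hkill hdinv (by rw [← mul_assoc, he.eq])
      obtain ⟨r, hr⟩ := hZ _ hdinv hint
      refine ⟨iO.left.appTop r, hmi ?_⟩
      rw [← comp_appTop, ← comp_appTop, Category.assoc, ← hkl, comp_appTop, hr, ← hl, comp_appTop, hd1,
        ← comp_appTop, hlθ]
  haveI : IsIso ((Over.forget S).map φ) := inferInstanceAs (IsIso φ.left)
  haveI : IsIso φ := isIso_of_reflects_iso _ (Over.forget S)
  rw [show pullback.snd j ((yon S).map iO) = c.inv ≫ (yon S).map φ by rw [hφ, Iso.inv_hom_id_assoc]]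
  infer_instance

/-- Two ring maps out of a tensor product agree once they agree on pure tensors. -/
lemma ringHom_eq_of_tmul {A M N Q : Type u} [CommRing A] [CommRing M] [CommRing N] [CommRing Q] [Algebra A M]
    [Algebra A N] {f g : M ⊗[A] N →+* Q} (h : ∀ m n, f (m ⊗ₜ n) = g (m ⊗ₜ n)) (x : M ⊗[A] N) : f x = g x := by
  induction x using TensorProduct.induction_on with
  | zero => simp
  | tmul m n => exact h m n
  | add x y hx hy => simp [hx, hy]

/-- The functions of a candidate affine scheme are the invariant functions integral over the base. -/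
structure IsIntInv {X : Sp S} {T U Z : Over S} (a : (yon S).obj U ⟶ X) (u : U ⟶ T) (k : U ⟶ Z) : Prop where
  injective : Function.Injective k.left.appTop
  exists_eq : ∀ c, InvFun a c → u.left.appTop.hom.IsIntegralElem c → ∃ r, k.left.appTop r = c

/-- An affine scheme over the base from a subalgebra of functions. -/
lemma exists_affine_factor {T U : Over S} [IsAffine T.left] (u : U ⟶ T) [Algebra Γ(T.left, ⊤) Γ(U.left, ⊤)]
    (hu : algebraMap Γ(T.left, ⊤) Γ(U.left, ⊤) = u.left.appTop.hom) (A' : Subalgebra Γ(T.left, ⊤) Γ(U.left, ⊤)) :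
    ∃ (Z : Over S) (k : U ⟶ Z) (π : Z ⟶ T), IsAffine Z.left ∧ k ≫ π = u ∧
      Function.Injective k.left.appTop ∧ ∀ c : Γ(U.left, ⊤), (∃ r, k.left.appTop r = c) ↔ c ∈ A' := by
  let π₀ : Spec (.of A') ⟶ T.left :=
    Spec.map (CommRingCat.ofHom (algebraMap Γ(T.left, ⊤) A')) ≫ T.left.isoSpec.inv
  let Z : Over S := Over.mk (π₀ ≫ T.hom)
  let π : Z ⟶ T := Over.homMk π₀ rfl
  let k₀ : U.left ⟶ Spec (.of A') := U.left.toSpecΓ ≫ Spec.map (CommRingCat.ofHom A'.val.toRingHom)
  have h1 : CommRingCat.ofHom (algebraMap Γ(T.left, ⊤) A') ≫ CommRingCat.ofHom A'.val.toRingHom = u.left.appTop :=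
    CommRingCat.hom_ext (RingHom.ext fun r => (A'.val.commutes r).trans (by rw [hu]))
  have hkπ₀ : k₀ ≫ π₀ = u.left := by
    simp only [k₀, π₀, Category.assoc, ← Spec.map_comp_assoc, h1]
    rw [← Scheme.toSpecΓ_naturality_assoc, ← Scheme.isoSpec_hom, Iso.hom_inv_id, Category.comp_id]
  let k : U ⟶ Z := Over.homMk k₀ (by
    change k₀ ≫ π₀ ≫ T.hom = U.hom
    rw [reassoc_of% hkπ₀, Over.w u])
  have h2 : (Scheme.ΓSpecIso (.of A')).inv ≫ k₀.appTop = CommRingCat.ofHom A'.val.toRingHom := by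
    simp [k₀]
  have hk : ∀ r, k.left.appTop ((Scheme.ΓSpecIso (.of A')).inv r) = A'.val r := fun r =>
    congrArg (fun g => g.hom r) h2
  have hksurj : ∀ r : Γ(Z.left, ⊤), ∃ r', (Scheme.ΓSpecIso (.of A')).inv r' = r := fun r =>
    ⟨(Scheme.ΓSpecIso (.of A')).hom r, Iso.hom_inv_id_apply _ _⟩
  refine ⟨Z, k, π, inferInstanceAs (IsAffine (Spec _)), Over.OverMorphism.ext hkπ₀, fun r₁ r₂ e => ?_,
    fun c => ⟨?_, fun hc => ⟨_, hk ⟨c, hc⟩⟩⟩⟩
  · obtain ⟨r₁, rfl⟩ := hksurj r₁
    obtain ⟨r₂, rfl⟩ := hksurj r₂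
    rw [hk, hk] at e
    rw [Subtype.val_injective e]
  · rintro ⟨r, rfl⟩
    obtain ⟨r, rfl⟩ := hksurj r
    rw [hk]
    exact r.2

/-- The affine scheme of integral invariant functions. -/
theorem exists_isIntInv {X : Sp S} {T : Over S} [IsAffine T.left] {f : X ⟶ (yon S).obj T} {U R : Over S}
    [IsAffine U.left] [IsAffine R.left] {a : (yon S).obj U ⟶ X} [Sheaf.IsLocallySurjective a] {p q : R ⟶ U}
    (sq : IsPullback ((yon S).map p) ((yon S).map q) a a) {u : U ⟶ T} (hu : (yon S).map u = a ≫ f) :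
    ∃ (Z : Over S) (k : U ⟶ Z) (π : Z ⟶ T) (j : X ⟶ (yon S).obj Z), IsAffine Z.left ∧ k ≫ π = u ∧
      a ≫ j = (yon S).map k ∧ j ≫ (yon S).map π = f ∧ IsIntInv a u k := by
  have hpq : p ≫ u = q ≫ u := (yon S).map_injective (by
    rw [Functor.map_comp, Functor.map_comp, hu, reassoc_of% sq.w])
  letI algU : Algebra Γ(T.left, ⊤) Γ(U.left, ⊤) := u.left.appTop.hom.toAlgebra
  letI algR : Algebra Γ(T.left, ⊤) Γ(R.left, ⊤) := (p ≫ u).left.appTop.hom.toAlgebra
  let s : Γ(U.left, ⊤) →ₐ[Γ(T.left, ⊤)] Γ(R.left, ⊤) :=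
    ⟨p.left.appTop.hom, fun r => (comp_appTop p u r).symm⟩
  let t : Γ(U.left, ⊤) →ₐ[Γ(T.left, ⊤)] Γ(R.left, ⊤) :=
    ⟨q.left.appTop.hom, fun r => by
        change q.left.appTop (u.left.appTop r) = (p ≫ u).left.appTop r
        rw [hpq, comp_appTop]⟩
  obtain ⟨Z, k, π, hZ, hkπ, hinj, hran⟩ := exists_affine_factor u rfl
    ((integralClosure Γ(T.left, ⊤) (AlgHom.equalizer s t)).map (AlgHom.equalizer s t).val)
  haveI := hZ
  have hkk : p ≫ k = q ≫ k := Over.OverMorphism.ext (ext_of_isAffine (CommRingCat.hom_ext (RingHom.ext fun r => by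
    change (p ≫ k).left.appTop r = (q ≫ k).left.appTop r
    rw [comp_appTop, comp_appTop]
    obtain ⟨c, -, hc⟩ := Subalgebra.mem_map.1 ((hran _).1 ⟨r, rfl⟩)
    rw [← hc]
    exact c.2)))
  obtain ⟨j, hj⟩ := exists_desc a ((yon S).map k) fun W b b' hbb => by
    obtain ⟨b, rfl⟩ := (yon S).map_surjective b
    obtain ⟨b', rfl⟩ := (yon S).map_surjective b'
    obtain ⟨l, hl⟩ := (yon S).map_surjective (sq.lift _ _ hbb)
    have h1 : l ≫ p = b := (yon S).map_injective (by rw [Functor.map_comp, hl, sq.lift_fst])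
    have h2 : l ≫ q = b' := (yon S).map_injective (by rw [Functor.map_comp, hl, sq.lift_snd])
    rw [← Functor.map_comp, ← Functor.map_comp, ← h1, ← h2, Category.assoc, Category.assoc, hkk]
  refine ⟨Z, k, π, j, hZ, hkπ, hj, (cancel_epi a).1 (by rw [← Category.assoc, hj, ← Functor.map_comp, hkπ, hu]),
    hinj, fun c hc hci => (hran c).2 ?_⟩
  exact Subalgebra.mem_map.2 ⟨⟨c, hc R p q sq.w⟩,
    (isIntegral_algHom_iff (AlgHom.equalizer s t).val Subtype.val_injective).1 hci, rfl⟩

/-- Integral invariant functions commute with smooth base change. -/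
theorem IsIntInv.baseChange {X : Sp S} {T : Over S} [IsAffine T.left] {f : X ⟶ (yon S).obj T} {U R Z : Over S}
    [IsAffine U.left] [IsAffine R.left] [IsAffine Z.left] {a : (yon S).obj U ⟶ X} {p q : R ⟶ U}
    (sq : IsPullback ((yon S).map p) ((yon S).map q) a a) {u : U ⟶ T} (hu : (yon S).map u = a ≫ f)
    {k : U ⟶ Z} {π : Z ⟶ T} (hkπ : k ≫ π = u) (H : IsIntInv a u k)
    {T' : Over S} {e : T' ⟶ T} [IsAffine T'.left] [Etale e.left]
    {U' Z' : Over S} {g : U' ⟶ U} {u' : U' ⟶ T'} {z : Z' ⟶ Z} {π' : Z' ⟶ T'} {k' : U' ⟶ Z'}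
    (sqU : IsPullback g u' u e) (sqZ : IsPullback z π' π e) (hk'z : k' ≫ z = g ≫ k) (hk'π : k' ≫ π' = u')
    {X' : Sp S} {a' : (yon S).obj U' ⟶ X'} {x : X' ⟶ X} {f' : X' ⟶ (yon S).obj T'}
    (sqX : IsPullback x f' f ((yon S).map e)) (hax : a' ≫ x = (yon S).map g ≫ a)
    (haf : a' ≫ f' = (yon S).map u') : IsIntInv a' u' k' := by
  obtain ⟨hinj, hex⟩ := H
  have hpq : p ≫ u = q ≫ u := (yon S).map_injective (by
    rw [Functor.map_comp, Functor.map_comp, hu, reassoc_of% sq.w])
  letI algU : Algebra Γ(T.left, ⊤) Γ(U.left, ⊤) := u.left.appTop.hom.toAlgebra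
  letI algR : Algebra Γ(T.left, ⊤) Γ(R.left, ⊤) := (p ≫ u).left.appTop.hom.toAlgebra
  let s : Γ(U.left, ⊤) →ₐ[Γ(T.left, ⊤)] Γ(R.left, ⊤) :=
    ⟨p.left.appTop.hom, fun r => (comp_appTop p u r).symm⟩
  let t : Γ(U.left, ⊤) →ₐ[Γ(T.left, ⊤)] Γ(R.left, ⊤) :=
    ⟨q.left.appTop.hom, fun r => by
        change q.left.appTop (u.left.appTop r) = (p ≫ u).left.appTop r
        rw [hpq, comp_appTop]⟩
  letI algB : Algebra Γ(T.left, ⊤) Γ(T'.left, ⊤) := e.left.appTop.hom.toAlgebra
  have het : e.left.appTop.hom.Etale := HasRingHomProperty.appTop (P := @Etale) e.left inferInstance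
  haveI : Algebra.Etale Γ(T.left, ⊤) Γ(T'.left, ⊤) := het
  haveI : Module.Flat Γ(T.left, ⊤) Γ(T'.left, ⊤) := e.left.flat_appTop
  have sU : IsPullback u'.left g.left e.left u.left := sqU.flip.map (Over.forget S)
  have sZ : IsPullback π'.left z.left e.left π.left := sqZ.flip.map (Over.forget S)
  let R' := pullback e (p ≫ u)
  have sR : IsPullback (pullback.fst e (p ≫ u)).left (pullback.snd e (p ≫ u)).left e.left (p ≫ u).left :=
    left_isPullback e (p ≫ u)
  obtain ⟨eU, heU⟩ := exists_tensor_equiv (isPushout_appTop_of_isPullback sU) rfl rfl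
  obtain ⟨eR, heR⟩ := exists_tensor_equiv (isPushout_appTop_of_isPullback sR) rfl rfl
  letI algZ : Algebra Γ(T.left, ⊤) Γ(Z.left, ⊤) := π.left.appTop.hom.toAlgebra
  let κ : Γ(Z.left, ⊤) →ₐ[Γ(T.left, ⊤)] Γ(U.left, ⊤) :=
    ⟨k.left.appTop.hom, fun r => by
        change k.left.appTop (π.left.appTop r) = u.left.appTop r
        rw [← comp_appTop, hkπ]⟩
  obtain ⟨eZ, heZ⟩ := exists_tensor_equiv (isPushout_appTop_of_isPullback sZ) rfl rfl
  let id' := AlgHom.id Γ(T'.left, ⊤) Γ(T'.left, ⊤)
  have hcomm : ∀ w, k'.left.appTop (eZ w) = eU (Algebra.TensorProduct.map id' κ w) :=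
    ringHom_eq_of_tmul (f := k'.left.appTop.hom.comp eZ.toRingHom)
      (g := eU.toRingHom.comp (Algebra.TensorProduct.map id' κ).toRingHom) fun b r => by
      change k'.left.appTop (eZ (b ⊗ₜ r)) = eU (b ⊗ₜ k.left.appTop r)
      rw [heZ, heU, map_mul]
      refine congrArg₂ (· * ·) ?_ ?_
      · exact (comp_appTop k' π' b).symm.trans (by rw [hk'π])
      · exact (comp_appTop k' z r).symm.trans (by rw [hk'z, comp_appTop])
  have hκinj : Function.Injective (Algebra.TensorProduct.map id' κ) :=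
    Module.Flat.lTensor_preserves_injective_linearMap (M := Γ(T'.left, ⊤)) κ.toLinearMap hinj
  refine ⟨fun r₁ r₂ h12 => ?_, fun c hc hci => ?_⟩
  · obtain ⟨w₁, rfl⟩ := eZ.surjective r₁
    obtain ⟨w₂, rfl⟩ := eZ.surjective r₂
    rw [hcomm, hcomm] at h12
    rw [hκinj (eU.injective h12)]
  obtain ⟨z₀, rfl⟩ := eU.surjective c
  let pr := pullback.fst e (p ≫ u)
  let rr := pullback.snd e (p ≫ u)
  have hp' : ∀ v : R ⟶ U, v ≫ u = p ≫ u → ∃ v' : R' ⟶ U', v' ≫ g = rr ≫ v ∧ v' ≫ u' = pr := fun v hv =>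
    ⟨sqU.lift (rr ≫ v) pr (by rw [Category.assoc, hv, pullback.condition]), sqU.lift_fst _ _ _, sqU.lift_snd _ _ _⟩
  obtain ⟨p', hp'g, hp'u⟩ := hp' p rfl
  obtain ⟨q', hq'g, hq'u⟩ := hp' q hpq.symm
  have hpq' : (yon S).map p' ≫ a' = (yon S).map q' ≫ a' := by
    refine sqX.hom_ext ?_ ?_
    · rw [Category.assoc, Category.assoc, hax, ← Functor.map_comp_assoc, ← Functor.map_comp_assoc, hp'g, hq'g,
        Functor.map_comp_assoc, Functor.map_comp_assoc, sq.w]
    · rw [Category.assoc, Category.assoc, haf, ← Functor.map_comp, ← Functor.map_comp, hp'u, hq'u]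
  have hst : ∀ (v : R ⟶ U) (v' : R' ⟶ U') (σ : Γ(U.left, ⊤) →ₐ[Γ(T.left, ⊤)] Γ(R.left, ⊤)),
      (∀ x, σ x = v.left.appTop x) → v' ≫ g = rr ≫ v → v' ≫ u' = pr →
        ∀ w, eR (Algebra.TensorProduct.map id' σ w) = v'.left.appTop (eU w) := fun v v' σ hσ h1 h2 =>
    ringHom_eq_of_tmul (f := eR.toRingHom.comp (Algebra.TensorProduct.map id' σ).toRingHom)
      (g := v'.left.appTop.hom.comp eU.toRingHom) fun b r => by
      change eR (b ⊗ₜ σ r) = v'.left.appTop (eU (b ⊗ₜ r))
      rw [heR, heU, map_mul]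
      refine congrArg₂ (· * ·) ?_ ?_
      · exact Eq.trans (by rw [h2]) (comp_appTop v' u' b)
      · exact Eq.trans (by rw [h1, comp_appTop, hσ]) (comp_appTop v' g r)
  have hz : Algebra.TensorProduct.map id' s z₀ = Algebra.TensorProduct.map id' t z₀ := eR.injective (by
    rw [hst p p' s (fun _ => rfl) hp'g hp'u, hst q q' t (fun _ => rfl) hq'g hq'u]
    exact hc R' p' q' hpq')
  have hzint : IsIntegral Γ(T'.left, ⊤) z₀ := by
    obtain ⟨P, hP, hP0⟩ := hci
    refine ⟨P, hP, eU.injective ?_⟩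
    rw [map_zero, ← RingEquiv.coe_toRingHom, Polynomial.hom_eval₂]
    refine Eq.trans ?_ hP0
    congr 1
    refine RingHom.ext fun b => ?_
    change eU (b ⊗ₜ[Γ(T.left, ⊤)] (1 : Γ(U.left, ⊤))) = _
    rw [heU, map_one, mul_one]
  obtain ⟨z', hz'⟩ := exists_integralClosure_preimage s t z₀ hz hzint
  let ι := (AlgHom.equalizer s t).val.comp (integralClosure Γ(T.left, ⊤) (AlgHom.equalizer s t)).val
  have hι : ∀ c, ι c ∈ κ.range := fun c => by
    refine hex _ (fun W b b' hbb => ?_) (c.2.map (AlgHom.equalizer s t).val)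
    obtain ⟨l, hl⟩ := (yon S).map_surjective (sq.lift _ _ hbb)
    have h1 : l ≫ p = b := (yon S).map_injective (by rw [Functor.map_comp, hl, sq.lift_fst])
    have h2 : l ≫ q = b' := (yon S).map_injective (by rw [Functor.map_comp, hl, sq.lift_snd])
    rw [← h1, ← h2, comp_appTop, comp_appTop]
    exact congrArg l.left.appTop (c : AlgHom.equalizer s t).2
  let τ := (AlgEquiv.ofInjective κ hinj).symm.toAlgHom.comp (ι.codRestrict κ.range hι)
  have hτ : κ.comp τ = ι := AlgHom.ext fun c =>
    congrArg Subtype.val ((AlgEquiv.ofInjective κ hinj).apply_symm_apply (ι.codRestrict κ.range hι c))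
  refine ⟨eZ (Algebra.TensorProduct.map id' τ z'), ?_⟩
  rw [hcomm, ← AlgHom.comp_apply, ← Algebra.TensorProduct.map_comp]
  refine congrArg eU (Eq.trans ?_ hz')
  rw [hτ]
  rfl

/-- An etale affine base change with a finite open of the atlas through a point. -/
theorem exists_finite_open_baseChange {T U : Over S} [IsAffine T.left] [IsAffine U.left] (u : U ⟶ T)
    [LocallyOfFiniteType u.left] [LocallyQuasiFinite u.left] (v : U.left) :
    ∃ (T' : Over S) (e : T' ⟶ T), IsAffine T'.left ∧ Etale e.left ∧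
      ∃ (V : (pullback u e).left.Opens) (w : (pullback u e).left),
        w ∈ V ∧ IsFinite (V.ι ≫ (pullback.snd u e).left) ∧ (pullback.fst u e).left w = v := by
  obtain ⟨T₀, g, hg, -, V, -, v₀, -, hV, hv₀⟩ :=
    exists_etale_isCompl_of_quasiFiniteAt u.left (x := v) rfl (u.left.quasiFiniteAt v)
  obtain ⟨O₀, hO₀, hvO⟩ : ∃ O : T₀.Opens, IsAffineOpen O ∧ pullback.snd u.left g v₀.1 ∈ O := by
    obtain ⟨_, ⟨O, hO, rfl⟩, hv, -⟩ := T₀.isBasis_affineOpens.exists_subset_of_mem_open
      (Set.mem_univ (pullback.snd u.left g v₀.1)) isOpen_univ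
    exact ⟨O, hO, hv⟩
  let T' : Over S := Over.mk ((O₀.ι ≫ g) ≫ T.hom)
  let e : T' ⟶ T := Over.homMk (O₀.ι ≫ g) rfl
  haveI : IsAffine T'.left := hO₀
  haveI : Etale e.left := inferInstanceAs (Etale (O₀.ι ≫ g))
  have sq := left_isPullback u e
  let ρ : (pullback u e).left ⟶ pullback u.left g :=
    pullback.lift (pullback.fst u e).left ((pullback.snd u e).left ≫ O₀.ι)
      (by rw [Category.assoc]; exact sq.w)
  have sqρ : IsPullback (pullback.snd u e).left ρ O₀.ι (pullback.snd u.left g) :=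
    (IsPullback.of_right (h₁₁ := ρ) (h₁₂ := pullback.fst u.left g) (v₁₁ := (pullback.snd u e).left)
      (h₂₁ := O₀.ι) (h₂₂ := g) (v₁₃ := u.left) (by rw [pullback.lift_fst]; exact sq)
      (pullback.lift_snd _ _ _) (IsPullback.of_hasPullback _ _)).flip
  obtain ⟨w, hw₁, hw₂⟩ := Scheme.exists_preimage_of_isPullback sqρ
    (⟨_, hvO⟩ : O₀.toScheme) v₀.1 rfl
  refine ⟨T', e, ‹_›, ‹_›, ρ ⁻¹ᵁ V, w, (show ρ w ∈ V by rw [hw₂]; exact v₀.2), ?_, ?_⟩
  · exact MorphismProperty.of_isPullback (P := @IsFinite)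
      ((isPullback_morphismRestrict ρ V).paste_vert sqρ.flip) hV
  · rw [← hv₀, ← hw₂, ← Scheme.Hom.comp_apply, pullback.lift_fst]

/-- A space separated and locally quasi-finite over an affine scheme, with an affine atlas, is a scheme. -/
theorem isRepSh_of_sep_lqf_affine {X : Sp S} (hX : IsAlgSpace X) {T U : Over S} [IsAffine T.left]
    [IsAffine U.left] {f : X ⟶ (yon S).obj T} (hsep : IsSeparatedMor f) {a : (yon S).obj U ⟶ X}
    (ha : RepWith @Etale a) (has : RepWith @Surjective a) {u : U ⟶ T} (hu : (yon S).map u = a ≫ f)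
    [LocallyOfFiniteType u.left] [LocallyQuasiFinite u.left] : IsRepSh X := by
  haveI : Sheaf.IsLocallySurjective a := isLocallySurjective_of_repWith
    (repWith_mono (fun _ _ g (_ : Etale g) => (inferInstance : Flat g)) ha)
    (repWith_mono (fun _ _ g (_ : Etale g) => (inferInstance : LocallyOfFinitePresentation g)) ha) has
  obtain ⟨R, p, q, sq⟩ := exists_isPullback_yon a a ha.rep
  haveI : IsAffine R.left := by
    obtain ⟨ψ, hψ, -, -⟩ := isClosedImmersion_pairs hsep sq hu.symm hu.symm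
    haveI : IsAffine (pullback u u).left := IsAffine.of_isIso (left_isPullback u u).isoPullback.hom
    exact isAffine_of_isAffineHom ψ.left
  obtain ⟨Z, k, π, j, hZ, hkπ, hj, hjπ, H⟩ := exists_isIntInv sq hu
  haveI := hZ
  suffices key : ∀ v : U.left, ∃ O : Z.left.Opens, k.left v ∈ O ∧
      IsIso (pullback.snd j ((yon S).map (Over.homMk O.ι rfl : Over.mk (O.ι ≫ Z.hom) ⟶ Z))) by
    choose O hvO hO using key
    let iO : ∀ v, Over.mk ((O v).ι ≫ Z.hom) ⟶ Z := fun v => Over.homMk (O v).ι rfl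
    refine isRepSh_of_openCover (W := fun v => Over.mk ((O v).ι ≫ Z.hom))
      (fun v => haveI := hO v; inv (pullback.snd j ((yon S).map (iO v))) ≫ pullback.fst j ((yon S).map (iO v)))
      (fun v => MorphismProperty.RespectsIso.precomp _ _ _ (repWith_of_isPullback
        (IsPullback.of_hasPullback j ((yon S).map (iO v))).flip
        ((repWith_yon_map_iff (P := (@IsOpenImmersion : MorphismProperty Scheme.{u})) (iO v)).2
          (inferInstanceAs (IsOpenImmersion (O v).ι))))) fun Y b y => ?_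
    obtain ⟨β, hβ⟩ := (yon S).map_surjective (b ≫ j)
    obtain ⟨RY, rU, rY, sqY⟩ := exists_isPullback_yon a b ha.rep
    haveI : Surjective rY.left := surjective_left (repWith_of_isPullback sqY has)
    obtain ⟨r, hr⟩ := rY.left.surjective y
    refine ⟨rU.left r, ?_⟩
    haveI := hO (rU.left r)
    have hβy : β.left y ∈ O (rU.left r) := by
      have h : rY ≫ β = rU ≫ k := (yon S).map_injective (by
        rw [Functor.map_comp, Functor.map_comp, hβ, ← hj, ← reassoc_of% sqY.w])
      rw [← hr, ← Scheme.Hom.comp_apply, ← Over.comp_left, h]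
      exact hvO _
    let W := β.left ⁻¹ᵁ O (rU.left r)
    let o : Over.mk (W.ι ≫ Y.hom) ⟶ Y := Over.homMk W.ι rfl
    let l : Over.mk (W.ι ≫ Y.hom) ⟶ Over.mk ((O (rU.left r)).ι ≫ Z.hom) :=
      Over.homMk (IsOpenImmersion.lift (O (rU.left r)).ι (W.ι ≫ β.left) (by
        rintro _ ⟨x, rfl⟩; exact ⟨⟨_, x.2⟩, rfl⟩)) (by
        change IsOpenImmersion.lift _ _ _ ≫ (O _).ι ≫ Z.hom = W.ι ≫ Y.hom
        rw [IsOpenImmersion.lift_fac_assoc, Category.assoc, Over.w β])
    have hl : l ≫ iO (rU.left r) = o ≫ β := Over.OverMorphism.ext (IsOpenImmersion.lift_fac _ _ _)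
    let z := (IsPullback.of_hasPullback j ((yon S).map (iO (rU.left r)))).lift ((yon S).map o ≫ b) ((yon S).map l)
      (by rw [Category.assoc, ← hβ, ← Functor.map_comp, ← Functor.map_comp, hl])
    refine ⟨((MorphismProperty.RespectsIso.precomp _ _ _ (repWith_of_isPullback
        (IsPullback.of_hasPullback j ((yon S).map (iO (rU.left r)))).flip
        ((repWith_yon_map_iff (P := (@IsOpenImmersion : MorphismProperty Scheme.{u})) (iO (rU.left r))).2
          (inferInstanceAs (IsOpenImmersion (O (rU.left r)).ι)))) : RepWith @IsOpenImmersion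
        (inv (pullback.snd j ((yon S).map (iO (rU.left r)))) ≫ pullback.fst j ((yon S).map (iO (rU.left r))))).rep.lift
        (g := b) ((yon S).map l) o ?_).left ⟨y, hβy⟩, ?_⟩
    · have hz : (yon S).map l = z ≫ pullback.snd j ((yon S).map (iO (rU.left r))) := (IsPullback.lift_snd _ _ _ _).symm
      rw [hz, Category.assoc, IsIso.hom_inv_id_assoc]
      exact IsPullback.lift_fst _ _ _ _
    · rw [← Scheme.Hom.comp_apply, ← Over.comp_left, Functor.relativelyRepresentable.lift_snd]
      rfl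
  intro v
  obtain ⟨T', e, hT', he, V, w, hwV, hV, hw⟩ := exists_finite_open_baseChange u v
  haveI : IsAffine (pullback u e).left := IsAffine.of_isIso (left_isPullback u e).isoPullback.hom
  haveI : IsAffine (pullback π e).left := IsAffine.of_isIso (left_isPullback π e).isoPullback.hom
  let k' : pullback u e ⟶ pullback π e :=
    pullback.lift (pullback.fst u e ≫ k) (pullback.snd u e) (by rw [Category.assoc, hkπ, pullback.condition])
  have sqX := IsPullback.of_hasPullback f ((yon S).map e)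
  let a' : (yon S).obj (pullback u e) ⟶ pullback f ((yon S).map e) :=
    sqX.lift ((yon S).map (pullback.fst u e) ≫ a) ((yon S).map (pullback.snd u e)) (by
      rw [Category.assoc, ← hu, ← Functor.map_comp, ← Functor.map_comp, pullback.condition])
  have sqa : IsPullback ((yon S).map (pullback.fst u e)) a' a (pullback.fst f ((yon S).map e)) :=
    IsPullback.of_bot (by rw [sqX.lift_snd, ← hu]; exact (IsPullback.of_hasPullback u e).map (yon S))
      (sqX.lift_fst _ _ _).symm sqX
  have H' := H.baseChange sq hu hkπ (T' := T') (e := e) (IsPullback.of_hasPullback u e)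
    (IsPullback.of_hasPullback π e) (pullback.lift_fst _ _ _ : k' ≫ _ = _) (pullback.lift_snd _ _ _ : k' ≫ _ = _)
    sqX (sqX.lift_fst _ _ _ : a' ≫ _ = _) (sqX.lift_snd _ _ _ : a' ≫ _ = _)
  have sqZ := (IsPullback.of_hasPullback π e).map (yon S)
  let j' : pullback f ((yon S).map e) ⟶ (yon S).obj (pullback π e) :=
    sqZ.lift (pullback.fst f ((yon S).map e) ≫ j) (pullback.snd f ((yon S).map e))
      (by rw [Category.assoc, hjπ, pullback.condition])
  have hj' : a' ≫ j' = (yon S).map k' := sqZ.hom_ext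
    (by rw [Category.assoc, sqZ.lift_fst, ← Category.assoc, sqX.lift_fst, Category.assoc, hj,
      ← Functor.map_comp, ← Functor.map_comp, pullback.lift_fst])
    (by rw [Category.assoc, sqZ.lift_snd, sqX.lift_snd, ← Functor.map_comp, pullback.lift_snd])
  have sqj : IsPullback (pullback.fst f ((yon S).map e)) j' j ((yon S).map (pullback.fst π e)) :=
    IsPullback.of_bot (by rw [sqZ.lift_snd, hjπ]; exact sqX) (sqZ.lift_fst _ _ _).symm sqZ
  obtain ⟨O', hwO, hiso⟩ := exists_isIso_piece (isAlgSpace_pullback hX (IsAlgSpace.yon_obj _) (IsAlgSpace.yon_obj _) _ _)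
    (repWith_diagonal_of_isPullback sqX hsep : IsSeparatedMor (pullback.snd f ((yon S).map e)))
    (repWith_of_isPullback sqa ha) (repWith_of_isPullback sqa has) (sqX.lift_snd _ _ _).symm V hV hwV
    hj' H'.injective H'.exists_eq
  haveI : Etale (pullback.fst π e).left :=
    MorphismProperty.of_isPullback (P := @Etale) (left_isPullback π e).flip he
  let O : Z.left.Opens := ⟨(pullback.fst π e).left '' O', (pullback.fst π e).left.isOpenMap _ O'.isOpen⟩
  refine ⟨O, ⟨k'.left w, hwO, ?_⟩, ?_⟩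
  · rw [← Scheme.Hom.comp_apply, ← Over.comp_left, pullback.lift_fst, Over.comp_left, Scheme.Hom.comp_apply, hw]
  let iO : Over.mk (O.ι ≫ Z.hom) ⟶ Z := Over.homMk O.ι rfl
  let iO' : Over.mk (O'.ι ≫ (pullback π e).hom) ⟶ pullback π e := Over.homMk O'.ι rfl
  let qO : Over.mk (O'.ι ≫ (pullback π e).hom) ⟶ Over.mk (O.ι ≫ Z.hom) :=
    Over.homMk (IsOpenImmersion.lift O.ι (O'.ι ≫ (pullback.fst π e).left) (by
      rintro _ ⟨x, rfl⟩; exact ⟨⟨_, ⟨x.1, x.2, rfl⟩⟩, rfl⟩)) (by
      change IsOpenImmersion.lift _ _ _ ≫ O.ι ≫ Z.hom = O'.ι ≫ (pullback π e).hom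
      rw [IsOpenImmersion.lift_fac_assoc, Category.assoc, Over.w (pullback.fst π e)])
  have hqO : qO ≫ iO = iO' ≫ pullback.fst π e := Over.OverMorphism.ext (IsOpenImmersion.lift_fac _ _ _)
  haveI : Surjective qO.left := ⟨fun x => by
    obtain ⟨z, hz, hzx⟩ := x.2
    refine ⟨⟨z, hz⟩, Subtype.ext ?_⟩
    exact ((Scheme.Hom.comp_apply qO.left O.ι ⟨z, hz⟩).symm.trans
      (congrArg (fun g : Over.mk (O'.ι ≫ (pullback π e).hom) ⟶ Z => g.left ⟨z, hz⟩) hqO)).trans hzx⟩
  haveI : Etale qO.left := by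
    haveI : Etale (qO.left ≫ O.ι) := by
      rw [show qO.left ≫ O.ι = O'.ι ≫ (pullback.fst π e).left from congrArg Over.Hom.left hqO]; infer_instance
    exact MorphismProperty.of_postcomp (W := @Etale) (W' := @Etale) qO.left O.ι inferInstance inferInstance
  haveI := isLocallySurjective_yon_map qO
  have sqO := IsPullback.of_hasPullback j ((yon S).map iO)
  have sqO' := IsPullback.of_hasPullback j' ((yon S).map iO')
  let m : pullback j' ((yon S).map iO') ⟶ pullback j ((yon S).map iO) :=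
    sqO.lift (pullback.fst _ _ ≫ pullback.fst f ((yon S).map e)) (pullback.snd _ _ ≫ (yon S).map qO) (by
      rw [Category.assoc, Category.assoc, sqj.w, reassoc_of% sqO'.w, ← Functor.map_comp, ← Functor.map_comp, hqO])
  have sqm : IsPullback m (pullback.snd j' ((yon S).map iO')) (pullback.snd j ((yon S).map iO)) ((yon S).map qO) := by
    refine IsPullback.of_right ?_ (sqO.lift_snd _ _ _) sqO
    rw [sqO.lift_fst, ← Functor.map_comp, hqO, Functor.map_comp]
    exact sqO'.paste_horiz sqj
  haveI := hiso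
  exact isIso_of_isPullback sqm

/-- A space separated and locally quasi-finite over an affine scheme is a scheme. -/
theorem isRepSh_of_sep_lqf_affine_base {X : Sp S} (hX : IsAlgSpace X) {T : Over S} [IsAffine T.left]
    {f : X ⟶ (yon S).obj T} (hsep : IsSeparatedMor f)
    (hqf : LocP (@LocallyQuasiFinite ⊓ @LocallyOfFiniteType) f) : IsRepSh X := by
  obtain ⟨κ, U, a, hU, ha, hopen, hcov⟩ := exists_affine_charts hX
  let W : κ → Set (Points X) := fun i => Set.range (Points.map (a i))
  have hW : ∀ i, IsOpen (W i) := fun i => (hopen i).isOpen_range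
  have key : ∀ i, IsRepSh (openSub X (W i)) := by
    intro i
    haveI := hU i
    obtain ⟨l, hl⟩ := (exists_lift_openSub (W := W i) (a i)).2 fun t =>
      ⟨Points.ofPt (𝟙 ((yon S).obj (U i))) t, by rw [Points.map_ofPt, Category.id_comp]⟩
    have hι := repWith_openSubι X (hW i)
    have hle : RepWith @Etale l := by
      haveI : Mono (openSubι X (W i)) := mono_openSubι X (W i)
      have sq : IsPullback (𝟙 _) l (a i) (openSubι X (W i)) :=
        isPullback_of_forall_existsUnique (by rw [Category.id_comp, hl]) fun R x y e =>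
          ⟨x, ⟨Category.comp_id x, (cancel_mono (openSubι X (W i))).1 (by rw [Category.assoc, hl, e])⟩,
            fun m hm => (Category.comp_id m).symm.trans hm.1⟩
      exact repWith_of_isPullback sq (ha i)
    have hls : RepWith @Surjective l := by
      refine (repWith_surjective_iff hle.rep).2 fun z => ?_
      have : Points.map (openSubι X (W i)) z ∈ W i := by
        exact (range_openSubι X (W := W i)).subset ⟨z, rfl⟩
      obtain ⟨w, hw⟩ := this
      exact ⟨w, injective_map_of_mono (openSubι X (W i)) (by rw [← Points.map_comp, hl, hw])⟩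
    obtain ⟨u, hu⟩ := (yon S).map_surjective (l ≫ openSubι X (W i) ≫ f)
    obtain ⟨h₁, h₂⟩ := hqf (a i) (𝟙 _) u (ha i) (repWith_id _ T) (by rw [← hl, Category.assoc, Category.comp_id, hu])
    haveI : LocallyQuasiFinite u.left := h₁
    haveI : LocallyOfFiniteType u.left := h₂
    refine isRepSh_of_sep_lqf_affine (isAlgSpace_openSub hX (hW i)) (f := openSubι X (W i) ≫ f) ?_ hle hls hu
    exact isSeparatedMor_comp (isSeparatedMor_of_repWith
      (repWith_mono (fun _ _ g (_ : IsOpenImmersion g) => (inferInstance : IsSeparated g)) hι)) hsep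
  choose M eM using key
  refine isRepSh_of_openCover (W := M) (fun i => (eM i).some.hom ≫ openSubι X (W i))
    (fun i => MorphismProperty.RespectsIso.precomp _ _ _ (repWith_openSubι X (hW i))) fun Y b y => ?_
  obtain ⟨i, hi⟩ := hcov (Points.ofPt b y)
  refine ⟨i, ?_⟩
  let O : Y.left.Opens := ⟨Points.ofPt b ⁻¹' W i, (hW i).preimage (Points.continuous_ofPt b)⟩
  let o : Over.mk (O.ι ≫ Y.hom) ⟶ Y := Over.homMk O.ι rfl
  obtain ⟨l, hl⟩ := (exists_lift_openSub (W := W i) ((yon S).map o ≫ b)).2 fun t => by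
    rw [ofPt_yon_comp]; exact t.2
  obtain ⟨l', hl'⟩ := (yon S).map_surjective (l ≫ (eM i).some.inv)
  refine ⟨((MorphismProperty.RespectsIso.precomp _ _ _ (repWith_openSubι X (hW i)) :
    RepWith @IsOpenImmersion ((eM i).some.hom ≫ openSubι X (W i))).rep.lift (g := b) ((yon S).map l') o
    (by rw [hl', Category.assoc, Iso.inv_hom_id_assoc, hl])).left ⟨y, hi⟩, ?_⟩
  rw [← Scheme.Hom.comp_apply, ← Over.comp_left, Functor.relativelyRepresentable.lift_snd]
  rfl

/-- A space separated and locally quasi-finite over a scheme is a scheme. -/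
theorem isRepSh_of_sep_lqf {X : Sp S} (hX : IsAlgSpace X) {T : Over S} {f : X ⟶ (yon S).obj T}
    (hsep : IsSeparatedMor f) (hqf : LocP (@LocallyQuasiFinite ⊓ @LocallyOfFiniteType) f) : IsRepSh X := by
  choose O hO htO using fun t : T.left => exists_isAffineOpen_mem_and_subset (U := ⊤) (x := t) trivial
  let V : ↥T.left → Over S := fun t => Over.mk ((O t).ι ≫ T.hom)
  let j : ∀ t, V t ⟶ T := fun t => Over.homMk (O t).ι rfl
  have key : ∀ t, IsRepSh (pullback f ((yon S).map (j t))) := fun t => by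
    haveI : IsAffine (V t).left := hO t
    have sq := IsPullback.of_hasPullback f ((yon S).map (j t))
    have hje : RepWith @Etale ((yon S).map (j t)) :=
      (repWith_yon_map_iff (P := (@Etale : MorphismProperty Scheme.{u})) (j t)).2 (inferInstanceAs (Etale (O t).ι))
    refine isRepSh_of_sep_lqf_affine_base (f := pullback.snd f ((yon S).map (j t)))
      (isAlgSpace_pullback hX (IsAlgSpace.yon_obj _) (IsAlgSpace.yon_obj _) _ _)
      (repWith_diagonal_of_isPullback sq hsep) fun U' V' a b h ha hb e => ?_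
    refine hqf (a ≫ pullback.fst _ _) (b ≫ (yon S).map (j t)) h
      (repWith_comp ha (repWith_of_isPullback sq.flip hje)) (repWith_comp hb hje) ?_
    rw [Category.assoc, pullback.condition, reassoc_of% e]
  choose M eM using key
  choose g hg using fun t => (yon S).map_surjective ((eM t).some.hom ≫ pullback.snd f ((yon S).map (j t)))
  exact isRepSh_of_zariski_base f j (fun t => inferInstanceAs (IsOpenImmersion (O t).ι))
    (fun t => ⟨t, ⟨⟨t, (htO t).1⟩, rfl⟩⟩) (i := g) (fun t => (eM t).some.hom ≫ pullback.fst f ((yon S).map (j t)))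
    fun t => (IsPullback.of_hasPullback f ((yon S).map (j t))).of_iso (eM t).some.symm (Iso.refl _) (Iso.refl _)
      (Iso.refl _) (by simp) (by rw [hg]; simp) (by simp) (by simp)

/-- A separated locally quasi-finite morphism is representable. -/
theorem representable_of_sep_lqf {F G : Sp S} (hF : IsAlgSpace F) (hG : IsAlgSpace G) {f : F ⟶ G}
    (hsep : IsSeparatedMor f) (hqf : LocP (@LocallyQuasiFinite ⊓ @LocallyOfFiniteType) f) : Representable f := by
  intro T ξ
  have sq := IsPullback.of_hasPullback f ξ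
  have hT := IsAlgSpace.yon_obj (S := S) T
  obtain ⟨W, ⟨e⟩⟩ := isRepSh_of_sep_lqf (isAlgSpace_pullback hF hT hG f ξ) (f := pullback.snd f ξ)
    (repWith_diagonal_of_isPullback sq hsep) (locP_of_isPullback hF hG hT sq hqf)
  obtain ⟨s, hs⟩ := (yon S).map_surjective (e.hom ≫ pullback.snd f ξ)
  exact ⟨W, s, e.hom ≫ pullback.fst f ξ, sq.of_iso e.symm (Iso.refl _) (Iso.refl _) (Iso.refl _)
    (by simp) (by simp [hs]) (by simp) (by simp)⟩

end AlgSpLib
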