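import Groth.Agent.AlgSpLib.DecentPoints
import Groth.Agent.AlgSpLib.LocP
import Groth.Prelude.Def_W4decUnivBdd

/-!
# The topology of decent spaces
-/

set_option autoImplicit false
set_option backward.isDefEq.respectTransparency false
set_option backward.isDefEq.respectTransparency.types false

universe u

open CategoryTheory CategoryTheory.Limits AlgebraicGeometry Opposite AlgSp Topology

namespace AlgSpLib

variable {S : Scheme.{u}}

instance (F : Sp S) (p : FieldPt F) : Subsingleton p.pt.left := inferInstanceAs (Subsingleton (PrimeSpectrum p.K))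

instance (F : Sp S) (p : FieldPt F) : Nonempty p.pt.left := inferInstanceAs (Nonempty (PrimeSpectrum p.K))

instance (F : Sp S) (p : FieldPt F) : IsLocallyArtinian p.pt.left :=
  inferInstanceAs (IsLocallyArtinian (Spec (CommRingCat.of p.K)))

instance (F : Sp S) (p : FieldPt F) : IsAffine p.pt.left := inferInstanceAs (IsAffine (Spec (CommRingCat.of p.K)))

lemma quasiCompact_of_finite {A B : Scheme.{u}} (f : A ⟶ B) [Finite A] : QuasiCompact f :=
  ⟨fun _ _ _ => (Set.toFinite _).isCompact⟩

lemma left_isPullback {A B : Over S} {C : Over S} (f : A ⟶ C) (h : B ⟶ C) :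
    IsPullback (pullback.fst f h).left (pullback.snd f h).left f.left h.left :=
  (IsPullback.of_hasPullback f h).map (Over.forget S)

/-- The fibre of a scheme etale over a field-valued point, as seen in the chart. -/
lemma preimage_mk_eq_range {X : Sp S} {p : FieldPt X} {U W : Over S} {a : (yon S).obj U ⟶ X} {fU : W ⟶ U}
    {fK : W ⟶ p.pt} (sq : IsPullback ((yon S).map fU) ((yon S).map fK) a p.toHom) :
    Points.ofPt a ⁻¹' {Points.mk p} = Set.range fU.left := by
  ext u
  rw [Set.mem_preimage, Set.mem_singleton_iff, ← Points.ofPt_toHom p (IsLocalRing.closedPoint p.K),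
    ofPt_eq_ofPt_iff sq]
  exact ⟨fun ⟨w, hw, _⟩ => ⟨w, hw⟩, fun ⟨w, hw⟩ => ⟨w, hw, Subsingleton.elim _ _⟩⟩

/-- Etale affine charts have finite fibres over a quasi-compact point. -/
theorem finite_fibre_of_qc_point {X : Sp S} {p : FieldPt X} (hp : RepWith @QuasiCompact p.toHom) {U : Over S}
    [CompactSpace U.left] {a : (yon S).obj U ⟶ X} (ha : RepWith @Etale a) :
    (Points.ofPt a ⁻¹' {Points.mk p}).Finite := by
  obtain ⟨W, fU, fK, sq⟩ := exists_isPullback_yon a p.toHom ha.rep
  haveI : Etale fK.left := etale_left (repWith_of_isPullback sq ha)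
  haveI : QuasiCompact fU.left :=
    (repWith_yon_map_iff (P := (@QuasiCompact : MorphismProperty Scheme.{u})) fU).1
      (repWith_of_isPullback sq.flip hp)
  haveI : CompactSpace W.left := QuasiCompact.compactSpace_of_compactSpace fU.left
  haveI : LocallyQuasiFinite fK.left := locallyQuasiFinite_of_etale fK.left
  haveI : IsLocallyArtinian W.left := .of_locallyQuasiFinite fK.left
  haveI : Finite W.left := finite_of_compact_of_discrete
  rw [preimage_mk_eq_range sq]
  exact Set.finite_range _

/-- The restriction of a chart to an open. -/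
lemma exists_affine_subchart {X : Sp S} {U : Over S} {a : (yon S).obj U ⟶ X} (ha : RepWith @Etale a)
    (u : U.left) : ∃ (V : Over S) (j : V ⟶ U) (v : V.left), IsAffine V.left ∧ j.left v = u ∧
      IsOpenImmersion j.left ∧ RepWith @Etale ((yon S).map j ≫ a) := by
  obtain ⟨O, hO, hu, -⟩ := exists_isAffineOpen_mem_and_subset (U := ⊤) (x := u) trivial
  let V : Over S := Over.mk (O.ι ≫ U.hom)
  let j : V ⟶ U := Over.homMk O.ι rfl
  exact ⟨V, j, ⟨u, hu⟩, hO, rfl, inferInstanceAs (IsOpenImmersion O.ι),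
    repWith_comp ((repWith_yon_map_iff (P := (@Etale : MorphismProperty Scheme.{u})) j).2
      (inferInstanceAs (Etale O.ι))) ha⟩

/-- Generalizations lift along etale charts. -/
theorem exists_generalization_lift {X : Sp S} {x x' : Points X} (h : x' ⤳ x)
    (hx' : ∃ p : FieldPt X, Points.mk p = x' ∧ RepWith @QuasiCompact p.toHom) {U : Over S}
    {a : (yon S).obj U ⟶ X} (ha : RepWith @Etale a) {u : U.left} (hu : Points.ofPt a u = x) :
    ∃ u' : U.left, u' ⤳ u ∧ Points.ofPt a u' = x' := by
  obtain ⟨p, rfl, hp⟩ := hx'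
  obtain ⟨V, j, v, hV, rfl, hj, hb⟩ := exists_affine_subchart ha u
  haveI := hV
  have hfin := finite_fibre_of_qc_point hp hb
  have hcl : v ∈ closure (Points.ofPt ((yon S).map j ≫ a) ⁻¹' {Points.mk p}) := by
    refine mem_closure_iff.2 fun O hO hv => ?_
    have hx : x ∈ Points.ofPt ((yon S).map j ≫ a) '' O := ⟨v, hv, (ofPt_yon_comp j a v).trans hu⟩
    obtain ⟨w, hw, he⟩ := h.mem_open (isOpenMap_ofPt hb O hO) hx
    exact ⟨w, hw, he⟩
  rw [← Set.biUnion_of_singleton (Points.ofPt ((yon S).map j ≫ a) ⁻¹' {Points.mk p}), hfin.closure_biUnion] at hcl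
  obtain ⟨w, hw, hwv⟩ := Set.mem_iUnion₂.1 hcl
  refine ⟨j.left w, (specializes_iff_mem_closure.2 hwv).map j.left.continuous, ?_⟩
  rw [← ofPt_yon_comp j a w]
  exact hw

/-- Generalizations lift along flat morphisms of spaces. -/
theorem exists_generalization_lift_of_flat {X Y : Sp S} (hX : IsAlgSpace X) (hY : IsAlgSpace Y) {f : Y ⟶ X}
    (hf : LocP @Flat f) {x x' : Points X} (h : x' ⤳ x)
    (hx' : ∃ p : FieldPt X, Points.mk p = x' ∧ RepWith @QuasiCompact p.toHom) {y : Points Y}
    (hy : Points.map f y = x) : ∃ y' : Points Y, y' ⤳ y ∧ Points.map f y' = x' := by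
  obtain ⟨V, b, hb, hbs⟩ := hX.atlas
  obtain ⟨U, a, g, ha, has, hab⟩ := exists_chart_over hY hX f b hb hbs
  obtain ⟨t, rfl⟩ := surjective_ofPt has y
  haveI : Flat g.left := hf a b g ha hb hab
  have key : ∀ t, Points.map f (Points.ofPt a t) = Points.ofPt b (g.left t) := fun t => by
    rw [Points.map_ofPt, hab, ofPt_yon_comp]
  obtain ⟨v', hv', hv'x⟩ := exists_generalization_lift h hx' hb ((key t).symm.trans hy)
  obtain ⟨t', ht', rfl⟩ := Flat.generalizingMap (f := g.left) hv'
  exact ⟨Points.ofPt a t', ht'.map (Points.continuous_ofPt a), (key t').trans hv'x⟩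

/-- There are no specializations inside finite fibres of etale charts. -/
theorem eq_of_specializes_of_finite {X : Sp S} (hX : IsAlgSpace X) {x : Points X}
    (hx : ∀ (V : Over S) (b : (yon S).obj V ⟶ X), IsAffine V.left → RepWith @Etale b →
      (Points.ofPt b ⁻¹' {x}).Finite)
    {U : Over S} {a : (yon S).obj U ⟶ X} (ha : RepWith @Etale a) {u u' : U.left}
    (hu : Points.ofPt a u = x) (hu' : Points.ofPt a u' = x) (hs : u' ⤳ u) : u = u' := by
  obtain ⟨V, j, v, hV, rfl, hj, hb⟩ := exists_affine_subchart ha u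
  obtain ⟨v', rfl⟩ : u' ∈ Set.range j.left := hs.mem_open j.left.isOpenEmbedding.isOpen_range ⟨v, rfl⟩
  have hvv : v' ⤳ v := j.left.isOpenEmbedding.isInducing.specializes_iff.1 hs
  refine congrArg _ ?_
  by_contra hne
  let b := (yon S).map j ≫ a
  let E := Points.ofPt b ⁻¹' {x}
  have hv : v ∈ E := (ofPt_yon_comp j a v).trans hu
  have hv' : v' ∈ E := (ofPt_yon_comp j a v').trans hu'
  have hEf : E.Finite := hx V b hV hb
  obtain ⟨m, hm, hmin⟩ := Set.exists_min_image E (fun e => {e' ∈ E | e' ⤳ e}.ncard) hEf ⟨v, hv⟩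
  have hgen : ∀ e ∈ E, e ⤳ m → e = m := fun e he hem => by
    by_contra hne'
    refine (hmin e he).not_gt (Set.ncard_lt_ncard ⟨fun e' he' => ⟨he'.1, he'.2.trans hem⟩, fun hsub => ?_⟩
      (hEf.subset fun _ h => h.1))
    exact hne' ((hem.antisymm (hsub ⟨hm, specializes_rfl⟩).2).eq)
  obtain ⟨R, t, s, sq⟩ := exists_isPullback_yon b b hb.rep
  haveI : Etale s.left := etale_left (repWith_of_isPullback sq hb)
  haveI : Etale t.left := etale_left (repWith_of_isPullback sq.flip hb)
  haveI : LocallyQuasiFinite t.left := locallyQuasiFinite_of_etale t.left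
  obtain ⟨r, hrt, hrs⟩ := (ofPt_eq_ofPt_iff sq m v).1 (Eq.trans (b := x) hm hv.symm)
  obtain ⟨r', hr', hr's⟩ := Flat.generalizingMap (f := s.left) (hrs.symm ▸ hvv : v' ⤳ s.left r)
  have htm : t.left r' = m := hgen _
    (((ofPt_eq_ofPt_iff sq (t.left r') v').2 ⟨r', rfl, hr's⟩).trans hv') (hrt ▸ hr'.map t.left.continuous)
  have hrr : r' = r := (t.left.isDiscrete_preimage_singleton m).eq_of_specializes hr' htm hrt
  exact hne (by rw [← hrs, ← hrr, hr's])

/-- The points of a decent space form a Kolmogorov space. -/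
theorem t0Space_points {X : Sp S} (hX : IsAlgSpace X) (hd : IsDecent X) : T0Space (Points X) := by
  have hq : ∀ z : Points X, ∃ p : FieldPt X, Points.mk p = z ∧ RepWith @QuasiCompact p.toHom := fun z => by
    obtain ⟨p, h1, -, h3⟩ := hd z
    exact ⟨p, h1, h3⟩
  refine (t0Space_iff_inseparable _).2 fun x y h => ?_
  obtain ⟨U, a, ha, has⟩ := hX.atlas
  obtain ⟨u, rfl⟩ := surjective_ofPt has x
  obtain ⟨v, hvu, hv⟩ := exists_generalization_lift h.symm.specializes (hq y) ha rfl
  obtain ⟨w, hwv, hw⟩ := exists_generalization_lift h.specializes (hq _) ha hv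
  have e : u = w := eq_of_specializes_of_finite hX (fun V b hV hb => by
    obtain ⟨p, hp, hpq⟩ := hq (Points.ofPt a u)
    haveI := hV
    rw [← hp]; exact finite_fibre_of_qc_point hpq hb) ha rfl hw (hwv.trans hvu)
  rw [← hv, (hvu.antisymm (e.symm ▸ hwv)).eq]

/-- Given a monomorphism at a point, a pair of points of a chart has finitely many related points. -/
theorem finite_pairs_of_mono {X : Sp S} {x : Points X} (hx : ∃ p : FieldPt X, Points.mk p = x ∧ Mono p.toHom)
    {U : Over S} {φ : (yon S).obj U ⟶ X} (hφ : RepWith @Etale φ) {u u' : U.left}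
    (hu : Points.ofPt φ u = x) (hu' : Points.ofPt φ u' = x) {R : Over S} {s t : R ⟶ U}
    (sqR : IsPullback ((yon S).map t) ((yon S).map s) φ φ) :
    {r : R.left | s.left r = u ∧ t.left r = u'}.Finite := by
  obtain ⟨p, rfl, hm⟩ := hx
  obtain ⟨F, fU, fK, sq⟩ := exists_isPullback_yon φ p.toHom hφ.rep
  haveI : Etale fK.left := etale_left (repWith_of_isPullback sq hφ)
  haveI : LocallyQuasiFinite fK.left := locallyQuasiFinite_of_etale fK.left
  haveI : IsLocallyArtinian F.left := .of_locallyQuasiFinite fK.left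
  haveI : Mono ((yon S).map fU) :=
    MorphismProperty.of_isPullback (P := MorphismProperty.monomorphisms _) sq.flip hm
  haveI : Mono fU.left := mono_left_of_mono
  obtain ⟨Φ, hΦ⟩ := (yon S).map_surjective (sqR.lift ((yon S).map (pullback.fst fK fK ≫ fU))
    ((yon S).map (pullback.snd fK fK ≫ fU)) (by
      rw [Functor.map_comp, Functor.map_comp, Category.assoc, Category.assoc, sq.w, ← Functor.map_comp_assoc,
        pullback.condition, Functor.map_comp_assoc]))
  have hΦt : Φ ≫ t = pullback.fst fK fK ≫ fU :=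
    (yon S).map_injective (by rw [Functor.map_comp, hΦ, sqR.lift_fst])
  have hΦs : Φ ≫ s = pullback.snd fK fK ≫ fU :=
    (yon S).map_injective (by rw [Functor.map_comp, hΦ, sqR.lift_snd])
  let T : Set ↥(pullback fK fK).left :=
    {z | fU.left ((pullback.fst fK fK).left z) = u' ∧ fU.left ((pullback.snd fK fK).left z) = u}
  have hsub : {r : R.left | s.left r = u ∧ t.left r = u'} ⊆ Φ.left '' T := by
    rintro r ⟨hrs, hrt⟩
    obtain ⟨Q, qR, qK, sqQ⟩ := exists_isPullback_yon ((yon S).map t ≫ φ) p.toHom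
      (hφ.rep |> fun h => (repWith_comp (repWith_yon_map_iff (P := (⊤ : MorphismProperty Scheme.{u})) t |>.2 trivial)
        (repWith_mono (Q := (⊤ : MorphismProperty Scheme.{u})) (fun _ _ _ _ => trivial) hφ)).rep)
    obtain ⟨w, hw, -⟩ := (ofPt_eq_ofPt_iff sqQ r (IsLocalRing.closedPoint p.K)).1
      (((ofPt_yon_comp t φ r).trans (hrt.symm ▸ hu')).trans (Points.ofPt_toHom p _).symm)
    have ht : ((yon S).map (qR ≫ t)) ≫ φ = (yon S).map qK ≫ p.toHom := by
      rw [Functor.map_comp, Category.assoc, sqQ.w]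
    have hs : ((yon S).map (qR ≫ s)) ≫ φ = (yon S).map qK ≫ p.toHom := by
      rw [Functor.map_comp, Category.assoc, ← sqR.w, sqQ.w]
    obtain ⟨g₁, hg₁⟩ := (yon S).map_surjective (sq.lift _ _ ht)
    obtain ⟨g₂, hg₂⟩ := (yon S).map_surjective (sq.lift _ _ hs)
    have e1 : g₁ ≫ fU = qR ≫ t := (yon S).map_injective (by rw [Functor.map_comp, hg₁, sq.lift_fst])
    have e2 : g₂ ≫ fU = qR ≫ s := (yon S).map_injective (by rw [Functor.map_comp, hg₂, sq.lift_fst])
    have e3 : g₁ ≫ fK = qK := (yon S).map_injective (by rw [Functor.map_comp, hg₁, sq.lift_snd])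
    have e4 : g₂ ≫ fK = qK := (yon S).map_injective (by rw [Functor.map_comp, hg₂, sq.lift_snd])
    let g := pullback.lift g₁ g₂ (e3.trans e4.symm)
    have eΦ : g ≫ Φ = qR := by
      refine (yon S).map_injective (sqR.hom_ext ?_ ?_)
      · rw [← Functor.map_comp, ← Functor.map_comp, Category.assoc, hΦt, pullback.lift_fst_assoc, e1]
      · rw [← Functor.map_comp, ← Functor.map_comp, Category.assoc, hΦs, pullback.lift_snd_assoc, e2]
    refine ⟨g.left w, ⟨?_, ?_⟩, ?_⟩
    · have : ((g ≫ pullback.fst fK fK) ≫ fU).left w = (qR ≫ t).left w := by rw [pullback.lift_fst, e1]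
      simp only [Over.comp_left, Scheme.Hom.comp_apply] at this
      rw [this, hw, hrt]
    · have : ((g ≫ pullback.snd fK fK) ≫ fU).left w = (qR ≫ s).left w := by rw [pullback.lift_snd, e2]
      simp only [Over.comp_left, Scheme.Hom.comp_apply] at this
      rw [this, hw, hrs]
    · have : (g ≫ Φ).left w = qR.left w := by rw [eΦ]
      simp only [Over.comp_left, Scheme.Hom.comp_apply] at this
      rw [this, hw]
  refine ((Set.Finite.image Φ.left ?_).subset hsub)
  have hinj : Function.Injective fU.left := fU.left.injective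
  rcases T.eq_empty_or_nonempty with hT | ⟨z₀, hz₀, hz₀'⟩
  · rw [hT]; exact Set.finite_empty
  let f₁ := (pullback.fst fK fK).left z₀
  let f₂ := (pullback.snd fK fK).left z₀
  let O₁ : F.left.Opens := ⟨{f₁}, isOpen_discrete _⟩
  let O₂ : F.left.Opens := ⟨{f₂}, isOpen_discrete _⟩
  haveI : Finite ↥O₁.toScheme := inferInstanceAs (Finite ↥({f₁} : Set F.left))
  haveI : Finite ↥O₂.toScheme := inferInstanceAs (Finite ↥({f₂} : Set F.left))
  let A := pullback (O₁.ι ≫ fK.left) (O₂.ι ≫ fK.left)
  haveI : QuasiCompact (O₂.ι ≫ fK.left) := quasiCompact_of_finite _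
  haveI : CompactSpace ↥A := QuasiCompact.compactSpace_of_compactSpace (pullback.fst _ _ : A ⟶ _)
  haveI : Etale (O₂.ι ≫ fK.left) := inferInstance
  haveI : LocallyQuasiFinite (pullback.fst (O₁.ι ≫ fK.left) (O₂.ι ≫ fK.left)) := locallyQuasiFinite_of_etale _
  haveI : IsLocallyArtinian O₁.toScheme := .of_locallyQuasiFinite O₁.ι
  haveI : IsLocallyArtinian A :=
    .of_locallyQuasiFinite (pullback.fst (O₁.ι ≫ fK.left) (O₂.ι ≫ fK.left))
  haveI : Finite ↥A := finite_of_compact_of_discrete
  let e := (left_isPullback fK fK).isoPullback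
  let m := pullback.map (O₁.ι ≫ fK.left) (O₂.ι ≫ fK.left) fK.left fK.left O₁.ι O₂.ι (𝟙 _) (by simp) (by simp) ≫ e.inv
  refine ((Set.finite_range m).subset fun z hz => ?_)
  have h₁ : (pullback.fst fK fK).left z ∈ Set.range O₁.ι :=
    O₁.range_ι.symm ▸ (hinj (hz.1.trans hz₀.symm) : (pullback.fst fK fK).left z = f₁)
  have h₂ : (pullback.snd fK fK).left z ∈ Set.range O₂.ι :=
    O₂.range_ι.symm ▸ (hinj (hz.2.trans hz₀'.symm) : (pullback.snd fK fK).left z = f₂)
  have : e.hom z ∈ Set.range (pullback.map (O₁.ι ≫ fK.left) (O₂.ι ≫ fK.left) fK.left fK.left O₁.ι O₂.ι (𝟙 _)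
      (by simp) (by simp)) := by
    rw [Scheme.Pullback.range_map]
    refine ⟨?_, ?_⟩
    · rw [Set.mem_preimage, ← Scheme.Hom.comp_apply, IsPullback.isoPullback_hom_fst]; exact h₁
    · rw [Set.mem_preimage, ← Scheme.Hom.comp_apply, IsPullback.isoPullback_hom_snd]; exact h₂
  obtain ⟨y, hy⟩ := this
  refine ⟨y, ?_⟩
  rw [Scheme.Hom.comp_apply, hy, ← Scheme.Hom.comp_apply, Iso.hom_inv_id]
  rfl

/-- Finiteness of fibres of affine charts follows from a jointly surjective family of charts. -/
theorem finite_fibre_transfer {X : Sp S} {x : Points X} {ι : Type u} {U : ι → Over S}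
    {φ : ∀ i, (yon S).obj (U i) ⟶ X} (hφ : ∀ i, RepWith @Etale (φ i))
    (hsurj : ∀ y : Points X, ∃ (i : ι) (v : (U i).left), Points.ofPt (φ i) v = y)
    (hfin : ∀ i, (Points.ofPt (φ i) ⁻¹' {x}).Finite)
    {V : Over S} [CompactSpace V.left] {ψ : (yon S).obj V ⟶ X} (hψ : RepWith @Etale ψ) :
    (Points.ofPt ψ ⁻¹' {x}).Finite := by
  choose i v hv using fun y => hsurj y
  choose W pU pV sq using fun t : V.left => exists_isPullback_yon (φ (i (Points.ofPt ψ t))) ψ (hφ _).rep
  choose w hwU hwV using fun t : V.left => (ofPt_eq_ofPt_iff (sq t) _ t).1 (hv (Points.ofPt ψ t))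
  choose O hO hwO _ using fun t : V.left =>
    exists_isAffineOpen_mem_and_subset (U := ⊤) (x := (pU t).left (w t)) trivial
  choose Q hQ hwQ hQO using fun t : V.left =>
    exists_isAffineOpen_mem_and_subset (U := (pU t).left ⁻¹ᵁ O t) (x := w t) (hwO t)
  have hopen : ∀ t, IsOpen ((pV t).left '' Q t) := fun t => by
    haveI : Etale (pV t).left := etale_left (repWith_of_isPullback (sq t) (hφ _))
    exact (pV t).left.isOpenMap _ (Q t).isOpen
  obtain ⟨T, hT⟩ := isCompact_univ.elim_finite_subcover (fun t => (pV t).left '' Q t) hopen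
    fun t _ => Set.mem_iUnion.2 ⟨t, w t, hwQ t, hwV t⟩
  refine Set.Finite.subset (s := ⋃ t ∈ T, (pV t).left ''
      ((Q t : Set _) ∩ (pU t).left ⁻¹' (Points.ofPt (φ _) ⁻¹' {x}))) ?_ ?_
  · refine T.finite_toSet.biUnion fun t _ => Set.Finite.image _ ?_
    haveI : Etale (pU t).left := etale_left (repWith_of_isPullback (sq t).flip hψ)
    haveI : IsAffine (Q t).toScheme := hQ t
    haveI : IsAffine (O t).toScheme := hO t
    let g := (pU t).left.resLE (O t) (Q t) (hQO t)
    haveI : Etale ((Q t).ι ≫ (pU t).left) := inferInstance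
    haveI : LocallyQuasiFinite ((pU t).left) := locallyQuasiFinite_of_etale _
    haveI : LocallyQuasiFinite g := inferInstanceAs (LocallyQuasiFinite ((pU t).left.resLE (O t) (Q t) (hQO t)))
    haveI : QuasiCompact g := inferInstance
    refine (((hfin _).preimage (O t).ι.isOpenEmbedding.injective.injOn).biUnion
      (t := fun o => (Q t).ι '' (g ⁻¹' {o})) fun o _ => (g.finite_preimage_singleton o).image _).subset ?_
    rintro z ⟨hzQ, hz⟩
    have hg : (O t).ι (g ⟨z, hzQ⟩) = (pU t).left z := by
      rw [← Scheme.Hom.comp_apply, Scheme.Hom.resLE_comp_ι, Scheme.Hom.comp_apply]; rfl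
    refine Set.mem_iUnion₂.2 ⟨g ⟨z, hzQ⟩, ?_, ⟨z, hzQ⟩, rfl, rfl⟩
    rw [Set.mem_preimage, hg]; exact hz
  · intro t' ht'
    obtain ⟨t, htT, z, hzQ, rfl⟩ := Set.mem_iUnion₂.1 (hT (Set.mem_univ t'))
    exact Set.mem_iUnion₂.2 ⟨t, htT, z, ⟨hzQ, ((ofPt_eq_ofPt_iff (sq t) _ _).2 ⟨z, rfl, rfl⟩).trans ht'⟩, rfl⟩

/-- A one-point scheme is quasi-compact over a space if its pullbacks to affine charts are finite. -/
theorem repWith_qc_of_finite {X : Sp S} (hX : IsAlgSpace X) {P : Over S} (c : (yon S).obj P ⟶ X)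
    (h : ∀ (V : Over S) (b : (yon S).obj V ⟶ X), IsAffine V.left → RepWith @Etale b →
      ∀ (W : Over S) (fP : W ⟶ P) (fV : W ⟶ V),
        IsPullback ((yon S).map fP) ((yon S).map fV) c b → Finite W.left) :
    RepWith @QuasiCompact c := by
  refine ⟨hX.representable_from_yon c, fun T W g fst snd sqW => ?_⟩
  obtain ⟨p, rfl⟩ := (yon S).map_surjective fst
  refine ⟨fun O hO hOc => ?_⟩
  obtain ⟨ι, Us, as, hUs, has, -, hcov⟩ := exists_affine_charts hX
  have hcov' : ∀ t : T.left, ∃ i v, Points.ofPt (as i) v = Points.ofPt g t := fun t => by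
    obtain ⟨i, hi⟩ := hcov (Points.ofPt g t)
    rw [← range_ofPt] at hi
    exact ⟨i, hi⟩
  choose i v hv using hcov'
  choose Z pV pT sq using fun t : T.left => exists_isPullback_yon (as (i t)) g (has _).rep
  choose z _ hzT using fun t : T.left => (ofPt_eq_ofPt_iff (sq t) _ t).1 (hv t)
  choose Q hQ hzQ hQO using fun t : O =>
    exists_isAffineOpen_mem_and_subset (U := (pT t.1).left ⁻¹ᵁ ⟨O, hO⟩) (x := z t.1)
      (show (pT t.1).left (z t.1) ∈ O from (hzT t.1).symm ▸ t.2)
  have hopen : ∀ t : O, IsOpen ((pT t.1).left '' Q t) := fun t => by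
    haveI : Etale (pT t.1).left := etale_left (repWith_of_isPullback (sq t.1) (has _))
    exact (pT t.1).left.isOpenMap _ (Q t).isOpen
  obtain ⟨J, hJ⟩ := hOc.elim_finite_subcover (fun t : O => (pT t.1).left '' Q t) hopen
    fun t ht => Set.mem_iUnion.2 ⟨⟨t, ht⟩, z t, hzQ ⟨t, ht⟩, hzT t⟩
  let QQ : O → Over S := fun t => Over.mk ((Q t).ι ≫ (Z t.1).hom)
  let q : ∀ t, QQ t ⟶ Z t.1 := fun t => Over.homMk (Q t).ι rfl
  let k : ∀ t, QQ t ⟶ T := fun t => q t ≫ pT t.1
  let π : ∀ t, pullback (k t) snd ⟶ W := fun t => pullback.snd (k t) snd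
  have hcomp : ∀ t, CompactSpace (pullback (k t) snd).left := fun t => by
    obtain ⟨D, fP, fV, sqD⟩ := exists_isPullback_yon c (as (i t.1)) (hX.representable_from_yon c)
    haveI := h _ _ (hUs _) (has _) D fP fV sqD
    haveI : QuasiCompact fV.left := quasiCompact_of_finite _
    obtain ⟨l, hl⟩ := (yon S).map_surjective (sqD.lift ((yon S).map (π t ≫ p))
      ((yon S).map (pullback.fst (k t) snd ≫ q t ≫ pV t.1)) (by
        simp only [π, Functor.map_comp, Category.assoc, sqW.w, (sq t.1).w]
        rw [← Functor.map_comp_assoc, ← pullback.condition]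
        simp [k]))
    have hl1 : l ≫ fP = π t ≫ p := (yon S).map_injective (by rw [Functor.map_comp, hl, sqD.lift_fst])
    have hl2 : l ≫ fV = pullback.fst (k t) snd ≫ q t ≫ pV t.1 :=
      (yon S).map_injective (by rw [Functor.map_comp, hl, sqD.lift_snd])
    have big : IsPullback ((yon S).map (π t ≫ p)) ((yon S).map (pullback.fst (k t) snd)) c
        ((yon S).map (q t ≫ pV t.1) ≫ as (i t.1)) := by
      have := (((IsPullback.of_hasPullback (k t) snd).flip).map (yon S)).paste_horiz sqW
      convert this using 1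
      · simp [π]
      · simp [k, (sq t.1).w]
    have hsq : IsPullback ((yon S).map l) ((yon S).map (pullback.fst (k t) snd)) ((yon S).map fV)
        ((yon S).map (q t ≫ pV t.1)) :=
      IsPullback.of_right (by rw [← Functor.map_comp, hl1]; exact big)
        (by rw [← Functor.map_comp, ← Functor.map_comp, hl2]) sqD
    haveI : QuasiCompact (pullback.fst (k t) snd).left :=
      MorphismProperty.of_isPullback (P := @QuasiCompact) (isPullback_left hsq) ‹QuasiCompact fV.left›
    haveI : IsAffine (QQ t).left := hQ t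
    exact QuasiCompact.compactSpace_of_compactSpace (pullback.fst (k t) snd).left
  have hcov2 : snd.left ⁻¹' O = ⋃ t ∈ J, Set.range (π t).left := by
    ext y
    constructor
    · intro hy
      obtain ⟨t, htJ, w, hw, hwy⟩ := Set.mem_iUnion₂.1 (hJ hy)
      obtain ⟨y', -, hy'⟩ := Scheme.exists_preimage_of_isPullback (left_isPullback (k t) snd) (⟨w, hw⟩ : Q t) y
        (by rw [← hwy]; rfl)
      exact Set.mem_iUnion₂.2 ⟨t, htJ, y', hy'⟩
    · intro hy
      obtain ⟨t, -, y', rfl⟩ := Set.mem_iUnion₂.1 hy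
      have : ((π t) ≫ snd).left y' = (pullback.fst (k t) snd ≫ k t).left y' := by rw [← pullback.condition]
      simp only [Over.comp_left, Scheme.Hom.comp_apply, k] at this
      rw [Set.mem_preimage, this]
      exact hQO t ((pullback.fst (k t) snd).left y').2
  change IsCompact (snd.left ⁻¹' O)
  rw [hcov2]
  exact J.finite_toSet.isCompact_biUnion fun t _ => haveI := hcomp t; isCompact_range (π t).left.continuous

/-- Finiteness of a chart's fibre over one representative of a point gives finiteness over any other. -/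
theorem finite_pullback_of_eq {X : Sp S} {U V : Over S} {φ : (yon S).obj U ⟶ X} (hφ : RepWith @Etale φ)
    (p p' : FieldPt X) (hpp : Points.mk p = Points.mk p') {W : Over S} {fU : W ⟶ U} {fK : W ⟶ p.pt}
    (sq : IsPullback ((yon S).map fU) ((yon S).map fK) φ p.toHom) [CompactSpace W.left] {W' : Over S}
    {fU' : W' ⟶ U} {fK' : W' ⟶ p'.pt} (sq' : IsPullback ((yon S).map fU') ((yon S).map fK') φ p'.toHom) :
    Finite W'.left := by
  obtain ⟨L, _, str, l, l', hl⟩ := Quotient.exact hpp
  let π : Over.mk str ⟶ p.pt := l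
  let π' : Over.mk str ⟶ p'.pt := l'
  have hll : (yon S).map π ≫ p.toHom = (yon S).map π' ≫ p'.toHom := by
    refine (AlgSp.J S).uliftYonedaEquiv.injective ?_
    rw [← GrothendieckTopology.uliftYonedaEquiv_naturality, ← GrothendieckTopology.uliftYonedaEquiv_naturality,
      FieldPt.uliftYonedaEquiv_toHom, FieldPt.uliftYonedaEquiv_toHom]
    exact hl
  haveI : Subsingleton (Over.mk str).left := inferInstanceAs (Subsingleton (PrimeSpectrum L))
  haveI : Nonempty (Over.mk str).left := inferInstanceAs (Nonempty (PrimeSpectrum L))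
  haveI : Surjective π'.left := ⟨fun y => ⟨Classical.arbitrary _, Subsingleton.elim _ _⟩⟩
  haveI : QuasiCompact π.left := quasiCompact_of_finite _
  haveI : CompactSpace (pullback fK π).left :=
    haveI : QuasiCompact (pullback.fst fK π).left :=
      MorphismProperty.of_isPullback (P := @QuasiCompact) (left_isPullback fK π).flip inferInstance
    QuasiCompact.compactSpace_of_compactSpace (pullback.fst fK π).left
  have hw : (yon S).map (pullback.fst fK π ≫ fU) ≫ φ = (yon S).map (pullback.snd fK π ≫ π') ≫ p'.toHom := by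
    rw [Functor.map_comp, Functor.map_comp, Category.assoc, Category.assoc, sq.w, ← Functor.map_comp_assoc,
      pullback.condition, Functor.map_comp_assoc, hll]
  obtain ⟨g, hg⟩ := (yon S).map_surjective (sq'.lift _ _ hw)
  haveI : Surjective g.left := ⟨fun y => by
    have hw2 : (yon S).map (pullback.fst fK' π' ≫ fU') ≫ φ = (yon S).map (pullback.snd fK' π' ≫ π) ≫ p.toHom := by
      rw [Functor.map_comp, Functor.map_comp, Category.assoc, Category.assoc, sq'.w, ← Functor.map_comp_assoc,
        pullback.condition, Functor.map_comp_assoc, hll]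
    obtain ⟨h, hh⟩ := (yon S).map_surjective (sq.lift _ _ hw2)
    have hh1 : h ≫ fK = pullback.snd fK' π' ≫ π :=
      (yon S).map_injective (by rw [Functor.map_comp, hh, sq.lift_snd])
    have hh2 : h ≫ fU = pullback.fst fK' π' ≫ fU' :=
      (yon S).map_injective (by rw [Functor.map_comp, hh, sq.lift_fst])
    let m := pullback.lift h (pullback.snd fK' π') hh1
    have hm : m ≫ g = pullback.fst fK' π' := by
      refine (yon S).map_injective (sq'.hom_ext ?_ ?_)
      · rw [Functor.map_comp, Category.assoc, hg, sq'.lift_fst, ← Functor.map_comp, ← Functor.map_comp,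
          pullback.lift_fst_assoc, hh2]
      · rw [Functor.map_comp, Category.assoc, hg, sq'.lift_snd, ← Functor.map_comp, ← Functor.map_comp,
          pullback.lift_snd_assoc, pullback.condition]
    haveI : Surjective (pullback.fst fK' π').left :=
      MorphismProperty.of_isPullback (P := @Surjective) (left_isPullback fK' π').flip inferInstance
    obtain ⟨y', hy'⟩ := (pullback.fst fK' π').left.surjective y
    exact ⟨m.left y', by rw [← Scheme.Hom.comp_apply, ← Over.comp_left, hm, hy']⟩⟩
  haveI : CompactSpace W'.left := ⟨g.left.surjective.range_eq ▸ isCompact_range g.left.continuous⟩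
  haveI : Etale fK'.left := etale_left (repWith_of_isPullback sq' hφ)
  haveI : LocallyQuasiFinite fK'.left := locallyQuasiFinite_of_etale fK'.left
  haveI : IsLocallyArtinian W'.left := .of_locallyQuasiFinite fK'.left
  exact finite_of_compact_of_discrete

/-- Finiteness conditions at a point are equivalent to the existence of a decent point. -/
theorem exists_decentPt_iff_finite {X : Sp S} (hX : IsAlgSpace X) (x : Points X) :
    (∀ (U : Over S) (φ : (yon S).obj U ⟶ X), IsAffine U.left → RepWith @Etale φ →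
        ∀ (R : Over S) (s t : R ⟶ U), IsPullback ((yon S).map t) ((yon S).map s) φ φ →
          (Points.ofPt φ ⁻¹' {x}).Finite ∧ (Points.ofPt ((yon S).map t ≫ φ) ⁻¹' {x}).Finite) ↔
      ∃ p : FieldPt X, Points.mk p = x ∧ Mono p.toHom ∧ RepWith @QuasiCompact p.toHom := by
  constructor
  · intro h
    obtain ⟨U₀, a₀, ha₀, has₀⟩ := hX.atlas
    obtain ⟨u₀, hu₀⟩ := surjective_ofPt has₀ x
    refine (exists_decentPt_of_qc hX (FieldPt.ofPt a₀ u₀) (repWith_qc_of_finite hX _ fun V b hV hb W fP fV sq => ?_)).imp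
      fun p hp => ⟨hp.1.trans hu₀, hp.2⟩
    rcases isEmpty_or_nonempty W.left with _ | ⟨⟨w⟩⟩
    · infer_instance
    have hv : Points.ofPt b (fV.left w) = x :=
      (((ofPt_eq_ofPt_iff sq (fP.left w) (fV.left w)).2 ⟨w, rfl, rfl⟩).symm).trans
        ((Points.ofPt_toHom _ _).trans hu₀)
    obtain ⟨R, t, s, sqR⟩ := exists_isPullback_yon b b hb.rep
    have hfin := (h V b hV hb R s t sqR).2
    let v := fV.left w
    let j : (FieldPt.ofPt b v).pt ⟶ V := Over.homMk (V.left.fromSpecResidueField v) rfl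
    obtain ⟨E, eR, eK, sqE⟩ : ∃ (E : Over S) (eR : E ⟶ R) (eK : E ⟶ (FieldPt.ofPt b v).pt),
        IsPullback eR eK s j := ⟨_, _, _, IsPullback.of_hasPullback s j⟩
    have sqEl : IsPullback eR.left eK.left s.left j.left := sqE.map (Over.forget S)
    haveI : IsPreimmersion j.left := inferInstanceAs (IsPreimmersion (V.left.fromSpecResidueField v))
    haveI : IsPreimmersion eR.left :=
      MorphismProperty.of_isPullback (P := @IsPreimmersion) sqEl.flip ‹IsPreimmersion j.left›
    haveI : Finite E.left := by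
      refine (Set.finite_univ_iff.1 ((hfin.preimage eR.left.isEmbedding.injective.injOn).subset fun e _ => ?_))
      rw [Set.mem_preimage, Set.mem_preimage, Set.mem_singleton_iff, sqR.w, ofPt_yon_comp,
        ← Scheme.Hom.comp_apply, sqEl.w, Scheme.Hom.comp_apply]
      exact (congrArg (Points.ofPt b) (V.left.fromSpecResidueField_apply v _)).trans hv
    have sqv : IsPullback ((yon S).map (eR ≫ t)) ((yon S).map eK) b (FieldPt.ofPt b v).toHom := by
      rw [FieldPt.toHom_ofPt, Functor.map_comp]
      exact (sqE.map (yon S)).paste_horiz sqR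
    exact finite_pullback_of_eq (V := V) hb _ _ (hv.trans hu₀.symm) sqv sq.flip
  · rintro ⟨p, rfl, hm, hq⟩ U φ hU hφ R s t sq
    haveI := hU
    have hfin := finite_fibre_of_qc_point hq hφ
    refine ⟨hfin, (hfin.biUnion fun u hu => hfin.biUnion fun u' hu' =>
      finite_pairs_of_mono ⟨p, rfl, hm⟩ hφ hu hu' sq).subset fun r hr => ?_⟩
    rw [Set.mem_preimage, ofPt_yon_comp] at hr
    refine Set.mem_iUnion₂.2 ⟨s.left r, ?_, Set.mem_iUnion₂.2 ⟨t.left r, hr, rfl, rfl⟩⟩
    exact ((ofPt_eq_ofPt_iff sq (t.left r) (s.left r)).2 ⟨r, rfl, rfl⟩).symm.trans hr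

/-- Universally bounded fibres imply decency. -/
theorem isDecent_of_univBdd {X : Sp S} (hX : IsAlgSpace X)
    (h : ∀ (U : Over S) (φ : (yon S).obj U ⟶ X), IsAffine U.left → RepWith @Etale φ → W4dec.HasUnivBddFibres φ) :
    IsDecent X := fun x => by
  induction x using Points.ind with
  | h q =>
    refine exists_decentPt_of_qc hX q (repWith_qc_of_finite hX _ fun V b hV hb W fP fV sq => ?_)
    obtain ⟨n, hn⟩ := h V b hV hb
    haveI := (hn q W fP _ sq).1
    haveI : CompactSpace W.left := QuasiCompact.compactSpace_of_compactSpace fP.left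
    haveI : Etale fP.left := etale_left (repWith_of_isPullback sq.flip hb)
    haveI : LocallyQuasiFinite fP.left := locallyQuasiFinite_of_etale fP.left
    haveI : IsLocallyArtinian W.left := .of_locallyQuasiFinite fP.left
    exact finite_of_compact_of_discrete

end AlgSpLib
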