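import Groth.Agent.AlgSpLib.Iso
import Mathlib.AlgebraicGeometry.AffineSpace
/-!
# Universal closedness of quasi-compact morphisms is tested on affine spaces
-/

set_option autoImplicit false
universe u
open CategoryTheory CategoryTheory.Limits AlgebraicGeometry Opposite AlgSp Topology TensorProduct

namespace AlgSpLib

/-! ## Algebra -/

theorem exists_fg_mem_range {A C B : Type u} [CommRing A] [CommRing C] [CommRing B] [Algebra A C] [Algebra A B]
    (t : C ⊗[A] B) :
    ∃ s : Finset B, ∀ B₀ : Subalgebra A B, (s : Set B) ⊆ B₀ →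
      t ∈ Set.range (Algebra.TensorProduct.map (AlgHom.id A C) B₀.val) := by
  classical
  induction t using TensorProduct.induction_on with
  | zero => exact ⟨∅, fun B₀ _ => ⟨0, map_zero _⟩⟩
  | add x y hx hy =>
    obtain ⟨s, hs⟩ := hx
    obtain ⟨s', hs'⟩ := hy
    refine ⟨s ∪ s', fun B₀ h => ?_⟩
    rw [Finset.coe_union, Set.union_subset_iff] at h
    obtain ⟨x', rfl⟩ := hs B₀ h.1
    obtain ⟨y', rfl⟩ := hs' B₀ h.2
    exact ⟨x' + y', map_add _ _ _⟩
  | tmul c b =>
    exact ⟨{b}, fun B₀ h => ⟨c ⊗ₜ (⟨b, h (by simp)⟩ : B₀), by simp⟩⟩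

/-- A closed subset of `Spec (C ⊗ B)` missing the fibre over `z` misses it already over a finitely generated
subalgebra of `B`. -/
theorem exists_fg_disjoint {A C B : Type u} [CommRing A] [CommRing C] [CommRing B] [Algebra A C] [Algebra A B]
    (J : Ideal (C ⊗[A] B)) (z : Ideal B) [z.IsPrime]
    (h : ∀ q : Ideal (C ⊗[A] B), q.IsPrime → J ≤ q →
      q.comap (Algebra.TensorProduct.includeRight : B →ₐ[A] C ⊗[A] B) ≠ z) :
    ∃ B₀ : Subalgebra A B, B₀.FG ∧ ∀ q : Ideal (C ⊗[A] B₀), q.IsPrime →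
      J.comap (Algebra.TensorProduct.map (AlgHom.id A C) B₀.val) ≤ q →
      q.comap (Algebra.TensorProduct.includeRight : B₀ →ₐ[A] C ⊗[A] B₀) ≠ z.comap B₀.val := by
  classical
  let ι : B →ₐ[A] C ⊗[A] B := Algebra.TensorProduct.includeRight
  let M : Submonoid (C ⊗[A] B) := z.primeCompl.map ι
  have hne : ¬Disjoint ((J ⊔ z.map ι : Ideal (C ⊗[A] B)) : Set (C ⊗[A] B)) M := fun hd => by
    obtain ⟨q, hq, hle, hqd⟩ := Ideal.exists_le_prime_disjoint _ M hd
    refine h q hq (le_sup_left.trans hle) (le_antisymm (fun b hb => ?_) ?_)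
    · by_contra hbz
      exact Set.disjoint_left.1 hqd hb ⟨b, hbz, rfl⟩
    · exact Ideal.map_le_iff_le_comap.1 (le_sup_right.trans hle)
  obtain ⟨_, hK, g, hg, rfl⟩ := Set.not_disjoint_iff.1 hne
  obtain ⟨j, hj, m, hm, hjm⟩ := Submodule.mem_sup.1 hK
  rw [Ideal.map, Ideal.span, Submodule.mem_span_set'] at hm
  obtain ⟨n, c, w, rfl⟩ := hm
  choose b hb hb' using fun i => (w i).2
  choose s hs using fun i => exists_fg_mem_range (A := A) (c i)
  let B₀ := Algebra.adjoin A (↑({g} ∪ Finset.univ.image b ∪ Finset.univ.biUnion s) : Set B)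
  have hsub := Algebra.subset_adjoin (R := A) (s := (↑({g} ∪ Finset.univ.image b ∪ Finset.univ.biUnion s) : Set B))
  refine ⟨B₀, ⟨_, rfl⟩, fun q hq hle he => ?_⟩
  have hgm : g ∈ B₀ := hsub (by simp)
  have hbm : ∀ i, b i ∈ B₀ := fun i => hsub (by simp)
  choose c₀ hc₀ using fun i => hs i B₀ fun x hx => hsub (by
    simp only [Finset.coe_union, Set.mem_union, Finset.coe_biUnion, Set.mem_iUnion]
    exact Or.inr ⟨i, by simp, hx⟩)
  let φ := Algebra.TensorProduct.map (AlgHom.id A C) B₀.val
  let ι₀ : B₀ →ₐ[A] C ⊗[A] B₀ := Algebra.TensorProduct.includeRight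
  have hbq : ∀ i, ι₀ ⟨b i, hbm i⟩ ∈ q := fun i => by
    have : (⟨b i, hbm i⟩ : B₀) ∈ z.comap B₀.val := hb i
    rw [← he] at this
    exact this
  have hgq : ι₀ ⟨g, hgm⟩ ∈ q := by
    have : ι₀ ⟨g, hgm⟩ - ∑ i, c₀ i * ι₀ ⟨b i, hbm i⟩ ∈ q := hle (by
      rw [Ideal.mem_comap, map_sub, map_sum]
      have e : ∀ i, φ (c₀ i * ι₀ ⟨b i, hbm i⟩) = c i • (w i : C ⊗[A] B) := fun i => by
        rw [map_mul, smul_eq_mul, hc₀, ← hb']
        simp [φ, ι₀, ι]
      rw [Finset.sum_congr rfl fun i _ => e i]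
      have e2 : φ (ι₀ ⟨g, hgm⟩) = ι g := by simp [φ, ι₀, ι]
      change φ (ι₀ ⟨g, hgm⟩) - _ ∈ J
      rw [e2, ← hjm, add_sub_cancel_right]
      exact hj)
    simpa using q.add_mem this (q.sum_mem (t := Finset.univ) fun i _ => q.mul_mem_left (c₀ i) (hbq i))
  have : (⟨g, hgm⟩ : B₀) ∈ z.comap B₀.val := by rw [← he]; exact hgq
  exact hg this

variable {S : Scheme.{u}}

/-! ## Closed immersions and open immersions of the base -/

theorem injective_map_of_mono {F G : Sp S} (d : F ⟶ G) [Mono d] : Function.Injective (Points.map d) := by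
  intro x y e
  obtain ⟨w, rfl, rfl⟩ := exists_point_isPullback (IsKernelPair.id_of_mono d) x y e
  rfl

theorem isClosed_image_of_closedImmersion {F G : Sp S} (hF : IsAlgSpace F) (hG : IsAlgSpace G) {d : F ⟶ G}
    (hd : RepWith @IsClosedImmersion d) {A : Set (Points F)} (hA : IsClosed A) : IsClosed (Points.map d '' A) := by
  obtain ⟨U, a, ha, has⟩ := hG.atlas
  obtain ⟨W, j, e, sq⟩ : ∃ (W : Over S) (j : W ⟶ U) (e : (yon S).obj W ⟶ F), IsPullback e ((yon S).map j) d a :=
    ⟨_, hd.rep.snd a, hd.rep.fst a, hd.rep.isPullback a⟩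
  have : IsClosedImmersion j.left := hd.property a e j sq
  have hq : IsQuotientMap (Points.map a) :=
    (isOpenMap_map_of_isEtaleMor (IsAlgSpace.yon_obj U) (isEtaleMor_of_repWith ha)).isQuotientMap
      (Points.continuous_map a) (map_surjective_of_repWith has)
  rw [← hq.isClosed_preimage, preimage_image sq]
  exact ((isClosedMap_map_yon_iff j).2 j.left.isClosedEmbedding.isClosedMap) _
    (hA.preimage (Points.continuous_map e))

/-- Closedness passes to base changes along closed immersions. -/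
theorem isClosedMor_of_closedImmersion_base {P Z P' Z' : Sp S} (hP' : IsAlgSpace P') (hP : IsAlgSpace P)
    {d : P' ⟶ P} {q : P' ⟶ Z'} {p : P ⟶ Z} {c : Z' ⟶ Z}
    (sq : IsPullback d q p c) (hc : RepWith @IsClosedImmersion c) (h : IsClosedMor p) : IsClosedMor q := by
  have : Mono c := mono_of_repWith (fun g (_ : IsClosedImmersion g) => inferInstance) hc
  intro A hA
  have e : Points.map q '' A = Points.map c ⁻¹' (Points.map p '' (Points.map d '' A)) := by
    ext z
    constructor
    · rintro ⟨x, hx, rfl⟩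
      exact ⟨_, ⟨x, hx, rfl⟩, by rw [← Points.map_comp, ← Points.map_comp, sq.w]⟩
    · rintro ⟨_, ⟨x, hx, rfl⟩, e⟩
      refine ⟨x, hx, injective_map_of_mono c ?_⟩
      rw [← Points.map_comp, ← sq.w, Points.map_comp]
      exact e
  rw [e]
  exact (h _ (isClosed_image_of_closedImmersion hP' hP (repWith_of_isPullback sq.flip hc) hA)).preimage
    (Points.continuous_map c)

/-- Closedness passes to base changes along open immersions. -/
theorem isClosedMor_of_openImmersion_base {P Z P' Z' : Sp S} (hP' : IsAlgSpace P')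
    {d : P' ⟶ P} {q : P' ⟶ Z'} {p : P ⟶ Z} {c : Z' ⟶ Z}
    (sq : IsPullback d q p c) (hc : RepWith @IsOpenImmersion c) (h : IsClosedMor p) : IsClosedMor q := by
  have hd := repWith_of_isPullback sq.flip hc
  have : Mono d := mono_of_openImmersion hd
  intro A hA
  have e : Points.map d ⁻¹' closure (Points.map d '' A) = A := by
    refine subset_antisymm (fun x hx => ?_) (fun x hx => subset_closure ⟨x, hx, rfl⟩)
    by_contra hxA
    obtain ⟨y, ⟨w, hw, rfl⟩, hy⟩ := mem_closure_iff.1 hx _
      (isOpenMap_map_of_isEtaleMor hP' (isEtaleMor_of_openImmersion hd) _ hA.isOpen_compl) ⟨x, hxA, rfl⟩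
    obtain ⟨v, hv, e⟩ := hy
    rw [injective_map_of_mono d e] at hv
    exact hw hv
  rw [← e, ← preimage_image sq]
  exact (h _ isClosed_closure).preimage (Points.continuous_map c)

/-! ## The criterion -/

open AlgebraicGeometry.AffineSpace in
/-- A ring surjection from a polynomial ring gives a closed immersion into affine space. -/
theorem exists_closedImmersion_affineSpace (V : Scheme.{u}) [IsAffine V] {B : Type u} [CommRing B]
    [Algebra Γ(V, ⊤) B] [Algebra.FiniteType Γ(V, ⊤) B] :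
    ∃ (n : ℕ) (j : Spec (CommRingCat.of B) ⟶ 𝔸(ULift.{u} (Fin n); V)), IsClosedImmersion j ∧
      j ≫ (𝔸(ULift.{u} (Fin n); V) ↘ V) =
        Spec.map (CommRingCat.ofHom (algebraMap Γ(V, ⊤) B)) ≫ V.isoSpec.inv := by
  obtain ⟨n, f, hf⟩ := Algebra.FiniteType.iff_quotient_mvPolynomial''.1 ‹Algebra.FiniteType Γ(V, ⊤) B›
  let g : MvPolynomial (ULift.{u} (Fin n)) Γ(V, ⊤) →ₐ[Γ(V, ⊤)] B :=
    f.comp (MvPolynomial.rename ULift.down)
  have hg : Function.Surjective g :=
    hf.comp (MvPolynomial.rename_surjective _ ULift.down_surjective)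
  refine ⟨n, Spec.map (CommRingCat.ofHom g.toRingHom) ≫ (isoOfIsAffine (ULift.{u} (Fin n)) V).inv, ?_, ?_⟩
  · have : IsClosedImmersion (Spec.map (CommRingCat.ofHom g.toRingHom)) :=
      IsClosedImmersion.spec_of_surjective _ hg
    infer_instance
  · rw [Category.assoc, isoOfIsAffine_inv_over, ← Spec.map_comp_assoc, ← CommRingCat.ofHom_comp]
    congr 3
    exact g.comp_algebraMap

/-- The core step over an affine chart. -/
theorem isClosedMap_of_affineSpace {P : Sp S} (hP : IsAlgSpace P) {W : Over S} [IsAffine W.left]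
    (p : P ⟶ (yon S).obj W) (hqc : IsQuasiCompactSp P)
    (h : ∀ (n : ℕ) (Q : Sp S) (fst : Q ⟶ P)
      (snd : Q ⟶ (yon S).obj (Over.mk ((𝔸(ULift.{u} (Fin n); W.left) ↘ W.left) ≫ W.hom))),
      IsPullback fst snd p ((yon S).map (Over.homMk (𝔸(ULift.{u} (Fin n); W.left) ↘ W.left))) →
        IsClosedMor snd)
    {Z : Over S} [IsAffine Z.left] (ψ : Z ⟶ W) :
    IsClosedMor (pullback.snd p ((yon S).map ψ)) := by
  let A := Γ(W.left, ⊤)
  obtain ⟨U, a, hU, ha, has⟩ := exists_affine_chart hqc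
  have : IsAffine U.left := hU
  obtain ⟨φ, hφ⟩ := (yon S).map_surjective (a ≫ p)
  algebraize [φ.left.appTop.hom, ψ.left.appTop.hom]
  let C := Γ(U.left, ⊤)
  let B := Γ(Z.left, ⊤)
  let ZB : ∀ (D : Type u) [CommRing D] [Algebra A D], Over S := fun D _ _ =>
    Over.mk ((Spec.map (CommRingCat.ofHom (algebraMap A D)) ≫ W.left.isoSpec.inv) ≫ W.hom)
  let ψD : ∀ (D : Type u) [CommRing D] [Algebra A D], ZB D ⟶ W := fun D _ _ =>
    Over.homMk (Spec.map (CommRingCat.ofHom (algebraMap A D)) ≫ W.left.isoSpec.inv) rfl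
  have hφ' : U.left.isoSpec.inv ≫ φ.left =
      Spec.map (CommRingCat.ofHom (algebraMap A C)) ≫ W.left.isoSpec.inv := by
    rw [Iso.inv_comp_eq, ← Category.assoc]
    exact (Iso.eq_comp_inv _).2 (Scheme.isoSpec_hom_naturality φ.left).symm
  let RD : ∀ (D : Type u) [CommRing D] [Algebra A D], Over S := fun D _ _ =>
    Over.mk (Spec.map (CommRingCat.ofHom (R := D) (S := C ⊗[A] D)
      (Algebra.TensorProduct.includeRight : D →ₐ[A] C ⊗[A] D).toRingHom) ≫ (ZB D).hom)
  let sD : ∀ (D : Type u) [CommRing D] [Algebra A D], RD D ⟶ ZB D := fun D _ _ =>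
    Over.homMk (Spec.map (CommRingCat.ofHom (R := D) (S := C ⊗[A] D)
      (Algebra.TensorProduct.includeRight : D →ₐ[A] C ⊗[A] D).toRingHom)) rfl
  have sqS : ∀ (D : Type u) [CommRing D] [Algebra A D],
      IsPullback (Spec.map (CommRingCat.ofHom (Algebra.TensorProduct.includeLeftRingHom : C →+* C ⊗[A] D)) ≫
        U.left.isoSpec.inv) (sD D).left φ.left (ψD D).left := by
    intro D _ _
    refine IsPullback.of_iso (IsPullback.of_hasPullback (Spec.map (CommRingCat.ofHom (algebraMap A C)))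
      (Spec.map (CommRingCat.ofHom (algebraMap A D)))) (pullbackSpecIso A C D) U.left.isoSpec.symm
      (Iso.refl _) W.left.isoSpec.symm ?_ ?_ ?_ ?_
    · rw [← pullbackSpecIso_hom_fst]; simp
    · simp only [Iso.refl_hom, Category.comp_id]
      exact (Iso.inv_comp_eq (pullbackSpecIso A C D)).1 (pullbackSpecIso_inv_snd A C D)
    · exact hφ'.symm
    · exact (Category.id_comp _).symm
  let rD : ∀ (D : Type u) [CommRing D] [Algebra A D], RD D ⟶ U := fun D _ _ =>
    Over.homMk (Spec.map (CommRingCat.ofHom (Algebra.TensorProduct.includeLeftRingHom : C →+* C ⊗[A] D)) ≫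
        U.left.isoSpec.inv) (by
      rw [← Over.w φ, ← Category.assoc, (sqS D).w, Category.assoc, Over.w (ψD D)]
      rfl)
  have sqO : ∀ (D : Type u) [CommRing D] [Algebra A D], IsPullback ((yon S).map (rD D)) ((yon S).map (sD D))
      ((yon S).map φ) ((yon S).map (ψD D)) := fun D _ _ =>
    (IsPullback.of_map (Over.forget S) (f := rD D) (g := sD D) (h := φ) (i := ψD D)
      (Over.OverMorphism.ext (sqS D).w) (sqS D)).map (yon S)
  let PD : ∀ (D : Type u) [CommRing D] [Algebra A D], Sp S := fun D _ _ => pullback p ((yon S).map (ψD D))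
  have hPD : ∀ (D : Type u) [CommRing D] [Algebra A D], IsAlgSpace (PD D) := fun D _ _ =>
    isAlgSpace_pullback hP (IsAlgSpace.yon_obj _) (IsAlgSpace.yon_obj W) p _
  let aD : ∀ (D : Type u) [CommRing D] [Algebra A D], (yon S).obj (RD D) ⟶ PD D := fun D _ _ =>
    pullback.lift ((yon S).map (rD D) ≫ a) ((yon S).map (sD D))
      (by rw [Category.assoc, ← hφ]; exact (sqO D).w)
  have sqa : ∀ (D : Type u) [CommRing D] [Algebra A D],
      IsPullback ((yon S).map (rD D)) (aD D) a (pullback.fst p ((yon S).map (ψD D))) := fun D _ _ =>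
    IsPullback.of_bot (by rw [pullback.lift_snd, ← hφ]; exact sqO D) (pullback.lift_fst _ _ _).symm
      (IsPullback.of_hasPullback p _)
  -- `Z` is `ZB B`
  let e : Z ≅ ZB B := Over.isoMk Z.left.isoSpec (by
    change Z.left.isoSpec.hom ≫ (_ ≫ W.left.isoSpec.inv) ≫ W.hom = Z.hom
    rw [← Over.w ψ, ← Category.assoc, ← Category.assoc]
    congr 1
    exact ((Iso.comp_inv_eq _).2 (Scheme.isoSpec_hom_naturality ψ.left)))
  have heψ : e.hom ≫ ψD B = ψ := Over.OverMorphism.ext (by
    rw [Over.comp_left]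
    change Z.left.isoSpec.hom ≫ (_ ≫ W.left.isoSpec.inv) = ψ.left
    rw [← Category.assoc]
    exact (Iso.comp_inv_eq _).2 (Scheme.isoSpec_hom_naturality ψ.left))
  suffices key : IsClosedMor (pullback.snd p ((yon S).map (ψD B))) by
    refine isClosedMor_of_openImmersion_base (isAlgSpace_pullback hP (IsAlgSpace.yon_obj Z) (IsAlgSpace.yon_obj W) _ _)
      (c := (yon S).map e.hom)
      (d := pullback.lift (pullback.fst p _) (pullback.snd p _ ≫ (yon S).map e.hom)
        (by rw [pullback.condition, Category.assoc, ← Functor.map_comp, heψ]))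
      (IsPullback.of_right ?_ (pullback.lift_snd _ _ _) (IsPullback.of_hasPullback p _))
      (repWith_of_isIso _) key
    rw [pullback.lift_fst, ← Functor.map_comp, heψ]
    exact IsPullback.of_hasPullback _ _
  intro T hT
  rw [← isOpen_compl_iff, isOpen_iff_forall_mem_open]
  intro zp hz
  obtain ⟨z, rfl⟩ := (Points.schemeHomeo (ZB B)).surjective zp
  let T' : Set (PrimeSpectrum (C ⊗[A] B)) := fun u => Points.map (aD B) (Points.schemeHomeo (RD B) u) ∈ T
  have hT' : IsClosed T' :=
    hT.preimage ((Points.continuous_map _).comp (Points.schemeHomeo (RD B)).continuous)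
  have hs : ∀ (D : Type u) [CommRing D] [Algebra A D] (u : (RD D).left),
      Points.map (pullback.snd p _) (Points.map (aD D) (Points.schemeHomeo _ u)) =
        Points.schemeHomeo (ZB D) ((sD D).left u) := fun D _ _ u => by
    rw [← Points.map_comp, pullback.lift_snd, Points.map_yon_map_apply]
  obtain ⟨B₀, hfg, hB₀⟩ := exists_fg_disjoint (PrimeSpectrum.vanishingIdeal T') z.asIdeal fun q hq hle hqz => by
    have hqT : (⟨q, hq⟩ : PrimeSpectrum (C ⊗[A] B)) ∈ T' := by
      rw [← closure_eq_iff_isClosed.2 hT', ← PrimeSpectrum.zeroLocus_vanishingIdeal_eq_closure]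
      exact hle
    refine hz ⟨_, hqT, (hs B _).trans (congrArg _ ?_)⟩
    exact PrimeSpectrum.ext hqz
  let η : RD B ⟶ RD B₀ := Over.homMk (Spec.map (CommRingCat.ofHom (R := C ⊗[A] B₀) (S := C ⊗[A] B)
      (Algebra.TensorProduct.map (AlgHom.id A C) B₀.val).toRingHom)) (by
    change _ ≫ _ ≫ _ = _ ≫ _
    rw [← Category.assoc, ← Spec.map_comp]
    change _ ≫ ((_ ≫ _) ≫ _) = _ ≫ ((_ ≫ _) ≫ _)
    simp only [← Category.assoc, ← Spec.map_comp]
    congr 3)
  let κ : ZB B ⟶ ZB B₀ := Over.homMk (Spec.map (CommRingCat.ofHom B₀.val.toRingHom)) (by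
    change _ ≫ ((_ ≫ _) ≫ _) = (_ ≫ _) ≫ _
    simp only [← Category.assoc, ← Spec.map_comp]
    congr 3)
  have hκψ : κ ≫ ψD B₀ = ψD B := Over.OverMorphism.ext (by
    rw [Over.comp_left]
    change Spec.map (CommRingCat.ofHom B₀.val.toRingHom) ≫ (_ ≫ _) = _ ≫ _
    simp only [← Category.assoc, ← Spec.map_comp]
    congr 2)
  have hηr : η ≫ rD B₀ = rD B := Over.OverMorphism.ext (by
    rw [Over.comp_left]
    change Spec.map (CommRingCat.ofHom (Algebra.TensorProduct.map (AlgHom.id A C) B₀.val).toRingHom) ≫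
        (Spec.map (CommRingCat.ofHom (Algebra.TensorProduct.includeLeftRingHom : C →+* C ⊗[A] B₀)) ≫
          U.left.isoSpec.inv) =
      Spec.map (CommRingCat.ofHom (Algebra.TensorProduct.includeLeftRingHom : C →+* C ⊗[A] B)) ≫
        U.left.isoSpec.inv
    simp only [← Category.assoc, ← Spec.map_comp]
    congr 2)
  have hηs : η ≫ sD B₀ = sD B ≫ κ := Over.OverMorphism.ext (by
    rw [Over.comp_left, Over.comp_left]
    change Spec.map (CommRingCat.ofHom (Algebra.TensorProduct.map (AlgHom.id A C) B₀.val).toRingHom) ≫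
        Spec.map (CommRingCat.ofHom (R := B₀) (S := C ⊗[A] B₀)
          (Algebra.TensorProduct.includeRight : B₀ →ₐ[A] C ⊗[A] B₀).toRingHom) =
      Spec.map (CommRingCat.ofHom (R := B) (S := C ⊗[A] B)
          (Algebra.TensorProduct.includeRight : B →ₐ[A] C ⊗[A] B).toRingHom) ≫
        Spec.map (CommRingCat.ofHom B₀.val.toRingHom)
    simp only [← Spec.map_comp]
    congr 1)
  let π : PD B ⟶ PD B₀ := pullback.lift (pullback.fst p _) (pullback.snd p _ ≫ (yon S).map κ)
    (by rw [pullback.condition, Category.assoc, ← Functor.map_comp, hκψ])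
  have hπa : (yon S).map η ≫ aD B₀ = aD B ≫ π := by
    apply pullback.hom_ext
    · rw [Category.assoc, Category.assoc, pullback.lift_fst, pullback.lift_fst, pullback.lift_fst,
        ← Category.assoc, ← Functor.map_comp, hηr]
    · rw [Category.assoc, Category.assoc, pullback.lift_snd, pullback.lift_snd, ← Category.assoc, pullback.lift_snd,
        ← Functor.map_comp, ← Functor.map_comp, hηs]
  have sqπ : IsPullback ((yon S).map η) (aD B) (aD B₀) π := by
    refine IsPullback.of_right ?_ hπa (sqa B₀)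
    rw [← Functor.map_comp, hηr, pullback.lift_fst]
    exact sqa B
  have haD : ∀ (D : Type u) [CommRing D] [Algebra A D], RepWith @Etale (aD D) :=
    fun D _ _ => repWith_of_isPullback (sqa D) ha
  let T₀ := closure (Points.map π '' T)
  have hT₀ : ∀ u : PrimeSpectrum (C ⊗[A] B₀), Points.map (aD B₀) (Points.schemeHomeo (RD B₀) u) ∈ T₀ →
      (PrimeSpectrum.vanishingIdeal T').comap (Algebra.TensorProduct.map (AlgHom.id A C) B₀.val) ≤ u.asIdeal := by
    intro u hu
    have h1 : Points.schemeHomeo (RD B₀) u ∈ closure (Points.map (aD B₀) ⁻¹' (Points.map π '' T)) := by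
      rw [← (isOpenMap_map_of_isEtaleMor (IsAlgSpace.yon_obj _)
        (isEtaleMor_of_repWith (haD B₀))).preimage_closure_eq_closure_preimage (Points.continuous_map _)]
      exact hu
    rw [preimage_image sqπ.flip] at h1
    let L : Set (PrimeSpectrum (C ⊗[A] B₀)) := PrimeSpectrum.zeroLocus
      ↑((PrimeSpectrum.vanishingIdeal T').comap (Algebra.TensorProduct.map (AlgHom.id A C) B₀.val))
    have h2 : closure (Points.map ((yon S).map η) '' (Points.map (aD B) ⁻¹' T)) ⊆
        Points.schemeHomeo (RD B₀) '' L := by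
      refine closure_minimal ?_ ((Points.schemeHomeo (RD B₀)).isClosed_image.2 (PrimeSpectrum.isClosed_zeroLocus _))
      rintro _ ⟨v, hv, rfl⟩
      obtain ⟨v, rfl⟩ := (Points.schemeHomeo (RD B)).surjective v
      refine ⟨η.left v, fun x hx => ?_, (Points.map_yon_map_apply η v).symm⟩
      exact (PrimeSpectrum.mem_vanishingIdeal _ _).1 hx v hv
    obtain ⟨v, hv, hvu⟩ := h2 h1
    rw [← (Points.schemeHomeo (RD B₀)).injective hvu]
    exact hv
  have hclosed : IsClosedMor (pullback.snd p ((yon S).map (ψD B₀))) := by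
    have : Algebra.FiniteType A B₀ := B₀.fg_iff_finiteType.1 hfg
    obtain ⟨n, j, hj, hjo⟩ := exists_closedImmersion_affineSpace W.left (B := B₀)
    let An : Over S := Over.mk ((𝔸(ULift.{u} (Fin n); W.left) ↘ W.left) ≫ W.hom)
    let q : An ⟶ W := Over.homMk (𝔸(ULift.{u} (Fin n); W.left) ↘ W.left)
    let j' : ZB B₀ ⟶ An := Over.homMk j (by
      change j ≫ _ ≫ W.hom = (_ ≫ _) ≫ W.hom
      rw [← Category.assoc, hjo])
    have hjq : j' ≫ q = ψD B₀ := Over.OverMorphism.ext (by rw [Over.comp_left]; exact hjo)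
    have sqn := IsPullback.of_hasPullback p ((yon S).map q)
    refine isClosedMor_of_closedImmersion_base (hPD B₀)
      (isAlgSpace_pullback hP (IsAlgSpace.yon_obj An) (IsAlgSpace.yon_obj W) p ((yon S).map q))
      (c := (yon S).map j')
      (d := pullback.lift (pullback.fst p _) (pullback.snd p _ ≫ (yon S).map j')
        (by rw [pullback.condition, Category.assoc, ← Functor.map_comp, hjq]))
      (IsPullback.of_right ?_ (pullback.lift_snd _ _ _) sqn)
      ((repWith_yon_map_iff (P := (@IsClosedImmersion : MorphismProperty Scheme.{u})) j').2 hj)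
      (h n _ _ _ sqn)
    rw [pullback.lift_fst, ← Functor.map_comp, hjq]
    exact IsPullback.of_hasPullback _ _
  refine ⟨Points.map ((yon S).map κ) ⁻¹' (Points.map (pullback.snd p _) '' T₀)ᶜ, ?_,
    (hclosed _ isClosed_closure).isOpen_compl.preimage (Points.continuous_map _), ?_⟩
  · rintro x hx ⟨t, ht, rfl⟩
    refine hx ⟨Points.map π t, subset_closure ⟨t, ht, rfl⟩, ?_⟩
    rw [← Points.map_comp, pullback.lift_snd, Points.map_comp]
  · rintro ⟨w, hw, e⟩
    have hsur : RepWith @Surjective (aD B₀) := repWith_of_isPullback (sqa B₀) has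
    obtain ⟨v, rfl⟩ := map_surjective_of_repWith hsur w
    obtain ⟨v, rfl⟩ := (Points.schemeHomeo (RD B₀)).surjective v
    rw [hs B₀ v, Points.map_yon_map_apply] at e
    refine hB₀ v.asIdeal v.isPrime (hT₀ v hw) ?_
    exact congrArg PrimeSpectrum.asIdeal ((Points.schemeHomeo (ZB B₀)).injective e)

theorem isUnivClosedMor_of_affineSpace {F G : Sp S} (hF : IsAlgSpace F) (hG : IsAlgSpace G) {f : F ⟶ G}
    (hqc : IsQuasiCompactMor f) {V : Over S} (p : (yon S).obj V ⟶ G) (hp : RepWith @Etale p)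
    (hps : RepWith @Surjective p)
    (h : ∀ (n : ℕ) (P : Sp S) (fst : P ⟶ F)
      (snd : P ⟶ (yon S).obj (Over.mk ((𝔸(ULift.{u} (Fin n); V.left) ↘ V.left) ≫ V.hom))),
      IsPullback fst snd f ((yon S).map (Over.homMk (𝔸(ULift.{u} (Fin n); V.left) ↘ V.left)) ≫ p) →
        IsClosedMap (Points.map snd)) :
    IsUnivClosedMor f := by
  refine univSp_of_etale_cover descends_isClosedMor hG (IsAlgSpace.yon_obj V) (isEtaleMor_of_repWith hp)
    (map_surjective_of_repWith hps) (IsPullback.of_hasPullback f p) ?_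
  refine (univSp_iff_affine descends_isClosedMor).2 fun Z _ g Q fst snd sq => ?_
  obtain ⟨ψ, rfl⟩ := (yon S).map_surjective g
  choose O hO hzO using fun z : Z.left =>
    exists_isAffineOpen_mem_and_subset (U := ⊤) (x := ψ.left z) trivial
  choose N hN hzN hNO using fun z : Z.left =>
    exists_isAffineOpen_mem_and_subset (U := ψ.left ⁻¹ᵁ O z) (x := z) (hzO z).1
  let Zi : Z.left → Over S := fun z => Over.mk ((N z).ι ≫ Z.hom)
  let ci : ∀ z, Zi z ⟶ Z := fun z => Over.homMk (N z).ι rfl
  refine descends_isClosedMor (ι := Z.left) (c := fun z => (yon S).map (ci z))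
    (fun z => IsPullback.of_hasPullback snd ((yon S).map (ci z))) (fun z => ?_) ?_ fun z => ?_
  · have : IsOpenImmersion (ci z).left := inferInstanceAs (IsOpenImmersion (N z).ι)
    exact isOpenMap_map_yon_of_openImmersion (ci z)
  · exact exists_mem_range_map_yon ci fun w => ⟨w, ⟨w, hzN w⟩, rfl⟩
  let W : Over S := Over.mk ((O z).ι ≫ V.hom)
  let o : W ⟶ V := Over.homMk (O z).ι rfl
  have hW : IsAffine W.left := hO z
  have : IsAffine (Zi z).left := hN z
  have hle : ψ.left.resLE (O z) (N z) (hNO z) ≫ (O z).ι = (N z).ι ≫ ψ.left := Scheme.Hom.resLE_comp_ι _ _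
  let χ : Zi z ⟶ W := Over.homMk (ψ.left.resLE (O z) (N z) (hNO z)) (by
    change _ ≫ (O z).ι ≫ V.hom = (N z).ι ≫ Z.hom
    rw [← Category.assoc, hle, Category.assoc, Over.w ψ])
  have hχ : χ ≫ o = ci z ≫ ψ := Over.OverMorphism.ext hle
  have sqW := IsPullback.of_hasPullback (pullback.snd f p) ((yon S).map o)
  have hPW : IsAlgSpace (pullback (pullback.snd f p) ((yon S).map o)) :=
    isAlgSpace_pullback (isAlgSpace_pullback hF (IsAlgSpace.yon_obj V) hG f p) (IsAlgSpace.yon_obj W)
      (IsAlgSpace.yon_obj V) _ _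
  have key := isClosedMap_of_affineSpace hPW (pullback.snd _ _)
    (hqc (IsAlgSpace.yon_obj W) (isQuasiCompactSp_yon W) _ _ _ (sqW.paste_horiz (IsPullback.of_hasPullback f p)))
    (fun n Q fst' snd' sq' => ?_) χ
  · have big := (IsPullback.of_hasPullback snd ((yon S).map (ci z))).paste_horiz sq
    rw [← Functor.map_comp, ← hχ, Functor.map_comp] at big
    have sq3 := IsPullback.of_hasPullback (pullback.snd (pullback.snd f p) ((yon S).map o)) ((yon S).map χ)
    have big' := sq3.paste_horiz sqW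
    rw [← IsPullback.isoIsPullback_hom_snd _ _ big big']
    intro A hA
    rw [show Points.map _ = _ from funext (Points.map_comp _ _), ← Set.image_image]
    exact key _ ((isHomeomorph_map_of_isIso _).isClosedMap A hA)
  · -- affine space over the open subscheme
    let AV : Over S := Over.mk ((𝔸(ULift.{u} (Fin n); V.left) ↘ V.left) ≫ V.hom)
    let AW : Over S := Over.mk ((𝔸(ULift.{u} (Fin n); W.left) ↘ W.left) ≫ W.hom)
    let qV : AV ⟶ V := Over.homMk (𝔸(ULift.{u} (Fin n); V.left) ↘ V.left)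
    let qW : AW ⟶ W := Over.homMk (𝔸(ULift.{u} (Fin n); W.left) ↘ W.left)
    let oA : AW ⟶ AV := Over.homMk (AffineSpace.map (ULift.{u} (Fin n)) (O z).ι) (by
      change _ ≫ _ ≫ V.hom = _ ≫ (O z).ι ≫ V.hom
      rw [← Category.assoc, AffineSpace.map_over, Category.assoc])
    have hoA : oA ≫ qV = qW ≫ o := Over.OverMorphism.ext (AffineSpace.map_over _)
    have : IsOpenImmersion oA.left :=
      MorphismProperty.of_isPullback (P := @IsOpenImmersion)
        (AffineSpace.isPullback_map (n := ULift.{u} (Fin n)) (O z).ι).flip inferInstance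
    have sqV := IsPullback.of_hasPullback f ((yon S).map qV ≫ p)
    have big := sq'.paste_horiz (sqW.paste_horiz (IsPullback.of_hasPullback f p))
    rw [show (yon S).map qW ≫ (yon S).map o ≫ p = (yon S).map oA ≫ (yon S).map qV ≫ p by
      rw [← Category.assoc, ← Category.assoc ((yon S).map oA), ← Functor.map_comp, ← Functor.map_comp, hoA]] at big
    exact isClosedMor_of_openImmersion_base
      (isAlgSpace_of_isPullback hPW (IsAlgSpace.yon_obj AW) (IsAlgSpace.yon_obj W) sq')
      (c := (yon S).map oA) (d := sqV.lift _ _ (big.w.trans (Category.assoc _ _ _).symm))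
      (IsPullback.of_right (by rw [sqV.lift_fst]; exact big) (sqV.lift_snd _ _ _) sqV)
      ((repWith_yon_map_iff (P := (@IsOpenImmersion : MorphismProperty Scheme.{u})) oA).2 this)
      (h n _ _ _ sqV)

end AlgSpLib
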