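import Groth.Agent.AlgSpLib.RepDescent
import Groth.Agent.AlgSpLib.Coprod
/-!
# Representability descends along local surjections, for effective classes of morphisms
-/

set_option autoImplicit false
set_option backward.isDefEq.respectTransparency false
set_option backward.isDefEq.respectTransparency.types false
universe u
open CategoryTheory CategoryTheory.Limits AlgebraicGeometry Opposite AlgSp
open CategoryTheory.Functor.relativelyRepresentable

namespace AlgSpLib

variable {S : Scheme.{u}}

/-- Classes of morphisms of schemes with effective descent over affine bases. -/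
def IsEffClass (S : Scheme.{u}) (P : MorphismProperty Scheme.{u}) : Prop :=
  ∀ ⦃T T' W' : Over S⦄ ⦃q : T' ⟶ T⦄ ⦃G : Sp S⦄ ⦃π : G ⟶ (yon S).obj T⦄ ⦃fst : (yon S).obj W' ⟶ G⦄
    ⦃pW : W' ⟶ T'⦄, IsPullback fst ((yon S).map pW) π ((yon S).map q) → IsAffine T.left → IsAffine T'.left →
      Flat q.left → LocallyOfFinitePresentation q.left → Surjective q.left → P pW.left → IsRepSh G

/-- Separated, locally quasi-finite morphisms of finite type. -/
def SepLqf : MorphismProperty Scheme.{u} := @IsSeparated ⊓ (@LocallyQuasiFinite ⊓ @LocallyOfFiniteType)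

instance : MorphismProperty.IsStableUnderBaseChange (SepLqf : MorphismProperty Scheme.{u}) := by
  unfold SepLqf; infer_instance

lemma isEffClass_sepLqf : IsEffClass S SepLqf := by
  intro T T' W' q G π fst pW sq _ _ _ _ _ h
  obtain ⟨h₁, h₂, h₃⟩ := h
  exact Datum.isRepSh_of_lqf sq

lemma isEffClass_isAffineHom : IsEffClass S @IsAffineHom := by
  intro T T' W' q G π fst pW sq _ _ _ _ _ h
  haveI : IsAffine W'.left := isAffine_of_isAffineHom pW.left
  exact Datum.isRepSh_of_quasiAffine sq

lemma IsEffClass.mono {P Q : MorphismProperty Scheme.{u}} (h : P ≤ Q) (hQ : IsEffClass S Q) : IsEffClass S P :=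
  fun _ _ _ _ _ _ _ _ sq hT hT' hf hp hs hP => hQ sq hT hT' hf hp hs (h _ hP)

/-- An fppf covering of an affine scheme is refined by an affine fppf covering. -/
lemma exists_affine_fppf_refinement {U X : Over S} [IsAffine U.left] (p : X ⟶ U) [Flat p.left]
    [LocallyOfFinitePresentation p.left] [Surjective p.left] :
    ∃ (U' : Over S) (p' : U' ⟶ U) (r : U' ⟶ X), IsAffine U'.left ∧ Flat p'.left ∧
      LocallyOfFinitePresentation p'.left ∧ Surjective p'.left ∧ r ≫ p = p' := by
  let 𝒰 := X.left.affineCover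
  have hcov : ∀ u : U.left, ∃ k, u ∈ Set.range (𝒰.f k ≫ p.left) := fun u => by
    obtain ⟨x, rfl⟩ := p.left.surjective u
    obtain ⟨k, y, rfl⟩ := 𝒰.exists_eq x
    exact ⟨k, y, (Scheme.Hom.comp_apply _ _ _)⟩
  obtain ⟨t, ht⟩ := CompactSpace.isCompact_univ.elim_finite_subcover
    (fun k => Set.range (𝒰.f k ≫ p.left)) (fun k => (𝒰.f k ≫ p.left).isOpenMap.isOpen_range)
    (fun u _ => Set.mem_iUnion.2 (hcov u))
  let g : (k : {k // k ∈ t}) → Scheme.{u} := fun k => 𝒰.X k.1
  let r := Sigma.desc (f := g) fun k => 𝒰.f k.1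
  let U' : Over S := Over.mk (r ≫ X.hom)
  haveI : ∀ k, IsAffine (g k) := fun k => inferInstanceAs (IsAffine (𝒰.X k.1))
  refine ⟨U', Over.homMk r rfl ≫ p, Over.homMk r rfl, inferInstanceAs (IsAffine (∐ g)), ?_, ?_, ⟨fun u => ?_⟩, rfl⟩
  · haveI : Flat r := IsZariskiLocalAtSource.sigmaDesc fun k => inferInstance
    exact inferInstanceAs (Flat (r ≫ p.left))
  · haveI : LocallyOfFinitePresentation r := IsZariskiLocalAtSource.sigmaDesc fun k => inferInstance
    exact inferInstanceAs (LocallyOfFinitePresentation (r ≫ p.left))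
  · obtain ⟨k, hk, hu⟩ := Set.mem_iUnion₂.mp (ht (Set.mem_univ u))
    obtain ⟨y, hy⟩ := hu
    refine ⟨Sigma.ι g ⟨k, hk⟩ y, ?_⟩
    change (r ≫ p.left) _ = u
    rw [← Scheme.Hom.comp_apply, Sigma.ι_desc_assoc]
    exact hy

variable {P : MorphismProperty Scheme.{u}} [P.IsStableUnderBaseChange]

/-- Effective descent for sheaves over a scheme. -/
theorem isRepSh_of_fppf_base (hP : IsEffClass S P) {T T' W' : Over S} {q : T' ⟶ T} {G : Sp S}
    {π : G ⟶ (yon S).obj T} {fst : (yon S).obj W' ⟶ G} {pW : W' ⟶ T'}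
    (sq : IsPullback fst ((yon S).map pW) π ((yon S).map q)) [Flat q.left] [LocallyOfFinitePresentation q.left]
    [Surjective q.left] (h : P pW.left) : IsRepSh G := by
  let 𝒰 := T.left.affineCover
  let U : 𝒰.I₀ → Over S := fun k => Over.mk (𝒰.f k ≫ T.hom)
  let j : ∀ k, U k ⟶ T := fun k => Over.homMk (𝒰.f k) rfl
  have hrep : ∀ k, IsRepSh (pullback π ((yon S).map (j k))) := fun k => by
    let X : Over S := Over.mk (pullback.fst (j k).left q.left ≫ (U k).hom)
    let a : X ⟶ U k := Over.homMk (pullback.fst _ _) rfl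
    let b : X ⟶ T' := Over.homMk (pullback.snd _ _) (by
      change pullback.snd _ _ ≫ T'.hom = pullback.fst _ _ ≫ (U k).hom
      rw [← Over.w q, ← Over.w (j k), pullback.condition_assoc])
    haveI : IsAffine (U k).left := inferInstanceAs (IsAffine (𝒰.X k))
    haveI : Flat a.left := inferInstanceAs (Flat (pullback.fst _ _))
    haveI : LocallyOfFinitePresentation a.left := inferInstanceAs (LocallyOfFinitePresentation (pullback.fst _ _))
    haveI : Surjective a.left := inferInstanceAs (Surjective (pullback.fst _ _))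
    obtain ⟨U', p', r, hU', hf, hlp, hs, hrp⟩ := exists_affine_fppf_refinement a
    have hw : (r ≫ b) ≫ q = p' ≫ j k := by
      rw [← hrp, Category.assoc, Category.assoc]
      exact congrArg _ (Over.OverMorphism.ext pullback.condition.symm)
    let Y : Over S := Over.mk (pullback.snd pW.left (r ≫ b).left ≫ U'.hom)
    let y₁ : Y ⟶ W' := Over.homMk (pullback.fst _ _) (by
      change pullback.fst _ _ ≫ W'.hom = pullback.snd _ _ ≫ U'.hom
      rw [← Over.w pW, ← Over.w (r ≫ b), pullback.condition_assoc])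
    let y₂ : Y ⟶ U' := Over.homMk (pullback.snd _ _) rfl
    have hy : IsPullback y₁ y₂ pW (r ≫ b) :=
      isPullback_over (IsPullback.of_hasPullback pW.left (r ≫ b).left)
    have hall := (hy.map (yon S)).paste_horiz sq
    have e : (yon S).map (r ≫ b) ≫ (yon S).map q = (yon S).map p' ≫ (yon S).map (j k) := by
      rw [← Functor.map_comp, hw, Functor.map_comp]
    rw [e] at hall
    have hG := IsPullback.of_hasPullback π ((yon S).map (j k))
    exact hP (IsPullback.of_right (h₁₁ := hG.lift ((yon S).map y₁ ≫ fst) ((yon S).map y₂ ≫ (yon S).map p')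
      (by rw [hall.w, Category.assoc])) (by rw [IsPullback.lift_fst]; exact hall)
      (by rw [IsPullback.lift_snd]) hG) inferInstance hU' hf hlp hs (P.of_isPullback (IsPullback.of_hasPullback _ _) h)
  choose Wk hWk using hrep
  let f : ∀ k, (yon S).obj (Wk k) ⟶ G := fun k => (hWk k).some.hom ≫ pullback.fst π ((yon S).map (j k))
  have hf : ∀ k, RepWith @IsOpenImmersion (f k) := fun k => MorphismProperty.RespectsIso.precomp _ _ _
    (repWith_of_isPullback (IsPullback.of_hasPullback π ((yon S).map (j k))).flip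
      ((repWith_yon_map_iff _ _).2 (inferInstanceAs (IsOpenImmersion (𝒰.f k)))))
  refine isRepSh_of_openCover f hf fun X b x => ?_
  obtain ⟨β, hβ⟩ := (yon S).map_surjective (b ≫ π)
  obtain ⟨k, u, hu⟩ := 𝒰.exists_eq (β.left x)
  refine ⟨k, ?_⟩
  let O := β.left ⁻¹ᵁ (𝒰.f k).opensRange
  let Oo : Over S := Over.mk (O.ι ≫ X.hom)
  let o : Oo ⟶ X := Over.homMk O.ι rfl
  let l : Oo ⟶ U k := Over.homMk (IsOpenImmersion.lift (𝒰.f k) (O.ι ≫ β.left)
    (by rintro _ ⟨z, rfl⟩; exact z.2)) (by
      change _ ≫ 𝒰.f k ≫ T.hom = O.ι ≫ X.hom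
      rw [IsOpenImmersion.lift_fac_assoc, Category.assoc, Over.w])
  have hl : l ≫ j k = o ≫ β := Over.OverMorphism.ext (IsOpenImmersion.lift_fac _ _ _)
  let m := pullback.lift (f := π) (g := (yon S).map (j k)) ((yon S).map o ≫ b) ((yon S).map l) (by
    rw [Category.assoc, ← hβ, ← Functor.map_comp, ← Functor.map_comp, hl])
  let n := (hf k).rep.lift (g := b) (m ≫ (hWk k).some.inv) o (by
    simp only [f, Category.assoc, Iso.inv_hom_id_assoc, m, pullback.lift_fst])
  refine ⟨n.left ⟨x, ⟨u, hu⟩⟩, ?_⟩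
  rw [← Scheme.Hom.comp_apply, ← Over.comp_left, lift_snd]
  rfl

/-- Morphisms from schemes lift along local surjections after one fppf covering. -/
theorem exists_single_lift {H G : Sp S} (a : H ⟶ G) [Sheaf.IsLocallySurjective a] {T : Over S}
    (b : (yon S).obj T ⟶ G) :
    ∃ (T' : Over S) (q : T' ⟶ T) (l : (yon S).obj T' ⟶ H), Flat q.left ∧ LocallyOfFinitePresentation q.left ∧
      Surjective q.left ∧ l ≫ a = (yon S).map q ≫ b := by
  obtain ⟨V, c, hcf, hcp, hcs, hl⟩ := exists_lift_of_isLocallySurjective a b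
  choose l hl using hl
  let g : ↥T.left → Scheme.{u} := fun t => (V t).left
  let T' : Over S := Over.mk (Sigma.desc (f := g) fun t => (V t).hom)
  let s : ∀ t, V t ⟶ T' := fun t => Over.homMk (Sigma.ι g t) (Sigma.ι_desc (fun t => (V t).hom) t)
  let q : T' ⟶ T := Over.homMk (Sigma.desc fun t => (c t).left) (by
    refine Sigma.hom_ext _ _ fun t => ?_
    rw [Sigma.ι_desc_assoc, Over.w]
    exact (Sigma.ι_desc (fun t => (V t).hom) t).symm)
  have hsc : ∀ t, s t ≫ q = c t := fun t => Over.OverMorphism.ext (Sigma.ι_desc _ _)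
  obtain ⟨hc⟩ := nonempty_isColimit_yon_cofan s
    (fun t => inferInstanceAs (IsOpenImmersion (Sigma.ι g t)))
    (fun v => let ⟨t, y, hy⟩ := (sigmaOpenCover g).exists_eq v; ⟨t, y, hy⟩)
    (fun i j hij => by
      have := disjoint_opensRange_sigmaι g i j hij
      exact Set.disjoint_left.2 fun x hx hy => Disjoint.le_bot this ⟨hx, hy⟩)
  let L := Cofan.IsColimit.desc hc l
  have hL : ∀ t, (yon S).map (s t) ≫ L = l t := fun t => Cofan.IsColimit.fac hc l t
  refine ⟨T', q, L, IsZariskiLocalAtSource.sigmaDesc hcf, IsZariskiLocalAtSource.sigmaDesc hcp,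
    ⟨fun x => ?_⟩, ?_⟩
  · obtain ⟨v, hv⟩ := hcs x
    refine ⟨(s x).left v, ?_⟩
    rw [← Scheme.Hom.comp_apply, ← Over.comp_left, hsc]; exact hv
  · refine Cofan.IsColimit.hom_ext hc _ _ fun t => ?_
    change (yon S).map (s t) ≫ L ≫ a = (yon S).map (s t) ≫ (yon S).map q ≫ b
    rw [← Category.assoc, hL, hl, ← Functor.map_comp_assoc, hsc]

/-- Representability descends along local surjections for effective classes. -/
theorem representable_of_cover (hP : IsEffClass S P) {F G H K : Sp S} {f : F ⟶ G} {a : H ⟶ G}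
    [Sheaf.IsLocallySurjective a] {fst : K ⟶ F} {snd : K ⟶ H} (sq : IsPullback fst snd f a)
    (h : RepWith P snd) : Representable f := by
  intro T ξ
  obtain ⟨T', q, l, hq₁, hq₂, hq₃, hl⟩ := exists_single_lift a ξ
  have sql := (h.rep.isPullback l).paste_horiz sq
  rw [hl] at sql
  have hG := IsPullback.of_hasPullback f ξ
  have sq' : IsPullback (hG.lift (h.rep.fst l ≫ fst) ((yon S).map (h.rep.snd l) ≫ (yon S).map q)
      (by rw [sql.w, Category.assoc])) ((yon S).map (h.rep.snd l)) (pullback.snd f ξ) ((yon S).map q) :=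
    IsPullback.of_right (by rw [IsPullback.lift_fst]; exact sql) (by rw [IsPullback.lift_snd]) hG
  obtain ⟨W, ⟨e⟩⟩ := isRepSh_of_fppf_base hP sq' (h.property_snd l)
  obtain ⟨s, hs⟩ := (yon S).map_surjective (e.hom ≫ pullback.snd f ξ)
  exact ⟨W, s, e.hom ≫ pullback.fst f ξ, hG.of_iso e.symm (Iso.refl _) (Iso.refl _) (Iso.refl _)
    (by simp) (by simp [hs]) (by simp) (by simp)⟩

/-- Properties descend along local surjections. -/
theorem repWith_of_cover {Q : MorphismProperty Scheme.{u}} [Q.IsStableUnderBaseChange]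
    [Q.DescendsAlong (@Surjective ⊓ @Flat ⊓ @LocallyOfFinitePresentation)]
    {F G H K : Sp S} {f : F ⟶ G} {a : H ⟶ G} [Sheaf.IsLocallySurjective a] {fst : K ⟶ F} {snd : K ⟶ H}
    (sq : IsPullback fst snd f a) (hf : Representable f) (h : RepWith Q snd) : RepWith Q f := by
  haveI : Q.RespectsIso := MorphismProperty.IsStableUnderBaseChange.respectsIso
  refine MorphismProperty.relative_of_snd hf fun T ξ => ?_
  obtain ⟨T', q, l, hq₁, hq₂, hq₃, hl⟩ := exists_single_lift a ξ
  have sql := (h.rep.isPullback l).paste_horiz sq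
  rw [hl] at sql
  obtain ⟨r, hr⟩ := (yon S).map_surjective ((hf.isPullback ξ).lift (h.rep.fst l ≫ fst)
    ((yon S).map (h.rep.snd l) ≫ (yon S).map q) (by rw [sql.w, Category.assoc]))
  have sq' : IsPullback ((yon S).map r) ((yon S).map (h.rep.snd l)) ((yon S).map (hf.snd ξ)) ((yon S).map q) :=
    IsPullback.of_right (by rw [hr, IsPullback.lift_fst]; exact sql) (by rw [hr, IsPullback.lift_snd])
      (hf.isPullback ξ)
  have sqS : IsPullback r.left (h.rep.snd l).left (hf.snd ξ).left q.left :=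
    (IsPullback.of_map (yon S) ((yon S).map_injective (by simpa using sq'.w)) sq').map (Over.forget S)
  exact MorphismProperty.of_isPullback_of_descendsAlong (P := Q)
    (Q := @Surjective ⊓ @Flat ⊓ @LocallyOfFinitePresentation) sqS.flip ⟨⟨hq₃, hq₁⟩, hq₂⟩ (h.property_snd l)

end AlgSpLib
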