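import Groth.Agent.AlgSpLib.Noeth
import Groth.Agent.AlgSpLib.ReducedSmooth
import Groth.Prelude.Def_AlgSpSub
/-!
# Reduced and locally Noetherian algebraic spaces: descent along flat surjective morphisms
-/

set_option autoImplicit false
universe u
open CategoryTheory CategoryTheory.Limits AlgebraicGeometry AlgSp Topology

namespace AlgSpLib

variable {S : Scheme.{u}}

theorem isReduced_of_chart {F : Sp S} (hF : IsReducedSp F) {U : Over S}
    {a : (yon S).obj U ⟶ F} (ha : RepWith @Etale a) : IsReduced U.left := by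
  obtain ⟨U₀, p, hp, hps, h₀⟩ := hF
  obtain ⟨W, q, r, sq⟩ := exists_isPullback_yon p a hp.rep
  have := etale_left (repWith_of_isPullback sq hp)
  have := surjective_left (repWith_of_isPullback sq hps)
  have := etale_left (repWith_of_isPullback sq.flip ha)
  have : IsReduced U₀.left := h₀
  have := isReduced_of_smooth q.left
  exact isReduced_of_flat_surjective r.left

theorem isReducedSp_of_smooth {F G : Sp S} (hF : IsAlgSpace F) (hG : IsAlgSpace G) {f : F ⟶ G}
    (hf : LocP @Smooth f) (hGn : IsReducedSp G) : IsReducedSp F := by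
  obtain ⟨U, V, a, b, h, ha, has, hb, -, e⟩ := exists_chart hF hG f
  have := isReduced_of_chart hGn hb
  have : Smooth h.left := hf a b h ha hb e
  exact ⟨U, a, ha, has, isReduced_of_smooth h.left⟩

/-- A surjective morphism has charts related by a surjective map. -/
theorem exists_surjective_chart {F G : Sp S} (hF : IsAlgSpace F) (hG : IsAlgSpace G) {f : F ⟶ G}
    (hs : IsSurjectiveMor f) {V : Over S} (b : (yon S).obj V ⟶ G) (hb : RepWith @Etale b) :
    ∃ (U : Over S) (a : (yon S).obj U ⟶ F) (h : U ⟶ V),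
      RepWith @Etale a ∧ Surjective h.left ∧ a ≫ f = (yon S).map h ≫ b := by
  have sq := IsPullback.of_hasPullback f b
  obtain ⟨U, c, hc, hcs⟩ := (isAlgSpace_pullback hF (IsAlgSpace.yon_obj V) hG f b).atlas
  obtain ⟨h, hh⟩ := (yon S).map_surjective (c ≫ pullback.snd f b)
  refine ⟨U, c ≫ pullback.fst f b, h,
    repWith_comp hc (repWith_of_isPullback sq.flip hb), ⟨fun v => ?_⟩,
    by rw [hh, Category.assoc, Category.assoc, pullback.condition]⟩
  obtain ⟨w, hw⟩ := map_surjective_of_isPullback sq hs (Points.ofScheme V v)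
  obtain ⟨z, hz⟩ := map_surjective_of_repWith hcs w
  obtain ⟨z, rfl⟩ := (Points.schemeEquiv U).surjective z
  refine ⟨z, (Points.schemeEquiv V).injective ((Points.map_yon_map_apply h z).symm.trans ?_)⟩
  rw [hh, Points.map_comp]
  exact (congrArg _ hz).trans hw

theorem isReducedSp_of_flat_surjective {F G : Sp S} (hF : IsAlgSpace F) (hG : IsAlgSpace G)
    {f : F ⟶ G} (hfl : LocP @Flat f) (hs : IsSurjectiveMor f) (h : IsReducedSp F) : IsReducedSp G := by
  obtain ⟨V, b, hb, hbs⟩ := hG.atlas
  obtain ⟨U, a, k, ha, hks, e⟩ := exists_surjective_chart hF hG hs b hb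
  have := isReduced_of_chart h ha
  have : Flat k.left := hfl a b k ha hb e
  exact ⟨V, b, hb, hbs, isReduced_of_flat_surjective k.left⟩

theorem isLocallyNoetherian_of_fppf_surjective {U W : Scheme.{u}} (g : W ⟶ U) [Flat g]
    [LocallyOfFinitePresentation g] [Surjective g] [IsLocallyNoetherian W] :
    IsLocallyNoetherian U := by
  rw [isLocallyNoetherian_iff_of_affine_openCover U.affineCover]
  intro i
  let g' := pullback.snd g (U.affineCover.f i)
  have : IsLocallyNoetherian (pullback g (U.affineCover.f i)) :=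
    LocallyOfFiniteType.isLocallyNoetherian (pullback.fst g (U.affineCover.f i))
  choose x' hx' using g'.surjective
  choose O hO hxO using fun x : U.affineCover.X i =>
    exists_isAffineOpen_mem_and_subset (X := pullback g (U.affineCover.f i)) (U := ⊤) (x := x' x) trivial
  obtain ⟨t, ht⟩ := isCompact_univ.elim_finite_subcover
    (fun x : U.affineCover.X i => g' '' (O x : Set _)) (fun x => g'.isOpenMap _ (O x).2)
    (fun x _ => Set.mem_iUnion.2 ⟨x, x' x, (hxO x).1, hx' x⟩)
  let Z : t → Scheme.{u} := fun r => (O r.1).toScheme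
  have : ∀ r, IsAffine (Z r) := fun r => hO r.1
  let k : (∐ Z) ⟶ pullback g (U.affineCover.f i) := Sigma.desc fun r : t => (O r.1).ι
  have : LocallyOfFiniteType k := IsZariskiLocalAtSource.sigmaDesc (P := @LocallyOfFiniteType)
    fun r => inferInstance
  have : Flat (k ≫ g') := by
    have : k ≫ g' = Sigma.desc fun r : t => (O r.1).ι ≫ g' := Sigma.hom_ext _ _ fun r => by
      rw [Sigma.ι_desc_assoc, Sigma.ι_desc]
    rw [this]; infer_instance
  have : Surjective (k ≫ g') := ⟨fun x => by
    obtain ⟨r, hr, y, hy, rfl⟩ := Set.mem_iUnion₂.1 (ht (Set.mem_univ x))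
    refine ⟨Sigma.ι Z ⟨r, hr⟩ ⟨y, hy⟩, ?_⟩
    rw [← Scheme.Hom.comp_apply, Sigma.ι_desc_assoc, Scheme.Hom.comp_apply]
    rfl⟩
  have : IsLocallyNoetherian (∐ Z) := LocallyOfFiniteType.isLocallyNoetherian k
  have : IsNoetherianRing Γ(∐ Z, ⊤) :=
    IsLocallyNoetherian.component_noetherian ⟨⊤, isAffineOpen_top _⟩
  algebraize [(k ≫ g').appTop.hom]
  have : Module.FaithfullyFlat Γ(U.affineCover.X i, ⊤) Γ(∐ Z, ⊤) :=
    (Flat.flat_and_surjective_iff_faithfullyFlat_of_isAffine (k ≫ g')).1 ⟨‹_›, ‹_›⟩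
  exact isNoetherianRing_of_faithfullyFlat Γ(U.affineCover.X i, ⊤) Γ(∐ Z, ⊤)

theorem isLocNoethSp_of_fppf_surjective {F G : Sp S} (hF : IsAlgSpace F) (hG : IsAlgSpace G)
    {f : F ⟶ G} (hfp : LocP @LocallyOfFinitePresentation f) (hfl : LocP @Flat f)
    (hs : IsSurjectiveMor f) (h : IsLocNoethSp F) : IsLocNoethSp G := by
  obtain ⟨V, b, hb, hbs⟩ := hG.atlas
  obtain ⟨U, a, k, ha, hks, e⟩ := exists_surjective_chart hF hG hs b hb
  have := isLocallyNoetherian_of_chart h ha
  have : Flat k.left := hfl a b k ha hb e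
  have : LocallyOfFinitePresentation k.left := hfp a b k ha hb e
  exact ⟨V, b, hb, hbs, isLocallyNoetherian_of_fppf_surjective k.left⟩

end AlgSpLib
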