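import Mathlib.RingTheory.Smooth.NoetherianDescent
import Mathlib.RingTheory.Finiteness.Descent
import Mathlib.RingTheory.Flat.FaithfullyFlat.Algebra
import Mathlib.RingTheory.Smooth.Flat
import Mathlib.RingTheory.Smooth.Fiber
import Mathlib.RingTheory.Etale.Kaehler
import Mathlib.RingTheory.Kaehler.JacobiZariski
import Mathlib.AlgebraicGeometry.PullbackCarrier
import Mathlib.AlgebraicGeometry.Morphisms.Smooth
/-!
# Descending properties of `R → A` from `R → B` for a faithfully flat smooth (or etale) `A → B`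
-/

set_option autoImplicit false
universe u
open TensorProduct

namespace AlgSpLib

theorem exists_baseChange_bijective_of_localized {A M N : Type u} [CommRing A] [AddCommGroup M]
    [Module A M] [AddCommGroup N] [Module A N] [Module.Finite A M] [Module.FinitePresentation A N]
    (S₀ : Submonoid A) (l : M →ₗ[A] N)
    (h : Function.Bijective (IsLocalizedModule.map S₀ (LocalizedModule.mkLinearMap S₀ M)
      (LocalizedModule.mkLinearMap S₀ N) l)) :
    ∃ r ∈ S₀, Function.Bijective (l.baseChange (Localization.Away r)) := by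
  obtain ⟨r, hr, hr'⟩ := exists_bijective_map_powers S₀ (LocalizedModule.mkLinearMap S₀ M)
    (LocalizedModule.mkLinearMap S₀ N) l h
  refine ⟨r, hr, ?_⟩
  have : IsLocalizedModule (.powers r) (TensorProduct.mk A (Localization.Away r) M 1) :=
    (isLocalizedModule_iff_isBaseChange (.powers r) (Localization.Away r) _).2
      (TensorProduct.isBaseChange _ _ _)
  have : IsLocalizedModule (.powers r) (TensorProduct.mk A (Localization.Away r) N 1) :=
    (isLocalizedModule_iff_isBaseChange (.powers r) (Localization.Away r) _).2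
      (TensorProduct.isBaseChange _ _ _)
  have h1 := hr' r dvd_rfl
  let e₁ := IsLocalizedModule.iso (.powers r) (TensorProduct.mk A (Localization.Away r) M 1)
  let e₂ := IsLocalizedModule.iso (.powers r) (TensorProduct.mk A (Localization.Away r) N 1)
  have h2 : (l.baseChange (Localization.Away r)).restrictScalars A ∘ₗ e₁.toLinearMap =
      e₂.toLinearMap ∘ₗ (LocalizedModule.map (.powers r) l).restrictScalars A := by
    apply IsLocalizedModule.ext (.powers r) (LocalizedModule.mkLinearMap (.powers r) M)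
      (IsLocalizedModule.map_units (TensorProduct.mk A (Localization.Away r) N 1))
    ext z
    simp [e₁, e₂, LocalizedModule.mkLinearMap_apply, LocalizedModule.map_mk]
  have h3 : Function.Bijective
      ((l.baseChange (Localization.Away r)).restrictScalars A ∘ₗ e₁.toLinearMap) := by
    rw [h2]
    exact e₂.bijective.comp h1
  exact (Function.Bijective.of_comp_iff _ e₁.bijective).1 h3

theorem exists_basis_near (R A : Type u) [CommRing R] [CommRing A] [Algebra R A] [Algebra.FinitePresentation R A] [Module.Flat A Ω[A⁄R]] (p : PrimeSpectrum A) :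
    ∃ r ∉ p.asIdeal, ∃ (κ : Type u) (_ : Finite κ) (t : κ → A),
      Function.Bijective ((Finsupp.linearCombination A fun i => KaehlerDifferential.D R A (t i)).baseChange
        (Localization.Away r)) := by
  classical
  obtain ⟨s, hs⟩ := Algebra.FiniteType.out (R := R) (A := A)
  let x : s → A := Subtype.val
  have hgen : Submodule.span A (Set.range fun i => KaehlerDifferential.D R A (x i)) = ⊤ := by
    rw [eq_top_iff, ← KaehlerDifferential.span_range_derivation, Submodule.span_le]
    rintro _ ⟨a, rfl⟩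
    have ha : a ∈ Algebra.adjoin R (s : Set A) := hs ▸ Algebra.mem_top
    induction ha using Algebra.adjoin_induction with
    | mem y hy => exact Submodule.subset_span ⟨⟨y, hy⟩, rfl⟩
    | algebraMap r => simp
    | add y z _ _ hy hz => rw [map_add]; exact add_mem hy hz
    | mul y z _ _ hy hz =>
      rw [Derivation.leibniz]
      exact add_mem (Submodule.smul_mem _ _ hz) (Submodule.smul_mem _ _ hy)
  -- choose a basis among the generators at the prime
  let S₀ := p.asIdeal.primeCompl
  let m : Ω[A⁄R] →ₗ[A] LocalizedModule S₀ Ω[A⁄R] := LocalizedModule.mkLinearMap S₀ Ω[A⁄R]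
  have hspan : Submodule.span (Localization S₀) (Set.range fun i => m (KaehlerDifferential.D R A (x i))) = ⊤ := by
    have := span_eq_top_of_isLocalizedModule
      (Localization S₀) S₀ m hgen
    rwa [← Set.range_comp] at this
  have : IsLocalRing (Localization S₀) := inferInstanceAs (IsLocalRing (Localization.AtPrime p.asIdeal))
  obtain ⟨κ, a, b, hb⟩ := Module.exists_basis_of_span_of_flat _ hspan
  have hκ : Finite κ := Module.Finite.finite_basis b
  let l : (κ →₀ A) →ₗ[A] Ω[A⁄R] :=
    Finsupp.linearCombination A fun i => KaehlerDifferential.D R A (x (a i))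
  refine (exists_baseChange_bijective_of_localized S₀ l ?_).elim
    fun r h => ⟨r, h.1, κ, hκ, fun i => x (a i), h.2⟩
  let F := LocalizedModule.mkLinearMap S₀ (κ →₀ A)
  let e := IsLocalizedModule.map S₀ F m l
  change Function.Bijective e
  let bF : Module.Basis κ (Localization S₀) (LocalizedModule S₀ (κ →₀ A)) :=
    (Finsupp.basisSingleOne (R := A) (ι := κ)).ofIsLocalizedModule (Localization S₀) S₀ F
  have he : (e.extendScalarsOfIsLocalization S₀ (Localization S₀)) =
      (bF.equiv b (Equiv.refl κ)).toLinearMap := by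
    refine bF.ext fun i => ?_
    rw [LinearEquiv.coe_coe, Module.Basis.equiv_apply, Equiv.refl_apply, hb]
    change e (bF i) = _
    rw [Module.Basis.ofIsLocalizedModule_apply]
    simp only [e, IsLocalizedModule.map_apply, Finsupp.coe_basisSingleOne, l,
      Finsupp.linearCombination_single, one_smul]
  have hfun : ∀ z, e z = bF.equiv b (Equiv.refl κ) z := fun z => LinearMap.congr_fun he z
  have hb' := (bF.equiv b (Equiv.refl κ)).bijective
  rw [← funext hfun] at hb'
  exact hb'

variable (R A B : Type u) [CommRing R] [CommRing A] [CommRing B] [Algebra R A] [Algebra A B]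
  [Algebra R B] [IsScalarTower R A B]

theorem flat_of_faithfullyFlat_comp [Module.FaithfullyFlat A B] [Module.Flat R B] :
    Module.Flat R A := by
  rw [Module.Flat.iff_lTensor_preserves_injective_linearMap]
  intro N M _ _ _ _ f hf
  rw [injective_iff_map_eq_zero]
  intro x hx
  apply Module.FaithfullyFlat.tensorProduct_mk_injective (A := A) (B := B) (A ⊗[R] N)
  rw [map_zero]
  apply (AlgebraTensorModule.cancelBaseChange R A A B N).injective
  rw [map_zero]
  apply Module.Flat.lTensor_preserves_injective_linearMap f hf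
  rw [map_zero]
  have : ∀ z : A ⊗[R] N, f.lTensor B (AlgebraTensorModule.cancelBaseChange R A A B N (1 ⊗ₜ z)) =
      AlgebraTensorModule.cancelBaseChange R A A B M (1 ⊗ₜ f.lTensor A z) := by
    intro z
    induction z with
    | zero => simp
    | tmul a n => simp
    | add y z hy hz => simp [tmul_add, hy, hz]
  rw [show (TensorProduct.mk A B (A ⊗[R] N) 1) x = (1 : B) ⊗ₜ x from rfl, this, hx]
  simp

/-- Surjectivity on spectra is stable under base change. -/
theorem exists_prime_tensor {A₀ A₁ B₀ : Type u} [CommRing A₀] [CommRing A₁] [CommRing B₀]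
    [Algebra A₀ A₁] [Algebra A₀ B₀] (p : PrimeSpectrum A₁) (q : PrimeSpectrum B₀)
    (h : PrimeSpectrum.comap (algebraMap A₀ A₁) p = PrimeSpectrum.comap (algebraMap A₀ B₀) q) :
    p ∈ Set.range (PrimeSpectrum.comap (algebraMap A₁ (A₁ ⊗[A₀] B₀))) := by
  have sq := AlgebraicGeometry.isPullback_SpecMap_of_isPushout _ _ _ _
    (CommRingCat.isPushout_tensorProduct A₀ A₁ B₀)
  obtain ⟨z, hz, -⟩ := AlgebraicGeometry.Scheme.exists_preimage_of_isPullback sq p q h
  exact ⟨z, hz⟩

/-- The model of a faithfully flat smooth algebra over a bigger finitely generated subalgebra. -/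
theorem exists_model (k : Type*) [CommRing k] (A B : Type u) [CommRing A] [CommRing B]
    [Algebra k A] [Algebra A B] [Algebra.Smooth A B] [Module.FaithfullyFlat A B] :
    ∃ (A₀ : Subalgebra k A) (B₀ : Type u) (_ : CommRing B₀) (_ : Algebra A₀ B₀),
      A₀.FG ∧ Algebra.Smooth A₀ B₀ ∧ Nonempty (B ≃ₐ[A] A ⊗[A₀] B₀) ∧
      ∃ cs : Finset A, ∀ (A₁ : Type u) [CommRing A₁] [Algebra A₀ A₁] [Algebra A₁ A]
        [IsScalarTower A₀ A₁ A], (cs : Set A) ⊆ Set.range (algebraMap A₁ A) →
        Function.Injective (algebraMap A₁ A) → Module.FaithfullyFlat A₁ (A₁ ⊗[A₀] B₀) := by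
  obtain ⟨A₀, B₀, _, _, hfg, hsm, ⟨e⟩⟩ := Algebra.Smooth.exists_subalgebra_fg k A B
  refine ⟨A₀, B₀, inferInstance, inferInstance, hfg, hsm, ⟨e⟩, ?_⟩
  -- the complement of the image of `Spec B₀`
  let T := Set.range (PrimeSpectrum.comap (algebraMap A₀ B₀))
  let J : Ideal A₀ := PrimeSpectrum.vanishingIdeal Tᶜ
  have hT : IsOpen T := by
    refine IsOpenMap.isOpen_range ?_
    exact PrimeSpectrum.isOpenMap_comap_of_hasGoingDown_of_finitePresentation
  have hJ : PrimeSpectrum.zeroLocus (J : Set A₀) = Tᶜ := by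
    rw [PrimeSpectrum.zeroLocus_vanishingIdeal_eq_closure, hT.isClosed_compl.closure_eq]
  have htop : J.map (algebraMap A₀ A) = ⊤ := by
    by_contra hne
    obtain ⟨m, hm, hle⟩ := Ideal.exists_le_maximal _ hne
    have : Module.FaithfullyFlat A (A ⊗[A₀] B₀) := .of_linearEquiv _ _ e.symm.toLinearEquiv
    obtain ⟨q, hq⟩ := PrimeSpectrum.comap_surjective_of_faithfullyFlat
      (A := A) (B := A ⊗[A₀] B₀) ⟨m, hm.isPrime⟩
    let p₀ := PrimeSpectrum.comap (algebraMap A₀ A) ⟨m, hm.isPrime⟩
    have hp : p₀ ∈ T := by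
      refine ⟨PrimeSpectrum.comap
        (Algebra.TensorProduct.includeRight : B₀ →ₐ[A₀] A ⊗[A₀] B₀).toRingHom q, ?_⟩
      rw [← PrimeSpectrum.comap_comp_apply]
      change _ = PrimeSpectrum.comap (algebraMap A₀ A) ⟨m, hm.isPrime⟩
      rw [← hq, ← PrimeSpectrum.comap_comp_apply]
      refine congrArg (fun f => PrimeSpectrum.comap f q) (RingHom.ext fun a => ?_)
      exact ((Algebra.TensorProduct.includeRight : B₀ →ₐ[A₀] A ⊗[A₀] B₀).commutes a).trans
        (IsScalarTower.algebraMap_apply A₀ A (A ⊗[A₀] B₀) a)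
    have : p₀ ∈ PrimeSpectrum.zeroLocus (J : Set A₀) :=
      fun j hj => hle (Ideal.mem_map_of_mem _ hj)
    rw [hJ] at this
    exact this hp
  classical
  obtain ⟨c, hc, hsum⟩ := Submodule.mem_span_set.1
    (show (1 : A) ∈ Ideal.span ((algebraMap A₀ A) '' (J : Set A₀)) by
      rw [← Ideal.map, htop]; trivial)
  refine ⟨c.support.image c, fun A₁ _ _ _ _ hcs hinj => ?_⟩
  have : Module.Flat A₁ (A₁ ⊗[A₀] B₀) := inferInstance
  refine Module.FaithfullyFlat.of_comap_surjective (fun p => ?_)
  have hJ1 : ¬ J ≤ (PrimeSpectrum.comap (algebraMap A₀ A₁) p).asIdeal := by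
    intro hle
    refine p.isPrime.ne_top ((Ideal.eq_top_iff_one _).2 ?_)
    have h1 : ∀ j ∈ c.support, ∃ a₁ : A₁, c j • j = algebraMap A₁ A a₁ ∧ a₁ ∈ p.asIdeal := by
      intro j hj
      obtain ⟨j₀, hj₀, rfl⟩ := hc hj
      obtain ⟨a₁, ha₁⟩ := hcs (Finset.mem_image_of_mem _ hj)
      refine ⟨a₁ * algebraMap A₀ A₁ j₀, ?_, p.asIdeal.mul_mem_left _ (hle hj₀)⟩
      rw [map_mul, ha₁, ← IsScalarTower.algebraMap_apply, smul_eq_mul]
    choose! a₁ ha ha' using h1
    have : (1 : A₁) = ∑ j ∈ c.support, a₁ j := by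
      apply hinj
      rw [map_sum, map_one, ← hsum]
      exact Finset.sum_congr rfl (fun j hj => ha j hj)
    rw [this]
    exact Ideal.sum_mem _ ha'
  have : PrimeSpectrum.comap (algebraMap A₀ A₁) p ∈ T := by
    by_contra h
    have h' : PrimeSpectrum.comap (algebraMap A₀ A₁) p ∈ PrimeSpectrum.zeroLocus (J : Set A₀) :=
      hJ ▸ h
    exact hJ1 h'
  obtain ⟨q, hq⟩ := this
  exact exists_prime_tensor p q hq.symm

theorem finiteType_of_smooth_faithfullyFlat_comp [Algebra.Smooth A B] [Module.FaithfullyFlat A B]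
    [Algebra.FiniteType R B] : Algebra.FiniteType R A := by
  classical
  obtain ⟨A₀, B₀, _, _, hfg, _, ⟨e⟩, cs, hcs⟩ := exists_model R A B
  obtain ⟨sB, hsB⟩ := Algebra.FiniteType.out (R := R) (A := B)
  choose T hT using fun b : B => TensorProduct.exists_finset (e b)
  let gens : Finset A := cs ∪ sB.biUnion (fun b => (T b).image Prod.fst)
  let A₁ : Subalgebra R A := A₀ ⊔ Algebra.adjoin R gens
  have hA₁ : A₁.FG := hfg.sup (Subalgebra.fg_adjoin_finset gens)
  letI : Algebra A₀ A₁ := (Subalgebra.inclusion (le_sup_left : A₀ ≤ A₁)).toRingHom.toAlgebra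
  haveI : IsScalarTower A₀ A₁ A := .of_algebraMap_eq (fun _ => rfl)
  have hgens : ∀ a ∈ gens, a ∈ A₁ := fun a ha =>
    (le_sup_right : Algebra.adjoin R (gens : Set A) ≤ A₁) (Algebra.subset_adjoin ha)
  have hcsA : (cs : Set A) ⊆ Set.range (algebraMap A₁ A) := fun a ha =>
    ⟨⟨a, hgens a (Finset.mem_union_left _ ha)⟩, rfl⟩
  haveI : Module.FaithfullyFlat A₁ (A₁ ⊗[A₀] B₀) := hcs A₁ hcsA Subtype.val_injective
  -- the map from the model to `B` is surjective
  let ι : A₁ →ₐ[A₀] A := IsScalarTower.toAlgHom A₀ A₁ A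
  let ψ : A₁ ⊗[A₀] B₀ →ₐ[A₀] A ⊗[A₀] B₀ := Algebra.TensorProduct.map ι (AlgHom.id A₀ B₀)
  have hψ : Function.Surjective ψ := by
    intro z
    obtain ⟨b, rfl⟩ := e.surjective z
    suffices h : ∀ b : B, b ∈ Algebra.adjoin R (sB : Set B) → e b ∈ ψ.range.toSubring from
      h b (hsB ▸ Algebra.mem_top)
    intro b hb
    induction hb using Algebra.adjoin_induction with
    | mem x hx =>
      rw [hT x]
      refine Subring.sum_mem _ (fun p hp => ?_)
      exact ⟨⟨p.1, hgens p.1 (Finset.mem_union_right _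
        (Finset.mem_biUnion.2 ⟨x, hx, Finset.mem_image_of_mem _ hp⟩))⟩ ⊗ₜ p.2, rfl⟩
    | algebraMap r =>
      refine ⟨algebraMap R A₁ r ⊗ₜ 1, ?_⟩
      change algebraMap R A r ⊗ₜ[A₀] (1 : B₀) = _
      rw [IsScalarTower.algebraMap_apply R A B, e.commutes]
      rfl
    | add x y _ _ hx hy => rw [map_add]; exact add_mem hx hy
    | mul x y _ _ hx hy => rw [map_mul]; exact mul_mem hx hy
  -- hence `A₁ = A`
  have hsurj : Function.Surjective (Algebra.linearMap A₁ A) := by
    rw [← Module.FaithfullyFlat.lTensor_surjective_iff_surjective A₁ (A₁ ⊗[A₀] B₀)]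
    intro z
    induction z with
    | zero => exact ⟨0, map_zero _⟩
    | add x y hx hy =>
      obtain ⟨u, hu⟩ := hx
      obtain ⟨v, hv⟩ := hy
      exact ⟨u + v, by rw [map_add, hu, hv]⟩
    | tmul w a =>
      let κ : (A₁ ⊗[A₀] B₀) ⊗[A₁] A ≃ₗ[A₁] A ⊗[A₀] B₀ :=
        TensorProduct.comm A₁ _ _ ≪≫ₗ
          (AlgebraTensorModule.cancelBaseChange A₀ A₁ A₁ A B₀)
      obtain ⟨v, hv⟩ := hψ (κ (w ⊗ₜ a))
      refine ⟨v ⊗ₜ 1, κ.injective ?_⟩
      rw [← hv]
      clear hv
      induction v with
      | zero => simp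
      | add x y hx hy => simp only [add_tmul, map_add, hx, hy]
      | tmul a₁ b₀ =>
        simp only [LinearMap.lTensor_tmul, Algebra.linearMap_apply, map_one, κ,
          LinearEquiv.trans_apply, TensorProduct.comm_tmul, ψ, Algebra.TensorProduct.map_tmul,
          AlgHom.id_apply]
        change ((a₁ ⊗ₜ[A₀] b₀ : A₁ ⊗[A₀] B₀)) |> fun v =>
          AlgebraTensorModule.cancelBaseChange A₀ A₁ A₁ A B₀ ((1 : A) ⊗ₜ v) = _
        simp [Algebra.smul_def, ι]
        rfl
  have : A₁ = ⊤ := eq_top_iff.2 fun a _ => by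
    obtain ⟨x, rfl⟩ := hsurj a
    exact x.2
  exact ⟨this ▸ hA₁⟩

theorem faithfullyFlat_model_of_cover {A₀ A₁ A₂ B₀ : Type u} [CommRing A₀] [CommRing A₁]
    [CommRing A₂] [CommRing B₀] [Algebra A₀ A₁] [Algebra A₁ A₂] [Algebra A₀ A₂]
    [IsScalarTower A₀ A₁ A₂] [Algebra A₀ B₀] [Algebra.Smooth A₀ B₀] (J : Ideal A₁)
    (hJ : PrimeSpectrum.zeroLocus (J : Set A₁) =
      (Set.range (PrimeSpectrum.comap (algebraMap A₁ (A₁ ⊗[A₀] B₀))))ᶜ)
    {j k : A₁} (hj : j ∈ J) (hjk : j + k = 1) (hk : algebraMap A₁ A₂ k = 0) :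
    Module.FaithfullyFlat A₂ (A₂ ⊗[A₀] B₀) := by
  haveI : Module.Flat A₂ (A₂ ⊗[A₀] B₀) := inferInstance
  refine Module.FaithfullyFlat.of_comap_surjective (fun p => ?_)
  have hp : PrimeSpectrum.comap (algebraMap A₁ A₂) p ∈ Set.range (PrimeSpectrum.comap (algebraMap A₁ (A₁ ⊗[A₀] B₀))) := by
    by_contra hp
    have hp' : PrimeSpectrum.comap (algebraMap A₁ A₂) p ∈ PrimeSpectrum.zeroLocus (J : Set A₁) :=
      hJ ▸ hp
    refine p.isPrime.ne_top ((Ideal.eq_top_iff_one _).2 ?_)
    have : (1 : A₂) = algebraMap A₁ A₂ j := by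
      rw [← map_one (algebraMap A₁ A₂), ← hjk, map_add, add_eq_left]
      exact hk
    rw [this]
    exact hp' hj
  obtain ⟨q, hq⟩ := hp
  refine exists_prime_tensor p (PrimeSpectrum.comap
    (Algebra.TensorProduct.includeRight : B₀ →ₐ[A₀] A₁ ⊗[A₀] B₀).toRingHom q) ?_
  rw [IsScalarTower.algebraMap_eq A₀ A₁ A₂, PrimeSpectrum.comap_comp_apply, ← hq,
    ← PrimeSpectrum.comap_comp_apply, ← PrimeSpectrum.comap_comp_apply]
  refine congrArg (fun f => PrimeSpectrum.comap f q) (RingHom.ext fun a => ?_)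
  exact (IsScalarTower.algebraMap_apply A₀ A₁ (A₁ ⊗[A₀] B₀) a).symm.trans
    ((Algebra.TensorProduct.includeRight : B₀ →ₐ[A₀] A₁ ⊗[A₀] B₀).commutes a).symm

theorem finitePresentation_of_model {R A B A₀ A₂ B₀ : Type u} [CommRing R] [CommRing A] [CommRing B]
    [CommRing A₀] [CommRing A₂] [CommRing B₀] [Algebra R A] [Algebra A B] [Algebra R B]
    [IsScalarTower R A B] [Algebra A₀ A] [Algebra R A₂] [Algebra A₀ A₂] [Algebra A₂ A]
    [IsScalarTower R A₂ A] [IsScalarTower A₀ A₂ A] [Algebra A₀ B₀] [Algebra.Smooth A₀ B₀]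
    [Module.FaithfullyFlat A₂ (A₂ ⊗[A₀] B₀)] [Algebra.FinitePresentation R A₂]
    [Algebra.FinitePresentation R B] (e : B ≃ₐ[A] A ⊗[A₀] B₀)
    (hh : Function.Surjective (algebraMap A₂ A)) : Algebra.FinitePresentation R A := by
  -- `B` is a quotient of the finitely presented `A₂ ⊗ B₀`
  haveI : Algebra.FinitePresentation R (A₂ ⊗[A₀] B₀) := Algebra.FinitePresentation.trans R A₂ (A₂ ⊗[A₀] B₀)
  let ψ : (A₂ ⊗[A₀] B₀) →ₐ[A₀] A ⊗[A₀] B₀ :=
    Algebra.TensorProduct.map (IsScalarTower.toAlgHom A₀ A₂ A) (AlgHom.id A₀ B₀)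
  let π : (A₂ ⊗[A₀] B₀) →ₐ[R] B :=
    { e.symm.toRingEquiv.toRingHom.comp ψ.toRingHom with
      commutes' := fun r => by
        change e.symm (ψ (algebraMap R A₂ r ⊗ₜ 1)) = algebraMap R B r
        rw [IsScalarTower.algebraMap_apply R A B r, ← e.symm.commutes]
        congr 1
        simp [ψ, ← IsScalarTower.algebraMap_apply] }
  have hπ : Function.Surjective π := e.symm.surjective.comp
    (Algebra.TensorProduct.map_surjective _ _ hh Function.surjective_id)
  have hker : (RingHom.ker (algebraMap A₂ A)).map (algebraMap A₂ (A₂ ⊗[A₀] B₀)) = RingHom.ker π.toRingHom := by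
    have : RingHom.ker π.toRingHom = RingHom.ker ψ := by
      ext x
      change e.symm (ψ x) = 0 ↔ _
      simp [RingHom.mem_ker]
    rw [this, Algebra.TensorProduct.rTensor_ker _ hh]
    rfl
  have : (RingHom.ker (algebraMap A₂ A)).FG := by
    refine Ideal.FG.of_FG_map_of_faithfullyFlat (S := (A₂ ⊗[A₀] B₀)) ?_
    rw [hker]
    exact Algebra.FinitePresentation.ker_fG_of_surjective π hπ
  exact Algebra.FinitePresentation.of_surjective (f := IsScalarTower.toAlgHom R A₂ A) hh this


theorem finitePresentation_of_cover_model {R A B A₀ A₁ B₀ : Type u} [CommRing R] [CommRing A]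
    [CommRing B] [CommRing A₀] [CommRing A₁] [CommRing B₀] [Algebra R A] [Algebra A B] [Algebra R B]
    [IsScalarTower R A B] [Module.FaithfullyFlat A B] [Algebra A₀ A] [Algebra R A₁] [Algebra A₀ A₁]
    [Algebra A₁ A] [IsScalarTower R A₁ A] [IsScalarTower A₀ A₁ A] [Algebra A₀ B₀]
    [Algebra.Smooth A₀ B₀] [Algebra.FinitePresentation R A₁] [Algebra.FinitePresentation R B]
    (e : B ≃ₐ[A] A ⊗[A₀] B₀) (hg : Function.Surjective (algebraMap A₁ A)) :
    Algebra.FinitePresentation R A := by
  classical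
  let g := algebraMap A₁ A
  let K := RingHom.ker g
  let U := Set.range (PrimeSpectrum.comap (algebraMap A₁ (A₁ ⊗[A₀] B₀)))
  have : Module.Flat A₁ (A₁ ⊗[A₀] B₀) := inferInstance
  have : Algebra.FinitePresentation A₁ (A₁ ⊗[A₀] B₀) := inferInstance
  have hU : IsOpen U := IsOpenMap.isOpen_range
    (PrimeSpectrum.isOpenMap_comap_of_hasGoingDown_of_finitePresentation (R := A₁) (S := A₁ ⊗[A₀] B₀))
  let J : Ideal A₁ := PrimeSpectrum.vanishingIdeal Uᶜ
  have hJ : PrimeSpectrum.zeroLocus (J : Set A₁) = Uᶜ := by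
    rw [PrimeSpectrum.zeroLocus_vanishingIdeal_eq_closure, hU.isClosed_compl.closure_eq]
  have hKJ : J ⊔ K = ⊤ := by
    by_contra hne
    obtain ⟨m, hm, hle⟩ := Ideal.exists_le_maximal _ hne
    have hmK : K ≤ m := le_sup_right.trans hle
    have hpr : (m.map g).IsPrime := Ideal.map_isPrime_of_surjective hg hmK
    have : Module.FaithfullyFlat A (A ⊗[A₀] B₀) := .of_linearEquiv _ _ e.symm.toLinearEquiv
    obtain ⟨q, hq⟩ := PrimeSpectrum.comap_surjective_of_faithfullyFlat
      (A := A) (B := A ⊗[A₀] B₀) ⟨m.map g, hpr⟩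
    have hcm : (m.map g).comap g = m := by
      rw [Ideal.comap_map_of_surjective g hg, ← RingHom.ker_eq_comap_bot, sup_eq_left]
      exact hmK
    have hp : (⟨m, hm.isPrime⟩ : PrimeSpectrum A₁) ∈ U := by
      refine exists_prime_tensor _ (PrimeSpectrum.comap
        (Algebra.TensorProduct.includeRight : B₀ →ₐ[A₀] A ⊗[A₀] B₀).toRingHom q) ?_
      rw [← PrimeSpectrum.comap_comp_apply, show (⟨m, hm.isPrime⟩ : PrimeSpectrum A₁) =
        PrimeSpectrum.comap g ⟨m.map g, hpr⟩ from PrimeSpectrum.ext hcm.symm, ← hq,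
        ← PrimeSpectrum.comap_comp_apply, ← PrimeSpectrum.comap_comp_apply]
      refine congrArg (fun f => PrimeSpectrum.comap f q) (RingHom.ext fun a => ?_)
      have e1 : g (algebraMap A₀ A₁ a) = algebraMap A₀ A a :=
        (IsScalarTower.algebraMap_apply A₀ A₁ A a).symm
      change (algebraMap A (A ⊗[A₀] B₀)) (g (algebraMap A₀ A₁ a)) = _
      rw [e1, ← IsScalarTower.algebraMap_apply A₀ A (A ⊗[A₀] B₀) a]
      exact ((Algebra.TensorProduct.includeRight : B₀ →ₐ[A₀] A ⊗[A₀] B₀).commutes a).symm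
    have : (⟨m, hm.isPrime⟩ : PrimeSpectrum A₁) ∈ PrimeSpectrum.zeroLocus (J : Set A₁) :=
      fun j hj => hle (Ideal.mem_sup_left hj)
    rw [hJ] at this
    exact this hp
  obtain ⟨j, hj, k, hk, hjk⟩ := Submodule.mem_sup.1 (hKJ ▸ Submodule.mem_top : (1 : A₁) ∈ J ⊔ K)
  let A₂ := A₁ ⧸ Ideal.span {k}
  haveI : Algebra.FinitePresentation R A₂ :=
    Algebra.FinitePresentation.quotient ⟨{k}, by simp⟩
  let h : A₂ →+* A := Ideal.Quotient.lift _ g (fun x hx =>
    (Ideal.span_le.2 (Set.singleton_subset_iff.2 hk) : Ideal.span {k} ≤ K) hx)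
  have hh : Function.Surjective h := fun a => by
    obtain ⟨x, rfl⟩ := hg a
    exact ⟨Ideal.Quotient.mk _ x, rfl⟩
  letI : Algebra A₂ A := h.toAlgebra
  haveI : IsScalarTower A₁ A₂ A := ⟨fun x y z => by
    obtain ⟨y, rfl⟩ := Ideal.Quotient.mk_surjective y
    simp only [Algebra.smul_def]
    change h (Ideal.Quotient.mk _ x * Ideal.Quotient.mk _ y) * z =
      g x * (h (Ideal.Quotient.mk _ y) * z)
    rw [map_mul, mul_assoc]
    rfl⟩
  haveI : IsScalarTower A₀ A₂ A := IsScalarTower.to₁₃₄ A₀ A₁ A₂ A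
  haveI : IsScalarTower R A₂ A := IsScalarTower.to₁₃₄ R A₁ A₂ A
  haveI : Module.FaithfullyFlat A₂ (A₂ ⊗[A₀] B₀) := faithfullyFlat_model_of_cover J hJ hj hjk
    (Ideal.Quotient.eq_zero_iff_mem.2 (Ideal.mem_span_singleton_self k))
  exact finitePresentation_of_model (A₀ := A₀) (A₂ := A₂) (B₀ := B₀) e hh


theorem finitePresentation_of_smooth_faithfullyFlat_comp [Algebra.Smooth A B]
    [Module.FaithfullyFlat A B] [Algebra.FinitePresentation R B] :
    Algebra.FinitePresentation R A := by
  classical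
  have hft : Algebra.FiniteType R A := finiteType_of_smooth_faithfullyFlat_comp R A B
  obtain ⟨n, φ, hφ⟩ := Algebra.FiniteType.iff_quotient_mvPolynomial''.1 hft
  obtain ⟨A₀, B₀, _, _, hfg, _, ⟨e⟩, cs, hcs⟩ := exists_model ℤ A B
  -- a finitely presented `R`-algebra mapping onto `A` and containing the model
  let P := MvPolynomial (Fin n) R
  have : Algebra.FiniteType ℤ A₀ := (Subalgebra.fg_iff_finiteType A₀).1 hfg
  have : Algebra.FinitePresentation ℤ A₀ := Algebra.FinitePresentation.of_finiteType.1 this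
  letI A₁ := P ⊗[ℤ] A₀
  let g : A₁ →+* A := (Algebra.TensorProduct.lift (φ.restrictScalars ℤ) (A₀.val)
    (fun _ _ => Commute.all _ _)).toRingHom
  have hg : Function.Surjective g := fun a => by
    obtain ⟨x, rfl⟩ := hφ a
    exact ⟨x ⊗ₜ 1, (Algebra.TensorProduct.lift_tmul _ _ _ _ _).trans (by simp)⟩
  have hg' : ∀ a₀ : A₀, g ((1 : P) ⊗ₜ a₀) = (a₀ : A) := fun a₀ =>
    (Algebra.TensorProduct.lift_tmul _ _ _ _ _).trans (by simp)
  -- add finitely many relations so that the model becomes faithfully flat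
  letI : Algebra A₀ A₁ := (Algebra.TensorProduct.includeRight : A₀ →ₐ[ℤ] A₁).toRingHom.toAlgebra
  letI : Algebra A₁ A := g.toAlgebra
  haveI : IsScalarTower A₀ A₁ A := .of_algebraMap_eq (fun a₀ => (hg' a₀).symm)
  haveI : Algebra.FinitePresentation R A₁ := by
    have : Algebra.FinitePresentation P A₁ := inferInstance
    exact Algebra.FinitePresentation.trans R P A₁
  haveI : IsScalarTower R A₁ A := .of_algebraMap_eq (fun r => by
    change algebraMap R A r = g (algebraMap R P r ⊗ₜ 1)
    exact ((Algebra.TensorProduct.lift_tmul _ _ _ _ _).trans (by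
      rw [map_one, mul_one]; exact φ.commutes r)).symm)
  exact finitePresentation_of_cover_model (A₀ := A₀) (A₁ := A₁) e hg

theorem formallyUnramified_of_formallyEtale_faithfullyFlat_comp [Algebra.FormallyEtale A B]
    [Module.FaithfullyFlat A B] [Algebra.FormallyUnramified R B] :
    Algebra.FormallyUnramified R A := by
  constructor
  have : Subsingleton (B ⊗[A] Ω[A⁄R]) :=
    (KaehlerDifferential.tensorKaehlerEquivOfFormallyEtale R A B).toEquiv.subsingleton
  exact Module.FaithfullyFlat.lTensor_reflects_triviality A B _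

theorem etale_of_etale_faithfullyFlat_comp [Algebra.Etale A B] [Module.FaithfullyFlat A B]
    [Algebra.Etale R B] : Algebra.Etale R A := by
  have := finitePresentation_of_smooth_faithfullyFlat_comp R A B
  have := formallyUnramified_of_formallyEtale_faithfullyFlat_comp R A B
  have := flat_of_faithfullyFlat_comp R A B
  exact Algebra.Etale.of_formallyUnramified_of_flat

theorem smooth_of_etale_faithfullyFlat_comp [Algebra.Etale A B] [Module.FaithfullyFlat A B]
    [Algebra.Smooth R B] : Algebra.Smooth R A := by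
  classical
  have := finitePresentation_of_smooth_faithfullyFlat_comp R A B
  have hΩflat : Module.Flat A Ω[A⁄R] := by
    have : Module.Flat B (B ⊗[A] Ω[A⁄R]) :=
      .of_linearEquiv (KaehlerDifferential.tensorKaehlerEquivOfFormallyEtale R A B)
    exact Module.Flat.of_flat_tensorProduct (R := A) (M := Ω[A⁄R]) B
  suffices h : ∀ p : PrimeSpectrum A, ∃ f ∉ p.asIdeal, Algebra.Smooth R (Localization.Away f) by
    choose f hf hs using h
    have hspan : Ideal.span (Set.range f) = ⊤ := by
      by_contra hne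
      obtain ⟨m, hm, hle⟩ := Ideal.exists_le_maximal _ hne
      exact hf ⟨m, hm.isPrime⟩ (hle (Ideal.subset_span ⟨_, rfl⟩))
    rw [← RingHom.smooth_algebraMap]
    refine RingHom.Smooth.ofLocalizationSpanTarget (algebraMap R A) _ hspan ?_
    rintro ⟨_, p, rfl⟩
    rw [← IsScalarTower.algebraMap_eq]
    exact RingHom.smooth_algebraMap.2 (hs p)
  intro p
  obtain ⟨r, hr, κ, _, x, hC⟩ := exists_basis_near R A p
  refine ⟨r, hr, ?_⟩
  let l : (κ →₀ A) →ₗ[A] Ω[A⁄R] :=
    Finsupp.linearCombination A fun i => KaehlerDifferential.D R A (x i)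
  let C := Localization.Away r
  let B' := C ⊗[A] B
  change Function.Bijective (l.baseChange C) at hC
  -- the base change to the etale cover
  letI : Algebra B B' := Algebra.TensorProduct.rightAlgebra
  haveI : IsScalarTower A B B' := Algebra.TensorProduct.right_isScalarTower
  haveI : Algebra.IsPushout A C B B' := inferInstance
  haveI : Algebra.IsPushout A B C B' := Algebra.IsPushout.symm inferInstance
  haveI : Algebra.Etale A C := Algebra.Etale.of_isLocalizationAway r
  haveI : Algebra.Etale A B' := Algebra.Etale.comp A C B'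
  haveI : Algebra.Etale B B' := Algebra.Etale.of_equiv (Algebra.IsPushout.equiv A B C B')
  haveI : IsScalarTower R B B' := .of_algebraMap_eq fun t => by
    rw [IsScalarTower.algebraMap_apply R A B, ← IsScalarTower.algebraMap_apply A B B',
      IsScalarTower.algebraMap_apply R A B']
  haveI : Algebra.Smooth R B' := Algebra.Smooth.comp R B B'
  haveI : Algebra.FinitePresentation R B' := inferInstance
  -- `B'` is etale over the polynomial ring
  let T := MvPolynomial κ R
  letI : Algebra T C := (MvPolynomial.aeval fun i => algebraMap A C (x i)).toRingHom.toAlgebra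
  haveI : IsScalarTower R T C :=
    .of_algebraMap_eq fun t => ((MvPolynomial.aeval fun i => algebraMap A C (x i)).commutes t).symm
  haveI : IsScalarTower R T B' := .of_algebraMap_eq fun t => by
    exact (IsScalarTower.algebraMap_apply R C B' t).trans
      ((congrArg (algebraMap C B') (IsScalarTower.algebraMap_apply R T C t)).trans
        (IsScalarTower.algebraMap_apply T C B' _).symm)
  haveI : Module.FaithfullyFlat C B' := inferInstance
  have hmap : Function.Bijective (KaehlerDifferential.mapBaseChange R T B') := by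
    let bT := (KaehlerDifferential.mvPolynomialBasis R κ).baseChange B'
    let E := (TensorProduct.AlgebraTensorModule.cancelBaseChange A C B' B' (κ →₀ A))
    have hl : Function.Bijective (l.baseChange B') := by
      have h1 : Function.Bijective ((l.baseChange C).baseChange B') :=
        (LinearEquiv.ofBijective _ hC).baseChange C B' |>.bijective
      have h2 : l.baseChange B' ∘ₗ E.toLinearMap =
          (TensorProduct.AlgebraTensorModule.cancelBaseChange A C B' B' Ω[A⁄R]).toLinearMap ∘ₗ
            (l.baseChange C).baseChange B' := by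
        ext
        simp [E]
      have h3 : Function.Bijective (l.baseChange B' ∘ₗ E.toLinearMap) := by
        rw [h2]
        exact (TensorProduct.AlgebraTensorModule.cancelBaseChange A C B' B' Ω[A⁄R]).bijective.comp h1
      exact (Function.Bijective.of_comp_iff _ E.bijective).1 h3
    let e : B' ⊗[A] Ω[A⁄R] ≃ₗ[B'] Ω[B'⁄R] :=
      KaehlerDifferential.tensorKaehlerEquivOfFormallyEtale R A B'
    let bB : Module.Basis κ B' Ω[B'⁄R] :=
      ((Finsupp.basisSingleOne (R := A) (ι := κ)).baseChange B').map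
        ((LinearEquiv.ofBijective _ hl).trans e)
    have hb : KaehlerDifferential.mapBaseChange R T B' = (bT.equiv bB (Equiv.refl κ)).toLinearMap := by
      refine bT.ext fun i => ?_
      rw [LinearEquiv.coe_coe, Module.Basis.equiv_apply, Equiv.refl_apply]
      have : (KaehlerDifferential.mvPolynomialBasis R κ) i = KaehlerDifferential.D R T (.X i) := by
        apply (KaehlerDifferential.mvPolynomialBasis R κ).repr.injective
        rw [Module.Basis.repr_self]
        exact (KaehlerDifferential.mvPolynomialBasis_repr_D_X R κ i).symm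
      simp only [bT, bB, Module.Basis.baseChange_apply, this, KaehlerDifferential.mapBaseChange_tmul,
        KaehlerDifferential.map_D, one_smul, Module.Basis.map_apply, LinearEquiv.trans_apply,
        LinearEquiv.ofBijective_apply, LinearMap.baseChange_tmul, Finsupp.coe_basisSingleOne, l,
        Finsupp.linearCombination_single, e,
        KaehlerDifferential.tensorKaehlerEquivOfFormallyEtale_apply]
      refine (KaehlerDifferential.mapBaseChange_tmul R T B' _ _).trans ?_
      rw [KaehlerDifferential.map_D, IsScalarTower.algebraMap_apply A C B',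
        IsScalarTower.algebraMap_apply T C B']
      congr 3
      exact MvPolynomial.aeval_X _ _
    rw [hb]
    exact LinearEquiv.bijective _
  haveI : Algebra.FormallyEtale T B' := by
    constructor
    · have h1 := KaehlerDifferential.exact_mapBaseChange_map R T B'
      refine ⟨fun y z => ?_⟩
      obtain ⟨y, rfl⟩ := KaehlerDifferential.map_surjective R T B' y
      obtain ⟨z, rfl⟩ := KaehlerDifferential.map_surjective R T B' z
      obtain ⟨y, rfl⟩ := hmap.surjective y
      obtain ⟨z, rfl⟩ := hmap.surjective z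
      rw [h1.apply_apply_eq_zero, h1.apply_apply_eq_zero]
    · refine ⟨fun y z => ?_⟩
      suffices h : ∀ y : Algebra.H1Cotangent T B', y = 0 by rw [h y, h z]
      intro y
      have h1 := Algebra.H1Cotangent.exact_δ_mapBaseChange R T B'
      have h2 := Algebra.H1Cotangent.exact_map_δ R T B'
      have : Algebra.H1Cotangent.δ R T B' y = 0 :=
        hmap.injective (by rw [h1.apply_apply_eq_zero, map_zero])
      obtain ⟨w, rfl⟩ := (h2 y).1 this
      rw [Subsingleton.elim w 0, map_zero]
  haveI : Algebra.FiniteType R T := inferInstance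
  haveI : Algebra.Smooth R T := ⟨inferInstance, inferInstance⟩
  haveI : Algebra.Etale T B' :=
    ⟨inferInstance, Algebra.FinitePresentation.of_restrict_scalars_finitePresentation R T B'⟩
  haveI : Algebra.Etale T C := etale_of_etale_faithfullyFlat_comp T C B'
  exact Algebra.Smooth.comp R T C

end AlgSpLib
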