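import Groth.Agent.AlgSpLib.ReducedSmooth
/-!
# Reducedness of local rings under etale maps
-/

set_option autoImplicit false
universe u

open AlgebraicGeometry CategoryTheory CategoryTheory.Limits

namespace AlgSpLib

theorem isReduced_stalk_of_flat {X Y : Scheme.{u}} (f : X ⟶ Y) [Flat f] (x : X)
    [_root_.IsReduced (X.presheaf.stalk x)] : _root_.IsReduced (Y.presheaf.stalk (f x)) := by
  have h := Flat.stalkMap f x
  algebraize [(f.stalkMap x).hom]
  have : Module.FaithfullyFlat (Y.presheaf.stalk (f x)) (X.presheaf.stalk x) :=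
    @Module.FaithfullyFlat.of_flat_of_isLocalHom _ _ _ _ _ _ _ h (f.toLRSHom.prop x)
  exact isReduced_of_injective (f.stalkMap x).hom
    (RingHom.FaithfullyFlat.injective (f := (f.stalkMap x).hom) ‹_›)

theorem flat_fromSpecStalk {Y : Scheme.{u}} (y : Y) : Flat (Y.fromSpecStalk y) := by
  obtain ⟨U, hU, hy, -⟩ := exists_isAffineOpen_mem_and_subset (X := Y) (x := y) (U := ⊤) trivial
  rw [← hU.fromSpecStalk_eq_fromSpecStalk hy]
  have : Flat (Spec.map (Y.presheaf.germ U y hy)) := by
    rw [Flat.SpecMap_iff]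
    let := Y.presheaf.algebra_section_stalk ⟨y, hy⟩
    have : IsLocalization.AtPrime (Y.presheaf.stalk y) (hU.primeIdealOf ⟨y, hy⟩).asIdeal :=
      hU.isLocalization_stalk ⟨y, hy⟩
    exact RingHom.flat_algebraMap_iff.2 (IsLocalization.flat _ (hU.primeIdealOf ⟨y, hy⟩).asIdeal.primeCompl)
  rw [IsAffineOpen.fromSpecStalk]
  infer_instance

theorem isReduced_stalk_of_smooth {X Y : Scheme.{u}} (f : X ⟶ Y) [Smooth f] (x : X)
    [_root_.IsReduced (Y.presheaf.stalk (f x))] : _root_.IsReduced (X.presheaf.stalk x) := by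
  let c := Y.fromSpecStalk (f x)
  have := flat_fromSpecStalk (f x)
  obtain ⟨w, hw, -⟩ := Scheme.Pullback.exists_preimage_pullback (f := f) (g := c) x
    (IsLocalRing.closedPoint _) Y.fromSpecStalk_closedPoint.symm
  have : IsReduced (pullback f c) := isReduced_of_smooth (pullback.snd f c)
  have h := isReduced_stalk_of_flat (pullback.fst f c) w
  rwa [hw] at h

theorem isReduced_iff_of_smooth_cover {ι : Type u} {S : Scheme.{u}} {X : ι → Scheme.{u}}
    (f : ∀ i, X i ⟶ S) (hs : ∀ x : S, ∃ i, x ∈ Set.range (f i)) (hf : ∀ i, Smooth (f i)) :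
    IsReduced S ↔ ∀ i, IsReduced (X i) := by
  refine ⟨fun _ i => isReduced_of_smooth (f i), fun _ => ?_⟩
  have : ∀ x : S, _root_.IsReduced (S.presheaf.stalk x) := fun x => by
    obtain ⟨i, z, rfl⟩ := hs x
    exact isReduced_stalk_of_flat (f i) z
  exact isReduced_of_isReduced_stalk S

end AlgSpLib
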