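import Groth.Agent.AlgSpLib.FormalLocal
/-!
# Morphisms out of a sheaf with an etale (or fppf) atlas
-/

set_option autoImplicit false
universe u
open CategoryTheory CategoryTheory.Limits AlgebraicGeometry Opposite AlgSp Topology

namespace AlgSpLib

variable {S : Scheme.{u}}

theorem exists_pointwise_desc {F G : Sp S} {U : Over S} {a : (yon S).obj U ⟶ F}
    (ha : RepWith @Etale a) (has : RepWith @Surjective a) (x : (yon S).obj U ⟶ G)
    (hx : ∀ (Z : Over S) (g g' : Z ⟶ U), (yon S).map g ≫ a = (yon S).map g' ≫ a →
      (yon S).map g ≫ x = (yon S).map g' ≫ x)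
    {T : Over S} (b : (yon S).obj T ⟶ F) :
    ∃! y : (yon S).obj T ⟶ G, ∀ (Z : Over S) (g : Z ⟶ T) (g' : Z ⟶ U),
      (yon S).map g ≫ b = (yon S).map g' ≫ a → (yon S).map g ≫ y = (yon S).map g' ≫ x := by
  obtain ⟨W, p, c, sq⟩ : ∃ (W : Over S) (p : W ⟶ U) (c : W ⟶ T),
      IsPullback ((yon S).map p) ((yon S).map c) a b := exists_isPullback_yon a b ha.rep
  have : Etale c.left := etale_left (repWith_of_isPullback sq ha)
  have : Surjective c.left := surjective_left (repWith_of_isPullback sq has)
  obtain ⟨y, hy⟩ := exists_amalgamation (fun _ : PUnit.{u + 1} => c) (fun _ => inferInstance)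
    (fun _ => inferInstance) (fun t => ⟨⟨⟩, c.left.surjective t⟩) (fun _ => (yon S).map p ≫ x)
    (fun _ _ Z gi gj hg => by
      rw [← Functor.map_comp_assoc, ← Functor.map_comp_assoc]
      refine hx Z _ _ ?_
      rw [Functor.map_comp, Functor.map_comp, Category.assoc, Category.assoc, sq.w, ← Functor.map_comp_assoc,
        ← Functor.map_comp_assoc, show gi ≫ c = gj ≫ c from hg])
  refine ⟨y, fun Z g g' hgg => ?_, fun y' hy' => eq_of_comp_eq c ((hy' W c p sq.w.symm).trans (hy ⟨⟩).symm)⟩
  obtain ⟨r, hr⟩ := (yon S).map_surjective (sq.lift ((yon S).map g') ((yon S).map g) hgg.symm)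
  have h1 : r ≫ c = g := (yon S).map_injective (by rw [Functor.map_comp, hr, sq.lift_snd])
  have h2 : r ≫ p = g' := (yon S).map_injective (by rw [Functor.map_comp, hr, sq.lift_fst])
  rw [← h1, ← h2, Functor.map_comp, Functor.map_comp, Category.assoc, Category.assoc, hy ⟨⟩]

theorem hom_ext_of_atlas {F G : Sp S} {U : Over S} {a : (yon S).obj U ⟶ F}
    (ha : RepWith @Etale a) (has : RepWith @Surjective a) {y y' : F ⟶ G} (h : a ≫ y = a ≫ y') : y = y' := by
  refine GrothendieckTopology.hom_ext_uliftYoneda.{u + 1} (AlgSp.J S) fun T b => ?_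
  refine (exists_pointwise_desc ha has (a ≫ y) (fun Z g g' e => by
    rw [← Category.assoc, e, Category.assoc]) b).unique (fun Z g g' e => ?_) fun Z g g' e => ?_
  · change (yon S).map g ≫ b ≫ y = _
    rw [← Category.assoc, e, Category.assoc]
  · change (yon S).map g ≫ b ≫ y' = _
    rw [← Category.assoc, e, Category.assoc, h]

theorem exists_desc_of_atlas {F G : Sp S} {U : Over S} {a : (yon S).obj U ⟶ F}
    (ha : RepWith @Etale a) (has : RepWith @Surjective a) (x : (yon S).obj U ⟶ G)
    (hx : ∀ (Z : Over S) (g g' : Z ⟶ U), (yon S).map g ≫ a = (yon S).map g' ≫ a →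
      (yon S).map g ≫ x = (yon S).map g' ≫ x) :
    ∃ y : F ⟶ G, a ≫ y = x := by
  choose d hd using fun (T : Over S) (b : (yon S).obj T ⟶ F) => (exists_pointwise_desc ha has x hx b).exists
  let e := fun (H : Sp S) (T : Over S) =>
    GrothendieckTopology.uliftYonedaEquiv.{u + 1} (J := AlgSp.J S) (X := T) (F := H)
  have hnat : ∀ (T T' : Over S) (f : T' ⟶ T) (b : (yon S).obj T ⟶ F),
      d T' ((yon S).map f ≫ b) = (yon S).map f ≫ d T b := fun T T' f b =>
    (exists_pointwise_desc ha has x hx ((yon S).map f ≫ b)).unique (hd T' _) fun Z g g' eg => by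
      rw [← Functor.map_comp_assoc]
      exact hd T b Z (g ≫ f) g' (by rw [Functor.map_comp, Category.assoc, eg])
  let y : F ⟶ G := ⟨{ app := fun T => TypeCat.ofHom fun s => e G T.unop (d T.unop ((e F T.unop).symm s))
                      naturality := fun T T' f => by
                        refine ConcreteCategory.hom_ext _ _ fun s => ?_
                        change e G T'.unop (d T'.unop ((e F T'.unop).symm (F.obj.map f s))) =
                          G.obj.map f (e G T.unop (d T.unop ((e F T.unop).symm s)))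
                        rw [GrothendieckTopology.uliftYonedaEquiv_naturality', ← hnat]
                        refine congrArg (fun b => e G T'.unop (d T'.unop b)) ?_
                        exact GrothendieckTopology.uliftYonedaEquiv_symm_map _ _ _ }⟩
  refine ⟨y, (e G U).injective ?_⟩
  change e G U (d U ((e F U).symm ((e F U) a))) = e G U x
  rw [Equiv.symm_apply_apply]
  refine congrArg _ ?_
  have := hd U a U (𝟙 U) (𝟙 U) rfl
  rwa [CategoryTheory.Functor.map_id, Category.id_comp, Category.id_comp] at this

end AlgSpLib
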