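import Groth.Agent.AlgSpLib.Fpqc
/-!
# Criteria for isomorphisms and open immersions of algebraic spaces, and their fpqc descent
-/

set_option autoImplicit false
universe u
open CategoryTheory CategoryTheory.Limits AlgebraicGeometry Opposite AlgSp Topology

namespace AlgSpLib

variable {S : Scheme.{u}}

theorem isIso_of_mono_isLocallySurjective {F G : Sp S} (f : F ⟶ G) [Mono f] [Sheaf.IsLocallySurjective f] :
    IsIso f := by
  have : Sheaf.IsLocallyInjective f := by
    rw [Sheaf.isLocallyInjective_iff_injective]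
    intro T x y e
    have := (cancel_mono f).1 ((AlgSp.J S).uliftYonedaEquiv.{u+1}.injective
      (a₁ := (AlgSp.J S).uliftYonedaEquiv.{u+1}.symm x ≫ f) (a₂ := (AlgSp.J S).uliftYonedaEquiv.{u+1}.symm y ≫ f) (by
        rw [GrothendieckTopology.uliftYonedaEquiv_comp, GrothendieckTopology.uliftYonedaEquiv_comp,
          Equiv.apply_symm_apply, Equiv.apply_symm_apply]
        exact e))
    exact (AlgSp.J S).uliftYonedaEquiv.{u+1}.symm.injective this
  exact (Sheaf.isLocallyBijective_iff_isIso f).1 ⟨inferInstance, inferInstance⟩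

theorem isLocallySurjective_of_etale_surjective {F G : Sp S} (hF : IsAlgSpace F) (hG : IsAlgSpace G)
    {f : F ⟶ G} (he : IsEtaleMor f) (hs : IsSurjectiveMor f) : Sheaf.IsLocallySurjective f := by
  refine ⟨fun {T} s => ?_⟩
  let b : (yon S).obj T ⟶ G := (AlgSp.J S).uliftYonedaEquiv.symm s
  have sq := IsPullback.of_hasPullback f b
  have hP := isAlgSpace_pullback hF (IsAlgSpace.yon_obj T) hG f b
  obtain ⟨U, a, ha, has⟩ := hP.atlas
  obtain ⟨φ, hφ⟩ := (yon S).map_surjective (a ≫ pullback.snd f b)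
  have : Etale φ.left := etale_left (by
    rw [hφ]; exact isEtaleMor_of_isPullback hF hG (IsAlgSpace.yon_obj T) sq he a ha)
  have hsur : Function.Surjective (Points.map ((yon S).map φ)) := by
    rw [hφ, show Points.map (a ≫ pullback.snd f b) = Points.map (pullback.snd f b) ∘ Points.map a from
      funext (Points.map_comp a (pullback.snd f b))]
    exact (map_surjective_of_isPullback sq hs).comp (map_surjective_of_repWith has)
  rw [Points.map_yon_map_eq] at hsur
  have : Surjective φ.left :=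
    ⟨(Function.Surjective.of_comp_left hsur (Points.schemeHomeo T).injective).of_comp⟩
  refine GrothendieckTopology.superset_covering _ ?_ (generate_singleton_mem_J φ)
  refine (Sieve.generate_le_iff _ _).2 ?_
  rintro _ _ ⟨⟩
  refine ⟨(AlgSp.J S).uliftYonedaEquiv (a ≫ pullback.fst f b), ?_⟩
  have := congrArg (AlgSp.J S).uliftYonedaEquiv
    (show (a ≫ pullback.fst f b) ≫ f = (yon S).map φ ≫ b by
      rw [Category.assoc, pullback.condition, ← Category.assoc, ← hφ])
  rw [GrothendieckTopology.uliftYonedaEquiv_comp, ← GrothendieckTopology.uliftYonedaEquiv_naturality,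
    Equiv.apply_symm_apply] at this
  exact this

theorem isIso_of_mono_etale_surjective {F G : Sp S} (hF : IsAlgSpace F) (hG : IsAlgSpace G) (f : F ⟶ G)
    [Mono f] (he : IsEtaleMor f) (hs : IsSurjectiveMor f) : IsIso f :=
  have := isLocallySurjective_of_etale_surjective hF hG he hs
  isIso_of_mono_isLocallySurjective f

theorem repWith_openImmersion_of_mono_etale {F G : Sp S} (hF : IsAlgSpace F) (hG : IsAlgSpace G) (f : F ⟶ G)
    [Mono f] (he : IsEtaleMor f) : RepWith @IsOpenImmersion f := by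
  let W := Set.range (Points.map f)
  have hW : IsOpen W := (isOpenMap_map_of_isEtaleMor hF he).isOpen_range
  have hr := repWith_openSubι G hW
  have hO : IsAlgSpace (openSub G W) := isAlgSpace_of_representable hG _ hr.rep
  obtain ⟨l, hl⟩ := (exists_factor_iff hr f).2 (by rw [range_openSubι])
  have : Mono l := mono_of_mono_fac hl
  have hle : IsEtaleMor l := isEtaleMor_of_comp hO (by rw [hl]; exact he) (isEtaleMor_of_repWith
    (repWith_mono (fun _ _ g (_ : IsOpenImmersion g) => (inferInstance : Etale g)) hr))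
  have hls : IsSurjectiveMor l := fun y => by
    have : Points.map (openSubι G W) y ∈ W := by
      exact (Set.ext_iff.1 (range_openSubι G (W := W)) _).1 ⟨y, rfl⟩
    obtain ⟨x, hx⟩ := this
    obtain ⟨w, h1, h2⟩ := exists_point_isPullback
      (IsKernelPair.id_of_mono (openSubι G W)) (Points.map l x) y (by rw [← Points.map_comp, hl, hx])
    exact ⟨x, h1.symm.trans h2⟩
  have := isIso_of_mono_etale_surjective hF hO l hle hls
  rw [← hl]
  exact repWith_comp (repWith_of_isIso l) hr

theorem isEtaleMor_of_isIso' {F G : Sp S} (f : F ⟶ G) [IsIso f] : IsEtaleMor f :=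
  isEtaleMor_of_repWith (repWith_of_isIso f)

theorem isSurjectiveMor_of_isIso {F G : Sp S} (f : F ⟶ G) [IsIso f] : IsSurjectiveMor f :=
  (isHomeomorph_map_of_isIso f).surjective

/-- A flat quasi-compact surjective morphism is a one-element fpqc covering. -/
theorem isFpqcCover_singleton {F G : Sp S} (hF : IsAlgSpace F) (hG : IsAlgSpace G) {f : F ⟶ G}
    (hfl : LocP @Flat f) (hqc : IsQuasiCompactMor f) (hs : IsSurjectiveMor f) :
    IsFpqcCover (fun _ : PUnit.{u + 1} => F) (fun _ => f) := by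
  refine ⟨fun _ => hfl, fun Z hZ h => ?_⟩
  have : IsAffine Z.left := hZ
  have sq := IsPullback.of_hasPullback f h
  obtain ⟨E, a, hE, ha, has⟩ := exists_affine_chart (hqc (IsAlgSpace.yon_obj Z) (isQuasiCompactSp_yon Z) h _ _ sq)
  obtain ⟨φ, hφ⟩ := (yon S).map_surjective (a ≫ pullback.snd f h)
  refine ⟨1, fun _ => E, fun _ => φ, fun _ => hE, fun _ => ?_, fun z => ⟨0, ?_⟩,
    fun _ => ⟨⟨⟩, a ≫ pullback.fst f h, ?_⟩⟩
  · exact locP_of_isPullback hF hG (IsAlgSpace.yon_obj Z) sq hfl a (𝟙 _) φ ha (repWith_id _ _)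
      (by rw [Category.comp_id, hφ])
  · obtain ⟨x, hx⟩ := map_surjective_of_isPullback sq hs (Points.schemeHomeo Z z)
    obtain ⟨e, he⟩ := map_surjective_of_repWith has x
    obtain ⟨e, rfl⟩ := (Points.schemeHomeo E).surjective e
    refine ⟨e, (Points.schemeHomeo Z).injective ?_⟩
    rw [← Points.map_yon_map_apply, hφ, Points.map_comp, he, hx]
  · rw [Category.assoc, pullback.condition, ← Category.assoc, ← hφ]

theorem locP_etale_iff {F G : Sp S} (hG : IsAlgSpace G) {f : F ⟶ G} :
    LocP @Etale f ↔ IsEtaleMor f := (isEtaleMor_iff_locP hG).symm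

/-- A flat quasi-compact surjective monomorphism is an isomorphism. -/
theorem isIso_of_flat_qc_surjective_mono {F G : Sp S} (hF : IsAlgSpace F) (hG : IsAlgSpace G) (f : F ⟶ G)
    [Mono f] (hfl : LocP @Flat f) (hqc : IsQuasiCompactMor f) (hs : IsSurjectiveMor f) : IsIso f := by
  refine isIso_of_mono_etale_surjective hF hG f ?_ hs
  rw [← locP_etale_iff hG]
  refine (isLocalOnBase_fpqc_locP_of_descendsAlong S @Etale (fun _ : PUnit.{u + 1} => F) (fun _ => f) hG
    (fun _ => hF) (isFpqcCover_singleton hF hG hfl hqc hs) f hF (fun _ => F) (fun _ => 𝟙 F) (fun _ => 𝟙 F)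
    (fun _ => hF) fun _ => IsKernelPair.id_of_mono f).2 fun _ => ?_
  exact (locP_etale_iff hF).2 (isEtaleMor_id F)

/-- A property of schemes satisfying fpqc descent descends for representable morphisms. -/
theorem repWith_of_fpqc {P : MorphismProperty Scheme.{u}} [IsZariskiLocalAtTarget P]
    [P.DescendsAlong (@Surjective ⊓ @Flat ⊓ @QuasiCompact)] {ι : Type u} {Y : Sp S} {Yi : ι → Sp S}
    {g : ∀ i, Yi i ⟶ Y} (hτ : IsFpqcCover Yi g) {X : Sp S} {f : X ⟶ Y} (hf : Representable f)
    {Xi : ι → Sp S} {p : ∀ i, Xi i ⟶ Yi i} {q : ∀ i, Xi i ⟶ X} (sq : ∀ i, IsPullback (q i) (p i) f (g i))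
    (h : ∀ i, RepWith P (p i)) : RepWith P f := by
  refine repWith_of_forall_affine hf fun Z V hZ k fst snd sqV => ?_
  obtain ⟨W, c, J, Wj, s, hW, hc, hcs, hso, hss, hl⟩ := exists_affine_refinement hτ Z k
  have : QuasiCompact c.left := inferInstance
  refine MorphismProperty.of_pullback_snd_of_descendsAlong
    (Q := @Surjective ⊓ @Flat ⊓ @QuasiCompact) (g := c.left) ⟨⟨hcs, hc⟩, this⟩ ?_
  choose jw hjw using hss
  refine IsZariskiLocalAtTarget.of_iSup_eq_top (fun w : W.left => (s (jw w)).left.opensRange) ?_ fun w => ?_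
  · exact TopologicalSpace.Opens.ext (Set.eq_univ_of_forall fun w => by
      rw [TopologicalSpace.Opens.coe_iSup]; exact Set.mem_iUnion.2 ⟨w, hjw w⟩)
  · refine (P.arrow_mk_iso_iff (morphismRestrictOpensRange (pullback.snd snd.left c.left) (s (jw w)).left)).2 ?_
    let j := jw w
    obtain ⟨i, l, e⟩ := hl j
    have big := ((IsPullback.of_hasPullback snd (s j ≫ c)).map (yon S)).paste_horiz sqV
    rw [← e] at big
    have key : P (pullback.snd snd (s j ≫ c)).left :=
      (h i).property l ((sq i).lift _ _ (big.w.trans (Category.assoc _ _ _).symm)) _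
        (IsPullback.of_right (by rw [(sq i).lift_fst]; exact big) ((sq i).lift_snd _ _ _) (sq i))
    have sqS : IsPullback (pullback.fst snd (s j ≫ c)).left (pullback.snd snd (s j ≫ c)).left snd.left
        ((s j).left ≫ c.left) :=
      isPullback_left ((IsPullback.of_hasPullback snd (s j ≫ c)).map (yon S))
    rw [← sqS.isoPullback_hom_snd, P.cancel_left_of_respectsIso] at key
    change P (pullback.snd (pullback.snd snd.left c.left) (s j).left)
    rwa [← pullbackLeftPullbackSndIso_hom_snd, P.cancel_left_of_respectsIso]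

theorem mono_of_fpqc {ι : Type u} {Y : Sp S} (hY : IsAlgSpace Y) {Yi : ι → Sp S} {g : ∀ i, Yi i ⟶ Y}
    (hYi : ∀ i, IsAlgSpace (Yi i)) (hτ : IsFpqcCover Yi g) {X : Sp S} (hX : IsAlgSpace X) {f : X ⟶ Y}
    {Xi : ι → Sp S} {p : ∀ i, Xi i ⟶ Yi i} {q : ∀ i, Xi i ⟶ X} (sq : ∀ i, IsPullback (q i) (p i) f (g i))
    (h : ∀ i, Mono (p i)) : Mono f := by
  have hXi : ∀ i, IsAlgSpace (Xi i) := fun i => isAlgSpace_of_isPullback hX (hYi i) hY (sq i)
  have hXX := isAlgSpace_pullback hX hX hY f f
  have hd : RepWith (MorphismProperty.isomorphisms Scheme.{u}) (pullback.diagonal f) :=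
    repWith_of_fpqc (isFpqcCover_of_isPullback hY hXX hYi hτ fun i => isPullback_map_self (sq i))
      (repWith_diagonal_properties hX f).1 (fun i => isPullback_diagonal (sq i))
      fun i => have := h i; repWith_of_isIso _
  have : IsIso (pullback.diagonal f) := isIso_of_repWith (fun g hg => hg) hd
  exact pullback.isIso_diagonal_iff f |>.1 this

theorem isLocalOnBase_fpqc_repWith_openImmersion (S : Scheme.{u}) :
    IsLocalOnBase (IsFpqcCover (S := S)) (RepWith @IsOpenImmersion) := by
  intro ι Y Yi g hY hYi hτ X f hX Xi p q hXi sq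
  refine ⟨fun hf i => repWith_of_isPullback (sq i) hf, fun h => ?_⟩
  have : Mono f := mono_of_fpqc hY hYi hτ hX sq fun i => mono_of_openImmersion (h i)
  refine repWith_openImmersion_of_mono_etale hX hY f ((locP_etale_iff hY).1 ?_)
  exact (isLocalOnBase_fpqc_locP_of_descendsAlong S @Etale Yi g hY hYi hτ f hX Xi p q hXi sq).2
    fun i => (locP_etale_iff (hYi i)).2 (isEtaleMor_of_openImmersion (h i))

theorem isSurjectiveMor_of_fpqc {ι : Type u} {Y : Sp S} {Yi : ι → Sp S} {g : ∀ i, Yi i ⟶ Y}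
    (hτ : IsFpqcCover Yi g) {X : Sp S} {f : X ⟶ Y} {Xi : ι → Sp S} {p : ∀ i, Xi i ⟶ Yi i}
    {q : ∀ i, Xi i ⟶ X} (sq : ∀ i, IsPullback (q i) (p i) f (g i)) (h : ∀ i, IsSurjectiveMor (p i)) :
    IsSurjectiveMor f := by
  intro y
  obtain ⟨T, b, t, rfl⟩ := exists_ofPt_eq y
  obtain ⟨O, hO, htO, -⟩ := exists_isAffineOpen_mem_and_subset (U := ⊤) (x := t) trivial
  let Z : Over S := Over.mk (O.ι ≫ T.hom)
  let j : Z ⟶ T := Over.homMk O.ι rfl
  obtain ⟨m, W, c, -, -, hs, hl⟩ := hτ.2 Z hO ((yon S).map j ≫ b)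
  obtain ⟨k, w, hw⟩ := hs ⟨t, htO⟩
  obtain ⟨i, l, e⟩ := hl k
  obtain ⟨z, hz⟩ := h i (Points.ofPt l w)
  refine ⟨Points.map (q i) z, ?_⟩
  rw [← Points.map_comp, (sq i).w, Points.map_comp, hz, Points.map_ofPt, e, ofPt_yon_comp, hw, ofPt_yon_comp]
  rfl

theorem isLocalOnBase_fpqc_isomorphisms (S : Scheme.{u}) :
    IsLocalOnBase (IsFpqcCover (S := S)) (MorphismProperty.isomorphisms (Sp S)) := by
  intro ι Y Yi g hY hYi hτ X f hX Xi p q hXi sq
  refine ⟨fun hf i => MorphismProperty.of_isPullback (sq i) hf, fun h => ?_⟩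
  have hi : ∀ i, IsIso (p i) := h
  have : Mono f := mono_of_fpqc hY hYi hτ hX sq fun i => have := hi i; inferInstance
  refine isIso_of_mono_etale_surjective hX hY f ((locP_etale_iff hY).1 ?_)
    (isSurjectiveMor_of_fpqc hτ sq fun i => have := hi i; isSurjectiveMor_of_isIso (p i))
  exact (isLocalOnBase_fpqc_locP_of_descendsAlong S @Etale Yi g hY hYi hτ f hX Xi p q hXi sq).2
    fun i => have := hi i; (locP_etale_iff (hYi i)).2 (isEtaleMor_of_isIso' (p i))

end AlgSpLib
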