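import Groth.Agent.AlgSpLib.Space
import Groth.Prelude.Def_SGA1
import Groth.Prelude.Def_Flat
/-!
# Universally open, closed, injective, submersive morphisms of algebraic spaces
-/

set_option autoImplicit false
universe u
open CategoryTheory CategoryTheory.Limits AlgebraicGeometry Opposite AlgSp Topology

namespace AlgSpLib

variable {S : Scheme.{u}}

theorem preimage_image {F G F' G' : Sp S} {fst : F' ⟶ F} {snd : F' ⟶ G'} {f : F ⟶ G} {g : G' ⟶ G}
    (sq : IsPullback fst snd f g) (A : Set (Points F)) :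
    Points.map g ⁻¹' (Points.map f '' A) = Points.map snd '' (Points.map fst ⁻¹' A) := by
  ext y
  constructor
  · rintro ⟨x, hx, e⟩
    obtain ⟨w, rfl, hw⟩ := exists_point_isPullback sq x y e
    exact ⟨w, hx, hw⟩
  · rintro ⟨w, hw, rfl⟩
    exact ⟨_, hw, by rw [← Points.map_comp, ← Points.map_comp, sq.w]⟩

theorem preimage_preimage {F G F' G' : Sp S} {fst : F' ⟶ F} {snd : F' ⟶ G'} {f : F ⟶ G} {g : G' ⟶ G}
    (sq : IsPullback fst snd f g) (A : Set (Points G)) :
    Points.map fst ⁻¹' (Points.map f ⁻¹' A) = Points.map snd ⁻¹' (Points.map g ⁻¹' A) := by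
  ext w
  simp only [Set.mem_preimage, ← Points.map_comp, sq.w]

/-! ## Descent along jointly surjective families that are open on points -/

section Descent

variable {ι : Type*} {W Z : Sp S} {p : W ⟶ Z} {Wi Zi : ι → Sp S} {c : ∀ i, Zi i ⟶ Z}
  {d : ∀ i, Wi i ⟶ W} {q : ∀ i, Wi i ⟶ Zi i}
  (sq : ∀ i, IsPullback (d i) (q i) p (c i)) (hco : ∀ i, IsOpenMap (Points.map (c i)))
  (hcs : ∀ z : Points Z, ∃ i, z ∈ Set.range (Points.map (c i)))

include sq hco hcs in
theorem isOpenMap_descend (h : ∀ i, IsOpenMap (Points.map (q i))) : IsOpenMap (Points.map p) := by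
  intro A hA
  rw [isOpen_iff_forall_mem_open]
  intro z hz
  obtain ⟨i, e, rfl⟩ := hcs z
  refine ⟨Points.map (c i) '' (Points.map (q i) '' (Points.map (d i) ⁻¹' A)), ?_, ?_, ⟨e, ?_, rfl⟩⟩
  · rw [← preimage_image (sq i), Set.image_subset_iff]
  · exact hco i _ (h i _ (hA.preimage (Points.continuous_map _)))
  · rw [← preimage_image (sq i)]; exact hz

include sq hco hcs in
theorem isClosedMap_descend (h : ∀ i, IsClosedMap (Points.map (q i))) : IsClosedMap (Points.map p) := by
  intro A hA
  rw [← isOpen_compl_iff, isOpen_iff_forall_mem_open]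
  intro z hz
  obtain ⟨i, e, rfl⟩ := hcs z
  refine ⟨Points.map (c i) '' (Points.map (q i) '' (Points.map (d i) ⁻¹' A))ᶜ, ?_, ?_, ⟨e, ?_, rfl⟩⟩
  · rw [← preimage_image (sq i), ← Set.preimage_compl, Set.image_subset_iff]
  · exact hco i _ (h i _ (hA.preimage (Points.continuous_map _))).isOpen_compl
  · rw [← preimage_image (sq i)]; exact hz

include sq hcs in
theorem injective_descend (h : ∀ i, Function.Injective (Points.map (q i))) :
    Function.Injective (Points.map p) := by
  intro x y e
  obtain ⟨i, z, hz⟩ := hcs (Points.map p x)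
  obtain ⟨w, rfl, hw⟩ := exists_point_isPullback (sq i) x z hz.symm
  obtain ⟨w', rfl, hw'⟩ := exists_point_isPullback (sq i) y z (e ▸ hz.symm)
  rw [h i (hw.trans hw'.symm)]

include sq hcs in
theorem surjective_descend (h : ∀ i, Function.Surjective (Points.map (q i))) :
    Function.Surjective (Points.map p) := fun z => by
  obtain ⟨i, e, rfl⟩ := hcs z
  obtain ⟨w, rfl⟩ := h i e
  exact ⟨Points.map (d i) w, by rw [← Points.map_comp, ← Points.map_comp, (sq i).w]⟩

include sq hco hcs in
theorem isQuotientMap_descend (h : ∀ i, IsQuotientMap (Points.map (q i))) :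
    IsQuotientMap (Points.map p) := by
  rw [isQuotientMap_iff]
  refine ⟨isCoinducing_iff.2 fun A => ⟨fun hA => ?_, fun hA => hA.preimage (Points.continuous_map p)⟩,
    surjective_descend sq hcs fun i => (h i).surjective⟩
  rw [isOpen_iff_forall_mem_open]
  intro z hz
  obtain ⟨i, e, rfl⟩ := hcs z
  refine ⟨Points.map (c i) '' (Points.map (c i) ⁻¹' A), Set.image_preimage_subset _ _, hco i _ ?_,
    ⟨e, hz, rfl⟩⟩
  rw [← (h i).isOpen_preimage, ← preimage_preimage (sq i)]
  exact hA.preimage (Points.continuous_map _)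

include sq hco hcs in
theorem isHomeomorph_descend (h : ∀ i, IsHomeomorph (Points.map (q i))) :
    IsHomeomorph (Points.map p) :=
  ⟨Points.continuous_map p, isOpenMap_descend sq hco hcs fun i => (h i).isOpenMap,
    injective_descend sq hcs fun i => (h i).injective,
    surjective_descend sq hcs fun i => (h i).surjective⟩

end Descent

/-- A property of morphisms of sheaves, read on points, that descends along open jointly surjective families. -/
def Descends (Q : MorphismProperty (Sp S)) : Prop :=
  ∀ {ι : Type u} {W Z : Sp S} {p : W ⟶ Z} {Wi Zi : ι → Sp S} {c : ∀ i, Zi i ⟶ Z}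
    {d : ∀ i, Wi i ⟶ W} {q : ∀ i, Wi i ⟶ Zi i}, (∀ i, IsPullback (d i) (q i) p (c i)) →
    (∀ i, IsOpenMap (Points.map (c i))) → (∀ z : Points Z, ∃ i, z ∈ Set.range (Points.map (c i))) →
    (∀ i, Q (q i)) → Q p

theorem descends_isOpenMor : Descends (S := S) IsOpenMor := fun sq hco hcs h => isOpenMap_descend sq hco hcs h
theorem descends_isClosedMor : Descends (S := S) IsClosedMor := fun sq hco hcs h => isClosedMap_descend sq hco hcs h
theorem descends_injective : Descends (S := S) (fun _ _ f => Function.Injective (Points.map f)) :=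
  fun sq _ hcs h => injective_descend sq hcs h
theorem descends_isSurjectiveMor : Descends (S := S) IsSurjectiveMor := fun sq _ hcs h => surjective_descend sq hcs h
theorem descends_isSubmersiveMor : Descends (S := S) IsSubmersiveMor := fun sq hco hcs h => isQuotientMap_descend sq hco hcs h
theorem descends_isHomeomorph : Descends (S := S) (fun _ _ f => IsHomeomorph (Points.map f)) :=
  fun sq hco hcs h => isHomeomorph_descend sq hco hcs h

/-- Every algebraic space has a jointly surjective family of affine etale charts. -/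
theorem exists_affine_charts {F : Sp S} (hF : IsAlgSpace F) :
    ∃ (ι : Type u) (U : ι → Over S) (a : ∀ i, (yon S).obj (U i) ⟶ F), (∀ i, IsAffine (U i).left) ∧
      (∀ i, RepWith @Etale (a i)) ∧ (∀ i, IsOpenMap (Points.map (a i))) ∧
      ∀ x : Points F, ∃ i, x ∈ Set.range (Points.map (a i)) := by
  obtain ⟨U, a, ha, has⟩ := hF.atlas
  choose O hO htO using fun t : U.left =>
    exists_isAffineOpen_mem_and_subset (U := ⊤) (x := t) trivial
  let V : ↥U.left → Over S := fun t => Over.mk ((O t).ι ≫ U.hom)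
  let j : ∀ t, V t ⟶ U := fun t => Over.homMk (O t).ι rfl
  have hj : ∀ t, RepWith @Etale ((yon S).map (j t) ≫ a) := fun t =>
    repWith_comp ((repWith_yon_map_iff (P := (@Etale : MorphismProperty Scheme.{u})) (j t)).2
      (inferInstanceAs (Etale (O t).ι))) ha
  refine ⟨↥U.left, V, fun t => (yon S).map (j t) ≫ a, fun t => hO t, hj,
    fun t => isOpenMap_map_of_isEtaleMor (IsAlgSpace.yon_obj _) (isEtaleMor_of_repWith (hj t)),
    fun x => ?_⟩
  obtain ⟨u, rfl⟩ := surjective_ofPt has x
  refine ⟨u, ?_⟩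
  rw [← range_ofPt]
  exact ⟨⟨u, (htO u).1⟩, ofPt_yon_comp (j u) a _⟩

/-- `UnivSp Q` can be tested on affine schemes. -/
theorem univSp_iff_affine {Q : MorphismProperty (Sp S)} (hQ : Descends Q) {F G : Sp S} {f : F ⟶ G} :
    UnivSp Q f ↔ ∀ (Z : Over S), IsAffine Z.left → ∀ (g : (yon S).obj Z ⟶ G) (P : Sp S) (fst : P ⟶ F)
      (snd : P ⟶ (yon S).obj Z), IsPullback fst snd f g → Q snd := by
  refine ⟨fun h Z _ g P fst snd sq => h (IsAlgSpace.yon_obj Z) g fst snd sq, fun h Z Z' hZ g fst snd sq => ?_⟩
  obtain ⟨ι, U, a, hU, -, ho, hs⟩ := exists_affine_charts hZ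
  exact hQ (c := a) (fun i => IsPullback.of_hasPullback snd (a i)) ho hs fun i =>
    h (U i) (hU i) (a i ≫ g) _ _ _ ((IsPullback.of_hasPullback snd (a i)).paste_horiz sq)

/-- `UnivSp Q` descends along an etale surjection of the base. -/
theorem univSp_of_etale_cover {Q : MorphismProperty (Sp S)} (hQ : Descends Q) {F G G' F' : Sp S}
    (hG : IsAlgSpace G) (hG' : IsAlgSpace G') {f : F ⟶ G} {p : G' ⟶ G} (hp : IsEtaleMor p)
    (hps : Function.Surjective (Points.map p)) {fst : F' ⟶ F} {snd : F' ⟶ G'}
    (sq : IsPullback fst snd f p) (h : UnivSp Q snd) : UnivSp Q f := by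
  intro Z Z' hZ g fst' snd' sq'
  have hW := IsPullback.of_hasPullback p g
  have hWa : IsAlgSpace (pullback p g) := isAlgSpace_pullback hG' hZ hG p g
  have hc : IsEtaleMor (pullback.snd p g) := isEtaleMor_of_isPullback hG' hG hZ hW hp
  refine hQ (ι := PUnit.{u + 1}) (c := fun _ => pullback.snd p g)
    (fun _ => IsPullback.of_hasPullback snd' (pullback.snd p g))
    (fun _ => isOpenMap_map_of_isEtaleMor hWa hc)
    (fun z => ⟨⟨⟩, map_surjective_of_isPullback hW hps z⟩) fun _ => ?_
  have big : IsPullback (pullback.fst snd' (pullback.snd p g) ≫ fst')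
      (pullback.snd snd' (pullback.snd p g)) f (pullback.fst p g ≫ p) := by
    rw [hW.w]
    exact (IsPullback.of_hasPullback _ _).paste_horiz sq'
  refine h hWa (pullback.fst p g) (sq.lift _ _ (big.w.trans (Category.assoc _ _ _).symm))
    _ (IsPullback.of_right ?_ (sq.lift_snd _ _ _) sq)
  rw [sq.lift_fst]
  exact big

theorem univSp_of_isPullback {Q : MorphismProperty (Sp S)} {F G F' G' : Sp S} {f : F ⟶ G} {g : G' ⟶ G}
    {fst : F' ⟶ F} {snd : F' ⟶ G'} (sq : IsPullback fst snd f g) (h : UnivSp Q f) : UnivSp Q snd :=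
  fun _ _ hZ g' fst' _ sq' => h hZ (g' ≫ g) (fst' ≫ fst) _ (sq'.paste_horiz sq)

/-! ## Comparison with the notions for schemes -/

theorem isOpenMap_map_yon_iff {U V : Over S} (φ : U ⟶ V) :
    IsOpenMap (Points.map ((yon S).map φ)) ↔ IsOpenMap φ.left := by
  rw [Points.map_yon_map_eq, (Points.schemeHomeo V).isOpenEmbedding.isOpenMap_iff]
  exact ⟨fun h => by simpa [Function.comp_def] using! h.comp (Points.schemeHomeo U).isOpenMap,
    fun h => h.comp (Points.schemeHomeo U).symm.isOpenMap⟩

theorem isClosedMap_map_yon_iff {U V : Over S} (φ : U ⟶ V) :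
    IsClosedMap (Points.map ((yon S).map φ)) ↔ IsClosedMap φ.left := by
  rw [Points.map_yon_map_eq]
  exact ⟨fun h => by
      simpa [Function.comp_def] using!
        ((Points.schemeHomeo V).symm.isClosedMap.comp h).comp (Points.schemeHomeo U).isClosedMap,
    fun h => (Points.schemeHomeo V).isClosedMap.comp (h.comp (Points.schemeHomeo U).symm.isClosedMap)⟩

theorem injective_map_yon_iff {U V : Over S} (φ : U ⟶ V) :
    Function.Injective (Points.map ((yon S).map φ)) ↔ Function.Injective φ.left := by
  rw [Points.map_yon_map_eq, (Points.schemeHomeo V).injective.of_comp_iff]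
  exact Function.Injective.of_comp_iff' _ (Points.schemeHomeo U).symm.bijective

theorem isQuotientMap_map_yon_iff {U V : Over S} (φ : U ⟶ V) :
    IsQuotientMap (Points.map ((yon S).map φ)) ↔ IsQuotientMap φ.left := by
  rw [Points.map_yon_map_eq]
  exact ⟨fun h => by
      simpa [Function.comp_def] using!
        ((Points.schemeHomeo V).symm.isQuotientMap.comp h).comp (Points.schemeHomeo U).isQuotientMap,
    fun h => (Points.schemeHomeo V).isQuotientMap.comp (h.comp (Points.schemeHomeo U).symm.isQuotientMap)⟩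

theorem isHomeomorph_map_yon_iff {U V : Over S} (φ : U ⟶ V) :
    IsHomeomorph (Points.map ((yon S).map φ)) ↔ IsHomeomorph φ.left := by
  rw [Points.map_yon_map_eq]
  exact ⟨fun h => by
      simpa [Function.comp_def] using!
        ((Points.schemeHomeo V).symm.isHomeomorph.comp h).comp (Points.schemeHomeo U).isHomeomorph,
    fun h => (Points.schemeHomeo V).isHomeomorph.comp (h.comp (Points.schemeHomeo U).symm.isHomeomorph)⟩

/-- For representable morphisms, the universal notions agree with those of schemes. -/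
theorem repWith_universally_iff {Q : MorphismProperty (Sp S)} (hQ : Descends Q)
    {Q' : MorphismProperty Scheme.{u}} (hQQ : ∀ {U V : Over S} (φ : U ⟶ V), Q ((yon S).map φ) ↔ Q' φ.left)
    (hiso : ∀ {A B C : Sp S} (e : A ⟶ B) [IsIso e] (p : B ⟶ C), Q p → Q (e ≫ p))
    {F G : Sp S} {f : F ⟶ G} (hf : Representable f) :
    RepWith Q'.universally f ↔ UnivSp Q f := by
  constructor
  · intro h
    rw [univSp_iff_affine hQ]
    intro Z _ g P fst snd sq
    have hq := (hQQ (hf.snd g)).2 (h.property g _ _ (hf.isPullback g) _ _ _ IsPullback.of_id_snd)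
    rw [← sq.isoIsPullback_hom_snd _ _ (hf.isPullback g)]
    exact hiso _ _ hq
  · refine fun h => ⟨hf, fun T W g fst snd sq => ?_⟩
    intro X' Y' i₁ i₂ f' sq₀
    have sq' : IsPullback i₁ f' snd.left i₂ := sq₀.flip
    let T' : Over S := Over.mk (i₂ ≫ T.hom)
    let W' : Over S := Over.mk (i₁ ≫ W.hom)
    let i₂' : T' ⟶ T := Over.homMk i₂ rfl
    let i₁' : W' ⟶ W := Over.homMk i₁ rfl
    let f'' : W' ⟶ T' := Over.homMk f' (by
      change f' ≫ i₂ ≫ T.hom = i₁ ≫ W.hom
      have e : (f' ≫ i₂ : X' ⟶ T.left) = i₁ ≫ snd.left := sq'.w.symm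
      exact (reassoc_of% e) T.hom |>.trans (congrArg (i₁ ≫ ·) (Over.w snd)))
    have sqO : IsPullback i₁' f'' snd i₂' :=
      IsPullback.of_map (F := Over.forget S) (Over.OverMorphism.ext sq'.w) sq'
    exact (hQQ f'').1 (h (IsAlgSpace.yon_obj T') ((yon S).map i₂' ≫ g) _ _
      ((sqO.map (yon S)).paste_horiz sq))

theorem isHomeomorph_map_of_isIso {F G : Sp S} (e : F ⟶ G) [IsIso e] :
    IsHomeomorph (Points.map e) :=
  (({ toFun := Points.map e
      invFun := Points.map (inv e)
      left_inv := fun x => by rw [← Points.map_comp, IsIso.hom_inv_id, Points.map_id]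
      right_inv := fun x => by rw [← Points.map_comp, IsIso.inv_hom_id, Points.map_id]
      continuous_toFun := Points.continuous_map e
      continuous_invFun := Points.continuous_map (inv e) } : Points F ≃ₜ Points G)).isHomeomorph

end AlgSpLib
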