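import Groth.Agent.AlgSpLib.Qc
import Groth.Agent.AlgSpLib.Univ

/-!
# Universally closed morphisms of algebraic spaces are quasi-compact
-/

set_option autoImplicit false
set_option backward.isDefEq.respectTransparency false
set_option backward.isDefEq.respectTransparency.types false

universe u

open CategoryTheory CategoryTheory.Limits AlgebraicGeometry Opposite AlgSp Topology

noncomputable section

namespace AlgSpLib

variable {S : Scheme.{u}}

/-- A space universally closed over an affine scheme is quasi-compact. -/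
theorem isQuasiCompactSp_of_univClosed_affine {H : Sp S} (hH : IsAlgSpace H) {W : Over S} [IsAffine W.left]
    (a : H ⟶ (yon S).obj W) (ha : IsUnivClosedMor a) : IsQuasiCompactSp H := by
  classical
  obtain ⟨U₀, p, hp, hps⟩ := hH.atlas
  choose O hO htO using fun t : U₀.left =>
    exists_isAffineOpen_mem_and_subset (U := ⊤) (x := t) trivial
  let Ui : U₀.left → Set (Points H) := fun t => Points.ofPt p '' (O t : Set U₀.left)
  have hUo : ∀ t, IsOpen (Ui t) := fun t => isOpenMap_ofPt hp _ (O t).2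
  have hUc : ∀ t, IsCompact (Ui t) := fun t => (hO t).isCompact.image (Points.continuous_ofPt p)
  have hcov : ∀ x, ∃ t, x ∈ Ui t := fun x => by
    obtain ⟨t, rfl⟩ := surjective_ofPt hps x
    exact ⟨t, t, (htO t).1, rfl⟩
  let A := Γ(W.left, ⊤)
  let R := MvPolynomial U₀.left A
  let π : Spec (CommRingCat.of R) ⟶ W.left :=
    Spec.map (CommRingCat.ofHom MvPolynomial.C) ≫ W.left.isoSpec.inv
  let T : Over S := Over.mk (π ≫ W.hom)
  let q : T ⟶ W := Over.homMk π rfl
  let sq := IsPullback.of_hasPullback a ((yon S).map q)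
  have hclosed : IsClosedMap (Points.map (pullback.snd a ((yon S).map q))) :=
    ha (IsAlgSpace.yon_obj T) _ _ _ sq
  -- sections of the affine space
  let sec : (R →+* A) → (W.left ⟶ Spec (CommRingCat.of R)) := fun f =>
    W.left.isoSpec.hom ≫ Spec.map (CommRingCat.ofHom f)
  have hmem : ∀ (f : R →+* A) (g : R) (w : W.left),
      sec f w ∈ PrimeSpectrum.basicOpen g ↔ W.left.isoSpec.hom w ∈ PrimeSpectrum.basicOpen (f g) :=
    fun f g w => Iff.rfl
  have hq : ∀ (f : R →+* A), f.comp MvPolynomial.C = RingHom.id A → ∀ w, π (sec f w) = w := fun f hf w => by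
    have : sec f ≫ π = 𝟙 W.left := by
      simp only [sec, π, Category.assoc]
      rw [← Spec.map_comp_assoc, ← CommRingCat.ofHom_comp, hf]
      simp [A]
      erw [Category.id_comp]
      exact W.left.isoSpec.hom_inv_id
    rw [← Scheme.Hom.comp_apply, this]
    rfl
  let ψ : R →+* A := (MvPolynomial.aeval fun _ : U₀.left => (1 : A)).toRingHom
  let D : U₀.left → Set (Points ((yon S).obj T)) := fun t =>
    Points.schemeHomeo T '' ((PrimeSpectrum.basicOpen (MvPolynomial.X t : R) : Set (PrimeSpectrum R)))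
  have hDo : ∀ t, IsOpen (D t) := fun t =>
    (Points.schemeHomeo T).isOpenMap _ (PrimeSpectrum.basicOpen (MvPolynomial.X t : R)).2
  let G : Set (Points (pullback a ((yon S).map q))) :=
    ⋃ t, Points.map (pullback.fst a ((yon S).map q)) ⁻¹' Ui t ∩ Points.map (pullback.snd a ((yon S).map q)) ⁻¹' D t
  have hGo : IsOpen G := isOpen_iUnion fun t =>
    ((hUo t).preimage (Points.continuous_map _)).inter ((hDo t).preimage (Points.continuous_map _))
  let C : Set T.left := Points.schemeHomeo T ⁻¹' (Points.map (pullback.snd a ((yon S).map q)) '' Gᶜ)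
  have hC : IsClosed C := (hclosed _ hGo.isClosed_compl).preimage (Points.schemeHomeo T).continuous
  -- the section avoids the bad set
  have hs : ∀ w, sec ψ w ∉ C := by
    rintro w ⟨z, hz, hzt⟩
    refine hz ?_
    obtain ⟨t, ht⟩ := hcov (Points.map (pullback.fst a ((yon S).map q)) z)
    refine Set.mem_iUnion.2 ⟨t, ht, ?_⟩
    refine ⟨sec ψ w, (hmem ψ _ w).2 ?_, hzt.symm⟩
    rw [show ψ (MvPolynomial.X t) = 1 from MvPolynomial.aeval_X _ t]
    simp
  have hbasic : ∀ w, ∃ g : R, sec ψ w ∈ PrimeSpectrum.basicOpen g ∧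
      (PrimeSpectrum.basicOpen g : Set (PrimeSpectrum R)) ⊆ Cᶜ := fun w => by
    obtain ⟨_, ⟨g, rfl⟩, h1, h2⟩ :=
      PrimeSpectrum.isTopologicalBasis_basic_opens.exists_subset_of_mem_open (hs w) hC.isOpen_compl
    exact ⟨g, h1, h2⟩
  choose g hg hgC using hbasic
  haveI : CompactSpace W.left := inferInstance
  obtain ⟨F, hF⟩ := isCompact_univ.elim_finite_subcover
    (fun w => sec ψ ⁻¹' (PrimeSpectrum.basicOpen (g w) : Set (PrimeSpectrum R)))
    (fun w => (PrimeSpectrum.basicOpen (g w)).2.preimage (sec ψ).continuous)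
    fun w _ => Set.mem_iUnion.2 ⟨w, hg w⟩
  let σ : Finset U₀.left := F.biUnion fun w => (g w).vars
  let φ : R →+* R := (MvPolynomial.aeval fun i : U₀.left => if i ∈ σ then MvPolynomial.X i else 0).toRingHom
  refine isQuasiCompactSp_of_compactSpace hH ⟨?_⟩
  suffices h : (⋃ t ∈ σ, Ui t) = Set.univ from h ▸ σ.finite_toSet.isCompact_biUnion fun t _ => hUc t
  refine Set.eq_univ_of_forall fun x => ?_
  obtain ⟨w, hw⟩ := (Points.schemeHomeo W).surjective (Points.map a x)
  obtain ⟨v, hv, hwv⟩ := Set.mem_iUnion₂.1 (hF (Set.mem_univ w))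
  have hφg : φ (g v) = g v :=
    MvPolynomial.aeval_ite_mem_eq_self (g v) fun i hi => Finset.mem_biUnion.2 ⟨v, hv, hi⟩
  have hC' : sec (ψ.comp φ) w ∉ C := hgC v ((hmem (ψ.comp φ) _ w).2 (by
    rw [RingHom.comp_apply, hφg]
    exact (hmem ψ _ w).1 hwv))
  obtain ⟨z, hz1, hz2⟩ := exists_point_isPullback sq x (Points.schemeHomeo T (sec (ψ.comp φ) w)) (by
    rw [← hw]
    refine Eq.trans ?_ (Points.map_yon_map_apply q _).symm
    refine congrArg (Points.schemeHomeo W) (hq (ψ.comp φ) ?_ w).symm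
    refine RingHom.ext fun r => ?_
    change MvPolynomial.aeval _ (MvPolynomial.aeval _ (MvPolynomial.C r)) = r
    rw [MvPolynomial.aeval_C, MvPolynomial.algebraMap_eq, MvPolynomial.aeval_C]
    rfl)
  have hzG : z ∈ G := by_contra fun hzG => hC' ⟨z, hzG, hz2⟩
  obtain ⟨t, ht1, ht2⟩ := Set.mem_iUnion.1 hzG
  rw [Set.mem_preimage, hz1] at ht1
  rw [Set.mem_preimage, hz2] at ht2
  refine Set.mem_iUnion₂.2 ⟨t, by_contra fun htσ => ?_, ht1⟩
  obtain ⟨y, hy, hye⟩ := ht2
  have hy' : sec (ψ.comp φ) w ∈ PrimeSpectrum.basicOpen (MvPolynomial.X t : R) :=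
    (Points.schemeHomeo T).injective hye ▸ hy
  rw [hmem, RingHom.comp_apply, show φ (MvPolynomial.X t) = 0 from (MvPolynomial.aeval_X _ t).trans (if_neg htσ), map_zero,
    PrimeSpectrum.basicOpen_zero] at hy'
  exact hy'

/-- A universally closed morphism is quasi-compact. -/
theorem isQuasiCompactMor_of_univClosed {F G : Sp S} (hF : IsAlgSpace F) (hG : IsAlgSpace G) {f : F ⟶ G}
    (h : IsUnivClosedMor f) : IsQuasiCompactMor f := by
  rw [isQuasiCompactMor_iff_affine hF hG]
  intro Z hZ g P fst snd sq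
  haveI := hZ
  exact isQuasiCompactSp_of_univClosed_affine (isAlgSpace_of_isPullback hF (IsAlgSpace.yon_obj Z) hG sq) snd
    (univSp_of_isPullback sq h)

end AlgSpLib
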