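import Groth.Agent.AlgSpLib.MorPack
import Groth.Agent.AlgSpLib.Descend
import Groth.Agent.AlgSpLib.Iso
import Groth.Agent.AlgSpLib.Fppf
import Groth.Agent.AlgSpLib.UnivClosedQc

/-!
# fpqc descent of affine morphisms of algebraic spaces
-/

set_option autoImplicit false
set_option backward.isDefEq.respectTransparency false
set_option backward.isDefEq.respectTransparency.types false

universe u

open CategoryTheory CategoryTheory.Limits AlgebraicGeometry Opposite AlgSp Topology

namespace AlgSpLib

variable {S : Scheme.{u}}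

open Datum in
/-- An algebraic space over an affine scheme which becomes affine after a faithfully flat affine base change is
affine. -/
theorem exists_affine_of_fpqc_base {T T' W' : Over S} {q : T' ⟶ T} {G : Sp S} (hG : IsAlgSpace G)
    {π : G ⟶ (yon S).obj T} {fst : (yon S).obj W' ⟶ G} {pW : W' ⟶ T'}
    (sq : IsPullback fst ((yon S).map pW) π ((yon S).map q))
    [IsAffine T.left] [IsAffine T'.left] [Flat q.left] [Surjective q.left] [IsAffine W'.left] :
    ∃ (W : Over S) (β : W ⟶ T) (e : (yon S).obj W ≅ G), IsAffine W.left ∧ e.hom ≫ π = (yon S).map β := by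
  obtain ⟨U, a, ha, has⟩ := hG.atlas
  have hd₀ : (d₀ sq).left ≫ pW.left = pullback.snd (pW.left ≫ q.left) q.left :=
    congrArg Over.Hom.left (d₀_pW sq)
  have hsec : pullback.lift (f := pW.left ≫ q.left) (g := q.left) (𝟙 W'.left) pW.left (Category.id_comp _) ≫
      (d₀ sq).left = 𝟙 _ := by
    obtain ⟨y, hy₁, hy₂⟩ := exists_pair sq (𝟙 W') (𝟙 W') rfl
    have : y.left = pullback.lift (f := pW.left ≫ q.left) (g := q.left) (𝟙 W'.left) pW.left
        (Category.id_comp _) := pullback.hom_ext
      (by rw [pullback.lift_fst]; exact congrArg Over.Hom.left hy₁)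
      (by
        rw [pullback.lift_snd]
        have h := congrArg Over.Hom.left (hy₂ =≫ pW)
        rw [Category.assoc, d₀_pW] at h
        simpa using h)
    rw [← this]; exact congrArg Over.Hom.left hy₂
  obtain ⟨Wb, β, h, w, hWb, hd, -, hiso⟩ := exists_affine_descent q.left pW.left (d₀ sq).left hd₀ hsec (by
    intro Z y t w₁ w₂
    let Zo : Over S := Over.mk (t ≫ T'.hom)
    let yo : Zo ⟶ W₂ pW q := Over.homMk y (by
      change y ≫ pullback.snd _ _ ≫ T'.hom = t ≫ T'.hom
      rw [← Over.w q, reassoc_of% hd₀.symm]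
      simpa only [Category.assoc] using congrArg (· ≫ T.hom) w₁)
    let a : Zo ⟶ W₂ pW q := Over.homMk (pullback.lift (y ≫ (d₀ sq).left) t w₁) (by
      change pullback.lift _ _ _ ≫ pullback.snd _ _ ≫ T'.hom = _; rw [pullback.lift_snd_assoc]; rfl)
    let b : Zo ⟶ W₂ pW q := Over.homMk (pullback.lift (y ≫ pullback.fst _ _) t w₂) (by
      change pullback.lift _ _ _ ≫ pullback.snd _ _ ≫ T'.hom = _; rw [pullback.lift_snd_assoc]; rfl)
    have ha₁ : a ≫ pr₁ pW q = yo ≫ d₀ sq := Over.OverMorphism.ext (pullback.lift_fst _ _ _)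
    have hb₁ : b ≫ pr₁ pW q = yo ≫ pr₁ pW q := Over.OverMorphism.ext (pullback.lift_fst _ _ _)
    have ha₂ : a ≫ pr₂ pW q = b ≫ pr₂ pW q :=
      Over.OverMorphism.ext ((pullback.lift_snd _ _ _).trans (pullback.lift_snd _ _ _).symm)
    have : a ≫ d₀ sq = b ≫ d₀ sq := W'_ext sq
      (by rw [Category.assoc, Category.assoc, d₀_pW, ha₂])
      (by
        rw [Functor.map_comp, Functor.map_comp, Category.assoc, Category.assoc, d₀_fst, ← Category.assoc,
          ← Category.assoc, ← Functor.map_comp, ← Functor.map_comp, ha₁, hb₁, Functor.map_comp,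
          Functor.map_comp, Category.assoc, Category.assoc, d₀_fst])
    exact congrArg Over.Hom.left this)
  haveI := hWb
  let Wo : Over S := Over.mk (β ≫ T.hom)
  let Ho : W' ⟶ Wo := Over.homMk h (by
    change h ≫ β ≫ T.hom = W'.hom; rw [reassoc_of% w]; simp only [Over.w])
  let βo : Wo ⟶ T := Over.homMk β rfl
  have hHβ : Ho ≫ βo = pW ≫ q := Over.OverMorphism.ext w
  -- two points of `W'` with the same image agree in `Wo`
  have hHo : ∀ {Z : Over S} (b b' : Z ⟶ W'), (yon S).map b ≫ fst = (yon S).map b' ≫ fst → b ≫ Ho = b' ≫ Ho := by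
    intro Z b b' hbb
    obtain ⟨y, rfl, rfl⟩ := exists_pair sq b b' hbb
    refine Over.OverMorphism.ext ?_
    simp only [Over.comp_left, Category.assoc]
    exact congrArg (y.left ≫ ·) hd.symm
  -- the atlas and its base change
  obtain ⟨u, hu⟩ := (yon S).map_surjective (a ≫ π)
  let U' : Over S := Over.mk (pullback.fst u.left q.left ≫ U.hom)
  let r : U' ⟶ U := Over.homMk (pullback.fst u.left q.left) rfl
  let u' : U' ⟶ T' := Over.homMk (pullback.snd u.left q.left) (by
    change pullback.snd _ _ ≫ T'.hom = pullback.fst _ _ ≫ U.hom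
    rw [← Over.w q, ← Over.w u, pullback.condition_assoc])
  have sqU : IsPullback r u' u q := isPullback_over (IsPullback.of_hasPullback u.left q.left)
  have sqU' : IsPullback ((yon S).map r) ((yon S).map u') (a ≫ π) ((yon S).map q) := hu ▸ sqU.map (yon S)
  obtain ⟨r', hr'⟩ := (yon S).map_surjective (sq.lift ((yon S).map r ≫ a) ((yon S).map u')
    (by rw [Category.assoc, sqU'.w]))
  have hr'f : (yon S).map r' ≫ fst = (yon S).map r ≫ a := by rw [hr']; exact sq.lift_fst _ _ _
  have hr'p : (yon S).map r' ≫ (yon S).map pW = (yon S).map u' := by rw [hr']; exact sq.lift_snd _ _ _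
  haveI : Flat r.left := inferInstanceAs (Flat (pullback.fst u.left q.left))
  haveI : Surjective r.left := inferInstanceAs (Surjective (pullback.fst u.left q.left))
  haveI : QuasiCompact r.left := inferInstanceAs (QuasiCompact (pullback.fst u.left q.left))
  -- descend along `r`
  have hker : ∀ {Z : Scheme.{u}} (g₁ g₂ : Z ⟶ U'.left), g₁ ≫ r.left = g₂ ≫ r.left →
      g₁ ≫ (r' ≫ Ho).left = g₂ ≫ (r' ≫ Ho).left := by
    intro Z g₁ g₂ e
    let Zo : Over S := Over.mk (g₁ ≫ U'.hom)
    let c₁ : Zo ⟶ U' := Over.homMk g₁ rfl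
    let c₂ : Zo ⟶ U' := Over.homMk g₂ (by
      change g₂ ≫ U'.hom = g₁ ≫ U'.hom
      rw [← Over.w r, ← Category.assoc, ← e, Category.assoc])
    have ec : c₁ ≫ r = c₂ ≫ r := Over.OverMorphism.ext e
    have := hHo (c₁ ≫ r') (c₂ ≫ r') (by
      rw [Functor.map_comp, Functor.map_comp, Category.assoc, Category.assoc, hr'f, ← Functor.map_comp_assoc, ec,
        Functor.map_comp_assoc])
    exact congrArg Over.Hom.left (((Category.assoc _ _ _).symm.trans this).trans (Category.assoc _ _ _))
  let x₀ := EffectiveEpi.desc r.left (r' ≫ Ho).left hker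
  have hx₀ : r.left ≫ x₀ = (r' ≫ Ho).left := EffectiveEpi.fac r.left _ hker
  let x : U ⟶ Wo := Over.homMk x₀ (by
    rw [← cancel_epi r.left, ← Category.assoc, hx₀]
    exact (Over.w (r' ≫ Ho)).trans (Over.w r).symm)
  have hx : r ≫ x = r' ≫ Ho := Over.OverMorphism.ext hx₀
  obtain ⟨k, hk⟩ := exists_desc_of_atlas ha has ((yon S).map x) fun Z g g' hgg => by
    rw [← Functor.map_comp, ← Functor.map_comp]
    refine congrArg _ (Over.OverMorphism.ext ?_)
    let Z' : Over S := Over.mk (pullback.fst (g ≫ u).left q.left ≫ Z.hom)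
    let z : Z' ⟶ Z := Over.homMk (pullback.fst (g ≫ u).left q.left) rfl
    let z' : Z' ⟶ T' := Over.homMk (pullback.snd (g ≫ u).left q.left) (by
      change pullback.snd _ _ ≫ T'.hom = pullback.fst _ _ ≫ Z.hom
      rw [← Over.w q, ← Over.w (g ≫ u), pullback.condition_assoc])
    have hz : (z ≫ g) ≫ u = z' ≫ q := Over.OverMorphism.ext (by
      simp only [Over.comp_left, Category.assoc]
      exact pullback.condition)
    have hgu : g ≫ u = g' ≫ u := (yon S).map_injective (by
      rw [Functor.map_comp, Functor.map_comp, hu, ← Category.assoc, hgg, Category.assoc])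
    have hz2 : (z ≫ g') ≫ u = z' ≫ q := by rw [← hz, Category.assoc, Category.assoc, hgu]
    let b := sqU.lift (z ≫ g) z' hz
    let b' := sqU.lift (z ≫ g') z' hz2
    have hb : b ≫ r = z ≫ g := sqU.lift_fst _ _ _
    have hb' : b' ≫ r = z ≫ g' := sqU.lift_fst _ _ _
    have := hHo (b ≫ r') (b' ≫ r') (by
      rw [Functor.map_comp, Functor.map_comp, Category.assoc, Category.assoc, hr'f, ← Functor.map_comp_assoc,
        ← Functor.map_comp_assoc, hb, hb', Functor.map_comp, Functor.map_comp, Category.assoc, Category.assoc, hgg])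
    rw [Category.assoc, Category.assoc, ← hx, ← Category.assoc, ← Category.assoc, hb, hb'] at this
    have key := congrArg Over.Hom.left this
    haveI : Flat z.left := inferInstanceAs (Flat (pullback.fst _ _))
    haveI : Surjective z.left := inferInstanceAs (Surjective (pullback.fst _ _))
    haveI : QuasiCompact z.left := inferInstanceAs (QuasiCompact (pullback.fst _ _))
    rw [← cancel_epi z.left]
    simpa only [Over.comp_left, Category.assoc] using key
  have hkπ : k ≫ (yon S).map βo = π := by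
    apply hom_ext_of_atlas ha has
    rw [← Category.assoc, hk, ← Functor.map_comp, ← hu]
    refine congrArg _ (Over.OverMorphism.ext ?_)
    rw [← cancel_epi r.left, ← Over.comp_left, ← Over.comp_left, ← Category.assoc, hx, Category.assoc, hHβ,
      ← Category.assoc, sqU.w]
    refine congrArg Over.Hom.left ((yon S).map_injective ?_)
    rw [Functor.map_comp, Functor.map_comp, Functor.map_comp, hr'p]
  have hfk : fst ≫ k = (yon S).map Ho := by
    have sqa : IsPullback ((yon S).map r) ((yon S).map r') a fst :=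
      IsPullback.of_bot (by rw [hr'p]; exact sqU') hr'f.symm sq
    refine hom_ext_of_atlas (a := (yon S).map r') (repWith_of_isPullback sqa ha) (repWith_of_isPullback sqa has) ?_
    rw [← Category.assoc, hr'f, Category.assoc, hk, ← Functor.map_comp, hx, Functor.map_comp]
  let Po : Over S := Over.mk (pullback.fst β q.left ≫ Wo.hom)
  let prP : Po ⟶ Wo := Over.homMk (pullback.fst β q.left) rfl
  let prT : Po ⟶ T' := Over.homMk (pullback.snd β q.left) (by
    change pullback.snd _ _ ≫ T'.hom = pullback.fst _ _ ≫ β ≫ T.hom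
    rw [← Over.w q, pullback.condition_assoc])
  have bot : IsPullback prP prT βo q := isPullback_over (IsPullback.of_hasPullback β q.left)
  let kk : W' ⟶ Po := Over.homMk (pullback.lift h pW.left w) (by
    change pullback.lift _ _ _ ≫ pullback.fst _ _ ≫ Wo.hom = W'.hom
    rw [pullback.lift_fst_assoc]; exact Over.w Ho)
  have hkk₁ : kk ≫ prP = Ho := Over.OverMorphism.ext (pullback.lift_fst _ _ _)
  have hkk₂ : kk ≫ prT = pW := Over.OverMorphism.ext (pullback.lift_snd _ _ _)
  have top : IsPullback fst ((yon S).map kk) k ((yon S).map prP) :=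
    IsPullback.of_bot (by rw [← Functor.map_comp, hkk₂, hkπ]; exact sq)
      (by rw [hfk, ← Functor.map_comp, hkk₁]) (bot.map (yon S))
  haveI : IsIso kk.left := hiso inferInstance
  haveI : IsIso ((Over.forget S).map kk) := inferInstanceAs (IsIso kk.left)
  haveI : IsIso kk := isIso_of_reflects_iso _ (Over.forget S)
  have hqc : RepWith @QuasiCompact ((yon S).map prP) :=
    (repWith_yon_map_iff _ _).2 (inferInstanceAs (QuasiCompact (pullback.fst β q.left)))
  have hWo := IsAlgSpace.yon_obj (S := S) Wo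
  have hPo := IsAlgSpace.yon_obj (S := S) Po
  have hcov := isFpqcCover_singleton hPo hWo (f := (yon S).map prP)
    ((locP_yon_map_iff _).2 (inferInstanceAs (Flat (pullback.fst β q.left))))
    (isQuasiCompactMor_of_repWith hPo hWo hqc)
    (map_surjective_of_repWith ((repWith_yon_map_iff _ _).2 (inferInstanceAs (Surjective (pullback.fst β q.left)))))
  haveI : IsIso k := (isLocalOnBase_fpqc_isomorphisms S (fun _ : PUnit.{u + 1} => _) (fun _ => (yon S).map prP) hWo
    (fun _ => hPo) hcov k hG _ (fun _ => (yon S).map kk) (fun _ => fst) (fun _ => IsAlgSpace.yon_obj _)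
    fun _ => top).2 fun _ => inferInstanceAs (IsIso ((yon S).map kk))
  exact ⟨Wo, βo, (asIso k).symm, hWb, by rw [Iso.symm_hom, asIso_inv, IsIso.inv_comp_eq, hkπ]⟩

/-- Representability over a scheme is Zariski local on it. -/
theorem isRepSh_of_zariski_base {G : Sp S} {T : Over S} (π : G ⟶ (yon S).obj T) {κ : Type u} {U : κ → Over S}
    (j : ∀ k, U k ⟶ T) (hj : ∀ k, IsOpenImmersion (j k).left) (hs : ∀ t : T.left, ∃ k, t ∈ Set.range (j k).left)
    {W : κ → Over S} {i : ∀ k, W k ⟶ U k} (b : ∀ k, (yon S).obj (W k) ⟶ G)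
    (sqb : ∀ k, IsPullback (b k) ((yon S).map (i k)) π ((yon S).map (j k))) : IsRepSh G := by
  have hb : ∀ k, RepWith @IsOpenImmersion (b k) := fun k =>
    repWith_of_isPullback (sqb k).flip ((repWith_yon_map_iff _ _).2 (hj k))
  refine isRepSh_of_openCover b hb fun X c x => ?_
  obtain ⟨β, hβ⟩ := (yon S).map_surjective (c ≫ π)
  obtain ⟨k, u, hu⟩ := hs (β.left x)
  refine ⟨k, ?_⟩
  haveI := hj k
  let O := β.left ⁻¹ᵁ (j k).left.opensRange
  let Oo : Over S := Over.mk (O.ι ≫ X.hom)
  let o : Oo ⟶ X := Over.homMk O.ι rfl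
  let l : Oo ⟶ U k := Over.homMk (IsOpenImmersion.lift (j k).left (O.ι ≫ β.left)
    (by rintro _ ⟨z, rfl⟩; exact z.2)) (by
      rw [← Over.w (j k), IsOpenImmersion.lift_fac_assoc, Category.assoc, Over.w]; rfl)
  have hl : l ≫ j k = o ≫ β := Over.OverMorphism.ext (IsOpenImmersion.lift_fac _ _ _)
  let n := (hb k).rep.lift (g := c) ((sqb k).lift ((yon S).map o ≫ c) ((yon S).map l) (by
    rw [Category.assoc, ← hβ, ← Functor.map_comp, ← Functor.map_comp, hl])) o (by rw [IsPullback.lift_fst])
  refine ⟨n.left ⟨x, ⟨u, hu⟩⟩, ?_⟩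
  rw [← Scheme.Hom.comp_apply, ← Over.comp_left, Functor.relativelyRepresentable.lift_snd]
  rfl

/-- Affine morphisms are detected on an fpqc covering. -/
theorem isAffineMor_of_fpqc {ι : Type u} {Y : Sp S} (hY : IsAlgSpace Y) {Yi : ι → Sp S} {g : ∀ i, Yi i ⟶ Y}
    (hτ : IsFpqcCover Yi g) {X : Sp S} (hX : IsAlgSpace X) {f : X ⟶ Y}
    {Xi : ι → Sp S} {p : ∀ i, Xi i ⟶ Yi i} {q : ∀ i, Xi i ⟶ X} (sq : ∀ i, IsPullback (q i) (p i) f (g i))
    (h : ∀ i, IsAffineMor (p i)) : IsAffineMor f := by
  intro Z hZ k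
  haveI : IsAffine Z.left := hZ
  obtain ⟨E, c, J, Wj, s, hE, hc, hcs, hso, hss, hl⟩ := exists_affine_refinement hτ Z k
  haveI := hE; haveI := hc; haveI := hcs
  have sqG := IsPullback.of_hasPullback f k
  have hG : IsAlgSpace (pullback f k) := isAlgSpace_pullback hX (IsAlgSpace.yon_obj Z) hY f k
  let G' := pullback (pullback.snd f k) ((yon S).map c)
  have sqE := IsPullback.of_hasPullback (pullback.snd f k) ((yon S).map c)
  have hloc : ∀ j, ∃ (V : Over S) (i : V ⟶ Wj j) (b : (yon S).obj V ⟶ G'),
      IsPullback b ((yon S).map i) (pullback.snd (pullback.snd f k) ((yon S).map c)) ((yon S).map (s j)) ∧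
        IsAffineHom i.left := fun j => by
    obtain ⟨m, l, e⟩ := hl j
    have hr := isAffineMor_iff.1 (h m)
    have big := (hr.rep.isPullback l).paste_horiz (sq m)
    rw [e, Functor.map_comp, Category.assoc] at big
    have big' := sqE.paste_horiz sqG
    refine ⟨_, hr.rep.snd l, big'.lift (hr.rep.fst l ≫ q m) ((yon S).map (hr.rep.snd l) ≫ (yon S).map (s j))
      (by rw [big.w, Category.assoc]), ?_, hr.property_snd l⟩
    exact IsPullback.of_right (by rw [IsPullback.lift_fst]; exact big) (IsPullback.lift_snd _ _ _ _) big'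
  choose V i b sqb hi using hloc
  obtain ⟨W', ⟨e⟩⟩ := isRepSh_of_zariski_base (pullback.snd (pullback.snd f k) ((yon S).map c)) s hso hss b sqb
  obtain ⟨pW, hpW⟩ := (yon S).map_surjective (e.hom ≫ pullback.snd (pullback.snd f k) ((yon S).map c))
  have sqW : IsPullback (e.hom ≫ pullback.fst (pullback.snd f k) ((yon S).map c)) ((yon S).map pW)
      (pullback.snd f k) ((yon S).map c) :=
    sqE.of_iso e.symm (Iso.refl _) (Iso.refl _) (Iso.refl _) (by simp) (by simp [hpW]) (by simp) (by simp)
  haveI : IsAffineHom pW.left := by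
    refine IsZariskiLocalAtTarget.of_iSup_eq_top (fun j => haveI := hso j; (s j).left.opensRange) ?_ fun j => ?_
    · exact TopologicalSpace.Opens.ext (Set.eq_univ_of_forall fun w => by
        rw [TopologicalSpace.Opens.coe_iSup]; obtain ⟨j, hj⟩ := hss w; exact Set.mem_iUnion.2 ⟨j, hj⟩)
    · haveI := hso j
      refine (MorphismProperty.arrow_mk_iso_iff @IsAffineHom (morphismRestrictOpensRange pW.left (s j).left)).2 ?_
      have sqb' : IsPullback (b j ≫ e.inv) ((yon S).map (i j)) ((yon S).map pW) ((yon S).map (s j)) :=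
        (sqb j).of_iso (Iso.refl _) e.symm (Iso.refl _) (Iso.refl _) (by simp) (by simp) (by simp [hpW]) (by simp)
      obtain ⟨b', hb'⟩ := (yon S).map_surjective (b j ≫ e.inv)
      rw [← hb'] at sqb'
      have sqS : IsPullback b'.left (i j).left pW.left (s j).left := isPullback_left sqb'
      rw [← sqS.isoPullback_inv_snd]
      haveI := hi j
      infer_instance
  haveI : IsAffine W'.left := isAffine_of_isAffineHom pW.left
  obtain ⟨W, β, e', hW, he'⟩ := exists_affine_of_fpqc_base hG sqW
  exact ⟨W, β, e'.hom ≫ pullback.fst f k, sqG.of_iso e'.symm (Iso.refl _) (Iso.refl _) (Iso.refl _)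
    (by simp) (by simp [← he']) (by simp) (by simp), hW⟩

theorem isLocalOnBase_fpqc_isAffineMor (S : Scheme.{u}) :
    IsLocalOnBase (IsFpqcCover (S := S)) IsAffineMor := by
  intro ι Y Yi g hY hYi hτ X f hX Xi p q hXi sq
  exact ⟨fun hf i => isAffineMor_iff.2 (repWith_of_isPullback (sq i) (isAffineMor_iff.1 hf)),
    fun h => isAffineMor_of_fpqc hY hτ hX sq h⟩

instance descendsAlong_isIntegralHom : MorphismProperty.DescendsAlong
    (@IsIntegralHom : MorphismProperty Scheme.{u}) (@Surjective ⊓ @Flat ⊓ @QuasiCompact) :=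
  IsIntegralHom.eq_universallyClosed_inf_isAffineHom ▸ descendsAlong_inf

instance descendsAlong_isFinite : MorphismProperty.DescendsAlong
    (@IsFinite : MorphismProperty Scheme.{u}) (@Surjective ⊓ @Flat ⊓ @QuasiCompact) :=
  IsFinite.eq_inf ▸ descendsAlong_inf

instance descendsAlong_finLocFree : MorphismProperty.DescendsAlong
    (AlgSp.finLocFree : MorphismProperty Scheme.{u}) (@Surjective ⊓ @Flat ⊓ @QuasiCompact) :=
  ⟨fun sq hq ⟨h₁, h₂, h₃⟩ =>
    ⟨MorphismProperty.of_isPullback_of_descendsAlong (P := @IsFinite) sq hq h₁,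
      MorphismProperty.of_isPullback_of_descendsAlong (P := @Flat) sq hq h₂,
      MorphismProperty.of_isPullback_of_descendsAlong (P := @LocallyOfFinitePresentation) sq hq h₃⟩⟩

/-- An affine property of morphisms satisfying fpqc descent is local on the base. -/
theorem isLocalOnBase_fpqc_repWith_of_affine (S : Scheme.{u}) (P : MorphismProperty Scheme.{u})
    [IsZariskiLocalAtTarget P] [P.IsStableUnderBaseChange] [P.DescendsAlong (@Surjective ⊓ @Flat ⊓ @QuasiCompact)]
    (hP : P ≤ (@IsAffineHom : MorphismProperty Scheme.{u})) :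
    IsLocalOnBase (IsFpqcCover (S := S)) (RepWith P) := by
  intro ι Y Yi g hY hYi hτ X f hX Xi p q hXi sq
  refine ⟨fun hf i => repWith_of_isPullback (sq i) hf, fun h => repWith_of_fpqc hτ ?_ sq h⟩
  exact (isAffineMor_iff.1 (isAffineMor_of_fpqc hY hτ hX sq
    fun i => isAffineMor_iff.2 (repWith_mono hP (h i)))).rep

end AlgSpLib
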