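import Groth.Agent.AlgSpLib.QAffDescent
import Groth.Agent.AlgSpLib.OpenGlue
import Mathlib.AlgebraicGeometry.ZariskisMainTheorem
/-!
# Effective descent of schemes for fppf sheaves
-/

set_option autoImplicit false
set_option backward.isDefEq.respectTransparency false
set_option backward.isDefEq.respectTransparency.types false
universe u
open CategoryTheory CategoryTheory.Limits AlgebraicGeometry Opposite AlgSp
open CategoryTheory.Functor.relativelyRepresentable

namespace AlgSpLib

variable {S : Scheme.{u}}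

lemma isLocallySurjective_yon_map {U V : Over S} (g : U ⟶ V) [Flat g.left]
    [LocallyOfFinitePresentation g.left] [Surjective g.left] : Sheaf.IsLocallySurjective ((yon S).map g) :=
  isLocallySurjective_of_repWith ((repWith_yon_map_iff _ _).2 (inferInstanceAs (Flat g.left)))
    ((repWith_yon_map_iff _ _).2 (inferInstanceAs (LocallyOfFinitePresentation g.left)))
    ((repWith_yon_map_iff _ _).2 (inferInstanceAs (Surjective g.left)))

lemma isLocallySurjective_fst {F G : Sp S} {U V : Over S} {fst : (yon S).obj V ⟶ F} {g : V ⟶ U}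
    {π : F ⟶ G} {q : (yon S).obj U ⟶ G} (sq : IsPullback fst ((yon S).map g) π q)
    (h₁ : RepWith @Flat q) (h₂ : RepWith @LocallyOfFinitePresentation q) (h₃ : RepWith @Surjective q) :
    Sheaf.IsLocallySurjective fst :=
  isLocallySurjective_of_repWith (repWith_of_isPullback sq.flip h₁) (repWith_of_isPullback sq.flip h₂)
    (repWith_of_isPullback sq.flip h₃)

/-- Cartesian squares in `Over S` from cartesian squares of schemes. -/
lemma isPullback_over {A B C D : Over S} {a : A ⟶ B} {b : A ⟶ C} {c : B ⟶ D} {d : C ⟶ D}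
    (sq : IsPullback a.left b.left c.left d.left) : IsPullback a b c d :=
  IsPullback.of_map (Over.forget S) (Over.OverMorphism.ext (by simpa using sq.w)) sq

/-- Quasi-compact separated locally quasi-finite schemes over affine schemes are quasi-affine. -/
theorem quasiAffine_of_lqf {X Y : Scheme.{u}} (f : X ⟶ Y) [IsAffine Y] [IsSeparated f] [QuasiCompact f]
    [LocallyQuasiFinite f] [LocallyOfFiniteType f] : X.IsQuasiAffine := by
  obtain ⟨U, hU, hU'⟩ := f.exists_isIso_morphismRestrict_toNormalization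
  have htop : f.toNormalization ⁻¹ᵁ U = ⊤ := by
    refine TopologicalSpace.Opens.ext ?_
    refine hU'.trans (Set.eq_univ_of_forall fun x => ?_)
    exact show x ∈ f.quasiFiniteLocus from f.quasiFiniteLocus_eq_top ▸ trivial
  haveI : IsOpenImmersion f.toNormalization := by
    have e : f.toNormalization = X.topIso.inv ≫ (X.isoOfEq htop.symm).hom ≫ (f.toNormalization ∣_ U) ≫ U.ι := by
      rw [morphismRestrict_ι, Scheme.isoOfEq_hom_ι_assoc, ← Scheme.topIso_hom, Iso.inv_hom_id_assoc]
    rw [e]; infer_instance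
  haveI : IsAffine f.normalization := isAffine_of_isAffineHom f.fromNormalization
  haveI : CompactSpace X := QuasiCompact.compactSpace_of_compactSpace f
  exact Scheme.IsQuasiAffine.of_isImmersion f.toNormalization

namespace Datum

variable {T T' W' : Over S} {q : T' ⟶ T} {G : Sp S} {π : G ⟶ (yon S).obj T}
  {fst : (yon S).obj W' ⟶ G} {pW : W' ⟶ T'} (sq : IsPullback fst ((yon S).map pW) π ((yon S).map q))

/-- The double product. -/
noncomputable abbrev W₂ (pW : W' ⟶ T') (q : T' ⟶ T) : Over S :=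
  Over.mk (pullback.snd (pW.left ≫ q.left) q.left ≫ T'.hom)

noncomputable abbrev pr₁ (pW : W' ⟶ T') (q : T' ⟶ T) : W₂ pW q ⟶ W' :=
  Over.homMk (pullback.fst _ _) (by
    change pullback.fst _ _ ≫ W'.hom = pullback.snd (pW.left ≫ q.left) q.left ≫ T'.hom
    rw [← Over.w pW, ← Over.w q, ← Category.assoc pW.left, pullback.condition_assoc])

noncomputable abbrev pr₂ (pW : W' ⟶ T') (q : T' ⟶ T) : W₂ pW q ⟶ T' :=
  Over.homMk (pullback.snd _ _) rfl

lemma pr_cond : pr₁ pW q ≫ pW ≫ q = pr₂ pW q ≫ q := Over.OverMorphism.ext pullback.condition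

include sq in
lemma exists_d₀ : ∃ d₀ : W₂ pW q ⟶ W', d₀ ≫ pW = pr₂ pW q ∧
    (yon S).map d₀ ≫ fst = (yon S).map (pr₁ pW q) ≫ fst := by
  obtain ⟨d, hd⟩ := (yon S).map_surjective (sq.lift ((yon S).map (pr₁ pW q) ≫ fst) ((yon S).map (pr₂ pW q))
    (by rw [Category.assoc, sq.w, ← Functor.map_comp, ← Functor.map_comp, ← Functor.map_comp, pr_cond]))
  exact ⟨d, (yon S).map_injective (by rw [Functor.map_comp, hd, sq.lift_snd]), by rw [hd, sq.lift_fst]⟩

noncomputable def d₀ : W₂ pW q ⟶ W' := (exists_d₀ sq).choose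

lemma d₀_pW : d₀ sq ≫ pW = pr₂ pW q := (exists_d₀ sq).choose_spec.1

lemma d₀_fst : (yon S).map (d₀ sq) ≫ fst = (yon S).map (pr₁ pW q) ≫ fst := (exists_d₀ sq).choose_spec.2

include sq in
lemma W'_ext {Z : Over S} {a b : Z ⟶ W'} (h₁ : a ≫ pW = b ≫ pW)
    (h₂ : (yon S).map a ≫ fst = (yon S).map b ≫ fst) : a = b :=
  (yon S).map_injective (sq.hom_ext h₂ (by rw [← Functor.map_comp, ← Functor.map_comp, h₁]))

/-- Two points with the same image in `G` come from the double product. -/
lemma exists_pair {Z : Over S} (a b : Z ⟶ W') (h : (yon S).map a ≫ fst = (yon S).map b ≫ fst) :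
    ∃ y : Z ⟶ W₂ pW q, y ≫ pr₁ pW q = a ∧ y ≫ d₀ sq = b := by
  have e : a ≫ pW ≫ q = b ≫ pW ≫ q := (yon S).map_injective (by
    rw [Functor.map_comp, Functor.map_comp, Functor.map_comp, Functor.map_comp, ← sq.w, ← Category.assoc, h,
      Category.assoc])
  let y : Z ⟶ W₂ pW q := Over.homMk (pullback.lift a.left (b ≫ pW).left
    (by simpa using congrArg Over.Hom.left e)) (by
      change pullback.lift _ _ _ ≫ pullback.snd _ _ ≫ T'.hom = Z.hom
      rw [pullback.lift_snd_assoc]; exact Over.w (b ≫ pW))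
  have h₁ : y ≫ pr₁ pW q = a := Over.OverMorphism.ext (pullback.lift_fst _ _ _)
  have h₂ : y ≫ pr₂ pW q = b ≫ pW := Over.OverMorphism.ext (pullback.lift_snd _ _ _)
  refine ⟨y, h₁, W'_ext sq (by rw [Category.assoc, d₀_pW, h₂]) ?_⟩
  rw [Functor.map_comp, Category.assoc, d₀_fst, ← Category.assoc, ← Functor.map_comp, h₁, h]

include sq in
/-- Effective descent of quasi-affine schemes over affine schemes. -/
theorem isRepSh_of_quasiAffine [IsAffine T.left] [IsAffine T'.left] [Flat q.left]
    [LocallyOfFinitePresentation q.left] [Surjective q.left] [W'.left.IsQuasiAffine] : IsRepSh G := by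
  haveI : Sheaf.IsLocallySurjective fst := isLocallySurjective_fst sq
    ((repWith_yon_map_iff _ _).2 (inferInstanceAs (Flat q.left)))
    ((repWith_yon_map_iff _ _).2 (inferInstanceAs (LocallyOfFinitePresentation q.left)))
    ((repWith_yon_map_iff _ _).2 (inferInstanceAs (Surjective q.left)))
  have hd₀ : (d₀ sq).left ≫ pW.left = pullback.snd (pW.left ≫ q.left) q.left :=
    congrArg Over.Hom.left (d₀_pW sq)
  have hsec : pullback.lift (f := pW.left ≫ q.left) (g := q.left) (𝟙 W'.left) pW.left (Category.id_comp _) ≫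
      (d₀ sq).left = 𝟙 _ := by
    obtain ⟨y, hy₁, hy₂⟩ := exists_pair sq (𝟙 W') (𝟙 W') rfl
    have : y.left = pullback.lift (f := pW.left ≫ q.left) (g := q.left) (𝟙 W'.left) pW.left
        (Category.id_comp _) := pullback.hom_ext
      (by rw [pullback.lift_fst]; exact congrArg Over.Hom.left hy₁)
      (by
        rw [pullback.lift_snd]
        have h := congrArg Over.Hom.left (hy₂ =≫ pW)
        rw [Category.assoc, d₀_pW] at h
        simpa using h)
    rw [← this]; exact congrArg Over.Hom.left hy₂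
  obtain ⟨Wb, β, h, w, hWb, hd, hopen, -⟩ := exists_affine_descent q.left pW.left (d₀ sq).left hd₀ hsec (by
    intro Z y t w₁ w₂
    let Zo : Over S := Over.mk (t ≫ T'.hom)
    let yo : Zo ⟶ W₂ pW q := Over.homMk y (by
      change y ≫ pullback.snd _ _ ≫ T'.hom = t ≫ T'.hom
      rw [← Over.w q, reassoc_of% hd₀.symm]
      simpa only [Category.assoc] using congrArg (· ≫ T.hom) w₁)
    let to' : Zo ⟶ T' := Over.homMk t rfl
    let a : Zo ⟶ W₂ pW q := Over.homMk (pullback.lift (y ≫ (d₀ sq).left) t w₁) (by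
      change pullback.lift _ _ _ ≫ pullback.snd _ _ ≫ T'.hom = _; rw [pullback.lift_snd_assoc]; rfl)
    let b : Zo ⟶ W₂ pW q := Over.homMk (pullback.lift (y ≫ pullback.fst _ _) t w₂) (by
      change pullback.lift _ _ _ ≫ pullback.snd _ _ ≫ T'.hom = _; rw [pullback.lift_snd_assoc]; rfl)
    have ha₁ : a ≫ pr₁ pW q = yo ≫ d₀ sq := Over.OverMorphism.ext (pullback.lift_fst _ _ _)
    have hb₁ : b ≫ pr₁ pW q = yo ≫ pr₁ pW q := Over.OverMorphism.ext (pullback.lift_fst _ _ _)
    have ha₂ : a ≫ pr₂ pW q = to' := Over.OverMorphism.ext (pullback.lift_snd _ _ _)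
    have hb₂ : b ≫ pr₂ pW q = to' := Over.OverMorphism.ext (pullback.lift_snd _ _ _)
    have : a ≫ d₀ sq = b ≫ d₀ sq := W'_ext sq
      (by rw [Category.assoc, Category.assoc, d₀_pW, ha₂, hb₂])
      (by
        rw [Functor.map_comp, Functor.map_comp, Category.assoc, Category.assoc, d₀_fst, ← Category.assoc,
          ← Category.assoc, ← Functor.map_comp, ← Functor.map_comp, ha₁, hb₁, Functor.map_comp,
          Functor.map_comp, Category.assoc, Category.assoc, d₀_fst])
    exact congrArg Over.Hom.left this)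
  let Wo : Over S := Over.mk (β ≫ T.hom)
  let Ho : W' ⟶ Wo := Over.homMk h (by
    change h ≫ β ≫ T.hom = W'.hom; rw [reassoc_of% w]; simp only [Over.w])
  let βo : Wo ⟶ T := Over.homMk β rfl
  have hHβ : Ho ≫ βo = pW ≫ q := Over.OverMorphism.ext w
  obtain ⟨k, hk⟩ := exists_desc fst ((yon S).map Ho) fun Z b b' hbb => by
    obtain ⟨b, rfl⟩ := (yon S).map_surjective b
    obtain ⟨b', rfl⟩ := (yon S).map_surjective b'
    obtain ⟨y, rfl, rfl⟩ := exists_pair sq b b' hbb
    rw [← Functor.map_comp, ← Functor.map_comp]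
    refine congrArg _ (Over.OverMorphism.ext ?_)
    simp only [Over.comp_left, Category.assoc]
    exact congrArg (y.left ≫ ·) hd.symm
  have hkπ : k ≫ (yon S).map βo = π := by
    rw [← cancel_epi fst, ← Category.assoc, hk, sq.w, ← Functor.map_comp, ← Functor.map_comp, hHβ]
  let Po : Over S := Over.mk (pullback.fst β q.left ≫ Wo.hom)
  let prP : Po ⟶ Wo := Over.homMk (pullback.fst β q.left) rfl
  let prT : Po ⟶ T' := Over.homMk (pullback.snd β q.left) (by
    change pullback.snd _ _ ≫ T'.hom = pullback.fst _ _ ≫ β ≫ T.hom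
    rw [← Over.w q, pullback.condition_assoc])
  have bot : IsPullback prP prT βo q := isPullback_over (IsPullback.of_hasPullback β q.left)
  let kk : W' ⟶ Po := Over.homMk (pullback.lift h pW.left w) (by
    change pullback.lift _ _ _ ≫ pullback.fst _ _ ≫ Wo.hom = W'.hom
    rw [pullback.lift_fst_assoc]; exact Over.w Ho)
  have hkk₁ : kk ≫ prP = Ho := Over.OverMorphism.ext (pullback.lift_fst _ _ _)
  have hkk₂ : kk ≫ prT = pW := Over.OverMorphism.ext (pullback.lift_snd _ _ _)
  have top : IsPullback fst ((yon S).map kk) k ((yon S).map prP) :=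
    IsPullback.of_bot (by rw [← Functor.map_comp, hkk₂, hkπ]; exact sq)
      (by rw [hk, ← Functor.map_comp, hkk₁]) (bot.map (yon S))
  haveI : Flat prP.left := inferInstanceAs (Flat (pullback.fst β q.left))
  haveI : LocallyOfFinitePresentation prP.left :=
    inferInstanceAs (LocallyOfFinitePresentation (pullback.fst β q.left))
  haveI : Surjective prP.left := inferInstanceAs (Surjective (pullback.fst β q.left))
  haveI : IsOpenImmersion kk.left := hopen
  -- the image is invariant
  let Q := pullback prP.left prP.left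
  have inv : ∀ (p p' : Q ⟶ Po.left), p ≫ prP.left = p' ≫ prP.left →
      p ⁻¹ᵁ kk.left.opensRange ≤ p' ⁻¹ᵁ kk.left.opensRange := fun p p' hp x hx => by
    let O := p ⁻¹ᵁ kk.left.opensRange
    let Oo : Over S := Over.mk ((O.ι ≫ p') ≫ Po.hom)
    let l := IsOpenImmersion.lift kk.left (O.ι ≫ p) (by rintro _ ⟨z, rfl⟩; exact z.2)
    have hl : l ≫ kk.left = O.ι ≫ p := IsOpenImmersion.lift_fac _ _ _
    let lo : Oo ⟶ W' := Over.homMk l (by
      rw [← Over.w kk, reassoc_of% hl]
      simp only [Oo, Over.mk_hom, Category.assoc]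
      exact congrArg (fun e => O.ι ≫ e ≫ Wo.hom) hp)
    let p'o : Oo ⟶ Po := Over.homMk (O.ι ≫ p') rfl
    obtain ⟨m, hm⟩ := (yon S).map_surjective (top.lift ((yon S).map lo ≫ fst) ((yon S).map p'o) (by
      rw [Category.assoc, hk, ← Functor.map_comp, ← Functor.map_comp]
      refine congrArg _ (Over.OverMorphism.ext ?_)
      change l ≫ h = (O.ι ≫ p') ≫ prP.left
      rw [Category.assoc, ← hp, ← reassoc_of% hl]
      exact congrArg (l ≫ ·) (congrArg Over.Hom.left hkk₁).symm))
    have hm' : m ≫ kk = p'o := (yon S).map_injective (by rw [Functor.map_comp, hm, top.lift_snd])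
    exact ⟨m.left ⟨x, hx⟩, by
      rw [← Scheme.Hom.comp_apply, ← Over.comp_left, hm']; rfl⟩
  obtain ⟨V, hV⟩ := exists_open_descent prP.left (IsPullback.of_hasPullback prP.left prP.left)
    kk.left.opensRange (le_antisymm (inv _ _ pullback.condition) (inv _ _ pullback.condition.symm))
  let Vo : Over S := Over.mk (V.ι ≫ Wo.hom)
  let Vi : Vo ⟶ Wo := Over.homMk V.ι rfl
  let Po' : Over S := Over.mk ((prP.left ⁻¹ᵁ V).ι ≫ Po.hom)
  let Pi : Po' ⟶ Po := Over.homMk (prP.left ⁻¹ᵁ V).ι rfl
  let prV : Po' ⟶ Vo := Over.homMk (prP.left ∣_ V) (by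
    change (prP.left ∣_ V) ≫ V.ι ≫ Wo.hom = (prP.left ⁻¹ᵁ V).ι ≫ Po.hom
    rw [morphismRestrict_ι_assoc, Over.w prP])
  have sqV : IsPullback prV Pi Vi prP := isPullback_over (isPullback_morphismRestrict prP.left V)
  have hrange : Set.range kk.left ⊆ Set.range (prP.left ⁻¹ᵁ V).ι := by
    rw [Scheme.Opens.range_ι, hV, Scheme.Hom.coe_opensRange]
  let kV : W' ⟶ Po' := Over.homMk (IsOpenImmersion.lift (prP.left ⁻¹ᵁ V).ι kk.left hrange) (by
    change _ ≫ (prP.left ⁻¹ᵁ V).ι ≫ Po.hom = W'.hom
    rw [IsOpenImmersion.lift_fac_assoc, Over.w kk])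
  have hkV : kV ≫ Pi = kk := Over.OverMorphism.ext (IsOpenImmersion.lift_fac _ _ _)
  haveI : Mono Vi := (Over.forget S).mono_of_mono_map (inferInstanceAs (Mono V.ι))
  obtain ⟨k', hk'⟩ := exists_desc fst ((yon S).map (kV ≫ prV)) fun Z b b' hbb => by
    haveI : Mono ((yon S).map Vi) := inferInstance
    rw [← cancel_mono ((yon S).map Vi)]
    simp only [Category.assoc, ← Functor.map_comp, sqV.w, reassoc_of% hkV, hkk₁, ← hk]
    rw [← Category.assoc, hbb, Category.assoc]
  have hk'ι : k' ≫ (yon S).map Vi = k := by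
    rw [← cancel_epi fst, ← Category.assoc, hk', hk, ← Functor.map_comp, Category.assoc, sqV.w,
      reassoc_of% hkV, hkk₁]
  have sqk : IsPullback fst ((yon S).map kV) k' ((yon S).map prV) :=
    IsPullback.of_bot (by rw [← Functor.map_comp, hkV, hk'ι]; exact top)
      (by rw [hk', Functor.map_comp]) (sqV.map (yon S))
  haveI : IsIso kV.left := by
    have hfac : kV.left ≫ (prP.left ⁻¹ᵁ V).ι = kk.left := IsOpenImmersion.lift_fac _ _ _
    haveI : IsOpenImmersion kV.left := by
      haveI : IsOpenImmersion (kV.left ≫ (prP.left ⁻¹ᵁ V).ι) := by rw [hfac]; infer_instance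
      exact IsOpenImmersion.of_comp kV.left (prP.left ⁻¹ᵁ V).ι
    haveI : Surjective kV.left := ⟨fun (x : ↥(prP.left ⁻¹ᵁ V)) => by
      have hx : (x : Po.left) ∈ kk.left.opensRange := hV ▸ x.2
      obtain ⟨y, hy⟩ := hx
      refine ⟨y, (prP.left ⁻¹ᵁ V).ι.injective ?_⟩
      exact ((Scheme.Hom.comp_apply kV.left (prP.left ⁻¹ᵁ V).ι y).symm.trans (by rw [hfac])).trans hy⟩
    exact (isIso_iff_isOpenImmersion_and_surjective kV.left).mpr ⟨inferInstance, inferInstance⟩
  haveI : IsIso ((Over.forget S).map kV) := inferInstanceAs (IsIso kV.left)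
  haveI : IsIso kV := isIso_of_reflects_iso _ (Over.forget S)
  haveI : Flat prV.left := inferInstanceAs (Flat (prP.left ∣_ V))
  haveI : LocallyOfFinitePresentation prV.left :=
    inferInstanceAs (LocallyOfFinitePresentation (prP.left ∣_ V))
  haveI : Surjective prV.left := MorphismProperty.of_isPullback (P := @Surjective) (isPullback_morphismRestrict prP.left V).flip inferInstance
  haveI := isLocallySurjective_yon_map prV
  haveI := isIso_of_isPullback sqk
  exact ⟨Vo, ⟨(asIso k').symm⟩⟩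

lemma exists_swap : ∃ σ : W₂ pW q ⟶ W₂ pW q, σ ≫ pr₁ pW q = d₀ sq ∧ σ ≫ d₀ sq = pr₁ pW q :=
  exists_pair sq (d₀ sq) (pr₁ pW q) (d₀_fst sq)

include sq in
/-- Effective descent of separated, locally quasi-finite schemes over affine schemes. -/
theorem isRepSh_of_lqf [IsAffine T.left] [IsAffine T'.left] [Flat q.left]
    [LocallyOfFinitePresentation q.left] [Surjective q.left] [IsSeparated pW.left]
    [LocallyQuasiFinite pW.left] [LocallyOfFiniteType pW.left] : IsRepSh G := by
  haveI : Sheaf.IsLocallySurjective fst := isLocallySurjective_fst sq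
    ((repWith_yon_map_iff _ _).2 (inferInstanceAs (Flat q.left)))
    ((repWith_yon_map_iff _ _).2 (inferInstanceAs (LocallyOfFinitePresentation q.left)))
    ((repWith_yon_map_iff _ _).2 (inferInstanceAs (Surjective q.left)))
  haveI : Flat (pr₁ pW q).left := inferInstanceAs (Flat (pullback.fst _ _))
  haveI : LocallyOfFinitePresentation (pr₁ pW q).left :=
    inferInstanceAs (LocallyOfFinitePresentation (pullback.fst _ _))
  obtain ⟨σ, hσ₁, hσ₂⟩ := exists_swap sq
  haveI : IsIso σ := ⟨σ, by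
    have key : σ ≫ σ = 𝟙 _ := by
      refine Over.OverMorphism.ext (pullback.hom_ext ?_ ?_)
      · have : (σ ≫ σ) ≫ pr₁ pW q = pr₁ pW q := by rw [Category.assoc, hσ₁, hσ₂]
        simpa using congrArg Over.Hom.left this
      · have : (σ ≫ σ) ≫ pr₂ pW q = pr₂ pW q := by
          rw [← d₀_pW sq]
          simp only [Category.assoc, reassoc_of% hσ₂]
          rw [← Category.assoc σ (pr₁ pW q), hσ₁]
        simpa using congrArg Over.Hom.left this
    exact ⟨key, key⟩⟩
  haveI : IsIso σ.left := inferInstanceAs (IsIso ((Over.forget S).map σ))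
  have hd₀ : d₀ sq = σ ≫ pr₁ pW q := hσ₁.symm
  haveI : QuasiCompact (pr₁ pW q).left := inferInstanceAs (QuasiCompact (pullback.fst _ _))
  haveI : QuasiCompact (d₀ sq).left := by rw [hd₀, Over.comp_left]; infer_instance
  haveI : QuasiSeparatedSpace ↥T'.left := inferInstance
  let cover := W'.left.affineCover
  -- saturations of affine opens
  let O : cover.I₀ → W'.left.Opens := fun i =>
    ⟨(pr₁ pW q).left '' ((d₀ sq).left ⁻¹' Set.range (cover.f i)),
      (pr₁ pW q).left.isOpenMap _ ((cover.f i).opensRange.2.preimage (d₀ sq).left.continuous)⟩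
  have hcovO : ∀ x : W'.left, ∃ i, x ∈ O i := fun x => by
    obtain ⟨i, y, rfl⟩ := cover.exists_eq x
    obtain ⟨u, hu₁, hu₂⟩ := exists_pair sq (𝟙 W') (𝟙 W') rfl
    refine ⟨i, u.left (cover.f i y), ?_, ?_⟩
    · rw [Set.mem_preimage, ← Scheme.Hom.comp_apply, ← Over.comp_left, hu₂]; exact ⟨y, rfl⟩
    · rw [← Scheme.Hom.comp_apply, ← Over.comp_left, hu₁]; rfl
  have hO : ∀ i, IsCompact (O i : Set W'.left) := fun i => by
    refine (QuasiCompact.isCompact_preimage _ (cover.f i).opensRange.2 ?_).image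
      (pr₁ pW q).left.continuous
    exact isCompact_range (cover.f i).continuous
  have hinv₁ : ∀ i (w : (W₂ pW q).left), (d₀ sq).left w ∈ O i → (pr₁ pW q).left w ∈ O i := fun i w hw => by
    obtain ⟨v, hv₁, hv₂⟩ := hw
    let Z : Over S := Over.mk (pullback.fst (d₀ sq).left (pr₁ pW q).left ≫ (W₂ pW q).hom)
    let z₁ : Z ⟶ W₂ pW q := Over.homMk (pullback.fst _ _) rfl
    let z₂ : Z ⟶ W₂ pW q := Over.homMk (pullback.snd _ _) (by
      change pullback.snd _ _ ≫ (W₂ pW q).hom = pullback.fst _ _ ≫ (W₂ pW q).hom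
      rw [← Over.w (d₀ sq), pullback.condition_assoc, Over.w (d₀ sq), Over.w (pr₁ pW q)])
    have hz : z₁ ≫ d₀ sq = z₂ ≫ pr₁ pW q := Over.OverMorphism.ext pullback.condition
    obtain ⟨z, hz₁, hz₂⟩ := Scheme.Pullback.exists_preimage_pullback w v
      (f := (d₀ sq).left) (g := (pr₁ pW q).left) hv₂.symm
    obtain ⟨u, hu₁, hu₂⟩ := exists_pair sq (z₁ ≫ pr₁ pW q) (z₂ ≫ d₀ sq) (by
      rw [Functor.map_comp, Functor.map_comp, Category.assoc, Category.assoc, ← d₀_fst sq, ← Functor.map_comp_assoc,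
        hz, Functor.map_comp_assoc, d₀_fst])
    refine ⟨u.left z, ?_, ?_⟩
    · rw [Set.mem_preimage, ← Scheme.Hom.comp_apply, ← Over.comp_left, hu₂, Over.comp_left, Scheme.Hom.comp_apply,
        show z₂.left z = v from hz₂]
      exact hv₁
    · rw [← Scheme.Hom.comp_apply, ← Over.comp_left, hu₁, Over.comp_left, Scheme.Hom.comp_apply,
        show z₁.left z = w from hz₁]
  have hinv : ∀ i (w : (W₂ pW q).left), (pr₁ pW q).left w ∈ O i ↔ (d₀ sq).left w ∈ O i := fun i w => by
    refine ⟨fun hw => ?_, hinv₁ i w⟩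
    have h1 : (d₀ sq).left (σ.left w) = (pr₁ pW q).left w := by
      rw [← Scheme.Hom.comp_apply, ← Over.comp_left, hσ₂]
    have h2 : (pr₁ pW q).left (σ.left w) = (d₀ sq).left w := by
      rw [← Scheme.Hom.comp_apply, ← Over.comp_left, hσ₁]
    rw [← h2]
    exact hinv₁ i _ (h1 ▸ hw)
  -- the open subsheaves
  let Oo : cover.I₀ → Over S := fun i => Over.mk ((O i).ι ≫ W'.hom)
  let ιO : ∀ i, Oo i ⟶ W' := fun i => Over.homMk (O i).ι rfl
  let a : ∀ i, (yon S).obj (Oo i) ⟶ G := fun i => (yon S).map (ιO i) ≫ fst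
  have sqI : ∀ i, IsPullback (Sheaf.toImage (a i)) ((yon S).map (ιO i)) (Sheaf.imageι (a i)) fst := fun i => by
    refine isPullback_of_forall_existsUnique (Sheaf.toImage_ι _) fun Z x y hxy => ?_
    obtain ⟨y, rfl⟩ := (yon S).map_surjective y
    haveI : Epi (Sheaf.toImage (a i)) := inferInstance
    haveI : Sheaf.IsLocallySurjective (Sheaf.toImage (a i)) := (Sheaf.isLocallySurjective_iff_epi _).mpr ‹_›
    obtain ⟨V, c, -, -, hsurj, hl⟩ := exists_lift_of_isLocallySurjective (Sheaf.toImage (a i)) x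
    have hr : Set.range y.left ⊆ Set.range (O i).ι := by
      rintro _ ⟨t, rfl⟩
      obtain ⟨v, hv⟩ := hsurj t
      obtain ⟨l, hl⟩ := hl t
      obtain ⟨l, rfl⟩ := (yon S).map_surjective l
      obtain ⟨u, hu₁, hu₂⟩ := exists_pair sq (c t ≫ y) (l ≫ ιO i) (by
        have := congrArg (· ≫ Sheaf.imageι (a i)) hl
        simp only [Category.assoc, Sheaf.toImage_ι, hxy] at this
        simp only [Functor.map_comp, Category.assoc]
        exact this.symm)
      have h1 : (d₀ sq).left (u.left v) ∈ O i := by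
        rw [← Scheme.Hom.comp_apply, ← Over.comp_left, hu₂]; exact (l.left v).2
      rw [← hinv, ← Scheme.Hom.comp_apply, ← Over.comp_left, hu₁, Over.comp_left, Scheme.Hom.comp_apply, hv] at h1
      rw [Scheme.Opens.range_ι]; exact h1
    let y' : Z ⟶ Oo i := Over.homMk (IsOpenImmersion.lift (O i).ι y.left hr) (by
      change _ ≫ (O i).ι ≫ W'.hom = Z.hom; rw [IsOpenImmersion.lift_fac_assoc, Over.w])
    have hy' : y' ≫ ιO i = y := Over.OverMorphism.ext (IsOpenImmersion.lift_fac _ _ _)
    haveI : Mono (ιO i) := (Over.forget S).mono_of_mono_map (inferInstanceAs (Mono (O i).ι))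
    haveI : Mono ((yon S).map (ιO i)) := inferInstance
    refine ⟨(yon S).map y', ⟨?_, by rw [← Functor.map_comp, hy']⟩, fun l hl => ?_⟩
    · rw [← cancel_mono (Sheaf.imageι (a i)), Category.assoc, Sheaf.toImage_ι, hxy, ← hy', Functor.map_comp,
        Category.assoc]
    · rw [← cancel_mono ((yon S).map (ιO i)), hl.2, ← Functor.map_comp, hy']
  have hrep : ∀ i, IsRepSh (Sheaf.image (a i)) := fun i => by
    have sq' : IsPullback (Sheaf.toImage (a i)) ((yon S).map (ιO i ≫ pW)) (Sheaf.imageι (a i) ≫ π)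
        ((yon S).map q) := by
      rw [Functor.map_comp]; exact (sqI i).paste_vert sq
    haveI : CompactSpace ↥(Oo i).left := isCompact_iff_compactSpace.mp (hO i)
    haveI : QuasiCompact (ιO i ≫ pW).left :=
      HasAffineProperty.iff_of_isAffine (P := @QuasiCompact).mpr inferInstance
    haveI : IsSeparated (ιO i ≫ pW).left := inferInstanceAs (IsSeparated ((O i).ι ≫ pW.left))
    haveI : LocallyQuasiFinite (ιO i ≫ pW).left := inferInstanceAs (LocallyQuasiFinite ((O i).ι ≫ pW.left))
    haveI : LocallyOfFiniteType (ιO i ≫ pW).left := inferInstanceAs (LocallyOfFiniteType ((O i).ι ≫ pW.left))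
    haveI := quasiAffine_of_lqf (ιO i ≫ pW).left
    exact isRepSh_of_quasiAffine sq'
  choose Wi hWi using hrep
  let ei := fun i => (hWi i).some
  have hopen : ∀ i, RepWith @IsOpenImmersion (Sheaf.imageι (a i)) := fun i => by
    refine MorphismProperty.relative.of_exists fun Z b => ?_
    obtain ⟨V, c, hcf, hcp, hcs, hl⟩ := exists_lift_of_isLocallySurjective fst b
    choose l hl using hl
    choose l' hl' using fun t => (yon S).map_surjective (l t)
    obtain rfl : (fun t => (yon S).map (l' t)) = l := funext hl'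
    haveI := hcf
    haveI := hcp
    let ZO : Z.left.Opens := ⟨⋃ t, (c t).left '' ((l' t).left ⁻¹' (O i)),
      isOpen_iUnion fun t => (c t).left.isOpenMap _ ((O i).2.preimage (l' t).left.continuous)⟩
    have key : ∀ t (v : (V t).left), (c t).left v ∈ ZO ↔ (l' t).left v ∈ O i := fun t v => by
      refine ⟨fun h => ?_, fun h => Set.mem_iUnion.mpr ⟨t, v, h, rfl⟩⟩
      obtain ⟨s, w, hw, hsv⟩ := Set.mem_iUnion.mp h
      let P : Over S := Over.mk (pullback.fst (c t).left (c s).left ≫ (V t).hom)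
      let p₁ : P ⟶ V t := Over.homMk (pullback.fst _ _) rfl
      let p₂ : P ⟶ V s := Over.homMk (pullback.snd _ _) (by
        change pullback.snd _ _ ≫ (V s).hom = pullback.fst _ _ ≫ (V t).hom
        rw [← Over.w (c s), ← Over.w (c t), pullback.condition_assoc])
      have hp : p₁ ≫ c t = p₂ ≫ c s := Over.OverMorphism.ext pullback.condition
      obtain ⟨z, hz₁, hz₂⟩ := Scheme.Pullback.exists_preimage_pullback v w
        (f := (c t).left) (g := (c s).left) hsv.symm
      obtain ⟨u, hu₁, hu₂⟩ := exists_pair sq (p₁ ≫ l' t) (p₂ ≫ l' s) (by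
        simp only [Functor.map_comp, Category.assoc, hl]
        rw [← Functor.map_comp_assoc, hp, Functor.map_comp_assoc])
      have h1 : (d₀ sq).left (u.left z) ∈ O i := by
        rw [← Scheme.Hom.comp_apply, ← Over.comp_left, hu₂, Over.comp_left, Scheme.Hom.comp_apply,
          show p₂.left z = w from hz₂]; exact hw
      rw [← hinv, ← Scheme.Hom.comp_apply, ← Over.comp_left, hu₁, Over.comp_left, Scheme.Hom.comp_apply,
        show p₁.left z = v from hz₁] at h1
      exact h1
    let Zo : Over S := Over.mk (ZO.ι ≫ Z.hom)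
    let ιZ : Zo ⟶ Z := Over.homMk ZO.ι rfl
    -- the restriction of `b` lands in the subsheaf
    let U : ↥Z.left → Over S := fun t => Over.mk (((c t).left ⁻¹ᵁ ZO).ι ≫ (V t).hom)
    let cU : ∀ t, U t ⟶ Zo := fun t => Over.homMk ((c t).left ∣_ ZO) (by
      change _ ≫ ZO.ι ≫ Z.hom = _; rw [morphismRestrict_ι_assoc, Over.w]; rfl)
    let jU : ∀ t, U t ⟶ V t := fun t => Over.homMk ((c t).left ⁻¹ᵁ ZO).ι rfl
    have hcU : ∀ t, cU t ≫ ιZ = jU t ≫ c t := fun t => Over.OverMorphism.ext (morphismRestrict_ι _ _)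
    have hr : ∀ t, Set.range (jU t ≫ l' t).left ⊆ Set.range (O i).ι := fun t => by
      rintro _ ⟨x, rfl⟩
      rw [Scheme.Opens.range_ι, Over.comp_left, Scheme.Hom.comp_apply]
      exact (key t _).mp x.2
    let mU : ∀ t, U t ⟶ Oo i := fun t => Over.homMk (IsOpenImmersion.lift (O i).ι (jU t ≫ l' t).left (hr t)) (by
      change _ ≫ (O i).ι ≫ W'.hom = _; rw [IsOpenImmersion.lift_fac_assoc, Over.w])
    have hmU : ∀ t, mU t ≫ ιO i = jU t ≫ l' t := fun t => Over.OverMorphism.ext (IsOpenImmersion.lift_fac _ _ _)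
    have hbU : ∀ t, ((yon S).map (mU t) ≫ Sheaf.toImage (a i)) ≫ Sheaf.imageι (a i) =
        (yon S).map (cU t) ≫ (yon S).map ιZ ≫ b := fun t => by
      rw [Category.assoc, Sheaf.toImage_ι, ← (yon S).map_comp_assoc (cU t) ιZ, hcU, Functor.map_comp_assoc, ← hl,
        ← Category.assoc, ← Category.assoc, ← Functor.map_comp, ← Functor.map_comp, ← hmU]
    obtain ⟨bI, hbI⟩ := exists_amalgamation cU
      (fun t => inferInstanceAs (Flat ((c t).left ∣_ ZO)))
      (fun t => inferInstanceAs (LocallyOfFinitePresentation ((c t).left ∣_ ZO)))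
      (fun x => by
        obtain ⟨v, hv⟩ := hcs x.1
        refine ⟨x.1, ⟨v, ?_⟩, ZO.ι.injective ?_⟩
        · change (c _).left v ∈ ZO; rw [hv]; exact x.2
        · change ((cU _).left ≫ ZO.ι) _ = _
          rw [show (cU _).left ≫ ZO.ι = _ from morphismRestrict_ι _ _]; exact hv)
      (fun t => (yon S).map (mU t) ≫ Sheaf.toImage (a i)) (fun s t Y gs gt h => by
        rw [← cancel_mono (Sheaf.imageι (a i))]
        simp only [Category.assoc] at hbU ⊢
        rw [hbU, hbU, ← Functor.map_comp_assoc, h, Functor.map_comp_assoc])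
    have hbIι : bI ≫ Sheaf.imageι (a i) = (yon S).map ιZ ≫ b := by
      refine hom_ext_of_cover cU (fun t => inferInstanceAs (Flat ((c t).left ∣_ ZO)))
        (fun t => inferInstanceAs (LocallyOfFinitePresentation ((c t).left ∣_ ZO)))
        (fun x => by
          obtain ⟨v, hv⟩ := hcs x.1
          refine ⟨x.1, ⟨v, ?_⟩, ZO.ι.injective ?_⟩
          · change (c _).left v ∈ ZO; rw [hv]; exact x.2
          · change ((cU _).left ≫ ZO.ι) _ = _
            rw [show (cU _).left ≫ ZO.ι = _ from morphismRestrict_ι _ _]; exact hv) fun t => ?_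
      rw [← Category.assoc, hbI, hbU]
    refine ⟨Zo, bI, ιZ, ?_, inferInstanceAs (IsOpenImmersion ZO.ι)⟩
    refine isPullback_of_forall_existsUnique hbIι fun X x g hxg => ?_
    obtain ⟨g, rfl⟩ := (yon S).map_surjective g
    have hg : Set.range g.left ⊆ Set.range ZO.ι := by
      rintro _ ⟨p, rfl⟩
      rw [Scheme.Opens.range_ι]
      obtain ⟨v, hv⟩ := hcs (g.left p)
      let P : Over S := Over.mk (pullback.fst g.left (c (g.left p)).left ≫ X.hom)
      let p₁ : P ⟶ X := Over.homMk (pullback.fst _ _) rfl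
      let p₂ : P ⟶ V (g.left p) := Over.homMk (pullback.snd _ _) (by
        change pullback.snd _ _ ≫ (V _).hom = pullback.fst _ _ ≫ X.hom
        rw [← Over.w g, ← Over.w (c (g.left p)), pullback.condition_assoc])
      have hp : p₁ ≫ g = p₂ ≫ c (g.left p) := Over.OverMorphism.ext pullback.condition
      obtain ⟨z, -, hz₂⟩ := Scheme.Pullback.exists_preimage_pullback p v
        (f := g.left) (g := (c (g.left p)).left) hv.symm
      obtain ⟨m, hm⟩ := (yon S).map_surjective ((sqI i).lift ((yon S).map p₁ ≫ x)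
        ((yon S).map (p₂ ≫ l' (g.left p))) (by
          rw [Category.assoc, hxg, Functor.map_comp, Category.assoc, hl, ← Functor.map_comp_assoc, hp,
            Functor.map_comp_assoc]))
      have hm' : m ≫ ιO i = p₂ ≫ l' (g.left p) :=
        (yon S).map_injective (by rw [Functor.map_comp, hm, IsPullback.lift_snd])
      have h1 : (l' (g.left p)).left v ∈ O i := by
        have h2 := congrArg (fun (e : P ⟶ W') => e.left z) hm'
        simp only [Over.comp_left, Scheme.Hom.comp_apply] at h2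
        rw [← hz₂, ← show _ = (l' (g.left p)).left ((pullback.snd g.left (c (g.left p)).left) z) from h2]
        exact (m.left z).2
      rw [← hv]
      exact (key _ v).mpr h1
    let g' : X ⟶ Zo := Over.homMk (IsOpenImmersion.lift ZO.ι g.left hg) (by
      change _ ≫ ZO.ι ≫ Z.hom = _; rw [IsOpenImmersion.lift_fac_assoc, Over.w])
    have hg' : g' ≫ ιZ = g := Over.OverMorphism.ext (IsOpenImmersion.lift_fac _ _ _)
    haveI : Mono ιZ := (Over.forget S).mono_of_mono_map (inferInstanceAs (Mono ZO.ι))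
    haveI : Mono ((yon S).map ιZ) := inferInstance
    refine ⟨(yon S).map g', ⟨?_, by rw [← Functor.map_comp, hg']⟩, fun l hl => ?_⟩
    · rw [← cancel_mono (Sheaf.imageι (a i)), Category.assoc, hbIι, hxg, ← hg', Functor.map_comp,
        Category.assoc]
    · rw [← cancel_mono ((yon S).map ιZ), hl.2, ← Functor.map_comp, hg']
  have hf : ∀ i, RepWith @IsOpenImmersion ((ei i).hom ≫ Sheaf.imageι (a i)) :=
    fun i => MorphismProperty.RespectsIso.precomp _ _ _ (hopen i)
  refine isRepSh_of_openCover _ hf fun X b x => ?_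
  obtain ⟨V, c, -, -, hcs, hl⟩ := exists_lift_of_isLocallySurjective fst b
  obtain ⟨v, hv⟩ := hcs x
  obtain ⟨l, hl⟩ := hl x
  obtain ⟨l, rfl⟩ := (yon S).map_surjective l
  obtain ⟨i, hi⟩ := hcovO (l.left v)
  refine ⟨i, ?_⟩
  let P : Over S := Over.mk ((l.left ⁻¹ᵁ O i).ι ≫ (V x).hom)
  let jP : P ⟶ V x := Over.homMk (l.left ⁻¹ᵁ O i).ι rfl
  let m : P ⟶ Oo i := Over.homMk (l.left ∣_ O i) (by
    change _ ≫ (O i).ι ≫ W'.hom = _; rw [morphismRestrict_ι_assoc, Over.w]; rfl)
  have hm : m ≫ ιO i = jP ≫ l := Over.OverMorphism.ext (morphismRestrict_ι _ _)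
  let n := (hf i).rep.lift (g := b) ((yon S).map m ≫ Sheaf.toImage (a i) ≫ (ei i).inv) (jP ≫ c x) (by
    simp only [Category.assoc, Iso.inv_hom_id_assoc, Sheaf.toImage_ι, Functor.map_comp, ← hl, a]
    rw [← Functor.map_comp_assoc, hm, Functor.map_comp_assoc])
  refine ⟨n.left ⟨v, hi⟩, ?_⟩
  rw [← Scheme.Hom.comp_apply, ← Over.comp_left, lift_snd, Over.comp_left, Scheme.Hom.comp_apply]
  exact hv

end Datum

end AlgSpLib
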