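import Groth.Agent.AlgSpLib.FibDimSp
import Groth.Agent.AlgSpLib.DecentTop

/-!
# Isolated points in fibres of morphisms of algebraic spaces
-/

set_option autoImplicit false
universe u

open CategoryTheory CategoryTheory.Limits AlgebraicGeometry Topology
open AlgSp

namespace AlgSpLib

variable {S : Scheme.{u}}

theorem topologicalKrullDim_le_zero_of_subsingleton {A : Type u} [TopologicalSpace A] [Subsingleton A] :
    topologicalKrullDim A ≤ 0 := by
  refine iSup_le fun l => le_of_eq ?_
  by_contra hne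
  have hpos : 0 < l.length := Nat.pos_of_ne_zero fun h => hne (by rw [h]; rfl)
  have h01 := l.step ⟨0, hpos⟩
  refine h01.ne (TopologicalSpace.IrreducibleCloseds.ext (Set.ext fun a => ⟨fun _ => ?_, fun _ => ?_⟩))
  · obtain ⟨b, hb⟩ := (l (⟨0, hpos⟩ : Fin l.length).succ).2.1
    exact Subsingleton.elim b a ▸ hb
  · obtain ⟨b, hb⟩ := (l (⟨0, hpos⟩ : Fin l.length).castSucc).2.1
    exact Subsingleton.elim b a ▸ hb

/-- A finite open subset of a Jacobson space consists of isolated points. -/
theorem isOpen_singleton_of_finite_open {A : Type u} [TopologicalSpace A] [JacobsonSpace A] {O : Set A}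
    (hO : IsOpen O) (hf : O.Finite) {a : A} (ha : a ∈ O) : IsOpen ({a} : Set A) := by
  have hC : IsClosed {b ∈ O | IsClosed ({b} : Set A)} := by
    rw [← Set.biUnion_of_singleton {b ∈ O | IsClosed ({b} : Set A)}]
    exact (hf.subset fun b hb => hb.1).isClosed_biUnion fun b hb => hb.2
  have hall : ∀ b ∈ O, IsClosed ({b} : Set A) := fun b hb => by
    by_contra hnb
    obtain ⟨c, hc, hcc⟩ := nonempty_inter_closedPoints (Z := O \ {b ∈ O | IsClosed ({b} : Set A)})
      ⟨b, hb, fun h => hnb h.2⟩ (hO.sdiff hC).isLocallyClosed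
    exact hc.2 ⟨hc.1, hcc⟩
  have : IsClosed (O \ {a}) := by
    rw [← Set.biUnion_of_singleton (O \ {a})]
    exact (hf.subset fun b hb => hb.1).isClosed_biUnion fun b hb => hall b hb.1
  convert hO.sdiff this using 1
  ext b
  constructor
  · rintro rfl; exact ⟨ha, fun h => h.2 rfl⟩
  · rintro ⟨hb, hb'⟩; by_contra hne; exact hb' ⟨hb, hne⟩

theorem fibreDimAt_eq_zero_of_closed_generic {X Y : Scheme.{u}} (m : X ⟶ Y) [LocallyOfFiniteType m] (z : X)
    (hgen : ∀ z', m.base z' = m.base z → z' ⤳ z → z' = z) (h0 : UOpenLib.fibreClosureDim m z ≤ 0) :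
    FlatMor.fibreDimAt m z = 0 := by
  refine le_antisymm ?_ (fibreDimAt_nonneg m z)
  haveI : LocallyOfFiniteType (m.fiberToSpecResidueField (m.base z)) := UOpenLib.lft_fiberToSpec m _
  show FlatMor.localDim (m.fiber (m.base z)) (m.asFiber z) ≤ 0
  rw [@FibDimLib.localDim_eq_closure_add_stalk _ _ _ (m.fiberToSpecResidueField (m.base z))
    (UOpenLib.lft_fiberToSpec m _) (m.asFiber z),
    stalkDim_eq_zero_of_maximal (m.asFiber z) fun w hw => ?_, add_zero]
  · exact h0
  · refine (m.fiberι _).isEmbedding.injective ((hgen _ ?_ ?_).trans (m.fiberι_asFiber z).symm)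
    · have h1 : (m.fiberι (m.base z)).base w ∈ Set.range (m.fiberι (m.base z)).base := ⟨w, rfl⟩
      rwa [m.range_fiberι] at h1
    · exact (hw.map (m.fiberι _).continuous).trans (specializes_of_eq (m.fiberι_asFiber z))

theorem fibreClosureDim_eq_resTrdeg {X Y : Scheme.{u}} (m : X ⟶ Y) [LocallyOfFiniteType m] (z : X) :
    UOpenLib.fibreClosureDim m z = ((Cardinal.toENat (Dual3.resTrdeg m z) : ℕ∞) : WithBot ℕ∞) :=
  DimIneqLib.fibreClosureDim_eq_trH m z

variable {F G : Sp S} {f : F ⟶ G}

/-- The relative dimension vanishes at a point which, in some chart, is the image of a suitable piece of a fibre. -/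
theorem fibreDim_zero_of_piece {U V : Over S}
    {a : (yon S).obj U ⟶ F} {b : (yon S).obj V ⟶ G} {h : U ⟶ V} [LocallyOfFiniteType h.left]
    (ha : RepWith @Etale a) (hb : RepWith @Etale b) (e : a ≫ f = (yon S).map h ≫ b) (v : V.left) {x : Points F}
    (C : Set (h.left.fiber v)) (hC : IsLocallyClosed C) (hne : C.Nonempty)
    (hgen : ∀ w ∈ C, ∀ w', w' ⤳ w → w' ∈ C) (hx : ∀ w ∈ C, Points.ofPt a ((h.left.fiberι v).base w) = x) :
    HasAtMor (fun _ _ h u => FlatMor.fibreDimAt h u = 0) f x := by
  haveI : LocallyOfFiniteType (h.left.fiberToSpecResidueField v) := UOpenLib.lft_fiberToSpec h.left v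
  haveI : JacobsonSpace (h.left.fiber v) := LocallyOfFiniteType.jacobsonSpace (h.left.fiberToSpecResidueField v)
  obtain ⟨w, hwC, hw⟩ := nonempty_inter_closedPoints hne hC
  obtain ⟨ξ, hmax, hξw, -⟩ := DimIneqLib.stalk_le (S := Spec (CommRingCat.of (V.left.residueField v)))
    (h.left.fiberToSpecResidueField v) w
  have hmem : ∀ w' : h.left.fiber v, h.left.base ((h.left.fiberι v).base w') = v := fun w' => by
    have h1 : (h.left.fiberι v).base w' ∈ Set.range (h.left.fiberι v).base := ⟨w', rfl⟩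
    rwa [h.left.range_fiberι] at h1
  have hξ : Points.ofPt a ((h.left.fiberι v).base ξ) = x := hx ξ (hgen w hwC ξ hξw)
  let z := (h.left.fiberι v).base w
  let ζ := (h.left.fiberι v).base ξ
  have hz0 : UOpenLib.fibreClosureDim h.left z ≤ 0 := by
    rw [UOpenLib.fibreClosureDim_eq_inter]
    have : Subsingleton ↥(closure ({z} : Set U.left) ∩ h.left.base ⁻¹' {h.left.base z}) := by
      refine ⟨fun p q => Subtype.ext ?_⟩
      have key : ∀ p : ↥(closure ({z} : Set U.left) ∩ h.left.base ⁻¹' {h.left.base z}), p.1 = z := by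
        rintro ⟨p, hp, hpv⟩
        obtain ⟨w', rfl⟩ : p ∈ Set.range (h.left.fiberι v).base := by
          rw [h.left.range_fiberι]; exact hpv.trans (hmem w)
        have hs : w ⤳ w' := (h.left.fiberι v).isEmbedding.isInducing.specializes_iff.1 (specializes_iff_mem_closure.2 hp)
        have : w' ∈ ({w} : Set (h.left.fiber v)) := (mem_closedPoints_iff.1 hw).closure_eq ▸ specializes_iff_mem_closure.1 hs
        rw [Set.mem_singleton_iff] at this
        exact congrArg (h.left.fiberι v).base this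
      exact (key p).trans (key q).symm
    exact topologicalKrullDim_le_zero_of_subsingleton
  have hr : Dual3.resTrdeg h.left ζ = Dual3.resTrdeg h.left z := by
    have h1 : HasAtMor (fun _ _ g u => Dual3.resTrdeg g u = Dual3.resTrdeg h.left z) f (Points.ofPt a z) :=
      ⟨U, V, a, b, h, z, ha, hb, e, rfl, rfl⟩
    rw [show Points.ofPt a z = Points.ofPt a ζ from (hx w hwC).trans hξ.symm,
      hasAtMor_iff (etInv_resTrdeg fun t => t = Dual3.resTrdeg h.left z) ha hb e] at h1
    exact h1
  refine ⟨U, V, a, b, h, ζ, ha, hb, e, hξ, fibreDimAt_eq_zero_of_closed_generic h.left ζ (fun z' hz' hs => ?_) ?_⟩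
  · obtain ⟨w', rfl⟩ : z' ∈ Set.range (h.left.fiberι v).base := by
      rw [h.left.range_fiberι]; exact hz'.trans (hmem ξ)
    exact congrArg _ (hmax w' ((h.left.fiberι v).isEmbedding.isInducing.specializes_iff.1 hs))
  · rw [fibreClosureDim_eq_resTrdeg, hr, ← fibreClosureDim_eq_resTrdeg]
    exact hz0

theorem finite_preimage_decent {X : Sp S} (hd : IsDecent X) (x : Points X) {U : Over S} [CompactSpace U.left]
    {a : (yon S).obj U ⟶ X} (ha : RepWith @Etale a) : (Points.ofPt a ⁻¹' {x}).Finite := by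
  obtain ⟨p, rfl, -, hq⟩ := hd x
  exact finite_fibre_of_qc_point hq ha

/-- The preimage of a point of a decent space in a chart is discrete. -/
theorem exists_open_isolating (hG : IsAlgSpace G) (hd : IsDecent G) {V : Over S} {b : (yon S).obj V ⟶ G}
    (hb : RepWith @Etale b) (v : V.left) :
    ∃ O : Set V.left, IsOpen O ∧ v ∈ O ∧ ∀ w ∈ O, Points.ofPt b w = Points.ofPt b v → w = v := by
  have hfin : ∀ (V' : Over S) (b' : (yon S).obj V' ⟶ G), IsAffine V'.left → RepWith @Etale b' →
      (Points.ofPt b' ⁻¹' {Points.ofPt b v}).Finite := fun V' b' hV' hb' => by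
    haveI := hV'
    exact finite_preimage_decent hd _ hb'
  obtain ⟨W, j, v', hW, hv', hj, hjb⟩ := exists_affine_subchart hb v
  haveI := hW
  let T : Set W.left := Points.ofPt ((yon S).map j ≫ b) ⁻¹' {Points.ofPt b v}
  have hT : T.Finite := hfin W _ hW hjb
  let C : Set W.left := ⋃ w ∈ T \ {v'}, closure {w}
  have hC : IsClosed C := (hT.subset fun w hw => hw.1).isClosed_biUnion fun w _ => isClosed_closure
  have hvC : v' ∉ C := fun h => by
    obtain ⟨w, hw, hwv⟩ := Set.mem_iUnion₂.1 h
    refine hw.2 (Set.mem_singleton_iff.2 ?_)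
    have h' := eq_of_specializes_of_finite hG hfin hb (u := v) (u' := j.left.base w) rfl
      ((ofPt_yon_comp j b w).symm.trans hw.1)
      (hv' ▸ (specializes_iff_mem_closure.2 hwv).map j.left.continuous)
    exact j.left.isOpenEmbedding.injective (h'.symm.trans hv'.symm)
  refine ⟨j.left.base '' Cᶜ, j.left.isOpenEmbedding.isOpenMap _ hC.isOpen_compl, ⟨v', hvC, hv'⟩, ?_⟩
  rintro _ ⟨w, hw, rfl⟩ he
  have hwT : w ∈ T := (ofPt_yon_comp j b w).trans he
  have : w = v' := by
    by_contra hne
    exact hw (Set.mem_biUnion ⟨hwT, hne⟩ (subset_closure rfl))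
  rw [this, hv']

section main

variable (hF : IsAlgSpace F) (hG : IsAlgSpace G) (hf : LocP @LocallyOfFiniteType f)
include hF hG hf

/-- A point which is isolated in its fibre has relative dimension zero. -/
theorem zero_of_isolated {x : Points F} {W : Set (Points F)} (hW : IsOpen W)
    (hWx : W ∩ Points.map f ⁻¹' {Points.map f x} = {x}) :
    HasAtMor (fun _ _ h u => FlatMor.fibreDimAt h u = 0) f x := by
  obtain ⟨U, V, a, b, h, u, ha, hb, e, hu⟩ := exists_chart_at hF hG f x
  haveI : LocallyOfFiniteType h.left := hf a b h ha hb e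
  let ι := h.left.fiberι (h.left.base u)
  have hC : IsOpen (ι.base ⁻¹' (Points.ofPt a ⁻¹' W)) :=
    (hW.preimage (Points.continuous_ofPt a)).preimage ι.continuous
  have hxW : x ∈ W := by
    have : x ∈ W ∩ Points.map f ⁻¹' {Points.map f x} := by rw [hWx]; exact rfl
    exact this.1
  refine fibreDim_zero_of_piece ha hb e (h.left.base u) _ hC.isLocallyClosed ⟨h.left.asFiber u, ?_⟩
    (fun w hw w' hw' => hw'.mem_open hC hw) fun w hw => ?_
  · show Points.ofPt a (ι.base (h.left.asFiber u)) ∈ W
    rw [h.left.fiberι_asFiber, hu]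
    exact hxW
  · have h1 : (ι.base w) ∈ Set.range ι.base := ⟨w, rfl⟩
    rw [h.left.range_fiberι] at h1
    have h2 : Points.ofPt a (ι.base w) ∈ W ∩ Points.map f ⁻¹' {Points.map f x} := by
      refine ⟨hw, ?_⟩
      show Points.map f _ = Points.map f x
      rw [map_ofPt_chart e, ← hu, map_ofPt_chart e, show h.left.base (ι.base w) = h.left.base u from h1]
    rw [hWx] at h2
    exact h2

/-- A point closed in its fibre with no generisations there has relative dimension zero. -/
theorem zero_of_closed_no_gen {x : Points F}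
    (hcl : ∀ x', Points.map f x' = Points.map f x → x ⤳ x' → x' = x)
    (hgen : ∀ x', Points.map f x' = Points.map f x → x' ⤳ x → x' = x) :
    HasAtMor (fun _ _ h u => FlatMor.fibreDimAt h u = 0) f x := by
  obtain ⟨U, V, a, b, h, u, ha, hb, e, hu⟩ := exists_chart_at hF hG f x
  haveI : LocallyOfFiniteType h.left := hf a b h ha hb e
  let ι := h.left.fiberι (h.left.base u)
  have hmap : ∀ w, Points.map f (Points.ofPt a (ι.base w)) = Points.map f x := fun w => by
    have h1 : (ι.base w) ∈ Set.range ι.base := ⟨w, rfl⟩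
    rw [h.left.range_fiberι] at h1
    rw [map_ofPt_chart e, ← hu, map_ofPt_chart e, show h.left.base (ι.base w) = h.left.base u from h1]
  let C : Set (h.left.fiber (h.left.base u)) := {w | Points.ofPt a (ι.base w) = x}
  have hCc : C = ι.base ⁻¹' (Points.ofPt a ⁻¹' closure {x}) := by
    ext w
    refine ⟨fun hw => ?_, fun hw => ?_⟩
    · show Points.ofPt a (ι.base w) ∈ closure {x}
      rw [show Points.ofPt a (ι.base w) = x from hw]
      exact subset_closure rfl
    · exact hcl _ (hmap w) (specializes_iff_mem_closure.2 hw)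
  refine fibreDim_zero_of_piece ha hb e (h.left.base u) C ?_ ⟨h.left.asFiber u, ?_⟩ (fun w hw w' hw' => ?_)
    fun w hw => hw
  · rw [hCc]
    exact ((isClosed_closure.preimage (Points.continuous_ofPt a)).preimage ι.continuous).isLocallyClosed
  · show Points.ofPt a (ι.base (h.left.asFiber u)) = x
    rw [h.left.fiberι_asFiber, hu]
  · exact hgen _ (hmap w') ((hw'.map ι.continuous).map (Points.continuous_ofPt a) |>.trans (specializes_of_eq hw))

/-- Over a decent base, relative dimension zero means isolated in the fibre. -/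
theorem isolated_of_zero (hd : IsDecent G) {x : Points F}
    (h0 : HasAtMor (fun _ _ h u => FlatMor.fibreDimAt h u = 0) f x) :
    ∃ W : Set (Points F), IsOpen W ∧ W ∩ Points.map f ⁻¹' {Points.map f x} = {x} := by
  obtain ⟨U, V, a, b, h, u, ha, hb, e, rfl, hu0⟩ := h0
  haveI : LocallyOfFiniteType h.left := hf a b h ha hb e
  obtain ⟨O, hO, huO, hOiso⟩ := exists_open_isolating hG hd hb (h.left.base u)
  obtain ⟨O', hO', hO'e⟩ := (h.left.fiberι (h.left.base u)).isEmbedding.isInducing.isOpen_iff.1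
    ((fibreDimAt_eq_zero_iff h.left u).1 hu0)
  refine ⟨Points.ofPt a '' (O' ∩ h.left.base ⁻¹' O),
    isOpenMap_ofPt ha _ (hO'.inter (hO.preimage h.left.continuous)), ?_⟩
  have huO' : u ∈ O' := by
    have : h.left.asFiber u ∈ (h.left.fiberι (h.left.base u)).base ⁻¹' O' := by rw [hO'e]; exact rfl
    rwa [Set.mem_preimage, h.left.fiberι_asFiber] at this
  refine Set.Subset.antisymm ?_ (Set.singleton_subset_iff.2 ⟨⟨u, ⟨huO', huO⟩, rfl⟩, rfl⟩)
  rintro _ ⟨⟨z, ⟨hz', hz⟩, rfl⟩, hzf⟩
  have hzf' : Points.ofPt b (h.left.base z) = Points.ofPt b (h.left.base u) := by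
    rw [← map_ofPt_chart e, ← map_ofPt_chart e]; exact hzf
  obtain ⟨w, rfl⟩ : z ∈ Set.range (h.left.fiberι (h.left.base u)).base := by
    rw [h.left.range_fiberι]; exact hOiso _ hz hzf'
  have : w ∈ ({h.left.asFiber u} : Set _) := by rw [← hO'e]; exact hz'
  rw [Set.mem_singleton_iff] at this
  exact congrArg (Points.ofPt a) ((congrArg (h.left.fiberι _).base this).trans (h.left.fiberι_asFiber u))

/-- Over a decent base, relative dimension zero means closed in the fibre. -/
theorem closed_of_zero (hd : IsDecent G) {x : Points F}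
    (h0 : HasAtMor (fun _ _ h u => FlatMor.fibreDimAt h u = 0) f x) {x' : Points F}
    (hx' : Points.map f x' = Points.map f x) (hs : x ⤳ x') : x' = x := by
  obtain ⟨U, V, a, b, h, ha, has, hb, -, e⟩ := exists_chart hF hG f
  haveI : LocallyOfFiniteType h.left := hf a b h ha hb e
  obtain ⟨u', rfl⟩ := surjective_ofPt has x'
  obtain ⟨O, hO, huO, hOiso⟩ := exists_open_isolating hG hd hb (h.left.base u')
  let ι := h.left.fiberι (h.left.base u')
  haveI : LocallyOfFiniteType (h.left.fiberToSpecResidueField (h.left.base u')) := UOpenLib.lft_fiberToSpec h.left _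
  haveI : JacobsonSpace (h.left.fiber (h.left.base u')) :=
    LocallyOfFiniteType.jacobsonSpace (h.left.fiberToSpecResidueField _)
  haveI : IsLocallyNoetherian (h.left.fiber (h.left.base u')) :=
    LocallyOfFiniteType.isLocallyNoetherian (h.left.fiberToSpecResidueField (h.left.base u'))
  obtain ⟨W, hW, hWx⟩ := isolated_of_zero hF hG hf hd h0
  let C : Set (h.left.fiber (h.left.base u')) := ι.base ⁻¹' (Points.ofPt a ⁻¹' W)
  have hfib : ∀ w, h.left.base (ι.base w) = h.left.base u' := fun w => by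
    have h1 : (ι.base w) ∈ Set.range ι.base := ⟨w, rfl⟩
    rwa [h.left.range_fiberι] at h1
  have hval : ∀ w ∈ C, Points.ofPt a (ι.base w) = x := fun w hw => by
    have h2 : Points.ofPt a (ι.base w) ∈ W ∩ Points.map f ⁻¹' {Points.map f x} := by
      refine ⟨hw, ?_⟩
      show Points.map f _ = Points.map f x
      rw [map_ofPt_chart e, hfib w, ← map_ofPt_chart e]
      exact hx'
    rwa [hWx] at h2
  have hCc : IsClosed C := by
    refine isClosed_of_isolated ((hW.preimage (Points.continuous_ofPt a)).preimage ι.continuous) fun w hw => ?_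
    have h1 : FlatMor.fibreDimAt h.left (ι.base w) = 0 :=
      (hasAtMor_iff (etInv_fibreDim fun t => t = 0) ha hb e _).1 (by rw [hval w hw]; exact h0)
    rw [FibDimLib.fibreDimAt_fiberι] at h1
    exact (isOpen_singleton_iff_localDim w).1 h1
  have hcl : u' ∈ closure (ι.base '' C) := by
    rw [mem_closure_iff]
    intro N hN huN
    obtain ⟨z, ⟨hzN, hzO⟩, hz⟩ := hs.mem_open (isOpenMap_ofPt ha _ (hN.inter (hO.preimage h.left.continuous)))
      ⟨u', ⟨huN, huO⟩, rfl⟩
    have hzv : h.left.base z = h.left.base u' := hOiso _ hzO (by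
      rw [← map_ofPt_chart e, hz, ← map_ofPt_chart e, hx'])
    obtain ⟨w, rfl⟩ : z ∈ Set.range ι.base := by rw [h.left.range_fiberι]; exact hzv
    refine ⟨_, hzN, w, ?_, rfl⟩
    show Points.ofPt a (ι.base w) ∈ W
    rw [hz]
    have : x ∈ W ∩ Points.map f ⁻¹' {Points.map f x} := by rw [hWx]; exact rfl
    exact this.1
  have : h.left.asFiber u' ∈ closure C := by
    rw [ι.isEmbedding.isInducing.closure_eq_preimage_closure_image, Set.mem_preimage, h.left.fiberι_asFiber]
    exact hcl
  rw [hCc.closure_eq] at this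
  have h2 := hval _ this
  rwa [h.left.fiberι_asFiber] at h2

omit hf in
/-- A point of a decent space with finite fibre has relative dimension zero. -/
theorem zero_of_finite (hf : LocP @LocallyOfFiniteType f) (hd : IsDecent F) {x : Points F}
    (hfin : (Points.map f ⁻¹' {Points.map f x}).Finite) :
    HasAtMor (fun _ _ h u => FlatMor.fibreDimAt h u = 0) f x := by
  obtain ⟨U, V, a, b, h, u, ha, hb, e, rfl⟩ := exists_chart_at hF hG f x
  haveI : LocallyOfFiniteType h.left := hf a b h ha hb e
  obtain ⟨W, j, u', hW, rfl, hj, hjb⟩ := exists_affine_subchart ha u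
  haveI := hW
  refine ⟨U, V, a, b, h, j.left.base u', ha, hb, e, rfl, ?_⟩
  let v := h.left.base (j.left.base u')
  let ι := h.left.fiberι v
  haveI : LocallyOfFiniteType (h.left.fiberToSpecResidueField v) := UOpenLib.lft_fiberToSpec h.left v
  haveI : JacobsonSpace (h.left.fiber v) := LocallyOfFiniteType.jacobsonSpace (h.left.fiberToSpecResidueField v)
  have hpre : (Points.ofPt ((yon S).map j ≫ a) ⁻¹' (Points.map f ⁻¹' {Points.map f (Points.ofPt a (j.left.base u'))})).Finite :=
    hfin.preimage' fun y _ => finite_preimage_decent hd y hjb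
  have hO : (ι.base ⁻¹' Set.range j.left.base).Finite := by
    refine Set.Finite.subset ((hpre.image j.left.base).preimage ι.isEmbedding.injective.injOn) fun w hw => ?_
    obtain ⟨z, hz⟩ := hw
    refine ⟨z, ?_, hz⟩
    show Points.map f (Points.ofPt ((yon S).map j ≫ a) z) = _
    have h1 : (ι.base w) ∈ Set.range ι.base := ⟨w, rfl⟩
    rw [h.left.range_fiberι] at h1
    rw [ofPt_yon_comp, map_ofPt_chart e, map_ofPt_chart e, hz, show h.left.base (ι.base w) = v from h1]
  refine (fibreDimAt_eq_zero_iff h.left _).2 (isOpen_singleton_of_finite_open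
    (j.left.isOpenEmbedding.isOpen_range.preimage ι.continuous) hO ?_)
  show ι.base (h.left.asFiber (j.left.base u')) ∈ Set.range j.left.base
  rw [h.left.fiberι_asFiber]
  exact ⟨u', rfl⟩

end main

theorem isOpen_singleton_subtype_iff {A : Type u} [TopologicalSpace A] {E : Set A} (x : E) :
    IsOpen ({x} : Set E) ↔ ∃ W : Set A, IsOpen W ∧ W ∩ E = {x.1} := by
  constructor
  · intro h
    obtain ⟨W, hW, hWe⟩ := isOpen_induced_iff.1 h
    refine ⟨W, hW, Set.ext fun z => ⟨fun ⟨hz, hzE⟩ => ?_, fun hz => ?_⟩⟩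
    · have : (⟨z, hzE⟩ : E) ∈ ({x} : Set E) := by rw [← hWe]; exact hz
      exact congrArg Subtype.val (this : (⟨z, hzE⟩ : E) = x)
    · rw [Set.mem_singleton_iff] at hz
      subst hz
      exact ⟨(Set.ext_iff.1 hWe x).2 rfl, x.2⟩
  · rintro ⟨W, hW, hWe⟩
    refine isOpen_induced_iff.2 ⟨W, hW, Set.ext fun z => ⟨fun hz => ?_, fun hz => ?_⟩⟩
    · have : z.1 ∈ W ∩ E := ⟨hz, z.2⟩
      rw [hWe] at this
      exact Subtype.ext this
    · rw [Set.mem_singleton_iff] at hz
      subst hz
      have : z.1 ∈ W ∩ E := by rw [hWe]; exact rfl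
      exact this.1

/-- Over a decent target and with decent source, dimension zero of the fibre at a point means isolated. -/
theorem fibre_localDim_zero_iff (hF : IsAlgSpace F) (hdF : IsDecent F) (hG : IsAlgSpace G)
    (hdG : IsDecent G) (hf : LocP @LocallyOfFiniteType f) (y : Points G) (x : ↥(Points.map f ⁻¹' {y})) :
    FlatMor.localDim ↥(Points.map f ⁻¹' {y}) x = 0 ↔ IsOpen ({x} : Set ↥(Points.map f ⁻¹' {y})) := by
  haveI : T0Space (Points F) := t0Space_points hF hdF
  refine FibDimLib.localDim_eq_zero_iff x fun O hO => ?_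
  obtain ⟨U, V, a, b, h, u, ha, hb, e, hu⟩ := exists_chart_at hF hG f x.1
  haveI : LocallyOfFiniteType h.left := hf a b h ha hb e
  obtain ⟨O₁, hO₁, hO₁e⟩ := isOpen_induced_iff.1 O.isOpen
  obtain ⟨Ov, hOv, huOv, hiso⟩ := exists_open_isolating hG hdG hb (h.left.base u)
  obtain ⟨_, ⟨V₀, hV₀, rfl⟩, huV₀, hV₀O⟩ := V.left.isBasis_affineOpens.exists_subset_of_mem_open huOv hOv
  have huO₁ : u ∈ Points.ofPt a ⁻¹' O₁ := by
    rw [Set.mem_preimage, hu]; exact (Set.ext_iff.1 hO₁e x).2 hO
  obtain ⟨_, ⟨U₀, hU₀, rfl⟩, huU₀, hU₀O⟩ := U.left.isBasis_affineOpens.exists_subset_of_mem_open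
    (show u ∈ (h.left.base ⁻¹' (V₀ : Set V.left)) ∩ Points.ofPt a ⁻¹' O₁ from ⟨huV₀, huO₁⟩)
    ((V₀.isOpen.preimage h.left.continuous).inter (hO₁.preimage (Points.continuous_ofPt a)))
  have hV₀ : IsAffineOpen V₀ := hV₀
  have hU₀ : IsAffineOpen U₀ := hU₀
  haveI : IsAffine (U₀ : Scheme.{u}) := hU₀
  haveI : IsAffine (V₀ : Scheme.{u}) := hV₀
  let m := h.left.resLE V₀ U₀ fun z hz => (hU₀O hz).1
  haveI : LocallyOfFiniteType m := by
    haveI : LocallyOfFiniteType (m ≫ Scheme.Opens.ι V₀) := by
      rw [Scheme.Hom.resLE_comp_ι]; infer_instance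
    exact locallyOfFiniteType_of_comp m (Scheme.Opens.ι V₀)
  let v₀ : (V₀ : Scheme.{u}) := ⟨h.left.base u, huV₀⟩
  haveI : LocallyOfFiniteType (m.fiberToSpecResidueField v₀) := UOpenLib.lft_fiberToSpec m v₀
  haveI : IsLocallyNoetherian (m.fiber v₀) := LocallyOfFiniteType.isLocallyNoetherian (m.fiberToSpecResidueField v₀)
  haveI : CompactSpace (m.fiber v₀) := QuasiCompact.compactSpace_of_compactSpace (m.fiberToSpecResidueField v₀)
  haveI : AlgebraicGeometry.IsNoetherian (m.fiber v₀) := {}
  haveI : TopologicalSpace.NoetherianSpace (m.fiber v₀) := inferInstance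
  have hcomm : ∀ z : (U₀ : Scheme.{u}), (m.base z).1 = h.left.base z.1 := fun z =>
    congrArg (fun g : (U₀ : Scheme.{u}) ⟶ V.left => g.base z) (Scheme.Hom.resLE_comp_ι h.left _)
  have hmem : ∀ w : m.fiber v₀, Points.map f (Points.ofPt a ((m.fiberι v₀).base w).1) = y := fun w => by
    have h1 : (m.fiberι v₀).base w ∈ Set.range (m.fiberι v₀).base := ⟨w, rfl⟩
    rw [m.range_fiberι] at h1
    rw [map_ofPt_chart e, ← hcomm, show m.base ((m.fiberι v₀).base w) = v₀ from h1, ← map_ofPt_chart e, hu]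
    exact x.2
  let φ : m.fiber v₀ → ↥(Points.map f ⁻¹' {y}) := fun w => ⟨_, hmem w⟩
  have hφ : Continuous φ := ((Points.continuous_ofPt a).comp
    (continuous_subtype_val.comp (m.fiberι v₀).continuous)).subtype_mk _
  have hrange : Set.range φ = Subtype.val ⁻¹' (Points.ofPt a '' (U₀ : Set U.left)) := by
    ext ⟨z, hz⟩
    constructor
    · rintro ⟨w, hw⟩
      exact ⟨_, ((m.fiberι v₀).base w).2, congrArg Subtype.val hw⟩
    · rintro ⟨z', hz', rfl⟩
      have hzv : h.left.base z' = h.left.base u := hiso _ (hV₀O (hU₀O hz').1) (by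
        rw [← map_ofPt_chart e, ← map_ofPt_chart e, hu]
        exact (show Points.map f (Points.ofPt a z') = y from hz).trans (show Points.map f x.1 = y from x.2).symm)
      obtain ⟨w, hw⟩ : (⟨z', hz'⟩ : (U₀ : Scheme.{u})) ∈ Set.range (m.fiberι v₀).base := by
        rw [m.range_fiberι]; exact Subtype.ext ((hcomm _).trans hzv)
      exact ⟨w, Subtype.ext (show Points.ofPt a ((m.fiberι v₀).base w).1 = Points.ofPt a z' by rw [hw])⟩
  refine ⟨⟨Set.range φ, ?_⟩, ?_, ?_, ?_⟩
  · rw [hrange]; exact (isOpenMap_ofPt ha _ U₀.isOpen).preimage continuous_subtype_val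
  · show x ∈ Set.range φ
    rw [hrange]; exact ⟨u, huU₀, hu⟩
  · intro z hz
    have hz' : z ∈ Set.range φ := hz
    rw [hrange] at hz'
    obtain ⟨z', hz', he⟩ := hz'
    exact (Set.ext_iff.1 hO₁e z).1 (show z.1 ∈ O₁ from he ▸ (hU₀O hz').2)
  · exact TopologicalSpace.NoetherianSpace.range φ hφ

end AlgSpLib
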