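import Mathlib.Algebra.Module.CharacterModule
import Mathlib.RingTheory.Flat.Basic
import Mathlib.RingTheory.Flat.Stability
import Mathlib.RingTheory.Flat.Tensor
import Mathlib.LinearAlgebra.TensorProduct.Tower
/-!
# Flatness of a pure ring extension `A → S` from flatness of `S → S ⊗[A] S`

If `A → S` is universally injective and `S ⊗[A] S` is flat over `S`, then `S` is flat over `A`.
-/

set_option autoImplicit false
universe u
open TensorProduct LinearMap

namespace AlgSpLib.Pure

variable (A S : Type u) [CommRing A] [CommRing S] [Algebra A S]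

/-- The unit `x ↦ 1 ⊗ x`. -/
noncomputable def unit (X : Type u) [AddCommGroup X] [Module A X] : X →ₗ[A] S ⊗[A] X :=
  TensorProduct.mk A S X 1

/-- `x ↦ (a ↦ χ (a • x))`. -/
noncomputable def evalMap {X : Type u} [AddCommGroup X] [Module A X] (χ : CharacterModule X) :
    X →ₗ[A] CharacterModule A where
  toFun x :=
    ({ toFun := fun a => χ (a • x)
       map_zero' := by simp
       map_add' := fun a b => by simp [add_smul] } : A →+ AddCircle (1 : ℚ))
  map_add' x y := by
    refine CharacterModule.ext _ fun a => ?_
    change χ (a • (x + y)) = χ (a • x) + χ (a • y)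
    rw [smul_add, map_add]
  map_smul' r x := by
    refine CharacterModule.ext _ fun a => ?_
    change χ (a • r • x) = χ ((r • a) • x)
    rw [smul_eq_mul, smul_smul, mul_comm]

theorem evalMap_comp {X Y : Type u} [AddCommGroup X] [Module A X] [AddCommGroup Y] [Module A Y]
    (g : X →ₗ[A] Y) (χ : CharacterModule Y) :
    evalMap A (CharacterModule.dual g χ) = (evalMap A χ).comp g := by
  refine LinearMap.ext fun x => CharacterModule.ext _ fun a => ?_
  change χ (g (a • x)) = χ (a • g x)
  rw [map_smul]

/-- The natural section of `C(S ⊗ X) → C(X)` given by an extension `Φ` of evaluation at one. -/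
noncomputable def sect (Φ : CharacterModule (S ⊗[A] CharacterModule A)) {X : Type u} [AddCommGroup X]
    [Module A X] : CharacterModule X →ₗ[A] CharacterModule (S ⊗[A] X) where
  toFun χ := CharacterModule.dual ((evalMap A χ).lTensor S) Φ
  map_add' χ χ' := by
    refine CharacterModule.ext _ fun z => ?_
    change Φ ((evalMap A (χ + χ')).lTensor S z) = Φ ((evalMap A χ).lTensor S z) + Φ ((evalMap A χ').lTensor S z)
    rw [← map_add, ← LinearMap.add_apply, ← LinearMap.lTensor_add]
    congr 3
  map_smul' r χ := by
    refine CharacterModule.ext _ fun z => ?_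
    change Φ ((evalMap A (r • χ)).lTensor S z) = Φ ((evalMap A χ).lTensor S (r • z))
    have : evalMap A (r • χ) = r • evalMap A χ := by
      refine LinearMap.ext fun x => CharacterModule.ext _ fun a => ?_
      change χ (r • a • x) = χ ((r • a) • x)
      rw [smul_eq_mul, smul_smul]
    rw [this, LinearMap.lTensor_smul, LinearMap.smul_apply, (LinearMap.lTensor S (evalMap A χ)).map_smul]

theorem sect_unit (Φ : CharacterModule (S ⊗[A] CharacterModule A))
    (hΦ : ∀ c : CharacterModule A, Φ (1 ⊗ₜ c) = c 1) {X : Type u} [AddCommGroup X] [Module A X]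
    (χ : CharacterModule X) (x : X) : sect A S Φ χ (unit A S X x) = χ x := by
  change Φ ((evalMap A χ).lTensor S (1 ⊗ₜ x)) = χ x
  rw [LinearMap.lTensor_tmul, hΦ]
  exact congrArg χ (one_smul A x)

theorem sect_dual (Φ : CharacterModule (S ⊗[A] CharacterModule A)) {X Y : Type u} [AddCommGroup X]
    [Module A X] [AddCommGroup Y] [Module A Y] (g : X →ₗ[A] Y) (χ : CharacterModule Y) (z : S ⊗[A] X) :
    sect A S Φ (CharacterModule.dual g χ) z = sect A S Φ χ (g.lTensor S z) := by
  change Φ ((evalMap A (CharacterModule.dual g χ)).lTensor S z) = Φ ((evalMap A χ).lTensor S (g.lTensor S z))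
  rw [evalMap_comp, LinearMap.lTensor_comp_apply]

/-- If `S ⊗[A] S` is flat over `S`, then `S ⊗[A] -` is exact on `S`-modules. -/
theorem lTensor_injective_of_flat [Module.Flat S (S ⊗[A] S)] {M N : Type u} [AddCommGroup M] [Module A M]
    [Module S M] [IsScalarTower A S M] [AddCommGroup N] [Module A N] [Module S N] [IsScalarTower A S N]
    (f : M →ₗ[S] N) (hf : Function.Injective f) :
    Function.Injective ((f.restrictScalars A).lTensor S) := by
  let eM := AlgebraTensorModule.cancelBaseChange A S S M S
  let eN := AlgebraTensorModule.cancelBaseChange A S S N S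
  have h1 : Function.Injective (f.rTensor (S ⊗[A] S)) := Module.Flat.rTensor_preserves_injective_linearMap f hf
  have h2 : ∀ z, eN (f.rTensor (S ⊗[A] S) z) = (f.restrictScalars A).rTensor S (eM z) := by
    intro z
    induction z using TensorProduct.induction_on with
    | zero => simp
    | add a b ha hb => simp [map_add, ha, hb]
    | tmul m w =>
      induction w using TensorProduct.induction_on with
      | zero => simp
      | add a b ha hb => rw [tmul_add, map_add, map_add, map_add, map_add, ha, hb]
      | tmul s t => simp [eM, eN]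
  have h3 : Function.Injective ((f.restrictScalars A).rTensor S) := by
    have : ⇑((f.restrictScalars A).rTensor S) = eN ∘ f.rTensor (S ⊗[A] S) ∘ eM.symm := by
      funext z
      simp [h2]
    rw [this]
    exact eN.injective.comp (h1.comp eM.symm.injective)
  intro a b e
  apply (TensorProduct.comm A S M).injective
  apply h3
  have hc : ∀ z, TensorProduct.comm A S N ((f.restrictScalars A).lTensor S z) =
      (f.restrictScalars A).rTensor S (TensorProduct.comm A S M z) := fun z => by
    induction z using TensorProduct.induction_on with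
    | zero => simp
    | add a b ha hb => simp [map_add, ha, hb]
    | tmul s m => simp
  rw [← hc, ← hc, e]

/-- The descent datum on a kernel. -/
theorem exists_lift_unit [Module.Flat S (S ⊗[A] S)] {X Y L R : Type u} [AddCommGroup X] [Module A X]
    [AddCommGroup Y] [Module A Y] [AddCommGroup L] [Module A L] [Module S L] [IsScalarTower A S L]
    [AddCommGroup R] [Module A R] [Module S R] [IsScalarTower A S R] (g : X →ₗ[A] Y)
    (ι : L →ₗ[S] S ⊗[A] X) (π : S ⊗[A] X →ₗ[S] R) (j : R →ₗ[S] S ⊗[A] Y)
    (hπ : Function.Surjective π) (hj : Function.Injective j) (hex : Function.Exact ι π)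
    (hjπ : ∀ z, j (π z) = g.lTensor S z) (x : L) :
    ∃ w : S ⊗[A] L, (ι.restrictScalars A).lTensor S w = (unit A S X).lTensor S (ι x) := by
  have h1 := lTensor_exact S (f := ι.restrictScalars A) (g := π.restrictScalars A) hex hπ
  refine (h1 _).1 (lTensor_injective_of_flat A S j hj ?_)
  rw [map_zero, ← LinearMap.lTensor_comp_apply]
  have e : (j.restrictScalars A).comp (π.restrictScalars A) = g.lTensor S := LinearMap.ext hjπ
  rw [e]
  have : ((g.lTensor S).lTensor S).comp ((unit A S X).lTensor S) =
      ((unit A S Y).lTensor S).comp (g.lTensor S) :=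
    TensorProduct.ext' fun s i => by simp [unit]
  refine (LinearMap.congr_fun this (ι x)).trans ?_
  rw [LinearMap.comp_apply, ← hjπ, hex.apply_apply_eq_zero, map_zero, map_zero]

/-- Vanishing of a kernel with descent datum. -/
theorem kernel_eq_zero [Module.Flat S (S ⊗[A] S)]
    (hpure : ∀ (X : Type u) [AddCommGroup X] [Module A X], Function.Injective (unit A S X))
    (Φ : CharacterModule (S ⊗[A] CharacterModule A)) (hΦ : ∀ c : CharacterModule A, Φ (1 ⊗ₜ c) = c 1)
    {X Y L : Type u} [AddCommGroup X] [Module A X]
    [AddCommGroup Y] [Module A Y] [AddCommGroup L] [Module A L] [Module S L] [IsScalarTower A S L]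
    (g : X →ₗ[A] Y) (hg : Function.Injective g) (ιS : L →ₗ[S] S ⊗[A] X) (hιS : Function.Injective ιS)
    (hgι : ∀ x, g.lTensor S (ιS x) = 0)
    (hlift : ∀ x, ∃ w : S ⊗[A] L, (ιS.restrictScalars A).lTensor S w = (unit A S X).lTensor S (ιS x)) :
    ∀ x : L, x = 0 := by
  let ι : L →ₗ[A] S ⊗[A] X := ιS.restrictScalars A
  have hι : Function.Injective (ι.lTensor S) := lTensor_injective_of_flat A S ιS hιS
  choose d1' hd1' using hlift
  let d1 : L →ₗ[A] S ⊗[A] L :=
    { toFun := d1'
      map_add' := fun x y => hι (by simp [ι, hd1', map_add])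
      map_smul' := fun r x => hι (by simp [ι, hd1']) }
  let D := (unit A S X).lTensor S
  have hd1 : ∀ x, ι.lTensor S (d1 x) = D (ι x) := hd1'
  let δ : L →ₗ[A] S ⊗[A] L := unit A S L - d1
  -- `δ` is injective by descent of elements
  have hδ : Function.Injective δ := by
    rw [injective_iff_map_eq_zero]
    intro x hx
    have e : unit A S (S ⊗[A] X) (ι x) = D (ι x) := by
      have e0 : unit A S L x = d1 x := sub_eq_zero.1 (show unit A S L x - d1 x = 0 from hx)
      rw [← hd1, ← e0]
      simp [unit]
    let q := (LinearMap.range (unit A S X)).mkQ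
    have e1 := congrArg (q.lTensor S) e
    have e2 : q.lTensor S (D (ι x)) = 0 := by
      rw [← LinearMap.lTensor_comp_apply, LinearMap.range_mkQ_comp, LinearMap.lTensor_zero, LinearMap.zero_apply]
    rw [e2] at e1
    have : q (ι x) = 0 := hpure _ (by rw [map_zero]; exact e1)
    obtain ⟨i, hi⟩ := (Submodule.Quotient.mk_eq_zero _).1 this
    have : unit A S Y (g i) = 0 := by
      have h2 : g.lTensor S (ι x) = 0 := hgι x
      rw [← hi] at h2
      simpa [unit] using h2
    have hi0 : i = 0 := hg (by rw [map_zero]; exact hpure Y (by rw [map_zero]; exact this))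
    exact hιS (by rw [map_zero]; change ι x = 0; rw [← hi, hi0, map_zero])
  -- cocycle
  have hco : ∀ x, δ.lTensor S (d1 x) = 0 := by
    have hιι : Function.Injective ((ι.lTensor S).lTensor S) :=
      lTensor_injective_of_flat A S (LinearMap.baseChange S ι) hι
    have k1 : ((ι.lTensor S).lTensor S).comp ((unit A S L).lTensor S) =
        ((unit A S (S ⊗[A] X)).lTensor S).comp (ι.lTensor S) := by
      rw [← LinearMap.lTensor_comp, ← LinearMap.lTensor_comp]
      congr 1
    have k2 : ((ι.lTensor S).lTensor S).comp (d1.lTensor S) = (D.lTensor S).comp (ι.lTensor S) := by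
      rw [← LinearMap.lTensor_comp, ← LinearMap.lTensor_comp]
      congr 1
      exact LinearMap.ext hd1
    intro x
    refine hιι ?_
    rw [map_zero, LinearMap.lTensor_sub, LinearMap.sub_apply, map_sub, sub_eq_zero]
    refine (LinearMap.congr_fun k1 (d1 x)).trans (Eq.trans ?_ (LinearMap.congr_fun k2 (d1 x)).symm)
    simp only [LinearMap.comp_apply, hd1]
    have : ((unit A S (S ⊗[A] X)).lTensor S).comp D = (D.lTensor S).comp D :=
      TensorProduct.ext' fun s i => by simp [D, unit]
    exact LinearMap.congr_fun this (ι x)
  -- `d1` is killed by every character in the image of the section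
  have he : ∀ (χ : CharacterModule L) (x : L), sect A S Φ χ (d1 x) = 0 := fun χ x => by
    obtain ⟨ψ, rfl⟩ := CharacterModule.dual_surjective_of_injective δ hδ χ
    rw [sect_dual, hco, map_zero]
  -- hence `δ` is universally injective
  have hδS : Function.Injective (δ.lTensor S) := by
    rw [injective_iff_map_eq_zero]
    intro y hy
    refine CharacterModule.eq_zero_of_character_apply fun η => ?_
    have key : ∀ z, CharacterModule.uncurry ((sect A S Φ).comp (CharacterModule.curry η)) (δ.lTensor S z) = η z := by
      intro z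
      induction z using TensorProduct.induction_on with
      | zero => simp
      | add a b ha hb => simp only [map_add, ha, hb]
      | tmul t m =>
        rw [LinearMap.lTensor_tmul]
        change sect A S Φ (CharacterModule.curry η t) (unit A S L m - d1 m) = η (t ⊗ₜ m)
        rw [map_sub, sect_unit A S Φ hΦ, he, sub_zero]
        rfl
    rw [← key y, hy, map_zero]
  intro x
  have hx : d1 x = 0 := hδS (by rw [hco, map_zero])
  have h0 : D (ι x) = 0 := by rw [← hd1, hx, map_zero]
  let μ : S ⊗[A] (S ⊗[A] X) →ₗ[A] S ⊗[A] X :=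
    (LinearMap.mul' A S).rTensor X ∘ₗ (TensorProduct.assoc A S S X).symm.toLinearMap
  have hμ : μ.comp D = LinearMap.id := TensorProduct.ext' fun s i => by simp [μ, D, unit]
  have h1 := LinearMap.congr_fun hμ (ι x)
  rw [LinearMap.comp_apply, h0, map_zero] at h1
  exact hιS (by rw [map_zero]; exact h1.symm)

/-- Exactness of `S ⊗[A] -` for a universally injective `A → S` with `S ⊗[A] S` flat over `S`. -/
theorem lTensor_injective [Module.Flat S (S ⊗[A] S)]
    (hpure : ∀ (X : Type u) [AddCommGroup X] [Module A X], Function.Injective (unit A S X))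
    {X Y : Type u} [AddCommGroup X] [Module A X] [AddCommGroup Y] [Module A Y]
    (g : X →ₗ[A] Y) (hg : Function.Injective g) (Φ : CharacterModule (S ⊗[A] CharacterModule A))
    (hΦ : ∀ c : CharacterModule A, Φ (1 ⊗ₜ c) = c 1)
    (u : S ⊗[A] X →ₗ[S] S ⊗[A] Y) (hu : ∀ z, u z = g.lTensor S z) : Function.Injective u := by
  have hex : Function.Exact (LinearMap.ker u).subtype u.rangeRestrict := fun z => by
    rw [Set.mem_range]
    exact ⟨fun hz => ⟨⟨z, congrArg Subtype.val hz⟩, rfl⟩, fun ⟨y, hy⟩ => by
      subst hy; exact Subtype.ext y.2⟩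
  have hl := exists_lift_unit A S (L := LinearMap.ker u) (R := LinearMap.range u) g
    (LinearMap.ker u).subtype u.rangeRestrict (LinearMap.range u).subtype u.surjective_rangeRestrict
    (Submodule.injective_subtype _) hex hu
  have hL := kernel_eq_zero A S hpure Φ hΦ (L := LinearMap.ker u) g hg
    (LinearMap.ker u).subtype (Submodule.injective_subtype _) (fun x => (hu x.1).symm.trans x.2) hl
  rw [injective_iff_map_eq_zero]
  intro z hz
  exact congrArg Subtype.val (hL ⟨z, hz⟩)

/-- A universally injective extension `A → S` with `S → S ⊗[A] S` flat is flat. -/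
theorem flat (hpure : ∀ (X : Type u) [AddCommGroup X] [Module A X], Function.Injective (unit A S X))
    [Module.Flat S (S ⊗[A] S)] : Module.Flat A S := by
  obtain ⟨Φ, hΦ'⟩ := CharacterModule.dual_surjective_of_injective (unit A S (CharacterModule A))
    (hpure _) ({ toFun := fun c => c 1, map_zero' := rfl, map_add' := fun _ _ => rfl } :
      CharacterModule A →+ AddCircle (1 : ℚ))
  have hΦ : ∀ c : CharacterModule A, Φ (1 ⊗ₜ c) = c 1 := fun c => DFunLike.congr_fun hΦ' c
  rw [Module.Flat.iff_lTensor_injective']
  intro I
  exact lTensor_injective A S hpure I.subtype (Submodule.injective_subtype I) Φ hΦ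
    (LinearMap.baseChange S I.subtype) fun _ => rfl

end AlgSpLib.Pure
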