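import Groth.Agent.AlgSpLib.Iso
import Groth.Agent.AlgSpLib.Pure
import Mathlib.Algebra.TrivSqZeroExt.Basic
/-!
# Quasi-compact monomorphisms with universally injective structure map are isomorphisms
-/

set_option autoImplicit false
universe u
open CategoryTheory CategoryTheory.Limits AlgebraicGeometry Opposite AlgSp Topology TensorProduct

namespace AlgSpLib

variable {S : Scheme.{u}}

theorem appTop_injective_of_flat_surjective {X Y : Scheme.{u}} (g : X ⟶ Y) [Flat g] [Surjective g] :
    Function.Injective g.appTop := by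
  have := Flat.epi_of_flat_of_surjective g
  have : Scheme.Γ.rightOp.IsLeftAdjoint := ΓSpec.adjunction.isLeftAdjoint
  have h : Epi (Scheme.Γ.rightOp.map g) := inferInstance
  have : Mono (Scheme.Γ.map g.op) := inferInstanceAs (Mono (Scheme.Γ.rightOp.map g).unop)
  exact ConcreteCategory.injective_of_mono_of_preservesPullback (Scheme.Γ.map g.op)

/-- The ring-theoretic core: `Spec B → Spec A` flat and surjective. -/
theorem flat_of_pure {A B : Type u} [CommRing A] [CommRing B] [Algebra A B] [Module.Flat B (B ⊗[A] B)]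
    (h : ∀ (D : Type u) [CommRing D] [Algebra A D],
      Function.Injective (Algebra.TensorProduct.includeRight : D →ₐ[A] B ⊗[A] D)) :
    Module.Flat A B := by
  refine Pure.flat A B fun X _ _ => ?_
  letI : Module Aᵐᵒᵖ X := Module.compHom X ((RingHom.id A).fromOpposite fun _ _ => mul_comm _ _)
  haveI : IsCentralScalar A X := ⟨fun _ _ => rfl⟩
  rw [injective_iff_map_eq_zero]
  intro x hx
  have := h (TrivSqZeroExt A X) (a₁ := TrivSqZeroExt.inr x) (a₂ := 0) (by
    rw [map_zero]
    have := congrArg ((TrivSqZeroExt.inrHom A X).lTensor B) hx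
    rw [map_zero] at this
    exact this)
  exact (TrivSqZeroExt.inr_injective (this.trans (TrivSqZeroExt.inr_zero A).symm))

theorem flat_surjective_of_qc_mono_of_injective {F G : Sp S} (hF : IsAlgSpace F) (hG : IsAlgSpace G)
    (f : F ⟶ G) [Mono f] (hqc : IsQuasiCompactMor f)
    (hinj : ∀ (T : Over S) (g : (yon S).obj T ⟶ G) (P : Sp S) (fst : P ⟶ F) (snd : P ⟶ (yon S).obj T),
      IsPullback fst snd f g → ∀ s : Γ(T.left, ⊤),
        (∀ (W : Over S) (a : (yon S).obj W ⟶ P) (c : W ⟶ T),
          a ≫ snd = (yon S).map c → c.left.appTop s = 0) → s = 0) :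
    LocP @Flat f ∧ IsSurjectiveMor f := by
  obtain ⟨κ, V, b, hV, hbe, -, hbs⟩ := exists_affine_charts hG
  suffices h : ∀ k, LocP @Flat (pullback.snd f (b k)) ∧ IsSurjectiveMor (pullback.snd f (b k)) by
    refine ⟨?_, surjective_descend (c := b) (fun k => IsPullback.of_hasPullback f (b k)) hbs fun k => (h k).2⟩
    exact (isLocalOnBase_locP S @Flat (fun k => (yon S).obj (V k)) b hG (fun k => IsAlgSpace.yon_obj _)
      ⟨fun k => isEtaleMor_of_repWith (hbe k), hbs⟩ f hF (fun k => pullback f (b k))
      (fun k => pullback.snd f (b k)) (fun k => pullback.fst f (b k))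
      (fun k => isAlgSpace_pullback hF (IsAlgSpace.yon_obj _) hG f (b k))
      (fun k => IsPullback.of_hasPullback f (b k))).2 fun k => (h k).1
  intro k
  have : IsAffine (V k).left := hV k
  have sq := IsPullback.of_hasPullback f (b k)
  have hP := isAlgSpace_pullback hF (IsAlgSpace.yon_obj (V k)) hG f (b k)
  obtain ⟨U, a, hU, ha, has⟩ :=
    exists_affine_chart (hqc (IsAlgSpace.yon_obj _) (isQuasiCompactSp_yon (V k)) (b k) _ _ sq)
  obtain ⟨φ, hφ⟩ := (yon S).map_surjective (a ≫ pullback.snd f (b k))
  have key : ∀ (T : Over S) (τ : T ⟶ V k) (s : Γ(T.left, ⊤)),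
      (pullback.snd φ τ).left.appTop s = 0 → s = 0 := by
    intro T τ s hs
    refine hinj T ((yon S).map τ ≫ b k) _ _ _ (IsPullback.of_hasPullback f _) s fun W w c e => ?_
    let w' : (yon S).obj W ⟶ pullback f (b k) := sq.lift (w ≫ pullback.fst _ _) ((yon S).map (c ≫ τ)) (by
      rw [Category.assoc, pullback.condition, ← Category.assoc, e, Functor.map_comp, Category.assoc])
    obtain ⟨R, r, er, sqR⟩ := exists_isPullback_yon a w' ha.rep
    have : Etale er.left := etale_left (repWith_of_isPullback sqR ha)
    have : Surjective er.left := surjective_left (repWith_of_isPullback sqR has)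
    have hr : r ≫ φ = (er ≫ c) ≫ τ := (yon S).map_injective (by
      rw [Functor.map_comp, hφ, ← Category.assoc, sqR.w, Category.assoc, sq.lift_snd, ← Functor.map_comp,
        ← Category.assoc er])
    have e2 : (pullback.lift r (er ≫ c) hr : R ⟶ pullback φ τ).left ≫ (pullback.snd φ τ).left =
        er.left ≫ c.left := by
      rw [← Over.comp_left, pullback.lift_snd, Over.comp_left]
    refine appTop_injective_of_flat_surjective er.left ?_
    rw [map_zero, ← CommRingCat.comp_apply, ← Scheme.Hom.comp_appTop, ← e2, Scheme.Hom.comp_appTop,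
      CommRingCat.comp_apply, hs, map_zero]
  have hUU : Flat (pullback.fst φ φ).left := by
    obtain ⟨R, p, q, sqR⟩ := exists_isPullback_yon a a ha.rep
    have : Mono (pullback.snd f (b k)) := inferInstance
    have sq' : IsPullback ((yon S).map p) ((yon S).map q) (a ≫ pullback.snd f (b k)) (a ≫ pullback.snd f (b k)) :=
      ⟨⟨by rw [← Category.assoc, sqR.w, Category.assoc]⟩, ⟨PullbackCone.IsLimit.mk _
        (fun c => sqR.lift c.fst c.snd ((cancel_mono (pullback.snd f (b k))).1 (by simpa using c.condition)))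
        (fun _ => sqR.lift_fst _ _ _) (fun _ => sqR.lift_snd _ _ _)
        (fun c m h1 h2 => sqR.hom_ext (by rw [h1, sqR.lift_fst]) (by rw [h2, sqR.lift_snd]))⟩⟩
    rw [← hφ] at sq'
    have sqO : IsPullback p q φ φ := IsPullback.of_map (yon S) ((yon S).map_injective (by
      rw [Functor.map_comp, Functor.map_comp]; exact sq'.w)) sq'
    have : Etale p.left := etale_left (repWith_of_isPullback sqR.flip ha)
    rw [← sqO.isoPullback_inv_fst, Over.comp_left]
    have : IsIso (sqO.isoPullback.inv).left := inferInstanceAs (IsIso ((Over.forget S).map _))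
    infer_instance
  -- translate into rings
  let A := Γ((V k).left, ⊤)
  let B := Γ(U.left, ⊤)
  algebraize [φ.left.appTop.hom]
  let α : Spec B ⟶ Spec A := Spec.map (CommRingCat.ofHom (algebraMap A B))
  have hα : φ.left = U.left.isoSpec.hom ≫ α ≫ (V k).left.isoSpec.inv := by
    rw [← Category.assoc]
    exact (Iso.eq_comp_inv _).2 (Scheme.isoSpec_hom_naturality φ.left).symm
  have : IsAffine U.left := hU
  have keyD : ∀ (D : Type u) [CommRing D] [Algebra A D],
      Function.Injective (Algebra.TensorProduct.includeRight : D →ₐ[A] B ⊗[A] D) := by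
    intro D _ _
    let β : Spec (CommRingCat.of D) ⟶ Spec A := Spec.map (CommRingCat.ofHom (algebraMap A D))
    let T : Over S := Over.mk ((β ≫ (V k).left.isoSpec.inv) ≫ (V k).hom)
    let τ : T ⟶ V k := Over.homMk (β ≫ (V k).left.isoSpec.inv) rfl
    rw [injective_iff_map_eq_zero]
    intro d hd
    have sq1 := isPullback_left ((IsPullback.of_hasPullback φ τ).map (yon S))
    have sq2 : IsPullback ((pullback.fst φ τ).left ≫ U.left.isoSpec.hom) (pullback.snd φ τ).left α β := by
      refine IsPullback.of_iso sq1 (Iso.refl _) U.left.isoSpec (Iso.refl _) (V k).left.isoSpec ?_ ?_ ?_ ?_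
      · simp
      · simp
      · simp [hα]
      · simp [τ]
    have e : (pullback.snd φ τ).left = (sq2.isoPullback ≪≫ pullbackSpecIso A B D).hom ≫
        Spec.map (CommRingCat.ofHom (R := D) (S := B ⊗[A] D)
          (Algebra.TensorProduct.includeRight : D →ₐ[A] B ⊗[A] D).toRingHom) := by
      refine sq2.isoPullback_hom_snd.symm.trans ?_
      rw [Iso.trans_hom, Category.assoc]
      congr 1
      exact (Iso.inv_comp_eq (pullbackSpecIso A B D)).1 (pullbackSpecIso_inv_snd A B D)
    have := key T τ ((Scheme.ΓSpecIso (CommRingCat.of D)).inv d) (by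
      rw [e, Scheme.Hom.comp_appTop, CommRingCat.comp_apply]
      rw [← CommRingCat.comp_apply (Scheme.ΓSpecIso (CommRingCat.of D)).inv, ← Scheme.ΓSpecIso_inv_naturality,
        CommRingCat.comp_apply]
      erw [hd]
      rw [map_zero, map_zero])
    have := congrArg (Scheme.ΓSpecIso (CommRingCat.of D)).hom this
    rwa [map_zero, ← CommRingCat.comp_apply, Iso.inv_hom_id] at this
  have hBB : Module.Flat B (B ⊗[A] B) := by
    have sq2 : IsPullback ((pullback.fst φ φ).left ≫ U.left.isoSpec.hom)
        ((pullback.snd φ φ).left ≫ U.left.isoSpec.hom) α α := by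
      refine IsPullback.of_iso (isPullback_left ((IsPullback.of_hasPullback φ φ).map (yon S)))
        (Iso.refl _) U.left.isoSpec U.left.isoSpec (V k).left.isoSpec ?_ ?_ ?_ ?_
      · simp
      · simp
      · simp [hα]
      · simp [hα]
    have e : Spec.map (CommRingCat.ofHom (Algebra.TensorProduct.includeLeftRingHom : B →+* B ⊗[A] B)) =
        ((pullbackSpecIso A B B).inv ≫ sq2.isoPullback.inv) ≫ (pullback.fst φ φ).left ≫ U.left.isoSpec.hom := by
      rw [Category.assoc, sq2.isoPullback_inv_fst]
      exact (pullbackSpecIso_inv_fst A B B).symm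
    have : Flat (Spec.map (CommRingCat.ofHom
        (Algebra.TensorProduct.includeLeftRingHom : B →+* B ⊗[A] B))) := by
      rw [e]; infer_instance
    have h2 := (Flat.SpecMap_iff).1 this
    exact RingHom.flat_algebraMap_iff.1 h2
  have hflat : Flat φ.left :=
    (HasRingHomProperty.iff_of_isAffine (P := @Flat)).2 (flat_of_pure keyD)
  refine ⟨locP_of_chart (P := @Flat) (b₀ := 𝟙 _) ha has (repWith_id _ _) (by rw [Category.comp_id, hφ]) hflat,
    fun y => ?_⟩
  obtain ⟨v, rfl⟩ := (Points.schemeHomeo (V k)).surjective y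
  let T : Over S := Over.mk ((V k).left.fromSpecResidueField v ≫ (V k).hom)
  let τ : T ⟶ V k := Over.homMk ((V k).left.fromSpecResidueField v) rfl
  by_cases hne : Nonempty ↥(pullback φ τ).left
  · obtain ⟨z⟩ := hne
    refine ⟨Points.map a (Points.schemeHomeo U ((pullback.fst φ τ).left z)), ?_⟩
    rw [← Points.map_comp, ← hφ, Points.map_yon_map_apply]
    congr 1
    rw [← Scheme.Hom.comp_apply, ← Over.comp_left, pullback.condition, Over.comp_left, Scheme.Hom.comp_apply]
    exact Scheme.fromSpecResidueField_apply _ _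
  · exfalso
    have : IsEmpty ↥(pullback φ τ).left := not_nonempty_iff.1 hne
    have h1 := key T τ 1 (Subsingleton.elim _ _)
    have : Nontrivial Γ(Spec ((V k).left.residueField v), ⊤) :=
      (Scheme.ΓSpecIso ((V k).left.residueField v)).commRingCatIsoToRingEquiv.toEquiv.nontrivial
    exact one_ne_zero (α := Γ(Spec ((V k).left.residueField v), ⊤)) h1

theorem isIso_of_qc_mono_of_injective {F G : Sp S} (hF : IsAlgSpace F) (hG : IsAlgSpace G)
    (f : F ⟶ G) [Mono f] (hqc : IsQuasiCompactMor f)
    (hinj : ∀ (T : Over S) (g : (yon S).obj T ⟶ G) (P : Sp S) (fst : P ⟶ F) (snd : P ⟶ (yon S).obj T),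
      IsPullback fst snd f g → ∀ s : Γ(T.left, ⊤),
        (∀ (W : Over S) (a : (yon S).obj W ⟶ P) (c : W ⟶ T),
          a ≫ snd = (yon S).map c → c.left.appTop s = 0) → s = 0) : IsIso f :=
  have h := flat_surjective_of_qc_mono_of_injective hF hG f hqc hinj
  isIso_of_flat_qc_surjective_mono hF hG f h.1 hqc h.2

end AlgSpLib
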