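import Groth.Agent.AlgSpLib.DecentPack
import Groth.Agent.AlgSpLib.MonoAux
import Mathlib.AlgebraicGeometry.Morphisms.Finite

/-!
# Reduced schemes mapping to a point; closed points; Jacobson spaces
-/

set_option autoImplicit false
set_option backward.isDefEq.respectTransparency false
set_option backward.isDefEq.respectTransparency.types false

universe u

open CategoryTheory CategoryTheory.Limits AlgebraicGeometry Opposite AlgSp Topology

namespace AlgSpLib

variable {S : Scheme.{u}}

/-- A morphism from a reduced scheme with image one point factors through its residue field. -/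
theorem exists_factor_residueField {T V : Scheme.{u}} [IsReduced T] (f : T ⟶ V) (v : V) (h : ∀ t, f t = v) :
    ∃ g : T ⟶ Spec (V.residueField v), g ≫ V.fromSpecResidueField v = f := by
  obtain ⟨O, hO, hv, -⟩ := exists_isAffineOpen_mem_and_subset (U := ⊤) (x := v) trivial
  let φ := f.appLE O ⊤ (fun t _ => show f t ∈ O from (h t).symm ▸ hv)
  have hunit : ∀ a : Γ(V, O), v ∈ V.basicOpen a → IsUnit (φ.hom a) := fun a ha => by
    refine T.toRingedSpace.isUnit_of_isUnit_germ ⊤ _ fun t _ => ?_
    have : t ∈ T.basicOpen (φ.hom a) := by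
      rw [Scheme.basicOpen_appLE]
      exact ⟨trivial, show f t ∈ V.basicOpen a from (h t).symm ▸ ha⟩
    exact (Scheme.mem_basicOpen T (φ.hom a) t (TopologicalSpace.Opens.mem_top t)).1 this
  have hzero : ∀ a : Γ(V, O), v ∉ V.basicOpen a → φ.hom a = 0 := fun a ha => by
    rw [← basicOpen_eq_bot_iff, eq_bot_iff]
    intro t ht
    rw [Scheme.basicOpen_appLE] at ht
    exact ha ((h t) ▸ ht.2)
  letI : Algebra Γ(V, O) (V.presheaf.stalk v) := V.presheaf.algebra_section_stalk ⟨v, hv⟩
  haveI := hO.isLocalization_stalk ⟨v, hv⟩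
  have hb : ∀ a : Γ(V, O), a ∈ (hO.primeIdealOf ⟨v, hv⟩).asIdeal.primeCompl → v ∈ V.basicOpen a := fun a ha => by
    rw [Scheme.mem_basicOpen _ _ v hv]
    exact IsLocalization.map_units (V.presheaf.stalk v) (⟨a, ha⟩ : (hO.primeIdealOf ⟨v, hv⟩).asIdeal.primeCompl)
  let ψ : V.presheaf.stalk v →+* Γ(T, ⊤) :=
    IsLocalization.lift (M := (hO.primeIdealOf ⟨v, hv⟩).asIdeal.primeCompl) (g := φ.hom)
      fun a => hunit a.1 (hb a.1 a.2)
  have hψ : ∀ x ∈ IsLocalRing.maximalIdeal (V.presheaf.stalk v), ψ x = 0 := fun x hx => by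
    obtain ⟨a, s, rfl⟩ := IsLocalization.exists_mk'_eq (hO.primeIdealOf ⟨v, hv⟩).asIdeal.primeCompl x
    rw [IsLocalization.lift_mk'_spec, mul_zero]
    refine hzero a fun ha => ?_
    rw [Scheme.mem_basicOpen _ _ v hv] at ha
    refine hx ?_
    rw [IsLocalization.mk'_eq_mul_mk'_one]
    exact ha.mul (IsUnit.of_mul_eq_one _ (by rw [IsLocalization.mk'_spec, map_one]))
  let ψ' : V.residueField v →+* Γ(T, ⊤) := Ideal.Quotient.lift _ ψ hψ
  refine ⟨T.toSpecΓ ≫ Spec.map (CommRingCat.ofHom ψ'), ?_⟩
  have e : V.presheaf.germ O v hv ≫ V.residue v ≫ CommRingCat.ofHom ψ' = φ := by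
    refine CommRingCat.hom_ext (RingHom.ext fun a => ?_)
    exact IsLocalization.lift_eq _ a
  rw [Category.assoc, Scheme.fromSpecResidueField, ← Spec.map_comp_assoc,
    ← hO.fromSpecStalk_eq_fromSpecStalk hv, IsAffineOpen.fromSpecStalk, ← Spec.map_comp_assoc, e]
  let f' := IsOpenImmersion.lift O.ι f (by
    rw [Scheme.Opens.range_ι]; rintro _ ⟨t, rfl⟩; exact (h t).symm ▸ hv)
  have hf' : f' ≫ O.ι = f := IsOpenImmersion.lift_fac _ _ _
  have hφ : φ = O.topIso.inv ≫ f'.appTop := by
    simp only [φ, Scheme.Hom.appLE, Scheme.Hom.congr_app hf'.symm O, Scheme.Hom.comp_app, Scheme.Opens.ι_app]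
    simp [Scheme.Hom.appTop, Scheme.Hom.app_eq_appLE, ← Functor.map_comp, Scheme.Hom.map_appLE, Scheme.Hom.appLE_map]
    rw [← Scheme.Hom.map_appLE f' _ (homOfLE (le_top : O.ι ⁻¹ᵁ O ≤ ⊤)).op, Scheme.Opens.toScheme_presheaf_map, ← Functor.map_comp_assoc]
    rfl
  rw [hφ, Spec.map_comp, Category.assoc, ← Scheme.toSpecΓ_naturality_assoc]
  conv_rhs => rw [← hf', ← hO.toSpecΓ_fromSpec, Scheme.Opens.toSpecΓ, Category.assoc]

/-- Finite fibres of decent spaces are isolated. -/
lemma exists_isolating_open {X : Sp S} (hX : IsAlgSpace X) (hd : IsDecent X) {x : Points X} {V : Over S}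
    {b : (yon S).obj V ⟶ X} (hb : RepWith @Etale b) {v : V.left} (hv : Points.ofPt b v = x) :
    ∃ O : V.left.Opens, v ∈ O ∧ ∀ v' ∈ O, Points.ofPt b v' = x → v' = v := by
  have hfin : ∀ (V' : Over S) (b' : (yon S).obj V' ⟶ X), IsAffine V'.left → RepWith @Etale b' →
      (Points.ofPt b' ⁻¹' {x}).Finite := fun V' b' hV' hb' => by
    obtain ⟨p, rfl, -, hq⟩ := hd x
    haveI := hV'
    exact finite_fibre_of_qc_point hq hb'
  obtain ⟨V', j, v₀, hV', rfl, hj, hb'⟩ := exists_affine_subchart hb v
  let F := Points.ofPt ((yon S).map j ≫ b) ⁻¹' {x}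
  have hF : ((F \ {v₀}) : Set V'.left).Finite := (hfin V' _ hV' hb').subset Set.sdiff_subset
  let Z := ⋃ w ∈ F \ {v₀}, closure ({w} : Set V'.left)
  have hZ : IsClosed Z := hF.isClosed_biUnion fun _ _ => isClosed_closure
  let O' : V'.left.Opens := ⟨Zᶜ, hZ.isOpen_compl⟩
  haveI := hj
  refine ⟨j.left ''ᵁ O', ⟨v₀, fun hm => ?_, rfl⟩, ?_⟩
  · obtain ⟨w, ⟨hw, hwne⟩, hcl⟩ := Set.mem_iUnion₂.1 hm
    exact hwne (eq_of_specializes_of_finite hX hfin hb' ((ofPt_yon_comp j b v₀).trans hv) hw
      (specializes_iff_mem_closure.2 hcl)).symm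
  · rintro _ ⟨w, hw, rfl⟩ hwx
    by_contra hne
    exact hw (Set.mem_iUnion₂.2 ⟨w, ⟨(ofPt_yon_comp j b w).trans hwx, fun e => hne (congrArg j.left e)⟩,
      subset_closure rfl⟩)

/-- A quasi-compact monomorphism has a section over the residue field of any point of its image. -/
lemma exists_section_residueField {W V : Scheme.{u}} (k : W ⟶ V) [Mono k] [QuasiCompact k] (w : W) :
    ∃ d : Spec (V.residueField (k w)) ⟶ W, d ≫ k = V.fromSpecResidueField (k w) := by
  let f := V.fromSpecResidueField (k w)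
  haveI : Subsingleton (Spec (V.residueField (k w))) := inferInstanceAs (Subsingleton (PrimeSpectrum _))
  haveI : Finite (Spec (V.residueField (k w))) := Finite.of_subsingleton
  haveI : DiscreteTopology (Spec (V.residueField (k w))) := inferInstance
  haveI : IsReduced (Spec (V.residueField (k w))) := inferInstance
  haveI : Surjective (pullback.snd k f) := ⟨fun y => by
    obtain ⟨z, -, hz⟩ := Scheme.exists_preimage_of_isPullback (IsPullback.of_hasPullback k f) w y
      (V.fromSpecResidueField_apply (k w) y).symm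
    exact ⟨z, hz⟩⟩
  haveI : IsIso (pullback.snd k f) := isIso_of_mono_surjective_discrete _
  exact ⟨inv (pullback.snd k f) ≫ pullback.fst k f, by
    rw [Category.assoc, pullback.condition, IsIso.inv_hom_id_assoc]⟩

/-- A quasi-compact monomorphism from a discrete reduced scheme onto isolated points is a preimmersion. -/
lemma isPreimmersion_of_mono_discrete {W V : Scheme.{u}} (k : W ⟶ V) [Mono k] [QuasiCompact k]
    [DiscreteTopology W] [IsReduced W] (h : ∀ w, ∃ O : V.Opens, k w ∈ O ∧ ∀ w', k w' ∈ O → k w' = k w) :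
    IsPreimmersion k := by
  have hinj : Function.Injective k := k.injective
  haveI : SurjectiveOnStalks k := by
    refine IsZariskiLocalAtSource.of_iSup_eq_top (P := @SurjectiveOnStalks)
      (fun w : W => (⟨{w}, isOpen_discrete _⟩ : W.Opens))
      (TopologicalSpace.Opens.ext (Set.eq_univ_of_forall fun w => by
        rw [TopologicalSpace.Opens.coe_iSup]; exact Set.mem_iUnion.2 ⟨w, rfl⟩)) fun w => ?_
    let O : W.Opens := ⟨{w}, isOpen_discrete _⟩
    change SurjectiveOnStalks (O.ι ≫ k)
    obtain ⟨d, hd⟩ := exists_section_residueField k w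
    obtain ⟨g, hg⟩ := exists_factor_residueField (O.ι ≫ k) (k w) (fun t => by
      rw [Scheme.Hom.comp_apply]; exact congrArg k t.2)
    let d' := IsOpenImmersion.lift O.ι d (by
      rw [Scheme.Opens.range_ι]
      rintro _ ⟨y, rfl⟩
      exact hinj ((Scheme.Hom.comp_apply d k y).symm.trans (by rw [hd]; exact V.fromSpecResidueField_apply _ y)))
    have hd' : d' ≫ O.ι = d := IsOpenImmersion.lift_fac _ _ _
    haveI : IsIso g := ⟨d', (cancel_mono (O.ι ≫ k)).1 (by
      rw [Category.assoc, reassoc_of% hd', hd, hg, Category.id_comp]),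
      (cancel_mono (V.fromSpecResidueField (k w))).1 (by
        rw [Category.assoc, hg, reassoc_of% hd', hd, Category.id_comp])⟩
    rw [← hg]
    infer_instance
  refine ⟨⟨⟨?_⟩, hinj⟩⟩
  refine le_antisymm k.continuous.le_induced ?_
  intro s _
  have : s = k ⁻¹' ⋃ w ∈ s, ((h w).choose : Set V) := by
    ext w
    simp only [Set.mem_preimage, Set.mem_iUnion, SetLike.mem_coe]
    exact ⟨fun hw => ⟨w, hw, (h w).choose_spec.1⟩, fun ⟨w', hw', hmem⟩ =>
      hinj ((h w').choose_spec.2 w hmem) ▸ hw'⟩
  exact ⟨_, isOpen_biUnion fun w _ => (h w).choose.isOpen, this.symm⟩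

/-- Closed points of decent spaces are closed immersions of spectra of fields. -/
theorem exists_closedImmersion_point {X : Sp S} (hX : IsAlgSpace X) (hd : IsDecent X) {x : Points X}
    (hx : IsClosed ({x} : Set (Points X))) :
    ∃ p : FieldPt X, Points.mk p = x ∧ RepWith @IsClosedImmersion p.toHom := by
  obtain ⟨p, rfl, hm, hq⟩ := hd x
  refine ⟨p, rfl, ?_⟩
  obtain ⟨U, a, ha, has⟩ := hX.atlas
  obtain ⟨W, fK, fU, sq⟩ := exists_isPullback_yon p.toHom a hq.rep
  haveI : Etale fK.left := etale_left (repWith_of_isPullback sq.flip ha)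
  haveI : LocallyQuasiFinite fK.left := locallyQuasiFinite_of_etale fK.left
  haveI : IsLocallyArtinian W.left := .of_locallyQuasiFinite fK.left
  haveI : IsReduced W.left :=
    haveI : IsReduced p.pt.left := inferInstanceAs (IsReduced (Spec (CommRingCat.of p.K)))
    isReduced_of_smooth fK.left
  haveI := hm
  haveI : Mono ((yon S).map fU) :=
    MorphismProperty.of_isPullback (P := MorphismProperty.monomorphisms _) sq (inferInstanceAs (Mono p.toHom))
  haveI : Mono fU.left := mono_left_of_mono
  haveI : QuasiCompact fU.left :=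
    (repWith_yon_map_iff (P := (@QuasiCompact : MorphismProperty Scheme.{u})) fU).1 (repWith_of_isPullback sq hq)
  have hr : Set.range fU.left = Points.ofPt a ⁻¹' {Points.mk p} := (preimage_mk_eq_range sq.flip).symm
  haveI : IsPreimmersion fU.left := isPreimmersion_of_mono_discrete fU.left fun w => by
    obtain ⟨O, hO, huniq⟩ := exists_isolating_open hX hd ha
      (v := fU.left w) (x := Points.mk p) (hr ▸ ⟨w, rfl⟩ : fU.left w ∈ Points.ofPt a ⁻¹' {Points.mk p})
    exact ⟨O, hO, fun w' hw' => huniq _ hw' (hr ▸ ⟨w', rfl⟩ : fU.left w' ∈ Points.ofPt a ⁻¹' {Points.mk p})⟩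
  haveI : IsClosedImmersion fU.left :=
    .of_isPreimmersion _ (by rw [hr]; exact hx.preimage (Points.continuous_ofPt a))
  exact repWith_of_etale_cover (P := (@IsClosedImmersion : MorphismProperty Scheme.{u}))
    (fun _ _ g (_ : IsClosedImmersion g) => (inferInstance : IsAffineHom g)) ha has sq
    ((repWith_yon_map_iff (P := (@IsClosedImmersion : MorphismProperty Scheme.{u})) fU).2 inferInstance)

/-- Morphisms from reduced spaces with image one point factor through a decent representative of it. -/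
theorem exists_factor_point {X Y : Sp S} (hX : IsAlgSpace X) (hY : IsAlgSpace Y) {f : Y ⟶ X} {x : Points X}
    {p : FieldPt X} (hp : Points.mk p = x) (hm : Mono p.toHom) (hq : RepWith @QuasiCompact p.toHom)
    (hr : EtaleLocally (fun U => IsReduced U) Y) (hf : ∀ y, Points.map f y = x) :
    ∃ g : Y ⟶ (yon S).obj p.pt, g ≫ p.toHom = f := by
  subst hp
  haveI := hm
  obtain ⟨V, b, hb, hbs⟩ := hX.atlas
  obtain ⟨U, a, h, ha, has, hab⟩ := exists_chart_over hY hX f b hb hbs
  haveI : IsReduced U.left := isReduced_of_chart hr ha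
  obtain ⟨W, wK, wV, sq⟩ := exists_isPullback_yon p.toHom b hq.rep
  haveI : Mono ((yon S).map wV) :=
    MorphismProperty.of_isPullback (P := MorphismProperty.monomorphisms _) sq (inferInstanceAs (Mono p.toHom))
  haveI : Mono wV.left := mono_left_of_mono
  haveI : QuasiCompact wV.left :=
    (repWith_yon_map_iff (P := (@QuasiCompact : MorphismProperty Scheme.{u})) wV).1 (repWith_of_isPullback sq hq)
  have himg : ∀ u, h.left u ∈ Points.ofPt b ⁻¹' {Points.mk p} := fun u => by
    rw [Set.mem_preimage, ← ofPt_yon_comp, ← hab, ← Points.map_ofPt]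
    exact hf _
  have hfin : ∀ (V' : Over S) (b' : (yon S).obj V' ⟶ X), IsAffine V'.left → RepWith @Etale b' →
      (Points.ofPt b' ⁻¹' {Points.mk p}).Finite := fun V' b' hV' hb' => by
    haveI := hV'
    exact finite_fibre_of_qc_point hq hb'
  have hloc : ∀ u : U.left, ∃ (O : U.left.Opens) (g : O.toScheme ⟶ W.left),
      u ∈ O ∧ g ≫ wV.left = O.ι ≫ h.left := fun u => by
    obtain ⟨V', j, v', hV', hv', hj, hb'⟩ := exists_affine_subchart hb (h.left u)
    haveI := hj
    haveI := hV'
    let F := Points.ofPt ((yon S).map j ≫ b) ⁻¹' {Points.mk p}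
    let Z := ⋃ w ∈ F \ {v'}, closure ({w} : Set V'.left)
    have hv'F : v' ∈ F := by
      rw [Set.mem_preimage, ofPt_yon_comp, hv']; exact himg u
    have hZ : IsClosed Z :=
      ((hfin V' _ hV' hb').subset Set.sdiff_subset).isClosed_biUnion fun _ _ => isClosed_closure
    let O : U.left.Opens := h.left ⁻¹ᵁ (j.left ''ᵁ ⟨Zᶜ, hZ.isOpen_compl⟩)
    have hO : ∀ t : O, h.left t.1 = h.left u := fun t => by
      obtain ⟨z, hz, hzt⟩ := t.2
      rw [← hzt, ← hv']
      refine congrArg _ ?_
      by_contra hne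
      exact hz (Set.mem_iUnion₂.2 ⟨z, ⟨(ofPt_yon_comp j b z).trans ((congrArg (Points.ofPt b) hzt).trans (himg t.1)), hne⟩,
        subset_closure rfl⟩)
    obtain ⟨w, -, hw⟩ := (ofPt_eq_ofPt_iff sq (IsLocalRing.closedPoint p.K) (h.left u)).1
      ((Points.ofPt_toHom p _).trans (himg u).symm)
    obtain ⟨d, hd⟩ := exists_section_residueField wV.left w
    obtain ⟨g, hg⟩ := exists_factor_residueField (O.ι ≫ h.left) (wV.left w) (fun t => by
      rw [Scheme.Hom.comp_apply, hw]; exact hO t)
    refine ⟨O, g ≫ d, ⟨v', fun hm => ?_, hv'⟩, by rw [Category.assoc, hd, hg]⟩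
    obtain ⟨z, ⟨hz, hzne⟩, hcl⟩ := Set.mem_iUnion₂.1 hm
    exact hzne (eq_of_specializes_of_finite hX hfin hb' hv'F hz (specializes_iff_mem_closure.2 hcl)).symm
  choose O g hO hg using hloc
  let 𝒰 := U.left.openCoverOfIsOpenCover O (TopologicalSpace.IsOpenCover.mk (TopologicalSpace.Opens.ext
    (Set.eq_univ_of_forall fun u => by
      rw [TopologicalSpace.Opens.coe_iSup]; exact Set.mem_iUnion.2 ⟨u, hO u⟩)))
  let G := 𝒰.glueMorphisms g fun i k => (cancel_mono wV.left).1 (by
    simp only [Category.assoc, hg]; exact pullback.condition_assoc _)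
  have hG : G ≫ wV.left = h.left := 𝒰.hom_ext _ _ fun i => by
    rw [← Category.assoc, 𝒰.ι_glueMorphisms]; exact hg i
  let G' : U ⟶ W := Over.homMk G (by
    change G ≫ W.hom = U.hom
    rw [← Over.w wV, ← Category.assoc, hG, Over.w h])
  haveI : Sheaf.IsLocallySurjective a := isLocallySurjective_of_repWith
    (repWith_mono (fun _ _ q (_ : Etale q) => (inferInstance : Flat q)) ha)
    (repWith_mono (fun _ _ q (_ : Etale q) => (inferInstance : LocallyOfFinitePresentation q)) ha) has
  have hG' : G' ≫ wV = h := Over.OverMorphism.ext hG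
  have key : (yon S).map (G' ≫ wK) ≫ p.toHom = a ≫ f := by
    rw [Functor.map_comp, Category.assoc, sq.w, ← Functor.map_comp_assoc, hG', hab]
  obtain ⟨r, hr'⟩ := exists_desc a ((yon S).map (G' ≫ wK)) fun T c c' e => (cancel_mono p.toHom).1 (by
    rw [Category.assoc, Category.assoc, key, reassoc_of% e])
  exact ⟨r, (cancel_epi a).1 (by rw [← Category.assoc, hr', key])⟩

/-- A point of a decent space defined by a field integral over a closed point of the base is closed. -/
theorem isClosed_singleton_of_integral {X : Sp S} (hX : IsAlgSpace X) (hd : IsDecent X) {K : Over S}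
    [IsLocallyArtinian K.left] [IsIntegralHom K.hom] {p : (yon S).obj K ⟶ X} (t : K.left) :
    IsClosed ({Points.ofPt p t} : Set (Points X)) := by
  obtain ⟨ι, Us, as, hUs, has, -, hcov⟩ := exists_affine_charts hX
  let x := Points.ofPt p t
  have hfin : ∀ i, (Points.ofPt (as i) ⁻¹' {x}).Finite := fun i => by
    obtain ⟨q, hq, -, hqc⟩ := hd x
    haveI := hUs i
    rw [← hq]
    exact finite_fibre_of_qc_point hqc (has i)
  have hcl : ∀ i, IsClosed (Points.ofPt (as i) ⁻¹' {x}) := fun i => by
    refine (hfin i).isClosed_biUnion (f := fun v => ({v} : Set (Us i).left)) (fun v hv => ?_) |> fun h => by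
      rwa [Set.biUnion_of_singleton] at h
    haveI := hUs i
    obtain ⟨W, wK, wV, sq⟩ := exists_isPullback_yon p (as i) (hX.representable_from_yon p)
    obtain ⟨w, -, hw⟩ := (ofPt_eq_ofPt_iff sq t v).1 (Eq.symm hv)
    haveI : Etale wK.left := etale_left (repWith_of_isPullback sq.flip (has i))
    haveI : LocallyQuasiFinite wK.left := locallyQuasiFinite_of_etale _
    let Kw := Spec (W.left.residueField w)
    haveI : Subsingleton Kw := inferInstanceAs (Subsingleton (PrimeSpectrum (W.left.residueField w)))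
    haveI : Finite Kw := Finite.of_subsingleton
    haveI : IsLocallyArtinian W.left := .of_locallyQuasiFinite wK.left
    haveI : IsClosedImmersion (W.left.fromSpecResidueField w) :=
      .of_isPreimmersion _ (by rw [W.left.range_fromSpecResidueField]; exact isClosed_discrete _)
    let h := W.left.fromSpecResidueField w ≫ wK.left
    haveI : LocallyQuasiFinite h := inferInstanceAs (LocallyQuasiFinite (_ ≫ _))
    haveI : QuasiCompact h := quasiCompact_of_finite _
    haveI : IsFinite h := IsFinite.of_locallyQuasiFinite h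
    let g := W.left.fromSpecResidueField w ≫ wV.left
    haveI : IsSeparated (Us i).hom := IsSeparated.of_comp _ (terminal.from S)
    haveI : UniversallyClosed (g ≫ (Us i).hom) := by
      have : g ≫ (Us i).hom = h ≫ K.hom := by
        simp only [g, h, Category.assoc, Over.w wV, Over.w wK]
      rw [this]; infer_instance
    haveI : UniversallyClosed g := .of_comp_of_isSeparated g (Us i).hom
    have hrg : Set.range g = {v} := by
      simp only [g, Scheme.Hom.comp_base, TopCat.coe_comp, Set.range_comp, W.left.range_fromSpecResidueField,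
        Set.image_singleton, hw]
    rw [← hrg]
    exact g.isClosedMap.isClosed_range
  refine isOpen_compl_iff.1 (isOpen_iff_forall_mem_open.2 fun y hy => ?_)
  obtain ⟨i, hi⟩ := hcov y
  rw [← range_ofPt] at hi
  obtain ⟨v, rfl⟩ := hi
  refine ⟨Points.ofPt (as i) '' (Points.ofPt (as i) ⁻¹' {x})ᶜ, ?_,
    isOpenMap_ofPt (has i) _ (hcl i).isOpen_compl, ⟨v, hy, rfl⟩⟩
  rintro _ ⟨z, hz, rfl⟩
  exact hz

/-- Jacobson schemes descend along etale surjections. -/
theorem jacobsonSpace_of_etale_surjective {A B : Scheme.{u}} (g : A ⟶ B) [Etale g] [Surjective g]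
    [JacobsonSpace A] : JacobsonSpace B := by
  refine jacobsonSpace_iff_locallyClosed.2 fun Z hZ hZl => ?_
  obtain ⟨b, hb⟩ := hZ
  obtain ⟨a₀, rfl⟩ := g.surjective b
  obtain ⟨a, ha, hac⟩ := nonempty_inter_closedPoints (Z := g ⁻¹' Z) ⟨a₀, hb⟩ (hZl.preimage g.continuous)
  refine ⟨g a, ha, ?_⟩
  rw [mem_closedPoints_iff]
  have hpre : IsClosed (g ⁻¹' {g a}) → IsClosed ({g a} : Set B) := fun h => by
    have := g.isOpenMap _ h.isOpen_compl
    rw [← Set.preimage_compl, Set.image_preimage_eq _ g.surjective] at this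
    exact isOpen_compl_iff.1 this
  have hclosed : ∀ p ∈ g ⁻¹' {g a}, IsClosed ({p} : Set A) := fun p hp => by
    obtain ⟨r, h1, h2⟩ := Scheme.exists_preimage_of_isPullback (IsPullback.of_hasPullback g g) p a hp
    haveI : JacobsonSpace ↥(pullback g g) := LocallyOfFiniteType.jacobsonSpace (pullback.fst g g)
    haveI : LocallyQuasiFinite (pullback.snd g g) := locallyQuasiFinite_of_etale _
    have hr : IsClosed ({r} : Set ↥(pullback g g)) := by
      have hF : IsClosed ((pullback.snd g g) ⁻¹' {a}) := IsClosed.preimage (pullback.snd g g).continuous hac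
      haveI := isDiscrete_iff_discreteTopology.1 ((pullback.snd g g).isDiscrete_preimage_singleton a)
      obtain ⟨U, hU, hU'⟩ := isOpen_induced_iff.1 (isOpen_discrete ({⟨r, h2⟩} : Set ↥((pullback.snd g g) ⁻¹' {a})))
      have hUr : U ∩ (pullback.snd g g) ⁻¹' {a} = {r} := by
        ext z
        refine ⟨fun ⟨hz, hz'⟩ => congrArg Subtype.val ((Set.ext_iff.1 hU' ⟨z, hz'⟩).1 hz : (⟨z, hz'⟩ : ↥((pullback.snd g g) ⁻¹' {a})) = ⟨r, h2⟩), ?_⟩
        rintro rfl
        exact ⟨(Set.ext_iff.1 hU' ⟨z, h2⟩).2 rfl, h2⟩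
      refine isClosed_singleton_of_isLocallyClosed_singleton ?_
      rw [← hUr]; exact hU.isLocallyClosed.inter hF.isLocallyClosed
    rw [← h1]
    exact (pullback.fst g g).closePoints_subset_preimage_closedPoints hr
  refine isClosed_of_closure_subset fun w hw => ?_
  have hs : g a ⤳ w := specializes_iff_mem_closure.2 hw
  obtain ⟨p, rfl⟩ := g.surjective w
  obtain ⟨q, hq, hqa⟩ := Flat.generalizingMap (f := g) hs
  exact ((hq.mem_closed (hclosed q hqa) rfl : p = q) ▸ hqa : g p = g a)

theorem exists_mono_of_representable {X Y : Sp S} {f : X ⟶ Y} (hf : Representable f) {q : FieldPt Y}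
    (hq : Mono q.toHom) {x : Points X} (hx : Points.mk q = Points.map f x) :
    ∃ p : FieldPt X, Points.mk p = x ∧ Mono p.toHom := by
  haveI := hq
  have sq := hf.isPullback q.toHom
  obtain ⟨z, hz, -⟩ := exists_point_isPullback sq x (Points.schemeHomeo q.pt (IsLocalRing.closedPoint q.K)) (by
    rw [← hx, ← Points.ofPt_toHom q (IsLocalRing.closedPoint q.K)]
    exact congrFun (ofPt_comp_ofScheme q.toHom) _)
  obtain ⟨w, rfl⟩ := (Points.schemeHomeo _).surjective z
  haveI : Mono (hf.fst q.toHom) :=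
    MorphismProperty.of_isPullback (P := MorphismProperty.monomorphisms _) sq.flip (inferInstanceAs (Mono q.toHom))
  refine ⟨FieldPt.ofPt (hf.fst q.toHom) w, ?_, ?_⟩
  · exact (Points.ofPt_eq_map_ofScheme _ w).trans hz
  · rw [FieldPt.toHom_ofPt]
    let j : Over.mk ((hf.pullback q.toHom).left.fromSpecResidueField w ≫ (hf.pullback q.toHom).hom) ⟶
        hf.pullback q.toHom := Over.homMk ((hf.pullback q.toHom).left.fromSpecResidueField w) rfl
    haveI : Mono j := (Over.forget S).mono_of_mono_map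
      (inferInstanceAs (Mono ((hf.pullback q.toHom).left.fromSpecResidueField w)))
    exact @mono_comp _ _ _ _ _ _ ((yon S).map_mono j) _ inferInstance

/-- A monomorphism into a discrete scheme has representable source. -/
theorem isRepSh_of_mono_discrete {X : Sp S} (hX : IsAlgSpace X) {Y : Over S} [DiscreteTopology Y.left]
    (f : X ⟶ (yon S).obj Y) [Mono f] : IsRepSh X := by
  have hd : IsDecent X := isDecent_of_isQuasiSeparatedMor hX (g := f) (repWith_of_isIso _)
  haveI : DiscreteTopology (Points X) :=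
    haveI : DiscreteTopology (Points ((yon S).obj Y)) := (Points.schemeHomeo Y).symm.isEmbedding.discreteTopology
    DiscreteTopology.of_continuous_injective (Points.continuous_map f) (injective_map_of_mono f)
  have hsingle : ∀ x : Points X, ∃ (W : Over S) (c : (yon S).obj W ⟶ X),
      RepWith @IsOpenImmersion c ∧ x ∈ Set.range (Points.ofPt c) := fun x => by
    have ho : IsOpen ({x} : Set (Points X)) := isOpen_discrete _
    have hι := repWith_openSubι X ho
    have hO := isAlgSpace_openSub hX ho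
    haveI := mono_openSubι X ({x} : Set (Points X))
    have hrg := range_openSubι X (W := ({x} : Set (Points X)))
    haveI : Subsingleton (Points (openSub X {x})) := ⟨fun a b => injective_map_of_mono (openSubι X {x})
      (((Set.ext_iff.1 hrg _).1 ⟨a, rfl⟩ : _ ∈ ({x} : Set (Points X))).trans
        ((Set.ext_iff.1 hrg _).1 ⟨b, rfl⟩ : _ ∈ ({x} : Set (Points X))).symm)⟩
    obtain ⟨z, hz⟩ := (Set.ext_iff.1 hrg x).2 rfl
    haveI : Nonempty (Points (openSub X {x})) := ⟨z⟩
    obtain ⟨W, ⟨e⟩⟩ := isRepSh_of_onePoint hO (isDecent_of_representable _ hι.rep hd)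
    refine ⟨W, e.hom ≫ openSubι X _, MorphismProperty.RespectsIso.precomp _ _ _ hι, ?_⟩
    rw [range_ofPt]
    exact ⟨Points.map e.inv z, by rw [← Points.map_comp, e.inv_hom_id_assoc, hz]⟩
  obtain ⟨U, a, -, has⟩ := hX.atlas
  choose W c hc hmem using fun u : U.left => hsingle (Points.ofPt a u)
  refine isRepSh_of_openCover c hc fun R b r => ?_
  obtain ⟨u, hu⟩ := surjective_ofPt has (Points.ofPt b r)
  obtain ⟨s, hs⟩ := hmem u
  obtain ⟨w, -, hw⟩ := (ofPt_eq_ofPt_iff ((hc _).rep.isPullback' b) s r).1 (hs.trans hu)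
  exact ⟨_, w, hw⟩

theorem jacobson_of_lft {X Y : Sp S} (hX : IsAlgSpace X) (hY : IsAlgSpace Y)
    (hj : EtaleLocally (fun U => JacobsonSpace U) X) {f : Y ⟶ X} (hf : LocP @LocallyOfFiniteType f) :
    EtaleLocally (fun U => JacobsonSpace U) Y := by
  obtain ⟨V, b, hb, hbs, hV⟩ := hj
  obtain ⟨U, a, h, ha, has, hab⟩ := exists_chart_over hY hX f b hb hbs
  haveI : JacobsonSpace V.left := hV
  haveI : LocallyOfFiniteType h.left := hf a b h ha hb hab
  exact ⟨U, a, ha, has, LocallyOfFiniteType.jacobsonSpace h.left⟩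

theorem jacobsonSpace_of_chart {X : Sp S} (hX : EtaleLocally (fun U => JacobsonSpace U) X) {U : Over S}
    {a : (yon S).obj U ⟶ X} (ha : RepWith @Etale a) : JacobsonSpace U.left := by
  obtain ⟨V, b, hb, hbs, hV⟩ := hX
  obtain ⟨W, q, r, sq⟩ := exists_isPullback_yon b a hb.rep
  haveI := etale_left (repWith_of_isPullback sq hb)
  haveI := surjective_left (repWith_of_isPullback sq hbs)
  haveI := etale_left (repWith_of_isPullback sq.flip ha)
  haveI : JacobsonSpace V.left := hV
  haveI : JacobsonSpace W.left := LocallyOfFiniteType.jacobsonSpace q.left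
  exact jacobsonSpace_of_etale_surjective r.left

theorem closed_point_iff {X : Sp S} (hd : IsDecent X) (hX : IsAlgSpace X)
    (hj : EtaleLocally (fun U => JacobsonSpace U) X) (x : Points X) :
    HasAt (fun U u => IsClosed ({u} : Set U)) X x ↔ IsClosed ({x} : Set (Points X)) := by
  constructor
  · rintro ⟨U, a, u, ha, rfl, hu⟩
    obtain ⟨ι, Us, as, hUs, has, -, hcov⟩ := exists_affine_charts hX
    refine isOpen_compl_iff.1 (isOpen_iff_forall_mem_open.2 fun y hy => ?_)
    obtain ⟨i, hi⟩ := hcov y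
    rw [← range_ofPt] at hi
    obtain ⟨v, rfl⟩ := hi
    haveI := hUs i
    let F := Points.ofPt (as i) ⁻¹' {Points.ofPt a u}
    have hfin : F.Finite := by
      obtain ⟨q, hq, -, hqc⟩ := hd (Points.ofPt a u)
      simp only [F, ← hq]
      exact finite_fibre_of_qc_point hqc (has i)
    have hpt : ∀ z ∈ F, IsClosed ({z} : Set (Us i).left) := fun z hz => by
      obtain ⟨W, p, q, sq⟩ := exists_isPullback_yon a (as i) ha.rep
      obtain ⟨w, hwp, hwq⟩ := (ofPt_eq_ofPt_iff sq u z).1 (Eq.symm hz)
      haveI : Etale p.left := etale_left (repWith_of_isPullback sq.flip (has i))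
      haveI : Etale q.left := etale_left (repWith_of_isPullback sq ha)
      haveI : LocallyQuasiFinite p.left := locallyQuasiFinite_of_etale _
      haveI : JacobsonSpace (Us i).left := jacobsonSpace_of_chart hj (has i)
      haveI : JacobsonSpace W.left := LocallyOfFiniteType.jacobsonSpace q.left
      haveI := isDiscrete_iff_discreteTopology.1 (p.left.isDiscrete_preimage_singleton u)
      obtain ⟨O, hO, hO'⟩ := isOpen_induced_iff.1 (isOpen_discrete ({⟨w, hwp⟩} : Set ↥(p.left ⁻¹' {u})))
      have hw : IsClosed ({w} : Set W.left) := by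
        refine isClosed_singleton_of_isLocallyClosed_singleton ?_
        have e : O ∩ p.left ⁻¹' {u} = {w} := by
          ext z'
          refine ⟨fun ⟨h, h'⟩ => congrArg Subtype.val ((Set.ext_iff.1 hO' ⟨z', h'⟩).1 h : (⟨z', h'⟩ : ↥(p.left ⁻¹' {u})) = ⟨w, hwp⟩), ?_⟩
          rintro rfl
          exact ⟨(Set.ext_iff.1 hO' ⟨z', hwp⟩).2 rfl, hwp⟩
        rw [← e]
        exact hO.isLocallyClosed.inter (hu.preimage p.left.continuous).isLocallyClosed
      rw [← hwq]
      exact q.left.closePoints_subset_preimage_closedPoints hw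
    have hF : IsClosed F := by
      rw [← Set.biUnion_of_singleton F]; exact hfin.isClosed_biUnion hpt
    refine ⟨Points.ofPt (as i) '' Fᶜ, ?_, isOpenMap_ofPt (has i) _ hF.isOpen_compl, ⟨v, hy, rfl⟩⟩
    rintro _ ⟨z, hz, rfl⟩
    exact hz
  · intro hx
    obtain ⟨V, b, hb, hbs, hV⟩ := hj
    haveI : JacobsonSpace V.left := hV
    obtain ⟨v, hv⟩ := surjective_ofPt hbs x
    obtain ⟨v', hv', hc⟩ := nonempty_inter_closedPoints (Z := Points.ofPt b ⁻¹' {x}) ⟨v, hv⟩
      (hx.preimage (Points.continuous_ofPt b)).isLocallyClosed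
    exact ⟨V, b, v', hb, hv', hc⟩

/-- Points of finite type lift to closed points. -/
theorem exists_closed_lift {X : Sp S} (hX : IsAlgSpace X) (hj : EtaleLocally (fun U => JacobsonSpace U) X)
    {x : Points X} (hx : HasAt (fun U u => IsClosed ({u} : Set U)) X x) {W : Over S}
    (g : (yon S).obj W ⟶ X) (hg : LocP @LocallyOfFiniteType g) (hxW : x ∈ Set.range (Points.ofPt g)) :
    ∃ w : W.left, IsClosed ({w} : Set W.left) ∧ Points.ofPt g w = x := by
  obtain ⟨U, a, u, ha, rfl, hu⟩ := hx
  obtain ⟨w₀, hw₀⟩ := hxW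
  have hrep := hX.representable_from_yon g
  obtain ⟨P, pW, pU, sq⟩ := exists_isPullback_yon g a hrep
  haveI : JacobsonSpace U.left := jacobsonSpace_of_chart hj ha
  haveI : LocallyOfFiniteType pU.left :=
    (repWith_yon_map_iff (P := (@LocallyOfFiniteType : MorphismProperty Scheme.{u})) pU).1
      (repWith_of_isPullback sq (repWith_of_locP hX hrep hg))
  haveI : JacobsonSpace P.left := LocallyOfFiniteType.jacobsonSpace pU.left
  obtain ⟨z₀, -, hz₀⟩ := (ofPt_eq_ofPt_iff sq w₀ u).1 hw₀
  obtain ⟨z, hz, hzc⟩ := nonempty_inter_closedPoints (Z := pU.left ⁻¹' {u}) ⟨z₀, hz₀⟩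
    (hu.preimage pU.left.continuous).isLocallyClosed
  haveI : Etale pW.left := etale_left (repWith_of_isPullback sq.flip ha)
  have hjW : EtaleLocally (fun U => JacobsonSpace U) ((yon S).obj W) :=
    jacobson_of_lft hX (IsAlgSpace.yon_obj W) hj hg
  haveI : JacobsonSpace W.left := jacobsonSpace_of_chart hjW (repWith_id _ W)
  exact ⟨pW.left z, pW.left.closePoints_subset_preimage_closedPoints hzc,
    (ofPt_eq_ofPt_iff sq _ u).2 ⟨z, rfl, hz⟩⟩

end AlgSpLib
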