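import Groth.Agent.AlgSpLib.EtSmAffine
import Mathlib.RingTheory.Unramified.LocalStructure
import Mathlib.AlgebraicGeometry.Morphisms.Affine
/-!
# The key step: a property detected on one smooth chart holds etale locally
-/

set_option autoImplicit false
universe u
open CategoryTheory CategoryTheory.Limits AlgebraicGeometry

namespace AlgSpLib

/-- A smooth morphism is, locally at a point, standard etale over an affine space. -/
theorem exists_etale_polynomial_chart {V Y : Scheme.{u}} (b : V ⟶ Y) [Smooth b] (v : V) :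
    ∃ (R : CommRingCat.{u}) (T : CommRingCat.{u}) (n : ℕ) (jY : Spec R ⟶ Y) (η : Spec T ⟶ V)
      (θ : poly n R ⟶ T),
      IsOpenImmersion jY ∧ IsOpenImmersion η ∧ v ∈ Set.range η ∧
      η ≫ b = Spec.map θ ≫ Spec.map (polyC n R) ≫ jY ∧
      ∃ (P : StandardEtalePair (poly n R)) (e : P.Ring ≃+* T),
        ∀ r, e (algebraMap (poly n R) P.Ring r) = θ.hom r := by
  obtain ⟨U, hU, W, hW, hv, le, hstd⟩ := Smooth.exists_isStandardSmooth b v
  let R := Γ(Y, U)
  let T := Γ(V, W)
  algebraize [(b.appLE U W le).hom]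
  have : Algebra.Smooth R T :=
    RingHom.smooth_algebraMap.1 (RingHom.IsStandardSmooth.smooth hstd)
  let q := hW.primeIdealOf ⟨v, hv⟩
  have : Algebra.IsSmoothAt R q.asIdeal := by
    have : Algebra.FormallySmooth T (Localization.AtPrime q.asIdeal) :=
      .of_isLocalization q.asIdeal.primeCompl
    exact Algebra.FormallySmooth.comp R T (Localization.AtPrime q.asIdeal)
  obtain ⟨f, hf, n, _, _, hse⟩ :=
    Algebra.IsSmoothAt.exists_isStandardEtale_mvPolynomial (R := R) (p := q.asIdeal)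
  obtain ⟨P⟩ := hse.nonempty_standardEtalePresentation
  let T' : CommRingCat.{u} := CommRingCat.of (Localization.Away f)
  let θ : poly n R ⟶ T' := CommRingCat.ofHom (algebraMap (MvPolynomial (Fin n) R) (Localization.Away f))
  let lam : T ⟶ T' := CommRingCat.ofHom (algebraMap T (Localization.Away f))
  have : IsOpenImmersion (Spec.map lam) := IsOpenImmersion.of_isLocalization f
  refine ⟨R, T', n, hU.fromSpec, Spec.map lam ≫ hW.fromSpec, θ, inferInstance, inferInstance,
    ?_, ?_, P.P, P.equivRing.symm.toRingEquiv, fun r => P.equivRing.symm.commutes r⟩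
  · have hq : q ∈ Set.range (Spec.map lam) := by
      change q ∈ Set.range (PrimeSpectrum.comap (algebraMap T (Localization.Away f)))
      rw [PrimeSpectrum.localization_away_comap_range (Localization.Away f) f]
      exact hf
    obtain ⟨q', hq'⟩ := hq
    refine ⟨q', ?_⟩
    rw [Scheme.Hom.comp_apply, hq']
    exact hW.fromSpec_primeIdealOf ⟨v, hv⟩
  · rw [Category.assoc, ← IsAffineOpen.SpecMap_appLE_fromSpec b hU hW le, ← Category.assoc,
      ← Category.assoc, ← Spec.map_comp, ← Spec.map_comp]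
    congr 2
    ext r
    exact (IsScalarTower.algebraMap_apply R T (Localization.Away f) r).symm.trans
      (IsScalarTower.algebraMap_apply R (MvPolynomial (Fin n) R) (Localization.Away f) r)

namespace LocalQ

variable {S : Scheme.{u}} {Q : ∀ ⦃A B : Scheme.{u}⦄, (A ⟶ B) → (B ⟶ S) → Prop} (hQ : LocalQ Q)
include hQ

theorem key {X Y V W U : Scheme.{u}} (f : X ⟶ Y) (b : V ⟶ Y) [Smooth b] {p : W ⟶ X} {q : W ⟶ V}
    (sq : IsPullback p q f b) (e : U ⟶ W) [Etale e] (sY : Y ⟶ S) (hU : Q (e ≫ q) (b ≫ sY)) (u₀ : U) :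
    ∃ (C : Scheme.{u}) (g : C ⟶ X), Etale g ∧ (e ≫ p) u₀ ∈ Set.range g ∧ Q (g ≫ f) sY := by
  obtain ⟨R, T, n, jY, η, θ, _, _, hv, hcomm, P, ε, hε⟩ :=
    exists_etale_polynomial_chart b ((e ≫ q) u₀)
  have : Etale (Spec.map θ) := etale_standardEtale θ P ε hε
  -- an affine neighbourhood of the image in `X`
  have hx : (e ≫ p) u₀ ∈ f ⁻¹ᵁ jY.opensRange := by
    obtain ⟨t, ht⟩ := hv
    refine ⟨(Spec.map θ ≫ Spec.map (polyC n R)) t, ?_⟩
    rw [← Scheme.Hom.comp_apply, Category.assoc, ← hcomm, Scheme.Hom.comp_apply, ht,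
      ← Scheme.Hom.comp_apply, ← Scheme.Hom.comp_apply, Category.assoc, Category.assoc, sq.w]
  obtain ⟨O, hO, hxO, hOf⟩ := exists_isAffineOpen_mem_and_subset hx
  let A := Γ(X, O)
  let ιX : Spec A ⟶ X := hO.fromSpec
  have hrange : Set.range (ιX ≫ f) ⊆ Set.range jY := by
    rintro _ ⟨z, rfl⟩
    rw [Scheme.Hom.comp_apply]
    refine hOf ?_
    change ιX z ∈ (O : Set X)
    rw [← hO.range_fromSpec]
    exact Set.mem_range_self z
  obtain ⟨φ, hφ'⟩ := Spec.map_surjective (IsOpenImmersion.lift jY (ιX ≫ f) hrange)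
  have hφ : Spec.map φ ≫ jY = ιX ≫ f := by rw [hφ', IsOpenImmersion.lift_fac]
  let π := Spec.map (polyC n R)
  -- the part of `U` lying over the charts
  let U₁ := pullback (e ≫ q) η
  let k₁ : U₁ ⟶ U := pullback.fst (e ≫ q) η
  let U₂ := pullback (k₁ ≫ e ≫ p) ιX
  let k : U₂ ⟶ U := pullback.fst (k₁ ≫ e ≫ p) ιX ≫ k₁
  let l : U₂ ⟶ Spec T := pullback.fst (k₁ ≫ e ≫ p) ιX ≫ pullback.snd (e ≫ q) η
  let m : U₂ ⟶ Spec A := pullback.snd (k₁ ≫ e ≫ p) ιX
  have hkl : k ≫ e ≫ q = l ≫ η := by
    simp only [k, l, k₁, Category.assoc]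
    rw [pullback.condition]
  have hkm : k ≫ e ≫ p = m ≫ ιX := by
    simp only [k, m, Category.assoc]
    rw [pullback.condition]
  have : IsOpenImmersion k := inferInstance
  have hml : m ≫ Spec.map φ = l ≫ Spec.map θ ≫ π := by
    rw [← cancel_mono jY]
    simp only [Category.assoc]
    rw [hφ, ← hcomm, ← reassoc_of% hkm, sq.w, reassoc_of% hkl]
  have hl : Q l (Spec.map θ ≫ π ≫ jY ≫ sY) := by
    have h1 : Q (l ≫ η) (b ≫ sY) := by
      rw [← hkl]
      exact hQ.precomp _ _ _ hU
    have h2 : IsPullback (𝟙 U₂) l (l ≫ η) η := by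
      refine ⟨⟨by simp⟩, ⟨PullbackCone.IsLimit.mk _ (fun s => s.fst) (fun s => by simp)
        (fun s => ?_) (fun s r h1 _ => by simpa using h1)⟩⟩
      refine (cancel_mono η).1 ?_
      exact (Category.assoc _ _ _).trans s.condition
    have := hQ.baseChange h2 _ h1
    rwa [← Category.assoc η b sY, hcomm, Category.assoc, Category.assoc] at this
  have hθ : Q (l ≫ Spec.map θ) (π ≫ jY ≫ sY) :=
    hQ.etalePost _ l (Spec.map θ) _ (fibBound_standardEtale θ P ε hε) hl
  -- the induced map to affine space over `A` is etale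
  let sq0 := isPullback_poly n φ
  let z : U₂ ⟶ Spec (poly n A) := sq0.lift m (l ≫ Spec.map θ) (by rw [Category.assoc]; exact hml)
  have hzm : z ≫ Spec.map (polyC n A) = m := sq0.lift_fst _ _ _
  have hzl : z ≫ Spec.map (polyMap n φ) = l ≫ Spec.map θ := sq0.lift_snd _ _ _
  have : Etale z := by
    let W₁ := pullback (Spec.map φ) (Spec.map θ ≫ π)
    let w₁ : W₁ ⟶ Spec A := pullback.fst _ _
    let w₂ : W₁ ⟶ Spec T := pullback.snd _ _
    let w : W₁ ⟶ W := sq.lift (w₁ ≫ ιX) (w₂ ≫ η) (by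
      rw [Category.assoc, ← hφ, Category.assoc, hcomm, ← Category.assoc, pullback.condition]
      simp only [Category.assoc, π]; rfl)
    let γ : U₂ ⟶ W₁ := pullback.lift m l hml
    have hγ : γ ≫ w = k ≫ e := by
      apply sq.hom_ext
      · simp only [Category.assoc, sq.lift_fst, w, γ, w₁]
        rw [pullback.lift_fst_assoc, hkm]
      · simp only [Category.assoc, sq.lift_snd, w, γ, w₂]
        rw [pullback.lift_snd_assoc, hkl]
    have : Etale (γ ≫ w) := hγ ▸ inferInstance
    have : Smooth π := by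
      rw [HasRingHomProperty.Spec_iff (P := @Smooth)]
      change RingHom.Smooth (algebraMap R (MvPolynomial (Fin n) R))
      rw [RingHom.smooth_algebraMap]
      constructor <;> infer_instance
    have : LocallyOfFiniteType w₁ :=
      MorphismProperty.pullback_fst (P := @LocallyOfFiniteType) _ _
        (inferInstanceAs (LocallyOfFiniteType (Spec.map θ ≫ π)))
    have : LocallyOfFiniteType (w ≫ p) := by
      rw [sq.lift_fst]; infer_instance
    have : LocallyOfFiniteType w := locallyOfFiniteType_of_comp w p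
    have : Mono w := by
      refine ⟨fun a c hac => ?_⟩
      apply pullback.hom_ext
      · rw [← cancel_mono ιX, Category.assoc, Category.assoc]
        have := congrArg (· ≫ p) hac
        simpa [w] using this
      · rw [← cancel_mono η, Category.assoc, Category.assoc]
        have := congrArg (· ≫ q) hac
        simpa [w] using this
    have : FormallyUnramified w := inferInstance
    have : Etale γ := Etale.of_comp γ w
    let ζ : W₁ ⟶ Spec (poly n A) := sq0.lift w₁ (w₂ ≫ Spec.map θ) (by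
      rw [Category.assoc]; exact pullback.condition)
    have hζ : IsPullback ζ w₂ (Spec.map (polyMap n φ)) (Spec.map θ) := by
      refine IsPullback.of_right ?_ (sq0.lift_snd _ _ _) sq0
      rw [sq0.lift_fst]
      exact IsPullback.of_hasPullback (Spec.map φ) (Spec.map θ ≫ π)
    have : Etale ζ := MorphismProperty.of_isPullback hζ.flip ‹Etale (Spec.map θ)›
    have : z = γ ≫ ζ := by
      apply sq0.hom_ext
      · rw [hzm, Category.assoc, sq0.lift_fst]; simp only [γ, w₁, pullback.lift_fst]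
      · rw [hzl, Category.assoc γ ζ]; simp only [ζ, γ, w₂, sq0.lift_snd, pullback.lift_snd_assoc]
    rw [this]
    infer_instance
  -- its image
  let O' : (Spec (poly n A)).Opens := ⟨Set.range z, z.isOpenMap.isOpen_range⟩
  have hO' : Set.range O'.ι = Set.range z := Scheme.Opens.range_ι O'
  let z' : U₂ ⟶ O'.toScheme := IsOpenImmersion.lift O'.ι z hO'.ge
  have hz' : z' ≫ O'.ι = z := IsOpenImmersion.lift_fac _ _ _
  have : Etale z' := by
    have : Etale (z' ≫ O'.ι) := hz' ▸ inferInstance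
    exact Etale.of_comp z' O'.ι
  have hO'Q : Q (O'.ι ≫ Spec.map (polyMap n φ)) (π ≫ jY ≫ sY) := by
    refine hQ.of_forall_exists _ _ (fun a => ⟨U₂, z', inferInstance, ?_, ?_⟩)
    · have : O'.ι a ∈ Set.range z := hO' ▸ Set.mem_range_self a
      obtain ⟨c, hc⟩ := this
      refine ⟨c, O'.ι.isOpenEmbedding.injective ?_⟩
      rw [← Scheme.Hom.comp_apply, hz', hc]
    · rwa [← Category.assoc, hz', hzl]
  obtain ⟨u₁, hu₁⟩ : ∃ c, k c = u₀ := by
    obtain ⟨t, ht⟩ := hv
    obtain ⟨c₁, hc₁, -⟩ := Scheme.Pullback.exists_preimage_pullback (f := e ≫ q) (g := η) u₀ t ht.symm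
    have : (e ≫ p) u₀ ∈ Set.range ιX := by rw [hO.range_fromSpec]; exact hxO
    obtain ⟨a, ha⟩ := this
    obtain ⟨c, hc, -⟩ := Scheme.Pullback.exists_preimage_pullback (f := k₁ ≫ e ≫ p) (g := ιX) c₁ a
      (by rw [Scheme.Hom.comp_apply, show k₁ c₁ = u₀ from hc₁, ha])
    exact ⟨c, by rw [Scheme.Hom.comp_apply, hc]; exact hc₁⟩
  obtain ⟨C, g, hg, hmem, hC⟩ := hQ.affineCore n φ (jY ≫ sY) O' hO'Q (z u₁) (Set.mem_range_self u₁)
  refine ⟨C, g ≫ ιX, inferInstance, ?_, ?_⟩
  · obtain ⟨c, hc⟩ := hmem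
    refine ⟨c, ?_⟩
    rw [Scheme.Hom.comp_apply, hc, ← Scheme.Hom.comp_apply, ← Scheme.Hom.comp_apply, reassoc_of% hzm, ← hkm,
      Scheme.Hom.comp_apply, hu₁]
  · rw [Category.assoc, ← hφ, ← Category.assoc]
    exact hQ.postOpen _ _ _ hC

end LocalQ

end AlgSpLib
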