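import Groth.Agent.AlgSpLib.Basic
import Groth.Agent.AlgSpLib.EtSmKey
import Groth.Prelude.Def_AlgSpCov
/-!
# Properties of morphisms of algebraic spaces etale local on the source and smooth local on the base
-/

set_option autoImplicit false
universe u
open CategoryTheory CategoryTheory.Limits AlgebraicGeometry AlgSp

namespace AlgSpLib

variable {S : Scheme.{u}} (P : MorphismProperty (Sp S))

/-- The property of morphisms of schemes over `S` induced by a property of morphisms of sheaves. -/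
def schemeProp : ∀ ⦃A B : Scheme.{u}⦄, (A ⟶ B) → (B ⟶ S) → Prop := fun _ _ f sB =>
  P ((yon S).map (Over.homMk f rfl : Over.mk (f ≫ sB) ⟶ Over.mk sB))

theorem schemeProp_iff {U V : Over S} (φ : U ⟶ V) :
    schemeProp P φ.left V.hom ↔ P ((yon S).map φ) := by
  have : ∀ {A B : Scheme.{u}} (f : A ⟶ B) (sB : B ⟶ S) (sA : A ⟶ S) (h : f ≫ sB = sA),
      schemeProp P f sB ↔ P ((yon S).map (Over.homMk f h : Over.mk sA ⟶ Over.mk sB)) := by
    intro A B f sB sA h
    subst h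
    rfl
  exact this φ.left V.hom U.hom (Over.w φ)

theorem point_mem_range {F : Sp S} {T : Over S} (a : (yon S).obj T ⟶ F) (t : ↥T.left) :
    Points.map a (Points.ofScheme T t) = Points.ofPt a t :=
  (Points.ofPt_eq_map_ofScheme a t).symm

theorem isEtCover_yon {ι : Type u} {A : Over S} (Ai : ι → Over S) (g : ∀ i, Ai i ⟶ A)
    (hg : ∀ i, Etale (g i).left) (hs : ∀ a : A.left, ∃ i, a ∈ Set.range (g i).left) :
    IsEtCover (fun i => (yon S).obj (Ai i)) (fun i => (yon S).map (g i)) := by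
  refine ⟨fun i => (isEtaleMor_yon_map_iff _).2 (hg i), fun x => ?_⟩
  obtain ⟨a, rfl⟩ := (Points.schemeEquiv A).surjective x
  obtain ⟨i, c, hc⟩ := hs a
  exact ⟨i, Points.schemeHomeo _ c, (Points.map_yon_map_apply (g i) c).trans (congrArg _ hc)⟩

theorem isSmCover_yon {ι : Type u} {A : Over S} (Ai : ι → Over S) (g : ∀ i, Ai i ⟶ A)
    (hg : ∀ i, Smooth (g i).left) (hs : ∀ a : A.left, ∃ i, a ∈ Set.range (g i).left) :
    IsSmCover (fun i => (yon S).obj (Ai i)) (fun i => (yon S).map (g i)) := by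
  refine ⟨fun i => have := hg i; locP_smooth_yon_map _, fun x => ?_⟩
  obtain ⟨a, rfl⟩ := (Points.schemeEquiv A).surjective x
  obtain ⟨i, c, hc⟩ := hs a
  exact ⟨i, Points.schemeHomeo _ c, (Points.map_yon_map_apply (g i) c).trans (congrArg _ hc)⟩

variable {P} (h1 : IsLocalOnSource (IsEtCover (S := S)) P)
  (h2 : IsLocalOnBase (IsSmCover (S := S)) P)
  (h3 : ∀ ⦃X Y Z : Space S⦄ (f : X ⟶ Y) (j : Y ⟶ Z), P f.hom →
    RepWith @IsOpenImmersion j.hom → P (f ≫ j).hom)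

include h1 h2 h3 in
theorem localQ_schemeProp : LocalQ (schemeProp P) where
  srcLocal A B f sB ι Ai g hg hs := by
    let gi : ∀ i, Over.mk (g i ≫ f ≫ sB) ⟶ Over.mk (f ≫ sB) := fun i => Over.homMk (g i) rfl
    refine (h1 _ (fun i => (yon S).map (gi i)) (IsAlgSpace.yon_obj _) (fun i => IsAlgSpace.yon_obj _)
      (isEtCover_yon _ gi hg hs) _ (IsAlgSpace.yon_obj _)).trans (forall_congr' fun i => ?_)
    rw [← Functor.map_comp]
    exact (schemeProp_iff P (gi i ≫ _)).symm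
  baseLocal A B f sB ι Bi Ai g p q hg hs hsq := by
    let gi : ∀ i, Over.mk (g i ≫ sB) ⟶ Over.mk sB := fun i => Over.homMk (g i) rfl
    let pi' : ∀ i, Over.mk (p i ≫ g i ≫ sB) ⟶ Over.mk (g i ≫ sB) := fun i => Over.homMk (p i) rfl
    let qi : ∀ i, Over.mk (p i ≫ g i ≫ sB) ⟶ Over.mk (f ≫ sB) := fun i => Over.homMk (q i) (by
      change q i ≫ f ≫ sB = p i ≫ g i ≫ sB
      rw [← Category.assoc, (hsq i).w, Category.assoc])
    exact h2 _ (fun i => (yon S).map (gi i)) (IsAlgSpace.yon_obj _) (fun i => IsAlgSpace.yon_obj _)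
      (isSmCover_yon _ gi hg hs) _ (IsAlgSpace.yon_obj _) _ (fun i => (yon S).map (pi' i))
      (fun i => (yon S).map (qi i)) (fun i => IsAlgSpace.yon_obj _)
      (fun i => (IsPullback.of_map (f := qi i) (g := pi' i) (h := (Over.homMk f rfl : Over.mk (f ≫ sB) ⟶ Over.mk sB)) (i := gi i)
        (Over.forget S) (Over.OverMorphism.ext (hsq i).w) (hsq i)).map (yon S))
  postOpen A B C f j sC _ hf := by
    let fi : Over.mk (f ≫ j ≫ sC) ⟶ Over.mk (j ≫ sC) := Over.homMk f rfl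
    let ji : Over.mk (j ≫ sC) ⟶ Over.mk sC := Over.homMk j rfl
    have := h3 ((ofScheme S).map fi) ((ofScheme S).map ji) hf
      ((repWith_yon_map_iff (P := (@IsOpenImmersion : MorphismProperty Scheme.{u})) ji).2 ‹_›)
    rw [← Functor.map_comp] at this
    exact (schemeProp_iff P (fi ≫ ji)).2 this

include h1 in
theorem precomp_etale ⦃X Y Z : Sp S⦄ (hX : IsAlgSpace X) (hY : IsAlgSpace Y) (hZ : IsAlgSpace Z)
    (f : X ⟶ Y) (g : Y ⟶ Z) (hf : IsEtaleMor f) (hg : P g) : P (f ≫ g) := by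
  let Yi : ULift.{u} Bool → Sp S := fun i => bif i.down then X else Y
  let gi : ∀ i, Yi i ⟶ Y := fun i => match i with
    | ⟨true⟩ => f
    | ⟨false⟩ => 𝟙 Y
  exact (h1 Yi gi hY (fun i => match i with
    | ⟨true⟩ => hX
    | ⟨false⟩ => hY) ⟨fun i => match i with
    | ⟨true⟩ => hf
    | ⟨false⟩ => isEtaleMor_id Y, fun x => ⟨⟨false⟩, x, Points.map_id x⟩⟩ g hZ).1 hg ⟨true⟩

include h2 in
theorem baseChange_smooth ⦃X Y X' Y' : Sp S⦄ (hX : IsAlgSpace X) (hY : IsAlgSpace Y)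
    (hX' : IsAlgSpace X') (hY' : IsAlgSpace Y') (f : X ⟶ Y) (g : Y' ⟶ Y) (f' : X' ⟶ Y')
    (g' : X' ⟶ X) (sq : IsPullback g' f' f g) (hg : LocP @Smooth g) (hf : P f) : P f' := by
  let Yi : ULift.{u} Bool → Sp S := fun i => bif i.down then Y' else Y
  let Xi : ULift.{u} Bool → Sp S := fun i => bif i.down then X' else X
  let gi : ∀ i, Yi i ⟶ Y := fun i => match i with
    | ⟨true⟩ => g
    | ⟨false⟩ => 𝟙 Y
  let pi' : ∀ i, Xi i ⟶ Yi i := fun i => match i with
    | ⟨true⟩ => f'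
    | ⟨false⟩ => f
  let qi : ∀ i, Xi i ⟶ X := fun i => match i with
    | ⟨true⟩ => g'
    | ⟨false⟩ => 𝟙 X
  exact (h2 Yi gi hY (fun i => match i with
    | ⟨true⟩ => hY'
    | ⟨false⟩ => hY) ⟨fun i => match i with
    | ⟨true⟩ => hg
    | ⟨false⟩ => locP_smooth_id Y, fun x => ⟨⟨false⟩, x, Points.map_id x⟩⟩ f hX Xi pi' qi
      (fun i => match i with
    | ⟨true⟩ => hX'
    | ⟨false⟩ => hX) (fun i => match i with
    | ⟨true⟩ => sq
    | ⟨false⟩ => IsPullback.id_horiz f)).1 hf ⟨true⟩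

include h1 h2 h3 in
/-- Locality on source-and-target: the hard direction. -/
theorem of_local_data ⦃X Y : Sp S⦄ (hX : IsAlgSpace X) (hY : IsAlgSpace Y) (f : X ⟶ Y)
    (H : ∀ x : Points X, ∃ (V W U : Sp S) (b : V ⟶ Y) (p : W ⟶ X) (q : W ⟶ V) (e : U ⟶ W)
      (v : Points U), IsAlgSpace V ∧ IsAlgSpace W ∧ IsAlgSpace U ∧ LocP @Smooth b ∧
      IsPullback p q f b ∧ IsEtaleMor e ∧ Points.map (e ≫ p) v = x ∧ P (e ≫ q)) : P f := by
  obtain ⟨Y1, b1, hb1, hb1'⟩ := hY.atlas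
  let X1 := pullback f b1
  have sq1 : IsPullback (pullback.fst f b1) (pullback.snd f b1) f b1 := IsPullback.of_hasPullback f b1
  have hX1 : IsAlgSpace X1 := isAlgSpace_pullback hX (IsAlgSpace.yon_obj _) hY f b1
  refine (h2 (ι := PUnit.{u + 1}) (fun _ => (yon S).obj Y1) (fun _ => b1) hY
    (fun _ => IsAlgSpace.yon_obj _)
    ⟨fun _ => locP_smooth_of_isEtaleMor (isEtaleMor_of_repWith hb1),
      fun y => ⟨⟨⟩, map_surjective_of_repWith hb1' y⟩⟩ f hX (fun _ => X1)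
    (fun _ => pullback.snd f b1) (fun _ => pullback.fst f b1) (fun _ => hX1) (fun _ => sq1)).2
    (fun _ => ?_)
  obtain ⟨X2, a2, ha2, ha2'⟩ := hX1.atlas
  refine (h1 (ι := PUnit.{u + 1}) (fun _ => (yon S).obj X2) (fun _ => a2) hX1
    (fun _ => IsAlgSpace.yon_obj _)
    ⟨fun _ => isEtaleMor_of_repWith ha2, fun x => ⟨⟨⟩, map_surjective_of_repWith ha2' x⟩⟩ _
    (IsAlgSpace.yon_obj _)).2 (fun _ => ?_)
  obtain ⟨φ, hφ⟩ := (yon S).map_surjective (a2 ≫ pullback.snd f b1)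
  rw [← hφ]
  refine (schemeProp_iff P φ).1 ?_
  have hQ := localQ_schemeProp h1 h2 h3
  refine hQ.of_forall_exists _ _ (fun t => ?_)
  obtain ⟨V, W, U, b, p, q, e, v, hV, hW, hU, hb, sq, he, hv, hP⟩ :=
    H (Points.map (pullback.fst f b1) (Points.ofPt a2 t))
  -- a chart of `U`
  obtain ⟨U1, c0, hc0, hc0'⟩ := hU.atlas
  have hc : RepWith @Etale (c0 ≫ e) := he c0 hc0
  have hP1 : P ((c0 ≫ e) ≫ q) := by
    rw [Category.assoc]
    exact precomp_etale h1 (IsAlgSpace.yon_obj _) hU hV _ _ (isEtaleMor_of_repWith hc0) hP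
  -- a chart of `V ×_Y Y1`
  obtain ⟨V1, cv, hcv, hcv'⟩ := hV.atlas
  obtain ⟨V2, l1, ψ, sqV⟩ := exists_isPullback_yon (cv ≫ b) b1 (hY.representable_from_yon _)
  let dv : (yon S).obj V2 ⟶ V := (yon S).map l1 ≫ cv
  have hdv : RepWith @Etale dv :=
    repWith_comp (repWith_of_isPullback sqV.flip hb1) hcv
  have hdvb : dv ≫ b = (yon S).map ψ ≫ b1 := by
    simp only [dv, Category.assoc]; exact sqV.w
  have hψ : Smooth ψ.left := hb dv b1 ψ hdv hb1 hdvb
  obtain ⟨T, t1, t2, sqT⟩ := exists_isPullback_yon ((c0 ≫ e) ≫ q) dv (hV.representable_from_yon _)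
  have hP2 : P ((yon S).map t2) :=
    baseChange_smooth h2 (IsAlgSpace.yon_obj _) hV (IsAlgSpace.yon_obj _) (IsAlgSpace.yon_obj _)
      _ dv _ _ sqT (locP_smooth_of_isEtaleMor (isEtaleMor_of_repWith hdv)) hP1
  -- `W ×_V V2 = X1 ×_{Y1} V2`
  let W1 := pullback (pullback.snd f b1) ((yon S).map ψ)
  let σ1 : W1 ⟶ X1 := pullback.fst (pullback.snd f b1) ((yon S).map ψ)
  let σ2 : W1 ⟶ (yon S).obj V2 := pullback.snd (pullback.snd f b1) ((yon S).map ψ)
  have sqW1 : IsPullback σ1 σ2 (pullback.snd f b1) ((yon S).map ψ) := IsPullback.of_hasPullback _ _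
  have sqA : IsPullback (σ1 ≫ pullback.fst f b1) σ2 f (dv ≫ b) := by
    rw [hdvb]
    exact sqW1.paste_horiz sq1
  let l : W1 ⟶ W := sq.lift (σ1 ≫ pullback.fst f b1) (σ2 ≫ dv) (by
    rw [Category.assoc σ2, ← sqA.w])
  have sqB : IsPullback l σ2 q dv := by
    refine IsPullback.of_right ?_ (sq.lift_snd _ _ _) sq
    rw [sq.lift_fst]
    exact sqA
  let t' : (yon S).obj T ⟶ W1 := sqB.lift ((yon S).map t1 ≫ c0 ≫ e) ((yon S).map t2) (by
    simpa using sqT.w)
  have ht'l : t' ≫ l = (yon S).map t1 ≫ c0 ≫ e := sqB.lift_fst _ _ _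
  have ht'2 : t' ≫ σ2 = (yon S).map t2 := sqB.lift_snd _ _ _
  have sqT' : IsPullback ((yon S).map t1) t' (c0 ≫ e) l := by
    refine IsPullback.of_bot ?_ ht'l.symm sqB
    rw [ht'2]
    exact sqT
  -- `X2 ×_{Y1} V2`
  let W2 : Over S := pullback φ ψ
  let η1 : W2 ⟶ X2 := pullback.fst φ ψ
  let η2 : W2 ⟶ V2 := pullback.snd φ ψ
  have sqW2 : IsPullback ((yon S).map η1) ((yon S).map η2) ((yon S).map φ) ((yon S).map ψ) :=
    (IsPullback.of_hasPullback φ ψ).map (yon S)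
  let π : (yon S).obj W2 ⟶ W1 := sqW1.lift ((yon S).map η1 ≫ a2) ((yon S).map η2) (by
    rw [Category.assoc, ← hφ]; exact sqW2.w)
  have hπ1 : π ≫ σ1 = (yon S).map η1 ≫ a2 := sqW1.lift_fst _ _ _
  have hπ2 : π ≫ σ2 = (yon S).map η2 := sqW1.lift_snd _ _ _
  have sqπ : IsPullback ((yon S).map η1) π a2 σ1 := by
    refine IsPullback.of_bot ?_ hπ1.symm sqW1
    rw [← hφ, hπ2]
    exact sqW2
  -- `U2 = T ×_{X1} X2`
  obtain ⟨U2, k1, k2, sqU⟩ := exists_isPullback_yon (t' ≫ σ1) a2 (hX1.representable_from_yon _)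
  have hU2 : schemeProp P (k1 ≫ t2).left V2.hom := by
    refine (schemeProp_iff P (k1 ≫ t2)).2 ?_
    rw [Functor.map_comp]
    exact precomp_etale h1 (IsAlgSpace.yon_obj _) (IsAlgSpace.yon_obj _) (IsAlgSpace.yon_obj _) _ _
      (isEtaleMor_of_repWith (repWith_of_isPullback sqU.flip ha2)) hP2
  let η : U2 ⟶ W2 := pullback.lift k2 (k1 ≫ t2) (by
    apply (yon S).map_injective
    rw [Functor.map_comp, Functor.map_comp, Functor.map_comp, hφ, ← reassoc_of% sqU.w, sqW1.w, reassoc_of% ht'2, Category.assoc])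
  have hη1 : η ≫ η1 = k2 := pullback.lift_fst _ _ _
  have hη2 : η ≫ η2 = k1 ≫ t2 := pullback.lift_snd _ _ _
  have sqη : IsPullback ((yon S).map k1) ((yon S).map η) t' π := by
    refine IsPullback.of_bot ?_ ?_ sqπ.flip |>.flip.flip
    · rw [← Functor.map_comp, hη1]
      exact sqU
    · apply sqW1.hom_ext
      · rw [Category.assoc, Category.assoc, hπ1, sqU.w, ← Functor.map_comp_assoc, hη1]
      · rw [Category.assoc, Category.assoc, hπ2, ht'2, ← Functor.map_comp, ← Functor.map_comp, hη2]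
  have : Etale η.left :=
    (repWith_yon_map_iff (P := (@Etale : MorphismProperty Scheme.{u})) η).1
      (repWith_of_isPullback sqη (repWith_of_isPullback sqT' hc))
  -- the point
  obtain ⟨u1, hu1⟩ := map_surjective_of_repWith hc0' v
  obtain ⟨A, α1, α2, sqA'⟩ := exists_isPullback_yon (c0 ≫ e ≫ p) (a2 ≫ pullback.fst f b1)
    (hX.representable_from_yon _)
  obtain ⟨wa, hwa1, hwa2⟩ := exists_point_isPullback sqA' u1 (Points.ofScheme X2 t) (by
    rw [point_mem_range, Points.map_comp, hu1, hv, Points.map_ofPt])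
  obtain ⟨z1, hz1⟩ := map_surjective_of_repWith hcv'
    (Points.map ((yon S).map α1 ≫ c0 ≫ e ≫ q) wa)
  obtain ⟨A', β1, β2, sqA''⟩ := exists_isPullback_yon ((yon S).map α1 ≫ c0 ≫ e ≫ q) cv
    (hV.representable_from_yon _)
  obtain ⟨wb, hwb, -⟩ := exists_point_isPullback sqA'' wa z1 hz1.symm
  let L : (yon S).obj A' ⟶ (yon S).obj V2 := sqV.lift ((yon S).map β2) ((yon S).map β1 ≫ (yon S).map α2 ≫ (yon S).map φ) (by
    rw [← reassoc_of% sqA''.w, Category.assoc ((yon S).map β1), Category.assoc ((yon S).map α2), hφ, Category.assoc,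
      ← sq1.w, ← sq.w]
    exact congrArg ((yon S).map β1 ≫ ·) (congrArg (· ≫ f) sqA'.w))
  have hL : L ≫ dv = (yon S).map β2 ≫ cv := by simp only [dv, L, sqV.lift_fst_assoc]
  let M : (yon S).obj A' ⟶ (yon S).obj T := sqT.lift ((yon S).map β1 ≫ (yon S).map α1) L (by
    rw [hL, ← sqA''.w]; simp only [Category.assoc])
  let N : (yon S).obj A' ⟶ (yon S).obj U2 := sqU.lift M ((yon S).map β1 ≫ (yon S).map α2) (by
    apply sq1.hom_ext
    · have e1 : σ1 ≫ pullback.fst f b1 = l ≫ p := (sq.lift_fst _ _ _).symm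
      rw [Category.assoc, Category.assoc, e1, reassoc_of% ht'l, sqT.lift_fst_assoc]
      simp only [Category.assoc]
      exact congrArg ((yon S).map β1 ≫ ·) sqA'.w
    · rw [Category.assoc, Category.assoc, sqW1.w, reassoc_of% ht'2, sqT.lift_snd_assoc, Category.assoc,
        Category.assoc, ← hφ]
      exact sqV.lift_snd _ _ _)
  obtain ⟨w2, hw2⟩ := (Points.schemeEquiv U2).surjective (Points.map N wb)
  have ht : k2.left w2 = t := by
    refine (Points.schemeEquiv X2).injective ?_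
    refine ((Points.map_yon_map_apply k2 w2).symm.trans ?_)
    change Points.map ((yon S).map k2) (Points.schemeEquiv U2 w2) = _
    rw [hw2, ← Points.map_comp, sqU.lift_snd, Points.map_comp, hwb, hwa2]
    rfl
  have sqS : IsPullback η1.left η2.left φ.left ψ.left :=
    (IsPullback.of_hasPullback φ ψ).map (Over.forget S)
  have := hQ.key φ.left ψ.left sqS η.left Y1.hom
    (by
      rw [Over.w ψ]
      change schemeProp P (η ≫ η2).left V2.hom
      rw [hη2]; exact hU2) w2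
  obtain ⟨C, g, hg, hmem, hC⟩ := this
  refine ⟨C, g, hg, ?_, hC⟩
  rw [← ht, ← hη1]
  exact hmem

include h1 h2 h3 in
/-- The main theorem. -/
theorem isEtaleSmoothLocalST : IsEtaleSmoothLocalST P where
  precomp := precomp_etale h1
  baseChange := baseChange_smooth h2
  locality X Y hX hY f := by
    refine ⟨fun hP x => ⟨Y, X, X, 𝟙 Y, 𝟙 X, f, 𝟙 X, x, hY, hX, hX, locP_smooth_id Y,
      IsPullback.id_horiz f, isEtaleMor_id X, ?_, ?_⟩, of_local_data h1 h2 h3 hX hY f⟩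
    · rw [Category.id_comp, Points.map_id]
    · rwa [Category.id_comp]

end AlgSpLib
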