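import Mathlib
import Groth.Prelude.Def_Dual3
import Groth.Agent.WeightLib.Pts
import Groth.Agent.WeightLib.EtaleQF

/-!
# Residue transcendence degrees and local dimensions under etale maps
-/

set_option autoImplicit false
universe u

open CategoryTheory CategoryTheory.Limits AlgebraicGeometry

namespace AlgSpLib

/-- A flat quasi-finite local homomorphism preserves the dimension. -/
theorem ringKrullDim_eq_of_flat_quasiFinite (A B : Type u) [CommRing A] [IsLocalRing A] [CommRing B] [IsLocalRing B]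
    [Algebra A B] [IsLocalHom (algebraMap A B)] [Module.Flat A B] [Algebra.QuasiFinite A B] :
    ringKrullDim B = ringKrullDim A := by
  haveI : Algebra.HasGoingDown A B := Algebra.HasGoingDown.of_flat
  have hmono : StrictMono (PrimeSpectrum.comap (algebraMap A B)) := by
    intro P Q hPQ
    refine lt_of_le_of_ne (Ideal.comap_mono (le_of_lt hPQ)) fun he => (ne_of_lt hPQ) ?_
    exact PrimeSpectrum.ext (Algebra.QuasiFinite.eq_of_le_of_under_eq P.asIdeal Q.asIdeal (le_of_lt hPQ)
      (congrArg PrimeSpectrum.asIdeal he :))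
  refine le_antisymm (Order.krullDim_le_of_strictMono _ hmono) (iSup_le fun l => ?_)
  have hle : l.last.asIdeal ≤ IsLocalRing.maximalIdeal A := IsLocalRing.le_maximalIdeal l.last.2.ne_top
  haveI : (IsLocalRing.maximalIdeal B).LiesOver (IsLocalRing.maximalIdeal A) :=
    ⟨(IsLocalRing.maximalIdeal_comap (algebraMap A B)).symm⟩
  obtain ⟨P, -, hP, hPl⟩ := Ideal.exists_ideal_le_liesOver_of_le (IsLocalRing.maximalIdeal B) hle
  haveI := hP
  haveI := hPl
  obtain ⟨L, hL, -, -⟩ := Ideal.exists_ltSeries_of_hasGoingDown l P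
  exact le_iSup_of_le L (le_of_eq (by rw [hL]))

theorem ringKrullDim_stalk_etale {U V : Scheme.{u}} (a : U ⟶ V) [Etale a] (u : U) :
    ringKrullDim (U.presheaf.stalk u) = ringKrullDim (V.presheaf.stalk (a.base u)) := by
  haveI := WeightLib.locallyQuasiFinite_of_etale a
  letI := (a.stalkMap u).hom.toAlgebra
  haveI : Algebra.QuasiFinite (V.presheaf.stalk (a.base u)) (U.presheaf.stalk u) :=
    RingHom.quasiFinite_algebraMap.mp (a.quasiFiniteAt u)
  haveI : Module.Flat (V.presheaf.stalk (a.base u)) (U.presheaf.stalk u) :=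
    RingHom.flat_algebraMap_iff.mp (Flat.stalkMap a u)
  haveI : IsLocalHom (algebraMap (V.presheaf.stalk (a.base u)) (U.presheaf.stalk u)) :=
    inferInstanceAs (IsLocalHom (a.stalkMap u).hom)
  exact ringKrullDim_eq_of_flat_quasiFinite _ _

theorem trdeg_ringHom_comp {k K L : Type u} [Field k] [Field K] [Field L] (g : k →+* K) (h : K →+* L) :
    @Algebra.trdeg k L _ _ (h.comp g).toAlgebra =
      @Algebra.trdeg k K _ _ g.toAlgebra + @Algebra.trdeg K L _ _ h.toAlgebra := by
  letI := g.toAlgebra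
  letI := h.toAlgebra
  letI : Algebra k L := (h.comp g).toAlgebra
  haveI : IsScalarTower k K L := IsScalarTower.of_algebraMap_eq fun _ => rfl
  exact (trdeg_add_eq k K (A := L)).symm

theorem resTrdeg_eq_zero_of_lqf {U V : Scheme.{u}} (a : U ⟶ V) [LocallyQuasiFinite a] (u : U) :
    Dual3.resTrdeg a u = 0 := by
  unfold Dual3.resTrdeg
  letI := (a.residueFieldMap u).hom.toAlgebra
  haveI : Module.Finite (V.residueField (a u)) (U.residueField u) :=
    RingHom.finite_algebraMap.mp (WeightLib.finite_residueFieldMap a u)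
  exact trdeg_eq_zero

theorem resTrdeg_comp {U V W : Scheme.{u}} (h : U ⟶ V) (k : V ⟶ W) (u : U) :
    Dual3.resTrdeg (h ≫ k) u = Dual3.resTrdeg k (h.base u) + Dual3.resTrdeg h u := by
  unfold Dual3.resTrdeg
  rw [show ((h ≫ k).residueFieldMap u).hom =
      (h.residueFieldMap u).hom.comp (k.residueFieldMap (h.base u)).hom from by
    rw [Scheme.residueFieldMap_comp]; rfl]
  exact trdeg_ringHom_comp _ _

theorem resTrdeg_etale_square {U U' V V' : Scheme.{u}} (h : U ⟶ V) (h' : U' ⟶ V') (a : U' ⟶ U) (b : V' ⟶ V)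
    [Etale a] [Etale b] (e : h' ≫ b = a ≫ h) (u' : U') :
    Dual3.resTrdeg h (a.base u') = Dual3.resTrdeg h' u' := by
  haveI := WeightLib.locallyQuasiFinite_of_etale a
  haveI := WeightLib.locallyQuasiFinite_of_etale b
  have h1 : Dual3.resTrdeg (h' ≫ b) u' = Dual3.resTrdeg (a ≫ h) u' := by rw [e]
  rw [resTrdeg_comp, resTrdeg_comp, resTrdeg_eq_zero_of_lqf a, resTrdeg_eq_zero_of_lqf b, zero_add, add_zero] at h1
  exact h1.symm

end AlgSpLib
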