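import Groth.Agent.CMFlatLib.DimFormula
import Groth.Agent.FibDimLib.Apps

/-!
# Local dimension along flat morphisms of constant relative dimension
-/

set_option autoImplicit false

universe u

open CategoryTheory AlgebraicGeometry TopologicalSpace Topology IsLocalRing

namespace AlgSpLib
open CMFlatLib

variable {X Y : Scheme.{u}}

theorem localDim_eq_add_fibreDimAt_of_open [IsLocallyNoetherian X] [IsLocallyNoetherian Y] (f : X ⟶ Y)
    [LocallyOfFiniteType f] [Flat f] {O : Set X} (hO : IsOpen O) (d : ℕ)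
    (hd : ∀ z ∈ O, FlatMor.fibreDimAt f z = d) (x : X) (hxO : x ∈ O) :
    FlatMor.localDim ↑X x = FlatMor.localDim ↑Y (f x) + FlatMor.fibreDimAt f x := by
  haveI : LocallyOfFinitePresentation f := inferInstance
  haveI : ∀ y, LocallyOfFiniteType (f.fiberToSpecResidueField y) := fun y => UOpenLib.lft_fiberToSpec f y
  rw [hd x hxO]
  refine le_antisymm ?_ ?_
  · obtain ⟨V, hV, hVd⟩ := FibDimLib.exists_open_localDim (f x)
    let U : X.Opens := ⟨O ∩ f ⁻¹' V, hO.inter (V.isOpen.preimage f.continuous)⟩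
    refine (FibDimLib.localDim_le_of_open (U := U) (show x ∈ U from ⟨hxO, hV⟩)).trans (hVd ▸ ?_)
    haveI : Nonempty (U : Set X) := ⟨⟨x, hxO, hV⟩⟩
    refine le_of_forall_nat_le ((FibDimLib.localDim_nonneg (⟨x, hxO, hV⟩ : (U : Set X))).trans (FibDimLib.localDim_le _))
      fun n hn => ?_
    obtain ⟨z, hz, hzn⟩ := exists_stalk_of_open U hn
    refine hzn.trans ((DimIneqLib.ringKrullDim_stalk_le_add_fibre f z).trans (add_le_add ?_ ?_))
    · exact stalk_dim_le_open V (f z) hz.2
    · refine le_of_le_of_eq ?_ (hd z hz.1)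
      show _ ≤ FlatMor.localDim (f.fiber (f z)) (f.asFiber z)
      let q : f.fiber (f z) ⟶ Spec (CommRingCat.of (Y.residueField (f z))) := f.fiberToSpecResidueField (f z)
      haveI : LocallyOfFiniteType q := UOpenLib.lft_fiberToSpec f (f z)
      rw [FibDimLib.localDim_eq_closure_add_stalk q (f.asFiber z)]
      exact le_add_of_nonneg_left ((FibDimLib.localDim_nonneg
        (⟨f.asFiber z, subset_closure rfl⟩ : closure ({f.asFiber z} : Set (f.fiber (f z))))).trans (FibDimLib.localDim_le _))
  · obtain ⟨U₀, hxU₀, hUd⟩ := FibDimLib.exists_open_localDim x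
    rw [← hUd]
    let U : X.Opens := ⟨(U₀ : Set X) ∩ O, U₀.isOpen.inter hO⟩
    have hVo : IsOpen (f '' (U : Set X)) := f.isOpenMap _ U.isOpen
    let V : Y.Opens := ⟨f '' (U : Set X), hVo⟩
    have hxV : f x ∈ V := ⟨x, ⟨hxU₀, hxO⟩, rfl⟩
    refine (add_le_add (FibDimLib.localDim_le_of_open (U := V) hxV) le_rfl).trans ?_
    have hV0 : (0 : WithBot ℕ∞) ≤ topologicalKrullDim (V : Set Y) :=
      (FibDimLib.localDim_nonneg (⟨f x, hxV⟩ : (V : Set Y))).trans (FibDimLib.localDim_le _)
    have main : ∀ n : ℕ, (n : WithBot ℕ∞) ≤ topologicalKrullDim (V : Set Y) →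
        ((n + d : ℕ) : WithBot ℕ∞) ≤ topologicalKrullDim (U₀ : Set X) := by
      intro n hn
      obtain ⟨v, ⟨a, ha, hav⟩, hvn⟩ := exists_stalk_of_open V hn
      let q : f.fiber v ⟶ Spec (CommRingCat.of (Y.residueField v)) := f.fiberToSpecResidueField v
      haveI : LocallyOfFiniteType q := UOpenLib.lft_fiberToSpec f v
      haveI := LocallyOfFiniteType.jacobsonSpace (f.fiberToSpecResidueField v)
      obtain ⟨w₀, hw₀⟩ : a ∈ Set.range (f.fiberι v) := by rw [f.range_fiberι]; exact hav
      obtain ⟨w, hw, hwc⟩ := nonempty_inter_closedPoints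
        (show ((f.fiberι v) ⁻¹' (U : Set X)).Nonempty from ⟨w₀, by rw [Set.mem_preimage, hw₀]; exact ha⟩)
        (U.isOpen.preimage (f.fiberι v).continuous).isLocallyClosed
      have hfw : f (f.fiberι v w) = v := (Set.ext_iff.mp (f.range_fiberι v) _).mp ⟨w, rfl⟩
      have hw' : ringKrullDim ((f.fiber v).presheaf.stalk w) = (d : WithBot ℕ∞) := by
        rw [← FibDimLib.localDim_eq_stalk_of_isClosed q hwc, ← fibreDimAt_fiberι,
          hd _ hw.2]
      refine le_trans ?_ (stalk_dim_le_open U₀ (f.fiberι v w) hw.1)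
      rw [ringKrullDim_stalk_eq_add f v w (Flat.stalkMap f _), hw', hfw, Nat.cast_add]
      exact add_le_add hvn le_rfl
    have hU0 : (0 : WithBot ℕ∞) ≤ topologicalKrullDim (U₀ : Set X) :=
      (FibDimLib.localDim_nonneg (⟨x, hxU₀⟩ : (U₀ : Set X))).trans (FibDimLib.localDim_le _)
    refine le_of_forall_nat_le (add_nonneg hV0 (by exact_mod_cast Nat.zero_le d)) fun m hm => ?_
    by_cases hmd : m ≤ d
    · refine le_trans ?_ (main 0 hV0)
      exact_mod_cast (by omega : m ≤ 0 + d)
    · obtain ⟨n, rfl⟩ : ∃ n, m = n + d := ⟨m - d, by omega⟩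
      refine main n ?_
      rw [Nat.cast_add] at hm
      generalize topologicalKrullDim (V : Set Y) = D at hm
      induction D with
      | bot => simp at hm
      | coe D =>
        induction D using ENat.recTopCoe with
        | top => exact WithBot.coe_le_coe.mpr le_top
        | coe D => norm_cast at hm ⊢; omega



end AlgSpLib
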