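import Groth.Agent.AlgSpLib.RelDim
import Groth.Agent.AlgSpLib.TrdegInv
import Groth.Agent.AlgSpLib.FlatLocalDim
import Groth.Agent.FibDimLib.CompGeneral
import Groth.Agent.FibDimLib.Smooth
import Groth.Prelude.Def_AlgSpMor5

/-!
# Relative dimension and transcendence degree of composites
-/

set_option autoImplicit false
universe u

open CategoryTheory CategoryTheory.Limits AlgebraicGeometry Topology
open AlgSp

namespace AlgSpLib

variable {S : Scheme.{u}}

theorem etInv_resTrdeg (P : Cardinal.{u} → Prop) :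
    EtInvMor.{u} (fun _ _ h u => P (Dual3.resTrdeg h u)) := by
  intro U U' V V' h h' a b _ _ e u'
  show P (Dual3.resTrdeg h (a.base u')) ↔ P (Dual3.resTrdeg h' u')
  rw [resTrdeg_etale_square h h' a b e u']

theorem etInv_stalkDim (P : WithBot ℕ∞ → Prop) :
    EtInvPt.{u} (fun U u => P (ringKrullDim ↥(U.presheaf.stalk u))) := by
  intro U U' a _ u'
  show P (ringKrullDim (U.presheaf.stalk (a.base u'))) ↔ P (ringKrullDim (U'.presheaf.stalk u'))
  rw [ringKrullDim_stalk_etale a u']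

/-- Compatible charts for a composite. -/
theorem exists_chart_comp {F G H : Sp S} (hF : IsAlgSpace F) (hG : IsAlgSpace G) (hH : IsAlgSpace H)
    (f : F ⟶ G) (g : G ⟶ H) (x : Points F) :
    ∃ (U V W : Over S) (a : (yon S).obj U ⟶ F) (b : (yon S).obj V ⟶ G) (c : (yon S).obj W ⟶ H) (h : U ⟶ V)
      (k : V ⟶ W) (u : U.left),
      RepWith @Etale a ∧ RepWith @Etale b ∧ RepWith @Etale c ∧ a ≫ f = (yon S).map h ≫ b ∧
      b ≫ g = (yon S).map k ≫ c ∧ a ≫ f ≫ g = (yon S).map (h ≫ k) ≫ c ∧ Points.ofPt a u = x := by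
  obtain ⟨V, W, b, c, k, hb, hbs, hc, -, e⟩ := exists_chart hG hH g
  obtain ⟨U, a, h, ha, has, e'⟩ := exists_chart_over hF hG f b hb hbs
  obtain ⟨u, hu⟩ := surjective_ofPt has x
  refine ⟨U, V, W, a, b, c, h, k, u, ha, hb, hc, e', e, ?_, hu⟩
  rw [reassoc_of% e', e, Functor.map_comp, Category.assoc]

theorem fibreDim_comp {F G H : Sp S} (hF : IsAlgSpace F) (hG : IsAlgSpace G) (hH : IsAlgSpace H)
    {f : F ⟶ G} {g : G ⟶ H} (hf : LocP @LocallyOfFiniteType f) (hg : LocP @LocallyOfFiniteType g)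
    (x : Points F) (d e : WithBot ℕ∞) (hd : HasAtMor (fun _ _ h u => FlatMor.fibreDimAt h u = d) f x)
    (he : HasAtMor (fun _ _ h u => FlatMor.fibreDimAt h u = e) g (Points.map f x)) :
    HasAtMor (fun _ _ h u => FlatMor.fibreDimAt h u ≤ d + e) (f ≫ g) x ∧
      (IsFlatAtMor f x → HasAtMor (fun _ _ h u => FlatMor.fibreDimAt h u = d + e) (f ≫ g) x) := by
  obtain ⟨U, V, W, a, b, c, h, k, u, ha, hb, hc, e₁, e₂, e₃, rfl⟩ := exists_chart_comp hF hG hH f g x
  rw [map_ofPt_chart e₁, hasAtMor_iff (etInv_fibreDim fun t => t = e) hb hc e₂] at he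
  rw [hasAtMor_iff (etInv_fibreDim fun t => t = d) ha hb e₁] at hd
  haveI : LocallyOfFiniteType h.left := hf a b h ha hb e₁
  haveI : LocallyOfFiniteType k.left := hg b c k hb hc e₂
  obtain ⟨h1, h2⟩ := FibDimLib.fibreDimAt_comp_le h.left k.left u
  rw [hd, he] at h1 h2
  exact ⟨⟨U, W, a, c, h ≫ k, u, ha, hc, e₃, rfl, h1⟩,
    fun hfl => ⟨U, W, a, c, h ≫ k, u, ha, hc, e₃, rfl, h2 (hfl a b h u ha hb e₁ rfl)⟩⟩

theorem resTrdeg_comp_lqf {F G H : Sp S} (hF : IsAlgSpace F) (hG : IsAlgSpace G) (hH : IsAlgSpace H)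
    {f : F ⟶ G} {g : G ⟶ H} (hf : LocP (@LocallyQuasiFinite ⊓ @LocallyOfFiniteType) f) (x : Points F)
    (r : Cardinal.{u}) :
    HasAtMor (fun _ _ h u => Dual3.resTrdeg h u = r) (f ≫ g) x ↔
      HasAtMor (fun _ _ h u => Dual3.resTrdeg h u = r) g (Points.map f x) := by
  obtain ⟨U, V, W, a, b, c, h, k, u, ha, hb, hc, e₁, e₂, e₃, rfl⟩ := exists_chart_comp hF hG hH f g x
  haveI : LocallyQuasiFinite h.left := (hf a b h ha hb e₁).1
  rw [map_ofPt_chart e₁, hasAtMor_iff (etInv_resTrdeg fun t => t = r) hb hc e₂,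
    hasAtMor_iff (etInv_resTrdeg fun t => t = r) ha hc e₃, Over.comp_left, resTrdeg_comp,
    resTrdeg_eq_zero_of_lqf h.left, add_zero]

theorem resTrdeg_comp_sp {F G H : Sp S} (hF : IsAlgSpace F) (hG : IsAlgSpace G) (hH : IsAlgSpace H)
    {f : F ⟶ G} {g : G ⟶ H} (x : Points F) (r₁ r₂ : Cardinal.{u})
    (h1 : HasAtMor (fun _ _ h u => Dual3.resTrdeg h u = r₁) f x)
    (h2 : HasAtMor (fun _ _ h u => Dual3.resTrdeg h u = r₂) g (Points.map f x)) :
    HasAtMor (fun _ _ h u => Dual3.resTrdeg h u = r₁ + r₂) (f ≫ g) x := by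
  obtain ⟨U, V, W, a, b, c, h, k, u, ha, hb, hc, e₁, e₂, e₃, rfl⟩ := exists_chart_comp hF hG hH f g x
  rw [map_ofPt_chart e₁, hasAtMor_iff (etInv_resTrdeg fun t => t = r₂) hb hc e₂] at h2
  rw [hasAtMor_iff (etInv_resTrdeg fun t => t = r₁) ha hb e₁] at h1
  refine ⟨U, W, a, c, h ≫ k, u, ha, hc, e₃, rfl, ?_⟩
  show Dual3.resTrdeg (h.left ≫ k.left) u = r₁ + r₂
  rw [resTrdeg_comp, h1, h2, add_comm]

theorem fibreDimAt_eq_stalk_add_resTrdeg {X Y : Scheme.{u}} (f : X ⟶ Y) [LocallyOfFiniteType f] (x : X) :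
    FlatMor.fibreDimAt f x = ringKrullDim ((f.fiber (f.base x)).presheaf.stalk (f.asFiber x)) +
      ((Cardinal.toENat (Dual3.resTrdeg f x) : ℕ∞) : WithBot ℕ∞) := by
  rw [add_comm]
  show _ = (DimIneqLib.trH (f.residueFieldMap x).hom : WithBot ℕ∞) + _
  rw [← DimIneqLib.fibreClosureDim_eq_trH]
  exact @FibDimLib.localDim_eq_closure_add_stalk _ _ _ (f.fiberToSpecResidueField (f.base x))
    (UOpenLib.lft_fiberToSpec f _) (f.asFiber x)

/-- A smooth morphism has constant fibre dimension near each point. -/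
theorem exists_open_fibreDimAt_of_smooth {X Y : Scheme.{u}} (f : X ⟶ Y) [Smooth f] (x : X) :
    ∃ (O : X.Opens) (n : ℕ), x ∈ O ∧ ∀ z ∈ O, FlatMor.fibreDimAt f z = n := by
  obtain ⟨U, hU, V, hV, hx, e, h⟩ := Smooth.exists_isStandardSmooth f x
  have h' := h
  unfold RingHom.IsStandardSmooth at h'
  letI := (f.appLE U V e).hom.toAlgebra
  obtain ⟨ι, σ, hσ, hι, ⟨P⟩⟩ := h'.out
  haveI := hσ
  haveI := hι
  have h2 : (f.appLE U V e).hom.IsStandardSmoothOfRelativeDimension P.dimension :=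
    Algebra.SubmersivePresentation.isStandardSmoothOfRelativeDimension P rfl
  obtain ⟨g, hg, het⟩ := h2.exists_etale_mvPolynomial
  exact ⟨V, P.dimension, hx, fun z hz => FibDimLib.fibreDimAt_chart f hU hV e g hg het z hz⟩

theorem fibreDimAt_of_hasRelDim {X Y : Scheme.{u}} (f : X ⟶ Y) [LocallyOfFiniteType f] {d : ℕ}
    (hd : Cyc.HasRelDim f d) (x : X) : FlatMor.fibreDimAt f x = d := by
  obtain ⟨Z, hZ, h⟩ := FibDimLib.exists_fibre_component f x
  exact h.trans (hd _ Z hZ)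

end AlgSpLib
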