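import Groth.Agent.AlgSpLib.Univ
/-!
# Quasi-compact algebraic spaces and morphisms
-/

set_option autoImplicit false
universe u
open CategoryTheory CategoryTheory.Limits AlgebraicGeometry Opposite AlgSp Topology

namespace AlgSpLib

variable {S : Scheme.{u}}

theorem compactSpace_points_of_isQuasiCompactSp {F : Sp S} (h : IsQuasiCompactSp F) :
    CompactSpace (Points F) := by
  obtain ⟨U, a, -, has, hU⟩ := h
  exact ⟨(surjective_ofPt has).range_eq ▸ isCompact_range (Points.continuous_ofPt a)⟩

theorem isQuasiCompactSp_of_compactSpace {F : Sp S} (hF : IsAlgSpace F) (h : CompactSpace (Points F)) :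
    IsQuasiCompactSp F := by
  obtain ⟨U, a, ha, has⟩ := hF.atlas
  choose O hO htO using fun t : U.left =>
    exists_isAffineOpen_mem_and_subset (U := ⊤) (x := t) trivial
  obtain ⟨s, hs⟩ := isCompact_univ.elim_finite_subcover (fun t => Points.ofPt a '' (O t : Set U.left))
    (fun t => isOpenMap_ofPt ha _ (O t).2) fun x _ => by
      obtain ⟨t, rfl⟩ := surjective_ofPt has x
      exact Set.mem_iUnion.2 ⟨t, t, (htO t).1, rfl⟩
  let O' : U.left.Opens := ⨆ t : s, O t.1
  let U' : Over S := Over.mk (O'.ι ≫ U.hom)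
  let j : U' ⟶ U := Over.homMk O'.ι rfl
  have hj : RepWith @Etale ((yon S).map j ≫ a) :=
    repWith_comp ((repWith_yon_map_iff (P := (@Etale : MorphismProperty Scheme.{u})) j).2
      (inferInstanceAs (Etale O'.ι))) ha
  have hc : IsCompact (O' : Set U.left) := by
    rw [TopologicalSpace.Opens.coe_iSup]
    exact isCompact_iUnion fun t => (hO t.1).isCompact
  refine ⟨U', (yon S).map j ≫ a, hj, (repWith_surjective_iff hj.rep).2 fun x => ?_,
    isCompact_iff_compactSpace.1 hc⟩
  obtain ⟨t, ht, v, hv, rfl⟩ := Set.mem_iUnion₂.1 (hs (Set.mem_univ x))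
  have hv' : v ∈ O' := TopologicalSpace.Opens.mem_iSup.2 ⟨⟨t, ht⟩, hv⟩
  have : Points.ofPt a v ∈ Set.range (Points.map ((yon S).map j ≫ a)) := by
    rw [← range_ofPt]
    exact ⟨⟨v, hv'⟩, ofPt_yon_comp j a _⟩
  exact this

theorem isQuasiCompactSp_iff {F : Sp S} (hF : IsAlgSpace F) :
    IsQuasiCompactSp F ↔ CompactSpace (Points F) :=
  ⟨compactSpace_points_of_isQuasiCompactSp, isQuasiCompactSp_of_compactSpace hF⟩

theorem isQuasiCompactSp_yon (U : Over S) [CompactSpace ↥U.left] : IsQuasiCompactSp ((yon S).obj U) :=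
  (isQuasiCompactSp_iff (IsAlgSpace.yon_obj U)).2 (Points.schemeHomeo U).compactSpace

theorem isQuasiCompactSp_of_surjective {F G : Sp S} (hG : IsAlgSpace G) {f : F ⟶ G}
    (hs : Function.Surjective (Points.map f)) (hF : IsQuasiCompactSp F) : IsQuasiCompactSp G := by
  have := compactSpace_points_of_isQuasiCompactSp hF
  exact isQuasiCompactSp_of_compactSpace hG ⟨hs.range_eq ▸ isCompact_range (Points.continuous_map f)⟩

/-- A quasi-compact space is covered by one affine scheme. -/
theorem exists_affine_chart {F : Sp S} (hF : IsQuasiCompactSp F) :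
    ∃ (E : Over S) (p : (yon S).obj E ⟶ F), IsAffine E.left ∧ RepWith @Etale p ∧ RepWith @Surjective p := by
  obtain ⟨U, a, ha, has, hU⟩ := hF
  let 𝒰 := U.left.affineCover.finiteSubcover
  let k : ∐ 𝒰.X ⟶ U.left := Sigma.desc 𝒰.f
  have : Etale k := IsZariskiLocalAtSource.sigmaDesc (P := @Etale) fun i => inferInstance
  have : Surjective k := ⟨fun x => by
    refine ⟨Sigma.ι 𝒰.X (𝒰.idx x) (𝒰.covers x).choose, ?_⟩
    rw [← Scheme.Hom.comp_apply, Sigma.ι_desc]
    exact (𝒰.covers x).choose_spec⟩
  let E : Over S := Over.mk (k ≫ U.hom)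
  let q : E ⟶ U := Over.homMk k rfl
  exact ⟨E, (yon S).map q ≫ a, inferInstanceAs (IsAffine (∐ 𝒰.X)),
    repWith_comp ((repWith_yon_map_iff (P := (@Etale : MorphismProperty Scheme.{u})) q).2
      (inferInstanceAs (Etale k))) ha,
    repWith_comp ((repWith_yon_map_iff (P := (@Surjective : MorphismProperty Scheme.{u})) q).2
      (inferInstanceAs (Surjective k))) has⟩

/-- Quasi-compactness of a morphism can be tested on affine schemes. -/
theorem isQuasiCompactMor_iff_affine {F G : Sp S} (hF : IsAlgSpace F) (hG : IsAlgSpace G) {f : F ⟶ G} :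
    IsQuasiCompactMor f ↔ ∀ (Z : Over S), IsAffine Z.left → ∀ (g : (yon S).obj Z ⟶ G) (P : Sp S)
      (fst : P ⟶ F) (snd : P ⟶ (yon S).obj Z), IsPullback fst snd f g → IsQuasiCompactSp P := by
  refine ⟨fun h Z _ g P fst snd sq => h (IsAlgSpace.yon_obj Z) (isQuasiCompactSp_yon Z) g fst snd sq,
    fun h Z Z' hZ hqc g fst snd sq => ?_⟩
  obtain ⟨E, p, hE, -, hps⟩ := exists_affine_chart hqc
  have sq' := IsPullback.of_hasPullback snd p
  exact isQuasiCompactSp_of_surjective (isAlgSpace_of_isPullback hF hZ hG sq)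
    (map_surjective_of_isPullback sq'.flip (map_surjective_of_repWith hps))
    (h E hE (p ≫ g) _ _ _ (sq'.paste_horiz sq))

theorem isQuasiCompactMor_of_isPullback {F G F' G' : Sp S} {f : F ⟶ G} {g : G' ⟶ G} {fst : F' ⟶ F}
    {snd : F' ⟶ G'} (sq : IsPullback fst snd f g) (h : IsQuasiCompactMor f) : IsQuasiCompactMor snd :=
  fun _ _ hZ hqc g' fst' _ sq' => h hZ hqc (g' ≫ g) (fst' ≫ fst) _ (sq'.paste_horiz sq)

theorem isQuasiCompactMor_comp {F G H : Sp S} (hG : IsAlgSpace G) (hH : IsAlgSpace H) {f : F ⟶ G}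
    {g : G ⟶ H} (hf : IsQuasiCompactMor f) (hg : IsQuasiCompactMor g) : IsQuasiCompactMor (f ≫ g) := by
  intro Z Z' hZ hqc t fst snd sq
  have sq₁ := IsPullback.of_hasPullback g t
  have e : (fst ≫ f) ≫ g = snd ≫ t := (Category.assoc _ _ _).trans sq.w
  refine hf (isAlgSpace_pullback hG hZ hH g t) (hg hZ hqc t _ _ sq₁) (pullback.fst g t) fst
    (sq₁.lift _ _ e) (IsPullback.of_bot ?_ (sq₁.lift_fst _ _ _).symm sq₁)
  rw [sq₁.lift_snd]
  exact sq

theorem isQuasiCompactMor_of_repWith {F G : Sp S} (hF : IsAlgSpace F) (hG : IsAlgSpace G) {f : F ⟶ G}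
    (hf : RepWith @QuasiCompact f) : IsQuasiCompactMor f := by
  rw [isQuasiCompactMor_iff_affine hF hG]
  intro Z hZ g P fst snd sq
  have : QuasiCompact (hf.rep.snd g).left := hf.property_snd g
  have hW : CompactSpace ↥(hf.rep.pullback g).left := QuasiCompact.compactSpace_of_compactSpace (hf.rep.snd g).left
  exact isQuasiCompactSp_of_surjective (isAlgSpace_of_isPullback hF (IsAlgSpace.yon_obj Z) hG sq)
    (f := (sq.isoIsPullback _ _ (hf.rep.isPullback g)).inv)
    (fun x => ⟨Points.map (sq.isoIsPullback _ _ (hf.rep.isPullback g)).hom x, by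
      rw [← Points.map_comp, Iso.hom_inv_id, Points.map_id]⟩)
    (isQuasiCompactSp_yon _)

theorem repWith_quasiCompact_iff {F G : Sp S} (hF : IsAlgSpace F) (hG : IsAlgSpace G) {f : F ⟶ G}
    (hf : Representable f) : RepWith @QuasiCompact f ↔ IsQuasiCompactMor f := by
  refine ⟨isQuasiCompactMor_of_repWith hF hG, fun h => ⟨hf, fun T W g fst snd sq => ?_⟩⟩
  change QuasiCompact snd.left
  refine quasiCompact_iff_forall_isAffineOpen.mpr fun O hO => ?_
  let T' : Over S := Over.mk (O.ι ≫ T.hom)
  let j : T' ⟶ T := Over.homMk O.ι rfl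
  have : IsAffine T'.left := hO
  have sqO : IsPullback ((yon S).map (pullback.fst snd j)) ((yon S).map (pullback.snd snd j))
      ((yon S).map snd) ((yon S).map j) := (IsPullback.of_hasPullback snd j).map (yon S)
  have := compactSpace_points_of_isQuasiCompactSp
    (h (IsAlgSpace.yon_obj T') (isQuasiCompactSp_yon T') _ _ _ (sqO.paste_horiz sq))
  have hc := isCompact_range
    (Points.continuous_map ((yon S).map (pullback.fst snd j)))
  rw [range_map_of_isPullback sqO.flip] at hc
  have e : snd.left ⁻¹' (O : Set T.left) = Points.schemeHomeo W ⁻¹'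
      (Points.map ((yon S).map snd) ⁻¹' Set.range (Points.map ((yon S).map j))) := by
    ext w
    rw [Set.mem_preimage, Set.mem_preimage, Set.mem_preimage, Points.map_yon_map_apply, ← range_ofPt]
    constructor
    · intro hw
      exact ⟨⟨_, hw⟩, ((Points.schemeEquiv T).symm.injective
        ((Points.toScheme_ofPt j _).trans (Points.toScheme_ofScheme T _).symm))⟩
    · rintro ⟨o, ho⟩
      have := congrArg (Points.toScheme T) ho
      rw [Points.toScheme_ofPt] at this
      have h2 : Points.toScheme T (Points.schemeHomeo T (snd.left w)) = snd.left w := Points.toScheme_ofScheme T _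
      rw [h2] at this
      exact this ▸ o.2
  rw [Scheme.Hom.coe_preimage, e]
  exact (Points.schemeHomeo W).isCompact_preimage.2 hc

theorem isCompact_preimage {F G : Sp S} (hG : IsAlgSpace G) {f : F ⟶ G} (hf : IsQuasiCompactMor f)
    {V : Set (Points G)} (hV : IsOpen V) (hVc : IsCompact V) : IsCompact (Points.map f ⁻¹' V) := by
  have hA := isAlgSpace_openSub hG hV
  have hj := repWith_openSubι G hV
  have hinj : IsEmbedding (Points.map (openSubι G V)) := by
    refine (IsOpenEmbedding.of_continuous_injective_isOpenMap (Points.continuous_map _) ?_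
      (isOpenMap_map_of_isEtaleMor hA (isEtaleMor_of_openImmersion hj))).isEmbedding
    intro x y e
    have : IsPullback (𝟙 (openSub G V)) (𝟙 _) (openSubι G V) (openSubι G V) := IsKernelPair.id_of_mono _
    obtain ⟨w, rfl, rfl⟩ := exists_point_isPullback this x y e
    rfl
  have : CompactSpace (Points (openSub G V)) := ⟨hinj.isCompact_iff.2 (by
    rw [Set.image_univ, range_openSubι]; exact hVc)⟩
  have sq := IsPullback.of_hasPullback f (openSubι G V)
  have := compactSpace_points_of_isQuasiCompactSp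
    (hf hA (isQuasiCompactSp_of_compactSpace hA this) _ _ _ sq)
  rw [← range_openSubι G (W := V), ← range_map_of_isPullback sq.flip]
  exact isCompact_range (Points.continuous_map _)

/-- Descent of quasi-compactness along an open surjection of the base. -/
theorem isQuasiCompactMor_of_base_change {F G G' F' : Sp S} (hF : IsAlgSpace F) (hG : IsAlgSpace G)
    (hG' : IsAlgSpace G') {f : F ⟶ G} {p : G' ⟶ G} (hp : UnivSp IsOpenMor p)
    (hps : Function.Surjective (Points.map p)) {fst : F' ⟶ F} {snd : F' ⟶ G'}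
    (sq : IsPullback fst snd f p) (h : IsQuasiCompactMor snd) : IsQuasiCompactMor f := by
  rw [isQuasiCompactMor_iff_affine hF hG]
  intro Z hZ g P fst' snd' sq'
  have hW := IsPullback.of_hasPullback p g
  have hWa : IsAlgSpace (pullback p g) := isAlgSpace_pullback hG' (IsAlgSpace.yon_obj Z) hG p g
  have hopen : IsOpenMap (Points.map (pullback.snd p g)) := hp (IsAlgSpace.yon_obj Z) g _ _ hW
  obtain ⟨U, a, ha, has⟩ := hWa.atlas
  choose O hO htO using fun t : U.left =>
    exists_isAffineOpen_mem_and_subset (U := ⊤) (x := t) trivial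
  let c := pullback.snd p g
  have hcs : Function.Surjective (Points.map c) := map_surjective_of_isPullback hW hps
  have : CompactSpace (Points ((yon S).obj Z)) := (Points.schemeHomeo Z).compactSpace
  obtain ⟨s, hs⟩ := isCompact_univ.elim_finite_subcover
    (fun t => Points.map c '' (Points.ofPt a '' (O t : Set U.left)))
    (fun t => hopen _ (isOpenMap_ofPt ha _ (O t).2)) fun z _ => by
      obtain ⟨w, rfl⟩ := hcs z
      obtain ⟨t, rfl⟩ := surjective_ofPt has w
      exact Set.mem_iUnion.2 ⟨t, _, ⟨t, (htO t).1, rfl⟩, rfl⟩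
  let O' : U.left.Opens := ⨆ t : s, O t.1
  let U' : Over S := Over.mk (O'.ι ≫ U.hom)
  let j : U' ⟶ U := Over.homMk O'.ι rfl
  have : CompactSpace ↥U'.left := by
    refine isCompact_iff_compactSpace.1 (?_ : IsCompact (O' : Set U.left))
    rw [TopologicalSpace.Opens.coe_iSup]
    exact isCompact_iUnion fun t => (hO t.1).isCompact
  let e : (yon S).obj U' ⟶ pullback p g := (yon S).map j ≫ a
  have hes : Function.Surjective (Points.map (e ≫ c)) := fun z => by
    obtain ⟨t, ht, w, ⟨v, hv, rfl⟩, rfl⟩ := Set.mem_iUnion₂.1 (hs (Set.mem_univ z))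
    have hv' : v ∈ O' := TopologicalSpace.Opens.mem_iSup.2 ⟨⟨t, ht⟩, hv⟩
    refine ⟨Points.schemeHomeo U' ⟨v, hv'⟩, ?_⟩
    rw [Points.map_comp]
    refine congrArg _ ((congrFun (ofPt_comp_ofScheme e) _).symm.trans ?_)
    exact ofPt_yon_comp j a _
  have sqP := IsPullback.of_hasPullback snd' (e ≫ c)
  have big : IsPullback (pullback.fst snd' (e ≫ c) ≫ fst') (pullback.snd snd' (e ≫ c)) f
      ((e ≫ pullback.fst p g) ≫ p) := by
    have he' : (e ≫ pullback.fst p g) ≫ p = (e ≫ c) ≫ g := by
      rw [Category.assoc, hW.w, ← Category.assoc]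
    rw [he']
    exact sqP.paste_horiz sq'
  refine isQuasiCompactSp_of_surjective (isAlgSpace_of_isPullback hF (IsAlgSpace.yon_obj Z) hG sq')
    (map_surjective_of_isPullback sqP.flip hes) ?_
  refine h (IsAlgSpace.yon_obj U') (isQuasiCompactSp_yon U') (e ≫ pullback.fst p g)
    (sq.lift _ _ (big.w.trans (Category.assoc _ _ _).symm)) _
    (IsPullback.of_right ?_ (sq.lift_snd _ _ _) sq)
  rw [sq.lift_fst]
  exact big

end AlgSpLib
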