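import Groth.Agent.AlgSpLib.LocP
import Groth.Agent.AlgSpLib.Points
import Groth.Prelude.Def_AlgSpCov
/-!
# Properties local on source and target
-/

set_option autoImplicit false
universe u
open CategoryTheory CategoryTheory.Limits AlgebraicGeometry AlgSp

namespace AlgSpLib

variable {S : Scheme.{u}}

theorem isEtaleMor_cancel {F G H : Sp S} (hG : IsAlgSpace G) (hH : IsAlgSpace H) {f : F ⟶ G}
    {g : G ⟶ H} (hg : IsEtaleMor g) (h : IsEtaleMor (f ≫ g)) : IsEtaleMor f := by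
  refine (isEtaleMor_iff_locP hG).2 fun U V a b k ha hb e => etale_cancel k (b ≫ g) ?_ (hg b hb)
  rw [← Category.assoc, ← e, Category.assoc]
  exact h a ha

section Smooth

variable {P : MorphismProperty (Sp S)} (hP : IsSmoothLocalST P)
include hP

theorem IsSmoothLocalST.local_source : IsLocalOnSource (IsSmCover (S := S)) P :=
  fun _ _ Xi g hX hXi hτ Y f hY => ⟨fun hf i => hP.precomp (hXi i) hX hY (g i) f (hτ.1 i) hf,
    fun h => (hP.locality hX hY f).2 fun x => by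
      obtain ⟨i, y, hy⟩ := hτ.2 x
      exact ⟨Xi i, Y, g i, 𝟙 Y, g i ≫ f, y, hXi i, hY, hτ.1 i, locP_smooth_id Y,
        (Category.comp_id _).symm, hy, h i⟩⟩

theorem IsSmoothLocalST.local_base : IsLocalOnBase (IsSmCover (S := S)) P :=
  fun _ Y Yi g hY hYi hτ X f hX Xi p q hXi sq =>
    ⟨fun hf i => hP.baseChange hX hY (hXi i) (hYi i) f (g i) (p i) (q i) (sq i) (hτ.1 i) hf,
    fun h => (hP.locality hX hY f).2 fun x => by
      obtain ⟨i, y, hy⟩ := hτ.2 (Points.map f x)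
      obtain ⟨w, hw, -⟩ := exists_point_isPullback (sq i) x y hy.symm
      exact ⟨Xi i, Yi i, q i, g i, p i, w, hXi i, hYi i,
        locP_of_isPullback (hYi i) hY hX (sq i).flip (hτ.1 i), hτ.1 i, (sq i).w, hw, h i⟩⟩

theorem IsSmoothLocalST.postcomp {X Y Z : Sp S} (hX : IsAlgSpace X) (hY : IsAlgSpace Y)
    (hZ : IsAlgSpace Z) {f : X ⟶ Y} {g : Y ⟶ Z} (hf : P f) (hg : LocP @Smooth g) : P (f ≫ g) :=
  (hP.locality hX hZ _).2 fun x => ⟨X, Y, 𝟙 X, g, f, x, hX, hY, locP_smooth_id X, hg,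
    Category.id_comp _, Points.map_id x, hf⟩

end Smooth

theorem isSmoothLocalST_of_local (P : MorphismProperty (Sp S))
    (h1 : IsLocalOnSource (IsSmCover (S := S)) P) (h2 : IsLocalOnBase (IsSmCover (S := S)) P)
    (h3 : ∀ ⦃X Y Z : Space S⦄ (f : X ⟶ Y) (g : Y ⟶ Z), P f.hom → LocP @Smooth g.hom → P (f ≫ g).hom) :
    IsSmoothLocalST P where
  precomp X Y Z hX hY hZ f g hf hg := by
    let Yi : ULift.{u} Bool → Sp S := fun i => bif i.down then X else Y
    let gi : ∀ i, Yi i ⟶ Y := fun i => match i with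
      | ⟨true⟩ => f
      | ⟨false⟩ => 𝟙 Y
    exact (h1 Yi gi hY (fun i => match i with
      | ⟨true⟩ => hX
      | ⟨false⟩ => hY) ⟨fun i => match i with
      | ⟨true⟩ => hf
      | ⟨false⟩ => locP_smooth_id Y, fun x => ⟨⟨false⟩, x, Points.map_id x⟩⟩ g hZ).1 hg ⟨true⟩
  baseChange X Y X' Y' hX hY hX' hY' f g f' g' sq hg hf := by
    let Yi : ULift.{u} Bool → Sp S := fun i => bif i.down then Y' else Y
    let Xi : ULift.{u} Bool → Sp S := fun i => bif i.down then X' else X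
    let gi : ∀ i, Yi i ⟶ Y := fun i => match i with
      | ⟨true⟩ => g
      | ⟨false⟩ => 𝟙 Y
    let pi' : ∀ i, Xi i ⟶ Yi i := fun i => match i with
      | ⟨true⟩ => f'
      | ⟨false⟩ => f
    let qi : ∀ i, Xi i ⟶ X := fun i => match i with
      | ⟨true⟩ => g'
      | ⟨false⟩ => 𝟙 X
    exact (h2 Yi gi hY (fun i => match i with
      | ⟨true⟩ => hY'
      | ⟨false⟩ => hY) ⟨fun i => match i with
      | ⟨true⟩ => hg
      | ⟨false⟩ => locP_smooth_id Y, fun x => ⟨⟨false⟩, x, Points.map_id x⟩⟩ f hX Xi pi' qi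
        (fun i => match i with
      | ⟨true⟩ => hX'
      | ⟨false⟩ => hX) (fun i => match i with
      | ⟨true⟩ => sq
      | ⟨false⟩ => IsPullback.id_horiz f)).1 hf ⟨true⟩
  locality X Y hX hY f := by
    refine ⟨fun hf x => ⟨X, Y, 𝟙 X, 𝟙 Y, f, x, hX, hY, locP_smooth_id X, locP_smooth_id Y,
      (Category.id_comp f).trans (Category.comp_id f).symm, Points.map_id x, hf⟩, fun H => ?_⟩
    obtain ⟨U₀, p, hp, hps⟩ := hX.atlas
    choose U V a b h v hU hV ha hb e hv hPh using fun u : U₀.left => H (Points.ofPt p u)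
    refine (h1 U a hX hU ⟨ha, fun x => ?_⟩ f hY).2 fun u => ?_
    · obtain ⟨u, rfl⟩ := surjective_ofPt hps x
      exact ⟨u, v u, hv u⟩
    · rw [e u]
      exact h3 (X := ⟨U u, hU u⟩) (Y := ⟨V u, hV u⟩) (Z := ⟨Y, hY⟩)
        (ObjectProperty.homMk (h u)) (ObjectProperty.homMk (b u)) (hPh u) (hb u)

section EtaleSmooth

variable {P : MorphismProperty (Sp S)} (hP : IsEtaleSmoothLocalST P)
include hP

theorem IsEtaleSmoothLocalST.local_source : IsLocalOnSource (IsEtCover (S := S)) P :=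
  fun _ X Xi g hX hXi hτ Y f hY => ⟨fun hf i => hP.precomp (hXi i) hX hY (g i) f (hτ.1 i) hf,
    fun h => (hP.locality hX hY f).2 fun x => by
      obtain ⟨i, y, hy⟩ := hτ.2 x
      exact ⟨Y, X, Xi i, 𝟙 Y, 𝟙 X, f, g i, y, hY, hX, hXi i, locP_smooth_id Y,
        IsPullback.id_horiz f, hτ.1 i, by rw [Category.comp_id]; exact hy, h i⟩⟩

theorem IsEtaleSmoothLocalST.local_base : IsLocalOnBase (IsSmCover (S := S)) P :=
  fun _ Y Yi g hY hYi hτ X f hX Xi p q hXi sq =>
    ⟨fun hf i => hP.baseChange hX hY (hXi i) (hYi i) f (g i) (p i) (q i) (sq i) (hτ.1 i) hf,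
    fun h => (hP.locality hX hY f).2 fun x => by
      obtain ⟨i, y, hy⟩ := hτ.2 (Points.map f x)
      obtain ⟨w, hw, -⟩ := exists_point_isPullback (sq i) x y hy.symm
      exact ⟨Yi i, Xi i, Xi i, g i, q i, p i, 𝟙 _, w, hYi i, hXi i, hXi i, hτ.1 i, sq i,
        isEtaleMor_id _, by rw [Category.id_comp]; exact hw, by rw [Category.id_comp]; exact h i⟩⟩

theorem IsEtaleSmoothLocalST.postcomp {X Y Z : Sp S} (hX : IsAlgSpace X) (hY : IsAlgSpace Y)
    (hZ : IsAlgSpace Z) {f : X ⟶ Y} {g : Y ⟶ Z} (hf : P f) (hg : IsEtaleMor g) : P (f ≫ g) := by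
  have sq := IsPullback.of_hasPullback (f ≫ g) g
  have hW := isAlgSpace_pullback hX hY hZ (f ≫ g) g
  have hp : IsEtaleMor (pullback.fst (f ≫ g) g) :=
    isEtaleMor_of_isPullback hY hZ hX sq.flip hg
  let e : X ⟶ pullback (f ≫ g) g := pullback.lift (𝟙 X) f (Category.id_comp _)
  refine (hP.locality hX hZ _).2 fun x => ⟨Y, _, X, g, _, _, e, x, hY, hW, hX,
    locP_smooth_of_isEtaleMor hg, sq, isEtaleMor_cancel hW hX hp ?_, ?_, ?_⟩
  · rw [pullback.lift_fst]; exact isEtaleMor_id X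
  · rw [pullback.lift_fst]; exact Points.map_id x
  · rwa [pullback.lift_snd]

theorem IsEtaleSmoothLocalST.of_postcomp {X Y Z : Sp S} (hX : IsAlgSpace X) (hY : IsAlgSpace Y)
    (hZ : IsAlgSpace Z) {f : X ⟶ Y} {g : Y ⟶ Z} (hg : IsEtaleMor g) (hfg : P (f ≫ g)) : P f := by
  have sq := IsPullback.of_hasPullback (f ≫ g) g
  have hW := isAlgSpace_pullback hX hY hZ (f ≫ g) g
  have hp : IsEtaleMor (pullback.fst (f ≫ g) g) :=
    isEtaleMor_of_isPullback hY hZ hX sq.flip hg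
  have hq := hP.baseChange hX hZ hW hY _ g _ _ sq (locP_smooth_of_isEtaleMor hg) hfg
  let e : X ⟶ pullback (f ≫ g) g := pullback.lift (𝟙 X) f (Category.id_comp _)
  have := hP.precomp hX hW hY e _ (isEtaleMor_cancel hW hX hp
    (by rw [pullback.lift_fst]; exact isEtaleMor_id X)) hq
  rwa [pullback.lift_snd] at this

end EtaleSmooth

end AlgSpLib
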