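import Groth.Agent.AlgSpLib.HasAt
import Groth.Agent.FibDimLib.SchemeInv
import Groth.Agent.FibDimLib.Semicont
import Groth.Agent.FibDimLib.Apps
import Groth.Agent.FibDimLib.TopLocalDim
import Groth.Agent.FibDimLib.Retro

/-!
# Relative dimension of morphisms of algebraic spaces
-/

set_option autoImplicit false
universe u

open CategoryTheory CategoryTheory.Limits AlgebraicGeometry Topology
open AlgSp

namespace AlgSpLib

variable {S : Scheme.{u}}

theorem etInv_fibreDim (P : WithBot ℕ∞ → Prop) :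
    EtInvMor.{u} (fun _ _ h u => P (FlatMor.fibreDimAt h u)) := by
  intro U U' V V' h h' a b _ _ e u'
  show P (FlatMor.fibreDimAt h (a.base u')) ↔ P (FlatMor.fibreDimAt h' u')
  rw [FibDimLib.fibreDimAt_eq_of_etale_square h h' a b e u']

theorem etInv_localDim (P : WithBot ℕ∞ → Prop) :
    EtInvPt.{u} (fun U u => P (FlatMor.localDim ↥U u)) := by
  intro U U' a _ u'
  show P (FlatMor.localDim U (a.base u')) ↔ P (FlatMor.localDim U' u')
  rw [FibDimLib.localDim_eq_of_etale a u']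

theorem fibreDimAt_nonneg {X Y : Scheme.{u}} (f : X ⟶ Y) (x : X) : 0 ≤ FlatMor.fibreDimAt f x :=
  FibDimLib.localDim_nonneg _

theorem fibreDimAt_eq_zero_iff {X Y : Scheme.{u}} (f : X ⟶ Y) [LocallyOfFiniteType f] (x : X) :
    FlatMor.fibreDimAt f x = 0 ↔ IsOpen ({f.asFiber x} : Set (f.fiber (f.base x))) := by
  haveI : LocallyOfFiniteType (f.fiberToSpecResidueField (f.base x)) := UOpenLib.lft_fiberToSpec f _
  haveI : IsLocallyNoetherian (f.fiber (f.base x)) :=
    LocallyOfFiniteType.isLocallyNoetherian (f.fiberToSpecResidueField (f.base x))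
  refine FibDimLib.localDim_eq_zero_iff _ fun U hU => ?_
  obtain ⟨_, ⟨V, hV, rfl⟩, hxV, hVU⟩ :=
    (f.fiber (f.base x)).isBasis_affineOpens.exists_subset_of_mem_open hU U.isOpen
  refine ⟨V, hxV, hVU, ?_⟩
  have hV : IsAffineOpen V := hV
  have : CompactSpace ↥(V : Scheme.{u}) := isCompact_iff_compactSpace.mp hV.isCompact
  have : IsNoetherian (V : Scheme.{u}) := {}
  exact (inferInstance : TopologicalSpace.NoetherianSpace ↥(V : Scheme.{u}))

theorem lqf_iff_fibreDimAt_eq_zero {X Y : Scheme.{u}} (f : X ⟶ Y) [LocallyOfFiniteType f] :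
    LocallyQuasiFinite f ↔ ∀ x : X, FlatMor.fibreDimAt f x = 0 := by
  refine ⟨fun _ x => (fibreDimAt_eq_zero_iff f x).2
    (Scheme.Hom.quasiFiniteAt_iff_isOpen_singleton_asFiber.1 (f.quasiFiniteAt x)), fun h => ?_⟩
  refine (locallyQuasiFinite_iff_isDiscrete_preimage_singleton).2 fun y => ?_
  rw [isDiscrete_iff_discreteTopology]
  refine discreteTopology_iff_isOpen_singleton.2 fun ⟨x, hx⟩ => ?_
  obtain rfl : f.base x = y := hx
  have := (f.fiberHomeo (f.base x)).isOpenMap _ ((fibreDimAt_eq_zero_iff f x).1 (h x))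
  simpa [Scheme.Hom.asFiber] using this

/-- "Quasi-finite near a point" is "fibre dimension zero". -/
theorem near_lqf_iff {X Y : Scheme.{u}} (f : X ⟶ Y) [LocallyOfFiniteType f] (x : X) :
    (∃ W : X.Opens, x ∈ W ∧ LocallyQuasiFinite (W.ι ≫ f) ∧ LocallyOfFiniteType (W.ι ≫ f)) ↔
      FlatMor.fibreDimAt f x = 0 := by
  constructor
  · rintro ⟨W, hx, h1, h2⟩
    rw [← show W.ι.base ⟨x, hx⟩ = x from rfl, ← FibDimLib.fibreDimAt_comp_isOpenImmersion]
    exact (lqf_iff_fibreDimAt_eq_zero _).1 h1 _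
  · intro h
    let O : X.Opens := ⟨{u | FlatMor.fibreDimAt f u ≤ 0}, FibDimLib.isOpen_fibreDimAt_le f 0⟩
    refine ⟨O, h.le, (lqf_iff_fibreDimAt_eq_zero _).2 fun w => ?_, inferInstance⟩
    rw [FibDimLib.fibreDimAt_comp_isOpenImmersion]
    exact le_antisymm w.2 (fibreDimAt_nonneg _ _)

/-- The set where the relative dimension satisfies a condition, in a surjective chart. -/
theorem setOf_hasAtMor_eq_image {Q : ∀ (U V : Scheme.{u}), (U ⟶ V) → ↥U → Prop} (hQ : EtInvMor Q) {F G : Sp S}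
    {f : F ⟶ G} {U V : Over S} {a : (yon S).obj U ⟶ F} {b : (yon S).obj V ⟶ G} {h : U ⟶ V}
    (ha : RepWith @Etale a) (has : RepWith @Surjective a) (hb : RepWith @Etale b)
    (e : a ≫ f = (yon S).map h ≫ b) :
    {x : Points F | HasAtMor Q f x} = Points.ofPt a '' {u | Q U.left V.left h.left u} := by
  ext x
  obtain ⟨u, rfl⟩ := surjective_ofPt has x
  refine ⟨fun hx => ⟨u, (hasAtMor_iff hQ ha hb e u).1 hx, rfl⟩, ?_⟩
  rintro ⟨u', hu', he⟩
  show HasAtMor Q f (Points.ofPt a u)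
  rw [← he]
  exact (hasAtMor_iff hQ ha hb e u').2 hu'

theorem isOpen_hasAtMor_fibreDim_le {F G : Sp S} (hF : IsAlgSpace F) (hG : IsAlgSpace G) {f : F ⟶ G}
    (hf : LocP @LocallyOfFiniteType f) (c : WithBot ℕ∞) :
    IsOpen {x : Points F | HasAtMor (fun _ _ h u => FlatMor.fibreDimAt h u ≤ c) f x} := by
  obtain ⟨U, V, a, b, h, ha, has, hb, -, e⟩ := exists_chart hF hG f
  haveI : LocallyOfFiniteType h.left := hf a b h ha hb e
  rw [setOf_hasAtMor_eq_image (etInv_fibreDim fun d => d ≤ c) ha has hb e]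
  exact isOpenMap_ofPt ha _ (FibDimLib.isOpen_fibreDimAt_le h.left c)

theorem isCompact_inter_fibreDim_le {F G : Sp S} (hF : IsAlgSpace F) (hG : IsAlgSpace G) {f : F ⟶ G}
    (hf : LocP @LocallyOfFinitePresentation f) (c : WithBot ℕ∞) {K : Set (Points F)} (hK : IsOpen K)
    (hKc : IsCompact K) :
    IsCompact (K ∩ {x : Points F | HasAtMor (fun _ _ h u => FlatMor.fibreDimAt h u ≤ c) f x}) := by
  obtain ⟨U, V, a, b, h, ha, has, hb, -, e⟩ := exists_chart hF hG f
  haveI : LocallyOfFinitePresentation h.left := hf a b h ha hb e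
  rw [setOf_hasAtMor_eq_image (etInv_fibreDim fun d => d ≤ c) ha has hb e]
  have hcov : ∀ x ∈ K, ∃ W : U.left.Opens, IsAffineOpen W ∧ (W : Set U.left) ⊆ Points.ofPt a ⁻¹' K ∧
      x ∈ Points.ofPt a '' (W : Set U.left) := by
    intro x hx
    obtain ⟨u, rfl⟩ := surjective_ofPt has x
    obtain ⟨_, ⟨W, hW, rfl⟩, huW, hWK⟩ := U.left.isBasis_affineOpens.exists_subset_of_mem_open
      (show u ∈ Points.ofPt a ⁻¹' K from hx) (hK.preimage (Points.continuous_ofPt a))
    exact ⟨W, hW, hWK, u, huW, rfl⟩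
  choose W hW hWK hxW using hcov
  obtain ⟨t, ht⟩ := hKc.elim_finite_subcover (fun x : K => Points.ofPt a '' (W x x.2 : Set U.left))
    (fun x => isOpenMap_ofPt ha _ (W x x.2).isOpen)
    (fun x hx => Set.mem_iUnion.2 ⟨⟨x, hx⟩, hxW x hx⟩)
  have hset : K ∩ Points.ofPt a '' {u | FlatMor.fibreDimAt h.left u ≤ c} =
      ⋃ x ∈ t, Points.ofPt a '' ((W x.1 x.2 : Set U.left) ∩ {u | FlatMor.fibreDimAt h.left u ≤ c}) := by
    refine Set.Subset.antisymm ?_ ?_
    · rintro y ⟨hy, u', hu', rfl⟩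
      obtain ⟨x, hxt, w, hw, he⟩ := Set.mem_iUnion₂.1 (ht hy)
      refine Set.mem_iUnion₂.2 ⟨x, hxt, w, ⟨hw, ?_⟩, he⟩
      have h1 := (hasAtMor_iff (Q := fun _ _ h u => FlatMor.fibreDimAt h u ≤ c) (etInv_fibreDim fun d => d ≤ c) ha hb e u').2 hu'
      rw [← he] at h1
      exact (hasAtMor_iff (etInv_fibreDim fun d => d ≤ c) ha hb e w).1 h1
    · refine Set.iUnion₂_subset fun x _ => ?_
      rintro _ ⟨w, ⟨hw, hw'⟩, rfl⟩
      exact ⟨hWK x.1 x.2 hw, w, hw', rfl⟩
  rw [hset]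
  refine t.finite_toSet.isCompact_biUnion fun x _ => IsCompact.image ?_ (Points.continuous_ofPt a)
  rw [Set.inter_comm]
  exact FibDimLib.isRetrocompact_fibreDimAt_le h.left c (hW x.1 x.2).isCompact (W x.1 x.2).isOpen

theorem locP_lqf_iff_fibreDim_zero {F G : Sp S} (hF : IsAlgSpace F) (hG : IsAlgSpace G) {f : F ⟶ G}
    (hf : LocP @LocallyOfFiniteType f) :
    LocP (@LocallyQuasiFinite ⊓ @LocallyOfFiniteType) f ↔
      ∀ x : Points F, HasAtMor (fun _ _ h u => FlatMor.fibreDimAt h u = 0) f x := by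
  obtain ⟨U, V, a, b, h, ha, has, hb, -, e⟩ := exists_chart hF hG f
  haveI : LocallyOfFiniteType h.left := hf a b h ha hb e
  constructor
  · intro hq x
    obtain ⟨u, rfl⟩ := surjective_ofPt has x
    exact (hasAtMor_iff (etInv_fibreDim fun d => d = 0) ha hb e u).2
      ((lqf_iff_fibreDimAt_eq_zero h.left).1 (hq a b h ha hb e).1 u)
  · intro H
    refine locP_of_chart ha has hb e ⟨(lqf_iff_fibreDimAt_eq_zero h.left).2 fun u => ?_, inferInstance⟩
    exact (hasAtMor_iff (etInv_fibreDim fun d => d = 0) ha hb e u).1 (H _)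

theorem hasAtMor_fibreDim_baseChange {F G F' G' : Sp S} (hF : IsAlgSpace F) (hG : IsAlgSpace G)
    (hG' : IsAlgSpace G') {f : F ⟶ G} {g : G' ⟶ G} {fst : F' ⟶ F} {snd : F' ⟶ G'}
    (sq : IsPullback fst snd f g) (hf : LocP @LocallyOfFiniteType f) (P : WithBot ℕ∞ → Prop) (x' : Points F') :
    HasAtMor (fun _ _ h u => P (FlatMor.fibreDimAt h u)) snd x' ↔
      HasAtMor (fun _ _ h u => P (FlatMor.fibreDimAt h u)) f (Points.map fst x') := by
  obtain ⟨U, V, U', V', a, b, h, a', b', h', p, v, u', ha, hb, ha', hb', e, e', hsq, hu', hu, -⟩ :=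
    exists_chart_baseChange hF hG hG' sq x'
  haveI : LocallyOfFiniteType h.left := hf a b h ha hb e
  rw [← hu', hasAtMor_iff (etInv_fibreDim P) ha' hb' e' u', hu', ← hu,
    hasAtMor_iff (etInv_fibreDim P) ha hb e _, FibDimLib.fibreDimAt_baseChange hsq u']

theorem hasAtMor_etale_comp {Q : ∀ (U V : Scheme.{u}), (U ⟶ V) → ↥U → Prop} (hQ : EtInvMor Q) {F' F G : Sp S}
    (hF' : IsAlgSpace F') (hF : IsAlgSpace F) (hG : IsAlgSpace G) {g : F' ⟶ F} (hg : IsEtaleMor g) (f : F ⟶ G)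
    (y : Points F') : HasAtMor Q (g ≫ f) y ↔ HasAtMor Q f (Points.map g y) := by
  obtain ⟨U, V, a, b, h, ha, has, hb, -, e⟩ := exists_chart hF hG f
  obtain ⟨U', a', p, ha', has', e'⟩ := exists_chart_over hF' hF g a ha has
  haveI : Etale p.left := locP_etale_of_isEtaleMor hg a' a p ha' ha e'
  obtain ⟨u', rfl⟩ := surjective_ofPt has' y
  rw [hasAtMor_iff (h := p ≫ h) hQ ha' hb
    (by rw [reassoc_of% e', e, Functor.map_comp, Category.assoc]) u',
    map_ofPt_chart e', hasAtMor_iff hQ ha hb e]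
  exact (hQ h.left (p ≫ h).left p.left (𝟙 _) (by simp) u').symm

theorem hasAtMor_near_lqf_iff {F G : Sp S} (hF : IsAlgSpace F) (hG : IsAlgSpace G) {f : F ⟶ G}
    (hf : LocP @LocallyOfFiniteType f) (x : Points F) :
    HasAtMor (fun U _ h u => ∃ W : U.Opens, u ∈ W ∧ LocallyQuasiFinite (W.ι ≫ h) ∧ LocallyOfFiniteType (W.ι ≫ h))
        f x ↔ HasAtMor (fun _ _ h u => FlatMor.fibreDimAt h u = 0) f x := by
  constructor <;> rintro ⟨U, V, a, b, h, u, ha, hb, e, hu, hq⟩
  · haveI : LocallyOfFiniteType h.left := hf a b h ha hb e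
    exact ⟨U, V, a, b, h, u, ha, hb, e, hu, (near_lqf_iff h.left u).1 hq⟩
  · haveI : LocallyOfFiniteType h.left := hf a b h ha hb e
    exact ⟨U, V, a, b, h, u, ha, hb, e, hu, (near_lqf_iff h.left u).2 hq⟩

/-- The open subspace where a morphism has relative dimension zero. -/
theorem exists_lqf_open {F G : Sp S} (hF : IsAlgSpace F) (hG : IsAlgSpace G) {f : F ⟶ G}
    (hf : LocP @LocallyOfFiniteType f) :
    ∃ (F' : Sp S) (j : F' ⟶ F), IsAlgSpace F' ∧ RepWith @IsOpenImmersion j ∧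
      LocP (@LocallyQuasiFinite ⊓ @LocallyOfFiniteType) (j ≫ f) ∧
      ∀ x : Points F, x ∈ Set.range (Points.map j) ↔ HasAtMor (fun _ _ h u => FlatMor.fibreDimAt h u = 0) f x := by
  let W : Set (Points F) := {x | HasAtMor (fun _ _ h u => FlatMor.fibreDimAt h u ≤ 0) f x}
  have hW : IsOpen W := isOpen_hasAtMor_fibreDim_le hF hG hf 0
  have hW' : IsAlgSpace (openSub F W) := isAlgSpace_openSub hF hW
  have hj : RepWith @IsOpenImmersion (openSubι F W) := repWith_openSubι F hW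
  have hW0 : ∀ x, x ∈ W ↔ HasAtMor (fun _ _ h u => FlatMor.fibreDimAt h u = 0) f x := by
    intro x
    constructor <;> rintro ⟨U, V, a, b, h, u, ha, hb, e, hu, hq⟩
    · exact ⟨U, V, a, b, h, u, ha, hb, e, hu, le_antisymm hq (fibreDimAt_nonneg _ _)⟩
    · exact ⟨U, V, a, b, h, u, ha, hb, e, hu, hq.le⟩
  refine ⟨_, openSubι F W, hW', hj, ?_, fun x => by rw [range_openSubι]; exact hW0 x⟩
  refine (locP_lqf_iff_fibreDim_zero hW' hG (locP_etale_comp (isEtaleMor_of_openImmersion hj) hf)).2 fun y => ?_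
  rw [hasAtMor_etale_comp (etInv_fibreDim fun d => d = 0) hW' hF hG (isEtaleMor_of_openImmersion hj) f y]
  refine (hW0 _).1 ?_
  have h1 : Points.map (openSubι F W) y ∈ Set.range (Points.map (openSubι F W)) := ⟨y, rfl⟩
  rwa [range_openSubι] at h1

theorem fibreDimAt_eq_localDim {k : Type u} [Field k] {X : Scheme.{u}} (g : X ⟶ Spec (CommRingCat.of k)) (x : X) :
    FlatMor.fibreDimAt g x = FlatMor.localDim X x := by
  have hu : g.base ⁻¹' {g.base x} = Set.univ :=
    Set.eq_univ_of_forall fun y => Subsingleton.elim (α := PrimeSpectrum k) _ _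
  let e : g.fiber (g.base x) ≃ₜ X :=
    (g.fiberHomeo (g.base x)).trans ((Homeomorph.setCongr hu).trans (Homeomorph.Set.univ _))
  have he : e (g.asFiber x) = x := by simp [e, Scheme.Hom.asFiber]; rfl
  have := FibDimLib.localDim_eq_of_isOpenEmbedding e.isOpenEmbedding (g.asFiber x)
  rw [he] at this
  exact this.symm

end AlgSpLib
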