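import Groth.Agent.AlgSpLib.ThickOpen
import Groth.Agent.AlgSpLib.Iso
/-!
# Morphisms with open diagonal and etale morphisms: unique lifting along thickenings
-/

set_option autoImplicit false
universe u
open CategoryTheory CategoryTheory.Limits AlgebraicGeometry AlgSp Topology

namespace AlgSpLib

variable {S : Scheme.{u}}

theorem eq_of_range_subset_of_openImmersion {Q P T : Sp S} {q : P ⟶ Q}
    (hd : RepWith @IsOpenImmersion (pullback.diagonal q)) {m m' : T ⟶ P} (e : m ≫ q = m' ≫ q)
    (h : Set.range (Points.map (pullback.lift m m' e)) ⊆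
      Set.range (Points.map (pullback.diagonal q))) : m = m' := by
  obtain ⟨g, hg⟩ := (exists_factor_iff hd _).2 h
  rw [← pullback.lift_fst m m' e, ← hg, Category.assoc, pullback.diagonal_fst,
    ← pullback.diagonal_snd q, ← Category.assoc, hg, pullback.lift_snd]

/-- Two lifts along a map which is surjective on points agree when the diagonal is open. -/
theorem lift_unique {T T' X Y : Sp S} {t : T ⟶ T'} (hs : IsSurjectiveMor t) {f : X ⟶ Y}
    (hd : RepWith @IsOpenImmersion (pullback.diagonal f)) {l l' : T' ⟶ X}
    (ht : t ≫ l = t ≫ l') (hf : l ≫ f = l' ≫ f) : l = l' := by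
  refine eq_of_range_subset_of_openImmersion hd hf ?_
  rintro _ ⟨z, rfl⟩
  obtain ⟨x, rfl⟩ := hs z
  refine ⟨Points.map (t ≫ l) x, ?_⟩
  rw [← Points.map_comp, ← Points.map_comp]
  congr 1
  exact pullback.hom_ext
    (by rw [Category.assoc, pullback.diagonal_fst, Category.comp_id, Category.assoc, pullback.lift_fst])
    (by rw [Category.assoc, pullback.diagonal_snd, Category.comp_id, Category.assoc, pullback.lift_snd, ht])

/-- The diagonal of an etale morphism is an open immersion. -/
theorem openImmersion_diagonal_of_isEtaleMor {F G : Sp S} (hF : IsAlgSpace F) (hG : IsAlgSpace G)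
    {f : F ⟶ G} (hf : IsEtaleMor f) : RepWith @IsOpenImmersion (pullback.diagonal f) := by
  have hP := isAlgSpace_pullback hF hF hG f f
  refine repWith_openImmersion_of_mono_etale hF hP _ (isEtaleMor_of_comp hP (f := pullback.diagonal f)
    (g := pullback.fst f f) ?_ (isEtaleMor_of_isPullback hF hG hF (IsPullback.of_hasPullback f f).flip hf))
  rw [pullback.diagonal_fst]
  exact isEtaleMor_id F

/-- An etale morphism has a unique lift along every thickening of algebraic spaces. -/
theorem existsUnique_lift_of_isEtaleMor {T T' X Y : Sp S} (hT : IsAlgSpace T) (hT' : IsAlgSpace T')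
    (hX : IsAlgSpace X) (hY : IsAlgSpace Y) {t : T ⟶ T'} (ht : IsThickMor t) {f : X ⟶ Y}
    (hf : IsEtaleMor f) (a : T ⟶ X) (b : T' ⟶ Y) (e : a ≫ f = t ≫ b) :
    ∃! l : T' ⟶ X, t ≫ l = a ∧ l ≫ f = b := by
  have hts : IsSurjectiveMor t := map_surjective_of_repWith (repWith_mono inf_le_right ht)
  have hdf := openImmersion_diagonal_of_isEtaleMor hX hY hf
  suffices ∃ l : T' ⟶ X, t ≫ l = a ∧ l ≫ f = b by
    obtain ⟨l, hl⟩ := this
    exact ⟨l, hl, fun l' hl' => lift_unique hts hdf (hl'.1.trans hl.1.symm) (hl'.2.trans hl.2.symm)⟩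
  -- reduce to a section
  let P := pullback f b
  let q : P ⟶ T' := pullback.snd f b
  have hP : IsAlgSpace P := isAlgSpace_pullback hX hT' hY f b
  have hq : IsEtaleMor q := isEtaleMor_of_isPullback hX hY hT' (IsPullback.of_hasPullback f b) hf
  let s : T ⟶ P := pullback.lift a t e
  have hsq : s ≫ q = t := pullback.lift_snd _ _ _
  -- the section over `T`
  let PT := pullback q t
  have sqT : IsPullback (pullback.fst q t) (pullback.snd q t) q t := IsPullback.of_hasPullback q t
  have hPT : IsAlgSpace PT := isAlgSpace_pullback hP hT hT' q t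
  have hqT : IsEtaleMor (pullback.snd q t) := isEtaleMor_of_isPullback hP hT' hT sqT hq
  let σ : T ⟶ PT := pullback.lift s (𝟙 T) (by rw [hsq, Category.id_comp])
  have : Mono σ := mono_of_mono_fac (pullback.lift_snd s (𝟙 T) _)
  have hσ : RepWith @IsOpenImmersion σ := repWith_openImmersion_of_mono_etale hT hPT σ
    (isEtaleMor_of_comp hPT (f := σ) (g := pullback.snd q t)
      (by rw [pullback.lift_snd]; exact isEtaleMor_id T) hqT)
  have ht1 : RepWith thick (pullback.fst q t) := repWith_of_isPullback sqT.flip ht
  have ht1s : Function.Surjective (Points.map (pullback.fst q t)) :=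
    map_surjective_of_repWith (repWith_mono inf_le_right ht1)
  have ht1c : RepWith @IsClosedImmersion (pullback.fst q t) := repWith_mono inf_le_left ht1
  have := mono_of_repWith (fun g (_ : IsClosedImmersion g) => inferInstance) ht1c
  have ht1i := injective_map_of_mono (pullback.fst q t)
  let A := Set.range (Points.map σ)
  have hA : IsOpen A := (isOpenMap_map_of_isEtaleMor hT (isEtaleMor_of_openImmersion hσ)).isOpen_range
  let B := Points.map (pullback.fst q t) '' A
  have hB : IsOpen B := by
    rw [← isClosed_compl_iff, ← Set.image_compl_eq ⟨ht1i, ht1s⟩]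
    exact isClosed_image_of_closedImmersion hPT hP ht1c hA.isClosed_compl
  -- the open subspace of `P` on the section
  let U := openSub P B
  let j : U ⟶ P := openSubι P B
  have hj : RepWith @IsOpenImmersion j := repWith_openSubι P hB
  have hU : IsAlgSpace U := isAlgSpace_openSub hP hB
  have hqU : IsEtaleMor (j ≫ q) := isEtaleMor_comp hq (isEtaleMor_of_openImmersion hj)
  obtain ⟨sU, hsU⟩ := (exists_factor_iff hj s).2 (by
    rw [range_openSubι]
    rintro _ ⟨x, rfl⟩
    exact ⟨Points.map σ x, ⟨x, rfl⟩, by rw [← Points.map_comp, pullback.lift_fst]⟩)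
  -- the base change of `U` to `T` is `T`
  have sqU : IsPullback (pullback.fst (j ≫ q) t) (pullback.snd (j ≫ q) t) (j ≫ q) t :=
    IsPullback.of_hasPullback _ _
  have hUT : Mono (pullback.snd (j ≫ q) t) := by
    let k : pullback (j ≫ q) t ⟶ PT := pullback.lift (pullback.fst _ _ ≫ j) (pullback.snd _ _)
      (by rw [Category.assoc]; exact sqU.w)
    have sqk : IsPullback (pullback.fst (j ≫ q) t) k j (pullback.fst q t) := by
      refine IsPullback.of_bot ?_ (pullback.lift_fst _ _ _).symm sqT
      rw [pullback.lift_snd]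
      exact sqU
    have hk : RepWith @IsOpenImmersion k := repWith_of_isPullback sqk hj
    have hr : Set.range (Points.map k) = A := by
      rw [range_map_of_isPullback sqk, range_openSubι]
      exact Set.preimage_image_eq _ ht1i
    obtain ⟨e', he'⟩ := exists_iso_of_range_eq hk hσ hr
    have : pullback.snd (j ≫ q) t = e'.hom := by
      rw [← pullback.lift_snd (pullback.fst (j ≫ q) t ≫ j) (pullback.snd (j ≫ q) t)
        (by rw [Category.assoc]; exact sqU.w)]
      change k ≫ pullback.snd q t = e'.hom
      rw [← he', Category.assoc, pullback.lift_snd, Category.comp_id]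
    rw [this]
    infer_instance
  have hd := openImmersion_diagonal_of_isEtaleMor hU hT' hqU
  have : Mono (j ≫ q) := by
    have : IsIso (pullback.diagonal (j ≫ q)) := isIso_of_openImmersion_surjective hd fun z => by
      obtain ⟨x, hx⟩ := hts (Points.map (pullback.fst (j ≫ q) (j ≫ q) ≫ j ≫ q) z)
      obtain ⟨w, hw, -⟩ := exists_point_isPullback
        (IsPullback.of_hasPullback (pullback.fst (j ≫ q) (j ≫ q) ≫ j ≫ q) t) z x hx.symm
      let c := pullback.fst (pullback.fst (j ≫ q) (j ≫ q) ≫ j ≫ q) t
      let r := pullback.snd (pullback.fst (j ≫ q) (j ≫ q) ≫ j ≫ q) t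
      have e1 : (c ≫ pullback.fst (j ≫ q) (j ≫ q)) ≫ j ≫ q = r ≫ t := by
        rw [Category.assoc]; exact pullback.condition
      have e2 : (c ≫ pullback.snd (j ≫ q) (j ≫ q)) ≫ j ≫ q = r ≫ t := by
        rw [Category.assoc, ← pullback.condition (f := j ≫ q) (g := j ≫ q)]; exact pullback.condition
      have e3 : c ≫ pullback.fst (j ≫ q) (j ≫ q) = c ≫ pullback.snd (j ≫ q) (j ≫ q) := by
        have : pullback.lift _ r e1 = pullback.lift _ r e2 :=
          (cancel_mono (pullback.snd (j ≫ q) t)).1 (by rw [pullback.lift_snd, pullback.lift_snd])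
        have h := congrArg (· ≫ pullback.fst (j ≫ q) t) this
        rwa [pullback.lift_fst, pullback.lift_fst] at h
      refine ⟨Points.map (c ≫ pullback.fst (j ≫ q) (j ≫ q)) w, ?_⟩
      rw [← Points.map_comp, ← hw]
      congr 1
      exact pullback.hom_ext
        (by rw [Category.assoc, pullback.diagonal_fst, Category.comp_id])
        (by rw [Category.assoc, pullback.diagonal_snd, Category.comp_id]; exact e3)
    exact (pullback.diagonal_isKernelPair (j ≫ q)).mono_of_eq_fst_snd (by
      rw [← cancel_epi (pullback.diagonal (j ≫ q)), pullback.diagonal_fst, pullback.diagonal_snd])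
  have hsU' : sU ≫ j ≫ q = t := by rw [← Category.assoc, hsU, hsq]
  have : IsIso (j ≫ q) := isIso_of_mono_etale_surjective hU hT' _ hqU fun y => by
    obtain ⟨x, rfl⟩ := hts y
    exact ⟨Points.map sU x, by rw [← Points.map_comp, hsU']⟩
  refine ⟨inv (j ≫ q) ≫ j ≫ pullback.fst f b, ?_, ?_⟩
  · rw [← hsU', Category.assoc, IsIso.hom_inv_id_assoc, ← Category.assoc, hsU, pullback.lift_fst]
  · rw [Category.assoc, Category.assoc, pullback.condition]
    change inv (j ≫ q) ≫ j ≫ q ≫ b = b
    rw [← Category.assoc j, IsIso.inv_hom_id_assoc]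

end AlgSpLib
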