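import Groth.Agent.AlgSpLib.AffineDescent
import Groth.Agent.AlgSpLib.EtaleLift
import Groth.Agent.AlgSpLib.Noeth
import Groth.Agent.AlgSpLib.RepBase
import Groth.Agent.S9922

/-!
# Proper, affine, integral and finite morphisms of algebraic spaces
-/

set_option autoImplicit false
set_option backward.isDefEq.respectTransparency false
set_option backward.isDefEq.respectTransparency.types false

universe u

open CategoryTheory CategoryTheory.Limits AlgebraicGeometry Opposite AlgSp Topology

namespace AlgSpLib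

variable {S : Scheme.{u}}

/-- An etale universally injective morphism is an open immersion. -/
theorem repWith_openImmersion_of_etale_univInjective {F G : Sp S} (hF : IsAlgSpace F) (hG : IsAlgSpace G)
    {f : F ⟶ G} (he : IsEtaleMor f) (hi : IsUnivInjectiveMor f) : RepWith @IsOpenImmersion f := by
  haveI : IsIso (pullback.diagonal f) := isIso_of_openImmersion_surjective
    (openImmersion_diagonal_of_isEtaleMor hF hG he) ((univInjective_iff_surjective_diagonal hF).1 hi)
  haveI : Mono f := (pullback.isIso_diagonal_iff f).1 inferInstance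
  exact repWith_openImmersion_of_mono_etale hF hG f he

theorem isUnivClosedMor_comp {F G H : Sp S} (hG : IsAlgSpace G) (hH : IsAlgSpace H) {f : F ⟶ G} {g : G ⟶ H}
    (hf : IsUnivClosedMor f) (hg : IsUnivClosedMor g) : IsUnivClosedMor (f ≫ g) := by
  intro Z Z' hZ t fst snd sq
  have sq₁ := IsPullback.of_hasPullback g t
  have e : (fst ≫ f) ≫ g = snd ≫ t := (Category.assoc _ _ _).trans sq.w
  have h1 : IsClosedMor (sq₁.lift _ _ e) := hf (isAlgSpace_pullback hG hZ hH g t) (pullback.fst g t) fst _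
    (IsPullback.of_bot (by rw [sq₁.lift_snd]; exact sq) (sq₁.lift_fst _ _ _).symm sq₁)
  have h2 : IsClosedMor (pullback.snd g t) := hg hZ t _ _ sq₁
  change IsClosedMap (Points.map snd)
  rw [← sq₁.lift_snd (fst ≫ f) snd e,
    show Points.map (sq₁.lift (fst ≫ f) snd e ≫ pullback.snd g t) = Points.map _ ∘ Points.map _ from
      funext (Points.map_comp _ _)]
  exact IsClosedMap.comp h2 h1

theorem isClosedMap_of_isUnivClosedMor {F G : Sp S} (hG : IsAlgSpace G) {f : F ⟶ G} (hf : IsUnivClosedMor f) :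
    IsClosedMap (Points.map f) :=
  hf hG (𝟙 G) (𝟙 F) f (IsPullback.of_horiz_isIso ⟨by simp⟩)

theorem isSeparatedMor_comp {F G H : Sp S} {f : F ⟶ G} {g : G ⟶ H} (hf : IsSeparatedMor f)
    (hg : IsSeparatedMor g) : IsSeparatedMor (f ≫ g) :=
  repWith_diagonal_comp hf hg

theorem isQuasiSeparatedMor_of_isSeparatedMor {F G : Sp S} {f : F ⟶ G} (hf : IsSeparatedMor f) :
    IsQuasiSeparatedMor f :=
  repWith_mono (fun _ _ g (_ : IsClosedImmersion g) => (inferInstance : QuasiCompact g)) hf

theorem isProperMor_comp {F G H : Sp S} (hF : IsAlgSpace F) (hG : IsAlgSpace G) (hH : IsAlgSpace H)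
    {f : F ⟶ G} {g : G ⟶ H} (hf : IsProperMor f) (hg : IsProperMor g) : IsProperMor (f ≫ g) :=
  ⟨isSeparatedMor_comp hf.1 hg.1, ⟨locP_comp hF hG hH hf.2.1.1 hg.2.1.1,
    isQuasiCompactMor_comp hG hH hf.2.1.2 hg.2.1.2⟩, isUnivClosedMor_comp hG hH hf.2.2 hg.2.2⟩

theorem isUnivClosedMor_iff_repWith {F G : Sp S} (hF : IsAlgSpace F) (hG : IsAlgSpace G) {f : F ⟶ G}
    (hf : Representable f) : RepWith @UniversallyClosed f ↔ IsUnivClosedMor f :=
  Groth.Agent.S9922.result (X := ⟨F, hF⟩) (Y := ⟨G, hG⟩) (CategoryTheory.ObjectProperty.homMk f) hf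

theorem isUnivClosedMor_of_closedImmersion {F G : Sp S} (hF : IsAlgSpace F) (hG : IsAlgSpace G) {f : F ⟶ G}
    (hf : RepWith @IsClosedImmersion f) : IsUnivClosedMor f :=
  (isUnivClosedMor_iff_repWith hF hG hf.rep).1
    (repWith_mono (fun _ _ g (_ : IsClosedImmersion g) => (inferInstance : UniversallyClosed g)) hf)

theorem isProperMor_of_closedImmersion {F G : Sp S} (hF : IsAlgSpace F) (hG : IsAlgSpace G) {f : F ⟶ G}
    (hf : RepWith @IsClosedImmersion f) : IsProperMor f := by
  haveI : Mono f := mono_of_repWith (fun g (_ : IsClosedImmersion g) => inferInstance) hf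
  exact ⟨repWith_of_isIso _,
    ⟨locP_of_repWith (repWith_mono
      (fun _ _ g (_ : IsClosedImmersion g) => (inferInstance : LocallyOfFiniteType g)) hf),
      isQuasiCompactMor_of_repWith hF hG (repWith_mono
        (fun _ _ g (_ : IsClosedImmersion g) => (inferInstance : QuasiCompact g)) hf)⟩,
    isUnivClosedMor_of_closedImmersion hF hG hf⟩

/-- Cancellation along a separated morphism. -/
theorem univClosed_of_comp {F G H : Sp S} (hF : IsAlgSpace F) (hG : IsAlgSpace G) (hH : IsAlgSpace H)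
    {f : F ⟶ G} {g : G ⟶ H} (hg : IsSeparatedMor g) (hfg : IsUnivClosedMor (f ≫ g)) : IsUnivClosedMor f := by
  have sq := IsPullback.of_hasPullback (f ≫ g) g
  have hP := isAlgSpace_pullback hF hG hH (f ≫ g) g
  let Γ : F ⟶ pullback (f ≫ g) g := pullback.lift (𝟙 F) f (by simp)
  have h1 : Γ ≫ pullback.fst (f ≫ g) g = 𝟙 F := pullback.lift_fst _ _ _
  have h2 : Γ ≫ pullback.snd (f ≫ g) g = f := pullback.lift_snd _ _ _
  rw [← h2]
  exact isUnivClosedMor_comp hP hG
    (isUnivClosedMor_of_closedImmersion hF hP (repWith_section h1 (repWith_diagonal_of_isPullback sq.flip hg)))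
    (univSp_of_isPullback sq hfg)

theorem isSeparatedMor_of_comp {F G H : Sp S} (hF : IsAlgSpace F) {f : F ⟶ G} {g : G ⟶ H}
    (hfg : IsSeparatedMor (f ≫ g)) : IsSeparatedMor f :=
  by
  let m := pullback.mapDesc f f g
  haveI : Mono m := ⟨fun a b e => by
    apply pullback.hom_ext
    · simpa [m, pullback.mapDesc] using congrArg (· ≫ pullback.fst (f ≫ g) (f ≫ g)) e
    · simpa [m, pullback.mapDesc] using congrArg (· ≫ pullback.snd (f ≫ g) (f ≫ g)) e⟩
  have e : pullback.diagonal f ≫ m = pullback.diagonal (f ≫ g) := by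
    apply pullback.hom_ext <;> simp [m, pullback.mapDesc]
  refine repWith_of_isPullback (fst := 𝟙 F) (g := m) ?_ hfg
  exact ⟨⟨by simp [e]⟩, ⟨PullbackCone.IsLimit.mk _ (fun c => c.fst) (fun c => Category.comp_id _)
    (fun c => (cancel_mono m).1 ((Category.assoc _ _ _).trans ((congrArg (c.fst ≫ ·) e).trans c.condition)))
    (fun c x h1 _ => by simpa using h1)⟩⟩

theorem isProperMor_of_comp {F G H : Sp S} (hF : IsAlgSpace F) (hG : IsAlgSpace G) (hH : IsAlgSpace H)
    {f : F ⟶ G} {g : G ⟶ H} (hg : IsSeparatedMor g) (hfg : IsProperMor (f ≫ g)) : IsProperMor f :=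
  ⟨isSeparatedMor_of_comp hF hfg.1,
    ⟨locP_of_comp (fun h k hk => lft_of_comp h k hk) hF hG hH hfg.2.1.1,
      isQuasiCompactMor_of_comp hF hG hH hfg.2.1.2 (isQuasiSeparatedMor_of_isSeparatedMor hg)⟩,
    univClosed_of_comp hF hG hH hg hfg.2.2⟩

/-- A universally closed diagonal is a closed immersion. -/
theorem isSeparatedMor_of_univClosed_diagonal {F G : Sp S} (hF : IsAlgSpace F) (hG : IsAlgSpace G) {f : F ⟶ G}
    (h : IsUnivClosedMor (pullback.diagonal f)) : IsSeparatedMor f := by
  obtain ⟨hr, hlft, -, hsep, hmono⟩ := repWith_diagonal_properties hF f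
  have huc := (isUnivClosedMor_iff_repWith hF (isAlgSpace_pullback hF hF hG f f) hr).2 h
  refine ⟨hr, fun T W g fst snd sq => ?_⟩
  haveI : UniversallyClosed snd.left := huc.property g fst snd sq
  haveI : LocallyOfFiniteType snd.left := hlft.property g fst snd sq
  haveI : IsSeparated snd.left := hsep.property g fst snd sq
  haveI : Mono snd.left := hmono.property g fst snd sq
  exact (IsClosedImmersion.iff_isProper_and_mono snd.left).2 ⟨{}, inferInstance⟩

theorem isSeparatedMor_iff_univClosed_diagonal {F G : Sp S} (hF : IsAlgSpace F) (hG : IsAlgSpace G) {f : F ⟶ G} :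
    IsSeparatedMor f ↔ IsUnivClosedMor (pullback.diagonal f) :=
  ⟨isUnivClosedMor_of_closedImmersion hF (isAlgSpace_pullback hF hF hG f f),
    isSeparatedMor_of_univClosed_diagonal hF hG⟩

theorem isSeparatedMor_iff_proper_diagonal {F G : Sp S} (hF : IsAlgSpace F) (hG : IsAlgSpace G) {f : F ⟶ G} :
    IsSeparatedMor f ↔ IsProperMor (pullback.diagonal f) :=
  ⟨isProperMor_of_closedImmersion hF (isAlgSpace_pullback hF hF hG f f),
    fun h => isSeparatedMor_of_univClosed_diagonal hF hG h.2.2⟩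

/-! ## Affine morphisms -/

/-- A property of morphisms checked with affine total space over affine schemes. -/
theorem representable_of_affine {F G : Sp S} {f : F ⟶ G} (h : IsAffineMor f) : Representable f := by
  intro T ξ
  let 𝒰 := T.left.affineCover
  let U : 𝒰.I₀ → Over S := fun k => Over.mk (𝒰.f k ≫ T.hom)
  let j : ∀ k, U k ⟶ T := fun k => Over.homMk (𝒰.f k) rfl
  have hG := IsPullback.of_hasPullback f ξ
  choose W i a ha hW using fun k => h (Z := U k) (inferInstanceAs (IsAffine (𝒰.X k))) ((yon S).map (j k) ≫ ξ)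
  let b : ∀ k, (yon S).obj (W k) ⟶ pullback f ξ := fun k => hG.lift (a k) ((yon S).map (i k) ≫ (yon S).map (j k))
    (by rw [(ha k).w, Category.assoc])
  have sqb : ∀ k, IsPullback (b k) ((yon S).map (i k)) (pullback.snd f ξ) ((yon S).map (j k)) := fun k =>
    IsPullback.of_right (by rw [hG.lift_fst]; exact ha k) (hG.lift_snd _ _ _) hG
  have hb : ∀ k, RepWith @IsOpenImmersion (b k) := fun k => repWith_of_isPullback (sqb k).flip
      ((repWith_yon_map_iff _ _).2 (inferInstanceAs (IsOpenImmersion (𝒰.f k))))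
  have hR : IsRepSh (pullback f ξ) := by
    refine isRepSh_of_openCover b hb fun X c x => ?_
    obtain ⟨β, hβ⟩ := (yon S).map_surjective (c ≫ pullback.snd f ξ)
    obtain ⟨k, u, hu⟩ := 𝒰.exists_eq (β.left x)
    refine ⟨k, ?_⟩
    let O := β.left ⁻¹ᵁ (𝒰.f k).opensRange
    let Oo : Over S := Over.mk (O.ι ≫ X.hom)
    let o : Oo ⟶ X := Over.homMk O.ι rfl
    let l : Oo ⟶ U k := Over.homMk (IsOpenImmersion.lift (𝒰.f k) (O.ι ≫ β.left)
      (by rintro _ ⟨z, rfl⟩; exact z.2)) (by
        change _ ≫ 𝒰.f k ≫ T.hom = O.ι ≫ X.hom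
        rw [IsOpenImmersion.lift_fac_assoc, Category.assoc, Over.w])
    have hl : l ≫ j k = o ≫ β := Over.OverMorphism.ext (IsOpenImmersion.lift_fac _ _ _)
    let n := (hb k).rep.lift (g := c) ((sqb k).lift ((yon S).map o ≫ c) ((yon S).map l) (by
      rw [Category.assoc, ← hβ, ← Functor.map_comp, ← Functor.map_comp, hl])) o (by rw [IsPullback.lift_fst])
    refine ⟨n.left ⟨x, ⟨u, hu⟩⟩, ?_⟩
    rw [← Scheme.Hom.comp_apply, ← Over.comp_left, Functor.relativelyRepresentable.lift_snd]
    rfl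
  obtain ⟨V, ⟨e⟩⟩ := hR
  obtain ⟨s, hs⟩ := (yon S).map_surjective (e.hom ≫ pullback.snd f ξ)
  exact ⟨V, s, e.hom ≫ pullback.fst f ξ, hG.of_iso e.symm (Iso.refl _) (Iso.refl _) (Iso.refl _)
    (by simp) (by simp [hs]) (by simp) (by simp)⟩

/-- A property with affine total space is a representable property. -/
theorem repWith_of_affine {P : MorphismProperty Scheme.{u}} [IsZariskiLocalAtTarget P] {F G : Sp S} {f : F ⟶ G}
    (h : ∀ ⦃Z : Over S⦄, IsAffine Z.left → ∀ (g : (yon S).obj Z ⟶ G),
      ∃ (W : Over S) (i : W ⟶ Z) (fst : (yon S).obj W ⟶ F),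
        IsPullback fst ((yon S).map i) f g ∧ IsAffine W.left ∧ P i.left) : RepWith P f := by
  refine repWith_of_forall_affine (representable_of_affine fun Z hZ g => ?_) fun Z W hZ g fst snd sq => ?_
  · obtain ⟨W, i, fst, sq, hW, -⟩ := h hZ g
    exact ⟨W, i, fst, sq, hW⟩
  · obtain ⟨W', i, fst', sq', -, hP⟩ := h hZ g
    obtain ⟨φ, hφ⟩ := (yon S).map_surjective (sq.isoIsPullback _ _ sq').hom
    haveI : IsIso ((yon S).map φ) := hφ ▸ inferInstance
    haveI : IsIso φ := isIso_of_fully_faithful (yon S) φ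
    haveI : IsIso φ.left := inferInstanceAs (IsIso ((Over.forget S).map φ))
    have e : φ ≫ i = snd := (yon S).map_injective (by
      rw [Functor.map_comp, hφ, IsPullback.isoIsPullback_hom_snd])
    rw [← e, Over.comp_left, P.cancel_left_of_respectsIso]
    exact hP

theorem exists_affine_of_repWith {P : MorphismProperty Scheme.{u}}
    (hP : P ≤ (@IsAffineHom : MorphismProperty Scheme.{u})) {F G : Sp S} {f : F ⟶ G} (h : RepWith P f)
    ⦃Z : Over S⦄ (hZ : IsAffine Z.left) (g : (yon S).obj Z ⟶ G) :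
    ∃ (W : Over S) (i : W ⟶ Z) (fst : (yon S).obj W ⟶ F),
      IsPullback fst ((yon S).map i) f g ∧ IsAffine W.left ∧ P i.left := by
  haveI : IsAffineHom (h.rep.snd g).left := hP _ (h.property_snd g)
  exact ⟨h.rep.pullback g, h.rep.snd g, h.rep.fst g, h.rep.isPullback g,
    isAffine_of_isAffineHom (h.rep.snd g).left, h.property_snd g⟩

theorem isAffineMor_iff {F G : Sp S} {f : F ⟶ G} : IsAffineMor f ↔ RepWith @IsAffineHom f := by
  refine ⟨fun h => repWith_of_affine fun Z hZ g => ?_, fun h Z hZ g => ?_⟩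
  · obtain ⟨W, i, fst, sq, hW⟩ := h hZ g
    exact ⟨W, i, fst, sq, hW, inferInstance⟩
  · obtain ⟨W, i, fst, sq, hW, -⟩ := exists_affine_of_repWith le_rfl h hZ g
    exact ⟨W, i, fst, sq, hW⟩

theorem isIntegralMor_iff {F G : Sp S} {f : F ⟶ G} : IsIntegralMor f ↔ RepWith @IsIntegralHom f :=
  ⟨fun h => repWith_of_affine h,
    fun h => exists_affine_of_repWith (fun _ _ g (_ : IsIntegralHom g) => (inferInstance : IsAffineHom g)) h⟩

theorem isFiniteMor_iff {F G : Sp S} {f : F ⟶ G} : IsFiniteMor f ↔ RepWith @IsFinite f :=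
  ⟨fun h => repWith_of_affine h,
    fun h => exists_affine_of_repWith (fun _ _ g (_ : IsFinite g) => (inferInstance : IsAffineHom g)) h⟩

theorem isIntegralMor_iff_affine_univClosed {F G : Sp S} (hF : IsAlgSpace F) (hG : IsAlgSpace G) {f : F ⟶ G} :
    IsIntegralMor f ↔ IsAffineMor f ∧ IsUnivClosedMor f := by
  rw [isIntegralMor_iff, isAffineMor_iff]
  constructor
  · exact fun h => ⟨repWith_mono (fun _ _ g (_ : IsIntegralHom g) => (inferInstance : IsAffineHom g)) h,
      (isUnivClosedMor_iff_repWith hF hG h.rep).1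
        (repWith_mono (fun _ _ g (_ : IsIntegralHom g) => (inferInstance : UniversallyClosed g)) h)⟩
  · intro ⟨h₁, h₂⟩
    exact ⟨h₁.rep, fun T W g fst snd sq => IsIntegralHom.iff_universallyClosed_and_isAffineHom.2
      ⟨((isUnivClosedMor_iff_repWith hF hG h₁.rep).2 h₂).property g fst snd sq, h₁.property g fst snd sq⟩⟩

theorem isSeparatedMor_of_repWith {F G : Sp S} {f : F ⟶ G} (h : RepWith @IsSeparated f) : IsSeparatedMor f :=
  (repWith_diagonal_iff (P := (@IsClosedImmersion : MorphismProperty Scheme.{u}))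
    (fun g => (isSeparated_iff g).symm) h.rep).2 h

theorem isFiniteMor_iff_affine_proper {F G : Sp S} (hF : IsAlgSpace F) (hG : IsAlgSpace G) {f : F ⟶ G} :
    IsFiniteMor f ↔ IsAffineMor f ∧ IsProperMor f := by
  rw [isFiniteMor_iff, isAffineMor_iff]
  constructor
  · exact fun h => ⟨repWith_mono (fun _ _ g (_ : IsFinite g) => (inferInstance : IsAffineHom g)) h,
      isSeparatedMor_of_repWith (repWith_mono (fun _ _ g (_ : IsFinite g) => (inferInstance : IsSeparated g)) h),
      ⟨locP_of_repWith (repWith_mono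
        (fun _ _ g (_ : IsFinite g) => (inferInstance : LocallyOfFiniteType g)) h),
        isQuasiCompactMor_of_repWith hF hG
          (repWith_mono (fun _ _ g (_ : IsFinite g) => (inferInstance : QuasiCompact g)) h)⟩,
      (isUnivClosedMor_iff_repWith hF hG h.rep).1
        (repWith_mono (fun _ _ g (_ : IsFinite g) => (inferInstance : UniversallyClosed g)) h)⟩
  · rintro ⟨h₁, -, ⟨h₂, -⟩, h₃⟩
    refine ⟨h₁.rep, fun T W g fst snd sq => (IsFinite.iff_isIntegralHom_and_locallyOfFiniteType _).2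
      ⟨IsIntegralHom.iff_universallyClosed_and_isAffineHom.2
        ⟨((isUnivClosedMor_iff_repWith hF hG h₁.rep).2 h₃).property g fst snd sq, h₁.property g fst snd sq⟩,
      (repWith_of_locP hG h₁.rep h₂).property g fst snd sq⟩⟩

/-- Affine properties descend along etale coverings. -/
theorem repWith_of_etale_cover {P : MorphismProperty Scheme.{u}} [P.IsStableUnderBaseChange]
    [P.DescendsAlong (@Surjective ⊓ @Flat ⊓ @LocallyOfFinitePresentation)]
    (hP : P ≤ (@IsAffineHom : MorphismProperty Scheme.{u})) {F G H K : Sp S} {f : F ⟶ G} {a : H ⟶ G}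
    (ha : RepWith @Etale a) (has : RepWith @Surjective a) {fst : K ⟶ F} {snd : K ⟶ H}
    (sq : IsPullback fst snd f a) (h : RepWith P snd) : RepWith P f := by
  haveI : Sheaf.IsLocallySurjective a := isLocallySurjective_of_repWith
    (repWith_mono (fun _ _ g (_ : Etale g) => (inferInstance : Flat g)) ha)
    (repWith_mono (fun _ _ g (_ : Etale g) => (inferInstance : LocallyOfFinitePresentation g)) ha) has
  exact repWith_of_cover sq (representable_of_cover ((isEffClass_isAffineHom (S := S)).mono hP) sq h) h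

/-- Cancellation of affine properties along a separated morphism. -/
theorem repWith_of_comp {P : MorphismProperty Scheme.{u}} [P.IsStableUnderBaseChange] [P.IsStableUnderComposition]
    (hP : (@IsClosedImmersion : MorphismProperty Scheme.{u}) ≤ P) {F G H : Sp S} {f : F ⟶ G} {g : G ⟶ H}
    (hg : IsSeparatedMor g) (hfg : RepWith P (f ≫ g)) : RepWith P f := by
  have sq := IsPullback.of_hasPullback (f ≫ g) g
  let Γ : F ⟶ pullback (f ≫ g) g := pullback.lift (𝟙 F) f (by simp)
  have h1 : Γ ≫ pullback.fst (f ≫ g) g = 𝟙 F := pullback.lift_fst _ _ _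
  have h2 : Γ ≫ pullback.snd (f ≫ g) g = f := pullback.lift_snd _ _ _
  rw [← h2]
  exact repWith_comp (repWith_mono hP (repWith_section h1 (repWith_diagonal_of_isPullback sq.flip hg)))
    (repWith_of_isPullback sq hfg)

/-- Properness is tested on affine schemes. -/
theorem isProperMor_iff_affine {F G : Sp S} (hF : IsAlgSpace F) (hG : IsAlgSpace G) {f : F ⟶ G} :
    IsProperMor f ↔ ∀ (Z : Over S), IsAffine Z.left → ∀ (g : (yon S).obj Z ⟶ G) (P : Sp S) (fst : P ⟶ F)
        (snd : P ⟶ (yon S).obj Z), IsPullback fst snd f g → IsProperMor snd := by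
  constructor
  · intro h Z _ g P fst snd sq
    exact ⟨repWith_diagonal_of_isPullback sq h.1,
      ⟨locP_of_isPullback hF hG (IsAlgSpace.yon_obj Z) sq h.2.1.1, isQuasiCompactMor_of_isPullback sq h.2.1.2⟩,
      univSp_of_isPullback sq h.2.2⟩
  intro h
  refine ⟨repWith_diagonal_of_forall_affine hF fun Z hZ g P fst snd sq => (h Z hZ g P fst snd sq).1,
    ⟨?_, (isQuasiCompactMor_iff_affine hF hG).2 fun Z hZ g P fst snd sq =>
      haveI : IsAffine Z.left := hZ
      (h Z hZ g P fst snd sq).2.1.2 (IsAlgSpace.yon_obj Z) (isQuasiCompactSp_yon Z) (𝟙 _) (𝟙 _) snd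
        (IsPullback.of_horiz_isIso ⟨by simp⟩)⟩,
    (univSp_iff_affine descends_isClosedMor).2 fun Z hZ g P fst snd sq =>
      isClosedMap_of_isUnivClosedMor (IsAlgSpace.yon_obj Z) (h Z hZ g P fst snd sq).2.2⟩
  obtain ⟨ι, U, a, hU, ha, -, hs⟩ := exists_affine_charts hG
  exact (isLocalOnBase_locP S @LocallyOfFiniteType (fun i => (yon S).obj (U i)) a hG
    (fun i => IsAlgSpace.yon_obj _) ⟨fun i => isEtaleMor_of_repWith (ha i), hs⟩ f hF _ _ _
    (fun i => isAlgSpace_pullback hF (IsAlgSpace.yon_obj _) hG f (a i))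
    fun i => IsPullback.of_hasPullback f (a i)).2
    fun i => (h (U i) (hU i) (a i) _ _ _ (IsPullback.of_hasPullback f (a i))).2.1.1

/-- Properness descends along etale coverings. -/
theorem isProperMor_of_etale_cover {F G : Sp S} (hF : IsAlgSpace F) (hG : IsAlgSpace G) {f : F ⟶ G} {V : Over S}
    {p : (yon S).obj V ⟶ G} (hp : RepWith @Etale p) (hps : RepWith @Surjective p)
    {P : Sp S} {fst : P ⟶ F} {snd : P ⟶ (yon S).obj V} (sq : IsPullback fst snd f p)
    (h : IsProperMor snd) : IsProperMor f := by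
  have hV := IsAlgSpace.yon_obj (S := S) V
  have hP := isAlgSpace_of_isPullback hF hV hG sq
  have hs := map_surjective_of_repWith hps
  refine ⟨(isLocalOnBase_fpqc_isSeparatedMor S (fun _ : PUnit.{u + 1} => _) (fun _ => p) hG (fun _ => hV)
      (isFpqcCover_chart hp hps) f hF _ (fun _ => snd) (fun _ => fst) (fun _ => hP) fun _ => sq).2 fun _ => h.1,
    ⟨(isLocalOnBase_locP S @LocallyOfFiniteType (fun _ : PUnit.{u + 1} => _) (fun _ => p) hG (fun _ => hV)
      ⟨fun _ => isEtaleMor_of_repWith hp, fun y => ⟨⟨⟩, hs y⟩⟩ f hF _ (fun _ => snd) (fun _ => fst) (fun _ => hP)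
        fun _ => sq).2 fun _ => h.2.1.1, ?_⟩,
    univSp_of_etale_cover descends_isClosedMor hG hV (isEtaleMor_of_repWith hp) hs sq h.2.2⟩
  refine isQuasiCompactMor_of_base_change hF hG hV ?_ hs sq h.2.1.2
  exact isUnivOpenMor_of_flat_lfp hV hG
    (locP_of_repWith (repWith_mono (fun _ _ g (_ : Etale g) => (inferInstance : Flat g)) hp))
    (locP_of_repWith (repWith_mono (fun _ _ g (_ : Etale g) => (inferInstance : LocallyOfFinitePresentation g)) hp))

end AlgSpLib
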