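import Groth.Prelude.Def_AlgSp4
import Mathlib.AlgebraicGeometry.Morphisms.Smooth
/-!
# Formal properties of algebraic spaces: fibre products, charts, points
-/

set_option autoImplicit false
universe u
open CategoryTheory CategoryTheory.Limits AlgebraicGeometry Opposite AlgSp

namespace AlgSpLib

variable {S : Scheme.{u}}

instance : MorphismProperty.IsStableUnderComposition (@Etale : MorphismProperty Scheme.{u}) :=
  Etale.instIsMultiplicativeScheme.toIsStableUnderComposition

instance : MorphismProperty.IsStableUnderComposition (@Surjective : MorphismProperty Scheme.{u}) :=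
  ⟨fun f g (_ : Surjective f) (_ : Surjective g) => (inferInstance : Surjective (f ≫ g))⟩

instance repWith_isStableUnderComposition (P : MorphismProperty Scheme.{u})
    [P.IsStableUnderComposition] : (RepWith (S := S) P).IsStableUnderComposition :=
  MorphismProperty.relative_isStableUnderComposition _

/-! ## Representable maps and algebraic spaces -/

theorem rep_comp {F G H : Sp S} {f : F ⟶ G} {g : G ⟶ H} (hf : Representable f)
    (hg : Representable g) : Representable (f ≫ g) :=
  MorphismProperty.comp_mem _ _ _ hf hg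

theorem rep_of_isPullback {F G F' G' : Sp S} {fst : F' ⟶ F} {snd : F' ⟶ G'} {f : F ⟶ G}
    {g : G' ⟶ G} (h : IsPullback fst snd f g) (hf : Representable f) : Representable snd :=
  MorphismProperty.of_isPullback (P := Representable) h hf

theorem repWith_of_isPullback {P : MorphismProperty Scheme.{u}}
    {F G F' G' : Sp S} {fst : F' ⟶ F} {snd : F' ⟶ G'} {f : F ⟶ G} {g : G' ⟶ G}
    (h : IsPullback fst snd f g) (hf : RepWith P f) : RepWith P snd :=
  MorphismProperty.of_isPullback (P := RepWith P) h hf

theorem repWith_comp {P : MorphismProperty Scheme.{u}}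
    [P.IsStableUnderComposition] {F G H : Sp S} {f : F ⟶ G} {g : G ⟶ H} (hf : RepWith P f)
    (hg : RepWith P g) : RepWith P (f ≫ g) :=
  MorphismProperty.comp_mem _ _ _ hf hg

theorem repWith_mono {P Q : MorphismProperty Scheme.{u}} (h : P ≤ Q) {F G : Sp S} {f : F ⟶ G}
    (hf : RepWith P f) : RepWith Q f :=
  MorphismProperty.relative_monotone (fun _ _ _ hg => h _ hg) _ hf

/-- A sheaf with a representable map to an algebraic space is an algebraic space. -/
theorem isAlgSpace_of_representable {F G : Sp S} (hG : IsAlgSpace G) (f : F ⟶ G)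
    (hf : Representable f) : IsAlgSpace F := by
  constructor
  · refine Functor.relativelyRepresentable.diag_of_map_from_obj (fun T t => ?_)
    let hR := hf.isPullback (t ≫ f)
    let s : T ⟶ hf.pullback (t ≫ f) := hf.lift t (𝟙 T) (by simp)
    have hs : t = (yon S).map s ≫ hf.fst (t ≫ f) := (hf.lift_fst t (𝟙 T) (by simp)).symm
    rw [hs]
    exact rep_comp (representable_yon_map s)
      (rep_of_isPullback hR.flip (hG.representable_from_yon (t ≫ f)))
  · obtain ⟨U, p, hp, hp'⟩ := hG.atlas
    exact ⟨hf.pullback p, hf.fst p, repWith_of_isPullback (hf.isPullback p).flip hp,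
      repWith_of_isPullback (hf.isPullback p).flip hp'⟩

/-- A binary product of algebraic spaces is an algebraic space. -/
theorem isAlgSpace_prod {F G : Sp S} (hF : IsAlgSpace F) (hG : IsAlgSpace G) :
    IsAlgSpace (F ⨯ G) := by
  have hmap : ∀ {A B A' B' : Sp S} {Q : MorphismProperty (Sp S)} [Q.IsStableUnderComposition]
      [Q.IsStableUnderBaseChange] (a : A ⟶ B) (b : A' ⟶ B'), Q a → Q b → Q (prod.map a b) := by
    intro A B A' B' Q _ _ a b ha hb
    have h1 : Q (prod.map a (𝟙 A')) :=
      Q.of_isPullback (IsPullback.of_prod_fst_with_id a A') ha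
    have h2 : Q (prod.map (𝟙 B) b) := by
      have e : prod.map (𝟙 B) b =
          (prod.braiding B A').hom ≫ prod.map b (𝟙 B) ≫ (prod.braiding B' B).hom := by
        apply Limits.prod.hom_ext <;>
          simp only [prod.braiding_hom, Category.assoc, Limits.prod.lift_fst, Limits.prod.lift_snd,
            Limits.prod.map_fst, Limits.prod.map_snd, Category.comp_id, Limits.prod.lift_fst_assoc,
            Limits.prod.lift_snd_assoc]
      have : Q.RespectsIso := MorphismProperty.IsStableUnderBaseChange.respectsIso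
      rw [e]
      refine (Q.cancel_left_of_respectsIso _ _).2 ((Q.cancel_right_of_respectsIso _ _).2 ?_)
      exact Q.of_isPullback (IsPullback.of_prod_fst_with_id b B) hb
    have : prod.map a b = prod.map a (𝟙 A') ≫ prod.map (𝟙 B) b := by simp
    rw [this]
    exact Q.comp_mem _ _ h1 h2
  constructor
  · refine Functor.relativelyRepresentable.diag_of_map_from_obj (fun T t => ?_)
    have : t = (Limits.diag _) ≫ prod.map (t ≫ prod.fst) (t ≫ prod.snd) := by
      apply Limits.prod.hom_ext <;>
        simp only [Category.assoc, Limits.prod.map_fst, Limits.prod.map_snd,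
          Limits.prod.lift_fst_assoc, Limits.prod.lift_snd_assoc, Category.id_comp]
    rw [this]
    exact rep_comp (IsAlgSpace.yon_obj T).diag
      (hmap _ _ (hF.representable_from_yon _) (hG.representable_from_yon _))
  · obtain ⟨U, p, hp, hp'⟩ := hF.atlas
    obtain ⟨V, q, hq, hq'⟩ := hG.atlas
    refine ⟨U ⨯ V, (PreservesLimitPair.iso (yon S) U V).hom ≫ prod.map p q, ?_, ?_⟩
    · exact MorphismProperty.RespectsIso.precomp _ _ _
        (hmap (Q := RepWith (S := S) (@Etale : MorphismProperty Scheme.{u})) p q hp hq)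
    · exact MorphismProperty.RespectsIso.precomp _ _ _
        (hmap (Q := RepWith (S := S) (@Surjective : MorphismProperty Scheme.{u})) p q hp' hq')

/-- A fibre product of algebraic spaces over a sheaf with representable diagonal is an algebraic space. -/
theorem isAlgSpace_of_isPullback_diag {F G H W : Sp S} (hF : IsAlgSpace F) (hH : IsAlgSpace H)
    (hG : Representable (Limits.diag G)) {fst : W ⟶ F} {snd : W ⟶ H} {f : F ⟶ G} {g : H ⟶ G}
    (h : IsPullback fst snd f g) : IsAlgSpace W := by
  have sq : IsPullback (fst ≫ f) (prod.lift fst snd) (Limits.diag G) (prod.map f g) := by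
    refine ⟨⟨?_⟩, ⟨PullbackCone.IsLimit.mk _ (fun s => h.lift (s.snd ≫ prod.fst) (s.snd ≫ prod.snd) ?_)
      (fun s => ?_) (fun s => ?_) (fun s m h1 h2 => ?_)⟩⟩
    · apply Limits.prod.hom_ext <;> simp [h.w]
    · have h1 := congrArg (· ≫ prod.fst) s.condition
      have h2 := congrArg (· ≫ prod.snd) s.condition
      simp only [Category.assoc, Limits.prod.map_fst, Limits.prod.map_snd, Limits.prod.lift_fst,
        Limits.prod.lift_snd, Category.comp_id] at h1 h2
      simp only [Category.assoc]
      rw [← h1, ← h2]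
    · have h1 := congrArg (· ≫ prod.fst) s.condition
      simp only [Category.assoc, Limits.prod.map_fst, Limits.prod.lift_fst, Category.comp_id] at h1
      rw [h.lift_fst_assoc, Category.assoc, ← h1]
    · apply Limits.prod.hom_ext <;>
        simp only [Category.assoc, Limits.prod.lift_fst, Limits.prod.lift_snd, h.lift_fst, h.lift_snd]
    · apply h.hom_ext
      · rw [h.lift_fst, ← h2]; simp only [Category.assoc, Limits.prod.lift_fst]
      · rw [h.lift_snd, ← h2]; simp only [Category.assoc, Limits.prod.lift_snd]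
  exact isAlgSpace_of_representable (isAlgSpace_prod hF hH) _ (rep_of_isPullback sq hG)

/-- A fibre product of algebraic spaces is an algebraic space. -/
theorem isAlgSpace_of_isPullback {F G H W : Sp S} (hF : IsAlgSpace F) (hH : IsAlgSpace H)
    (hG : IsAlgSpace G) {fst : W ⟶ F} {snd : W ⟶ H} {f : F ⟶ G} {g : H ⟶ G}
    (h : IsPullback fst snd f g) : IsAlgSpace W :=
  isAlgSpace_of_isPullback_diag hF hH hG.diag h

theorem isAlgSpace_pullback {F G H : Sp S} (hF : IsAlgSpace F) (hH : IsAlgSpace H)
    (hG : IsAlgSpace G) (f : F ⟶ G) (g : H ⟶ G) : IsAlgSpace (pullback f g) :=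
  isAlgSpace_of_isPullback hF hH hG (IsPullback.of_hasPullback f g)

/-- A represented pullback of `a : h_U ⟶ G` and `b : h_V ⟶ G`, expressed inside `Over S`. -/
theorem exists_isPullback_yon {G : Sp S} {U V : Over S} (a : (yon S).obj U ⟶ G)
    (b : (yon S).obj V ⟶ G) (ha : Representable a) :
    ∃ (W : Over S) (p : W ⟶ U) (q : W ⟶ V), IsPullback ((yon S).map p) ((yon S).map q) a b :=
  ⟨_, _, _, ha.isPullback' b⟩

/-! ## Etale morphisms and the chart notions -/

theorem isEtaleMor_of_repWith {F G : Sp S} {f : F ⟶ G} (hf : RepWith @Etale f) : IsEtaleMor f :=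
  fun _ _ hφ => repWith_comp (P := (@Etale : MorphismProperty Scheme.{u})) hφ hf

theorem isEtaleMor_id (F : Sp S) : IsEtaleMor (𝟙 F) := fun _ φ hφ => by simpa using hφ

theorem isEtaleMor_comp {F G H : Sp S} {f : F ⟶ G} {g : G ⟶ H} (hg : IsEtaleMor g)
    (hf : IsEtaleMor f) : IsEtaleMor (f ≫ g) := fun _ φ hφ => by
  simpa using hg _ (hf φ hφ)

theorem etale_cancel {G : Sp S} {U V : Over S} (h : U ⟶ V) (b : (yon S).obj V ⟶ G)
    (hc : RepWith @Etale ((yon S).map h ≫ b)) (hb : RepWith @Etale b) : Etale h.left := by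
  let sq := hb.rep.isPullback' ((yon S).map h ≫ b)
  let s : U ⟶ hb.rep.pullback ((yon S).map h ≫ b) := hb.rep.lift' h (𝟙 U) (by simp)
  have e1 : s ≫ hb.rep.fst' ((yon S).map h ≫ b) = h := hb.rep.lift'_fst _ _ _
  have e2 : s ≫ hb.rep.snd ((yon S).map h ≫ b) = 𝟙 U := hb.rep.lift'_snd _ _ _
  have : Etale (hb.rep.snd ((yon S).map h ≫ b)).left := hb.property_snd _
  have : Etale (hb.rep.fst' ((yon S).map h ≫ b)).left :=
    hc.property b _ _ sq.flip
  have : Etale (s.left ≫ (hb.rep.snd ((yon S).map h ≫ b)).left) := by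
    rw [← Over.comp_left, e2]; dsimp; infer_instance
  have : Etale s.left := Etale.of_comp s.left (hb.rep.snd ((yon S).map h ≫ b)).left
  rw [← e1, Over.comp_left]
  infer_instance

theorem locP_etale_of_isEtaleMor {F G : Sp S} {f : F ⟶ G} (hf : IsEtaleMor f) :
    LocP @Etale f := fun _ _ a b h ha hb e => etale_cancel h b (e ▸ hf a ha) hb

theorem locP_mono {P Q : MorphismProperty Scheme.{u}} (h : P ≤ Q) {F G : Sp S} {f : F ⟶ G}
    (hf : LocP P f) : LocP Q f := fun _ _ a b k ha hb e => h _ (hf a b k ha hb e)

theorem etale_le_smooth : (@Etale : MorphismProperty Scheme.{u}) ≤ @Smooth :=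
  fun _ _ f (_ : Etale f) => (inferInstance : Smooth f)

theorem locP_smooth_of_isEtaleMor {F G : Sp S} {f : F ⟶ G} (hf : IsEtaleMor f) :
    LocP @Smooth f :=
  locP_mono etale_le_smooth (locP_etale_of_isEtaleMor hf)

theorem locP_smooth_id (F : Sp S) : LocP @Smooth (𝟙 F) :=
  locP_smooth_of_isEtaleMor (isEtaleMor_id F)

theorem smooth_of_comp_etale {A B C : Scheme.{u}} (h : A ⟶ B) (g : B ⟶ C) [Smooth (h ≫ g)]
    [Etale g] : Smooth h := by
  let s : A ⟶ pullback (h ≫ g) g := pullback.lift (𝟙 A) h (by simp)
  have : Etale (s ≫ pullback.fst (h ≫ g) g) := by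
    rw [pullback.lift_fst]; infer_instance
  have : Etale s := Etale.of_comp s (pullback.fst (h ≫ g) g)
  have : h = s ≫ pullback.snd (h ≫ g) g := (pullback.lift_snd _ _ _).symm
  rw [this]
  infer_instance

/-- A smooth morphism of schemes is smooth in the chart sense. -/
theorem locP_smooth_yon_map {U V : Over S} (φ : U ⟶ V) [Smooth φ.left] :
    LocP @Smooth ((yon S).map φ) := by
  intro A B a b h ha hb e
  obtain ⟨a, rfl⟩ := (yon S).map_surjective a
  obtain ⟨b, rfl⟩ := (yon S).map_surjective b
  have : Etale a.left := (repWith_yon_map_iff _ a).1 ha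
  have : Etale b.left := (repWith_yon_map_iff _ b).1 hb
  rw [← Functor.map_comp, ← Functor.map_comp] at e
  have e' : a ≫ φ = h ≫ b := (yon S).map_injective e
  have : Smooth (h.left ≫ b.left) := by
    rw [← Over.comp_left, ← e', Over.comp_left]; infer_instance
  exact smooth_of_comp_etale h.left b.left

/-! ## Points -/

/-- The morphism from the spectrum of the field of a field-valued point. -/
noncomputable def toMor {F : Sp S} (p : FieldPt F) : (yon S).obj p.pt ⟶ F :=
  (J S).uliftYonedaEquiv.symm p.val

set_option backward.isDefEq.respectTransparency false in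
theorem mk_eq_ofPt_toMor {F : Sp S} (p : FieldPt F) :
    Points.mk p = Points.ofPt (toMor p) (IsLocalRing.closedPoint p.K) := by
  rw [Points.ofPt_eq_map_ofScheme]
  have h := Points.ofScheme_apply_eq_mk p.pt (𝟙 (Spec (CommRingCat.of p.K))) (Category.id_comp _)
  refine Eq.trans ?_ (congrArg (Points.map (toMor p)) h).symm
  rw [Points.map_mk]
  refine congrArg Points.mk ?_
  obtain ⟨K, str, val⟩ := p
  change _ = FieldPt.mk K str _
  congr 1
  change val = ((J S).uliftYonedaEquiv.symm val).hom.app _ ⟨Over.homMk (𝟙 _) _⟩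
  rw [GrothendieckTopology.uliftYonedaEquiv_symm_app_apply]
  change val = F.obj.map (𝟙 (Over.mk str)).op val
  simp

/-- Every point comes from a morphism from a scheme. -/
theorem exists_ofPt_eq {F : Sp S} (x : Points F) :
    ∃ (T : Over S) (a : (yon S).obj T ⟶ F) (t : ↥T.left), Points.ofPt a t = x := by
  induction x using Points.ind with
  | h p => exact ⟨p.pt, toMor p, _, (mk_eq_ofPt_toMor p).symm⟩

theorem ofPt_yon_comp {F : Sp S} {T T' : Over S} (φ : T ⟶ T') (a : (yon S).obj T' ⟶ F)
    (t : ↥T.left) : Points.ofPt ((yon S).map φ ≫ a) t = Points.ofPt a (φ.left t) := by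
  rw [← Points.map_ofPt]
  conv_rhs => rw [Points.ofPt_eq_map_ofScheme]
  refine congrArg (Points.map a) ?_
  exact (Points.schemeEquiv T').symm.injective
    ((Points.toScheme_ofPt φ t).trans (Points.toScheme_ofScheme T' _).symm)

set_option backward.isDefEq.respectTransparency false in
theorem map_surjective_of_repWith {F G : Sp S} {f : F ⟶ G} (hf : RepWith @Surjective f) :
    Function.Surjective (Points.map f) := fun x => by
  obtain ⟨T, a, t, rfl⟩ := exists_ofPt_eq x
  obtain ⟨w, hw⟩ := (hf.property_snd a).surj t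
  refine ⟨Points.ofPt (hf.rep.fst a) w, ?_⟩
  rw [Points.map_ofPt, hf.rep.w, ofPt_yon_comp]
  exact congrArg _ hw

set_option backward.isDefEq.respectTransparency false in
/-- Points of a fibre product surject onto the fibre product of the points. -/
theorem exists_point_isPullback {F G H W : Sp S} {fst : W ⟶ F} {snd : W ⟶ H} {f : F ⟶ G}
    {g : H ⟶ G} (h : IsPullback fst snd f g) (x : Points F) (y : Points H)
    (e : Points.map f x = Points.map g y) :
    ∃ w : Points W, Points.map fst w = x ∧ Points.map snd w = y := by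
  induction x using Points.ind with
  | h p =>
  induction y using Points.ind with
  | h q =>
  rw [Points.map_mk, Points.map_mk, Points.mk_eq_mk_iff] at e
  obtain ⟨Ω, hΩ, w, a, b, hab⟩ := e
  have key : ((yon S).map a ≫ toMor p) ≫ f = ((yon S).map b ≫ toMor q) ≫ g := by
    rw [Category.assoc, Category.assoc, toMor, toMor,
      GrothendieckTopology.uliftYonedaEquiv_symm_naturality_right,
      GrothendieckTopology.uliftYonedaEquiv_symm_naturality_right]
    refine Eq.trans ?_ (Eq.trans (congrArg (J S).uliftYonedaEquiv.symm hab) ?_)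
    · exact GrothendieckTopology.uliftYonedaEquiv_symm_naturality_left _ _ _ _
    · exact (GrothendieckTopology.uliftYonedaEquiv_symm_naturality_left _ _ _ _).symm
  refine ⟨Points.ofPt (h.lift _ _ key) (IsLocalRing.closedPoint Ω), ?_, ?_⟩
  · rw [Points.map_ofPt, h.lift_fst, ofPt_yon_comp, mk_eq_ofPt_toMor]
    exact congrArg _ (Subsingleton.elim (α := PrimeSpectrum p.K) _ _)
  · rw [Points.map_ofPt, h.lift_snd, ofPt_yon_comp, mk_eq_ofPt_toMor]
    exact congrArg _ (Subsingleton.elim (α := PrimeSpectrum q.K) _ _)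

end AlgSpLib
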