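import Groth.Agent.AlgSpLib.ShriekAdj
import Groth.Agent.AlgSpLib.Basic
/-!
# Algebraic spaces over `S` and over `h_S`
-/

set_option autoImplicit false
set_option backward.isDefEq.respectTransparency false
set_option backward.isDefEq.respectTransparency.types false
universe u
open CategoryTheory CategoryTheory.Limits AlgebraicGeometry Opposite AlgSp

namespace AlgSpLib.Shriek

variable {S S' : Scheme.{u}} {g : S ⟶ S'}

theorem exists_over_lift {F : Sp S} {T' : Over S'} (η : (yon S').obj T' ⟶ (shr g).obj F) :
    ∃ (T : Over S) (e : T' ≅ (Over.map g).obj T) (ξ : (yon S).obj T ⟶ F),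
      η = (yon S').map e.hom ≫ inv (yonMap g T) ≫ (shr g).map ξ := by
  let v : T' ⟶ Over.mk g := ((yon S').map_surjective (η ≫ π g F)).choose
  have hv : (yon S').map v = η ≫ π g F := ((yon S').map_surjective (η ≫ π g F)).choose_spec
  let T : Over S := Over.mk v.left
  let e : T' ≅ (Over.map g).obj T := Over.isoMk (Iso.refl _) (by simp [T]; exact Over.w v)
  have he : e.hom ≫ (Over.homMk T.hom rfl : (Over.map g).obj T ⟶ Over.mk g) = v :=
    Over.OverMorphism.ext (by simp [e, T])
  let α : (toOver g).obj ((yon S).obj T) ⟶ (toOver g).obj F :=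
    Over.homMk (yonMap g T ≫ (yon S').map e.inv ≫ η) (by
      change (yonMap g T ≫ (yon S').map e.inv ≫ η) ≫ π g F = π g ((yon S).obj T)
      simp only [Category.assoc, ← hv, ← Functor.map_comp]
      rw [← yonMap_π, ← he, Iso.inv_hom_id_assoc])
  obtain ⟨ξ, hξ⟩ := (toOver g).map_surjective α
  refine ⟨T, e, ξ, ?_⟩
  have : (shr g).map ξ = yonMap g T ≫ (yon S').map e.inv ≫ η := congrArg (fun k => k.left) hξ
  rw [this, IsIso.inv_hom_id_assoc, ← Category.assoc, ← Functor.map_comp, Iso.hom_inv_id,
    CategoryTheory.Functor.map_id, Category.id_comp]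

theorem repWith_shr_map {P : MorphismProperty Scheme.{u}} [P.RespectsIso] {F G : Sp S} {β : F ⟶ G}
    (hβ : RepWith P β) : RepWith P ((shr g).map β) := by
  have key : ∀ (T' : Over S') (η : (yon S').obj T' ⟶ (shr g).obj G),
      ∃ (W : Over S') (a : (yon S').obj W ⟶ (shr g).obj F) (b : W ⟶ T'),
        IsPullback a ((yon S').map b) ((shr g).map β) η ∧ P b.left := by
    intro T' η
    obtain ⟨T, e, ξ, rfl⟩ := exists_over_lift η
    have sq := isPullback_map g (hβ.rep.isPullback ξ)
    haveI : IsIso e.inv.left := inferInstanceAs (IsIso ((Over.forget S').map e.inv))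
    refine ⟨(Over.map g).obj (hβ.rep.pullback ξ), inv (yonMap g _) ≫ (shr g).map (hβ.rep.fst ξ),
      (Over.map g).map (hβ.rep.snd ξ) ≫ e.inv, ?_,
      MorphismProperty.RespectsIso.postcomp P e.inv.left _ (hβ.property_snd ξ)⟩
    refine sq.of_iso (asIso (yonMap g _)) (Iso.refl _) (asIso (yonMap g T) ≪≫ (yon S').mapIso e.symm)
      (Iso.refl _) (by simp) ?_ (by simp) ?_
    · simp only [Iso.trans_hom, asIso_hom, Functor.mapIso_hom, Iso.symm_hom, Functor.map_comp]
      rw [← Category.assoc, yonMap_natural, Category.assoc]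
    · simp only [Iso.trans_hom, asIso_hom, Functor.mapIso_hom, Iso.symm_hom, Category.assoc, Iso.refl_hom,
        Category.comp_id]
      rw [← Category.assoc ((yon S').map e.inv), ← Functor.map_comp, Iso.inv_hom_id,
        CategoryTheory.Functor.map_id, Category.id_comp, IsIso.hom_inv_id_assoc]
  exact MorphismProperty.relative.of_exists fun T' η => by
    obtain ⟨W, a, b, sq, hb⟩ := key T' η
    exact ⟨W, a, b, sq, hb⟩

theorem repWith_of_shr_map {P : MorphismProperty Scheme.{u}} [P.RespectsIso] {F G : Sp S} {β : F ⟶ G}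
    (hβ : RepWith P ((shr g).map β)) : RepWith P β := by
  refine MorphismProperty.relative.of_exists fun T ξ => ?_
  let η := inv (yonMap g T) ≫ (shr g).map ξ
  have sq' := hβ.rep.isPullback η
  let snd' : hβ.rep.pullback η ⟶ (Over.map g).obj T := hβ.rep.snd η
  let W : Over S := Over.mk (snd'.left ≫ T.hom)
  let k : W ⟶ T := Over.homMk snd'.left rfl
  let i : (Over.map g).obj W ≅ hβ.rep.pullback η := Over.isoMk (Iso.refl _) (by
    change 𝟙 _ ≫ (hβ.rep.pullback η).hom = (snd'.left ≫ T.hom) ≫ g
    rw [Category.id_comp, Category.assoc]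
    exact (Over.w snd').symm)
  have hik : i.hom ≫ snd' = (Over.map g).map k := Over.OverMorphism.ext (by simp [i, k])
  have sq := IsPullback.of_hasPullback β ξ
  have sqQ := isPullback_map g sq
  let a := yonMap g W ≫ (yon S').map i.hom ≫ hβ.rep.fst η
  have sqW : IsPullback a ((shr g).map ((yon S).map k)) ((shr g).map β) ((shr g).map ξ) := by
    refine sq'.of_iso (((yon S').mapIso i).symm ≪≫ (asIso (yonMap g W)).symm) (Iso.refl _)
      (asIso (yonMap g T)).symm (Iso.refl _) ?_ ?_ (by simp) (by simp [η])
    · simp only [a, Iso.trans_hom, Iso.symm_hom, asIso_inv, Category.assoc, IsIso.inv_hom_id_assoc,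
        Functor.mapIso_inv, Iso.refl_hom, Category.comp_id]
      rw [← Category.assoc, ← Functor.map_comp, Iso.inv_hom_id, CategoryTheory.Functor.map_id, Category.id_comp]
    · simp only [Iso.trans_hom, Iso.symm_hom, asIso_inv, Category.assoc, Functor.mapIso_inv]
      rw [← cancel_mono (yonMap g T)]
      simp only [Category.assoc, IsIso.inv_hom_id, Category.comp_id, yonMap_natural, IsIso.inv_hom_id_assoc]
      rw [← Functor.map_comp, ← hik, Iso.inv_hom_id_assoc]
  let E := sqW.isoIsPullback _ _ sqQ
  have hE : E.hom ≫ (shr g).map (pullback.snd β ξ) = (shr g).map ((yon S).map k) :=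
    sqW.isoIsPullback_hom_snd _ _ sqQ
  obtain ⟨ε', hε⟩ : ∃ ε' : (yon S).obj W ≅ pullback β ξ, ((toOver g).map ε'.hom).left = E.hom := by
    refine ⟨(toOver g).preimageIso (Over.isoMk E ?_), ?_⟩
    · change E.hom ≫ π g _ = π g _
      rw [← π_natural (g := g) (pullback.snd β ξ), ← Category.assoc, hE, π_natural]
    · rw [Functor.preimageIso_hom, Functor.map_preimage]
      rfl
  have hsnd : ε'.hom ≫ pullback.snd β ξ = (yon S).map k := (shr g).map_injective (by
    rw [Functor.map_comp, show (shr g).map ε'.hom = E.hom from hε, hE])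
  refine ⟨W, ε'.hom ≫ pullback.fst β ξ, k, ?_, ?_⟩
  · exact sq.of_iso ε'.symm (Iso.refl _) (Iso.refl _) (Iso.refl _) (by simp) (by simp [← hsnd]) (by simp) (by simp)
  · exact hβ.property_snd η

theorem repWith_shr_map_iff {P : MorphismProperty Scheme.{u}} [P.RespectsIso] {F G : Sp S} {β : F ⟶ G} :
    RepWith P ((shr g).map β) ↔ RepWith P β :=
  ⟨repWith_of_shr_map, repWith_shr_map⟩

theorem representable_iff_repWith_top {S₀ : Scheme.{u}} {F G : Sp S₀} {f : F ⟶ G} :
    Representable f ↔ RepWith (⊤ : MorphismProperty Scheme.{u}) f :=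
  ⟨fun h => ⟨h, fun _ _ _ _ _ _ => trivial⟩, fun h => h.rep⟩

theorem representable_shr_map_iff {F G : Sp S} {β : F ⟶ G} :
    Representable ((shr g).map β) ↔ Representable β := by
  rw [representable_iff_repWith_top, representable_iff_repWith_top, repWith_shr_map_iff]

theorem isAlgSpace_shr_iff (F : Sp S) : IsAlgSpace ((shr g).obj F) ↔ IsAlgSpace F := by
  constructor
  · intro h
    refine ⟨Functor.relativelyRepresentable.diag_of_map_from_obj (fun T ξ => ?_), ?_⟩
    · change Representable ξ
      rw [← representable_shr_map_iff (g := g),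
        show (shr g).map ξ = yonMap g T ≫ inv (yonMap g T) ≫ (shr g).map ξ from (IsIso.hom_inv_id_assoc _ _).symm]
      exact (MorphismProperty.cancel_left_of_respectsIso Representable (yonMap g T) _).2
        (h.representable_from_yon _)
    · obtain ⟨U', p, hp, hps⟩ := h.atlas
      obtain ⟨U, e, ξ, rfl⟩ := exists_over_lift p
      rw [(RepWith (S := S') @Etale).cancel_left_of_respectsIso,
        (RepWith (S := S') @Etale).cancel_left_of_respectsIso, repWith_shr_map_iff] at hp
      rw [(RepWith (S := S') @Surjective).cancel_left_of_respectsIso,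
        (RepWith (S := S') @Surjective).cancel_left_of_respectsIso, repWith_shr_map_iff] at hps
      exact ⟨U, ξ, hp, hps⟩
  · intro h
    refine ⟨Functor.relativelyRepresentable.diag_of_map_from_obj (fun T' η => ?_), ?_⟩
    · obtain ⟨T, e, ξ, rfl⟩ := exists_over_lift η
      refine (MorphismProperty.cancel_left_of_respectsIso Representable _ _).2
        ((MorphismProperty.cancel_left_of_respectsIso Representable _ _).2 ?_)
      exact representable_shr_map_iff.2 (h.representable_from_yon ξ)
    · obtain ⟨U, p, hp, hps⟩ := h.atlas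
      exact ⟨(Over.map g).obj U, inv (yonMap g U) ≫ (shr g).map p,
        ((RepWith (S := S') @Etale).cancel_left_of_respectsIso _ _).2 (repWith_shr_map hp),
        ((RepWith (S := S') @Surjective).cancel_left_of_respectsIso _ _).2 (repWith_shr_map hps)⟩

variable (g)

theorem exists_iso_prod (P : Sp S') :
    Nonempty ((shr g).obj ((res g).obj P) ≅ (yon S').obj (Over.mk g) ⨯ P) := by
  let c : BinaryFan ((yon S').obj (Over.mk g)) P := BinaryFan.mk (π g ((res g).obj P)) (ε P)
  suffices h : IsLimit c from ⟨h.conePointUniqueUpToIso (limit.isLimit (pair ((yon S').obj (Over.mk g)) P))⟩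
  refine BinaryFan.IsLimit.mk c (fun {Q} a b => ⟨{ app := fun T => ↾fun q => ?_, naturality := ?_ }⟩) ?_ ?_ ?_
  · let v : T.unop ⟶ Over.mk g := (show ULift.{u + 1} (T.unop ⟶ Over.mk g) from a.hom.app T q).down
    exact (⟨v.left, Over.w v, P.obj.map (Over.homMk (𝟙 _) ((Category.id_comp _).trans (Over.w v).symm) :
      (Over.map g).obj (Over.mk v.left) ⟶ T.unop).op (b.hom.app T q)⟩ : El g ((res g).obj P) T.unop)
  · intro T T' φ
    ext q
    have na : a.hom.app T' (Q.obj.map φ q) = ((yon S').obj (Over.mk g)).obj.map φ (a.hom.app T q) :=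
      NatTrans.naturality_apply a.hom φ q
    have nb : b.hom.app T' (Q.obj.map φ q) = P.obj.map φ (b.hom.app T q) := NatTrans.naturality_apply b.hom φ q
    refine El.ext' ?_ fun e => ?_
    · exact congrArg (fun v : ULift.{u + 1} (T'.unop ⟶ Over.mk g) => v.down.left) na
    · refine (congrArg (fun z => ((res g).obj P).obj.map _ (P.obj.map _ z)) nb).trans ?_
      let v : T.unop ⟶ Over.mk g := (show ULift.{u + 1} (T.unop ⟶ Over.mk g) from a.hom.app T q).down
      let v' : T'.unop ⟶ Over.mk g :=
        (show ULift.{u + 1} (T'.unop ⟶ Over.mk g) from a.hom.app T' (Q.obj.map φ q)).down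
      let k₁ : (Over.map g).obj (Over.mk v'.left) ⟶ T.unop := Over.homMk φ.unop.left
        ((Over.w φ.unop).trans (Over.w v').symm)
      let k₂ : (Over.map g).obj (Over.mk (φ.unop.left ≫ v.left)) ⟶ T.unop := Over.homMk φ.unop.left (by
        change φ.unop.left ≫ T.unop.hom = (φ.unop.left ≫ v.left) ≫ g
        rw [Category.assoc]; exact congrArg (φ.unop.left ≫ ·) (Over.w v).symm)
      exact (congrArg _ (map_map_congr P φ.unop _ k₁ (by simp [k₁]) _)).trans
        ((map_map_congr P k₁ _ k₂ (by simp [k₁, k₂]) _).trans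
          (map_map_congr P _ _ k₂ (by simp [k₂]) _).symm)
  · intro Q a b
    ext T q
    exact congrArg ULift.up (Over.OverMorphism.ext rfl)
  · intro Q a b
    ext T q
    exact (map_map_congr P _ _ (𝟙 _) (by simp) _).trans (map_eq_self P _ rfl _)
  · intro Q a b m h1 h2
    ext T q
    have hA : m ≫ π g _ = a := h1
    have hB : m ≫ ε P = b := h2
    subst hA hB
    let s : El g ((res g).obj P) T.unop := m.hom.app T q
    refine (El.ext' (a := (⟨s.h, _, P.obj.map (Over.homMk (𝟙 _) ((Category.id_comp _).trans s.w.symm) :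
        (Over.map g).obj (Over.mk s.h) ⟶ T.unop).op (P.obj.map (down s).op s.x)⟩ : El g ((res g).obj P) T.unop))
      (b := s) rfl fun e => ?_).symm
    exact (congrArg _ (map_map_congr P (down s) _ (𝟙 _) (by simp [down]) _)).trans
      ((map_map_congr P _ _ (𝟙 _) (by simp [down]) s.x).trans (map_eq_self P _ rfl _))

theorem isAlgSpace_res_iff (P : Sp S') :
    IsAlgSpace ((res g).obj P) ↔ IsAlgSpace ((yon S').obj (Over.mk g) ⨯ P) := by
  obtain ⟨e⟩ := exists_iso_prod g P
  rw [← isAlgSpace_shr_iff (g := g)]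
  exact ⟨ObjectProperty.prop_of_iso _ e, ObjectProperty.prop_of_iso _ e.symm⟩

theorem res_yon_representableBy (X' : Over S') :
    Nonempty (((res g).obj ((yon S').obj X')).obj.RepresentableBy (Over.mk (pullback.snd X'.hom g))) :=
  ⟨{ homEquiv := fun {T} => (((Over.mapPullbackAdj g).homEquiv T X').symm).trans Equiv.ulift.symm
     homEquiv_comp := fun {T T'} f k => congrArg ULift.up
      (((Over.mapPullbackAdj g).homEquiv_naturality_left_symm f k)) }⟩

theorem isAlgSpace_res {P : Sp S'} (hP : IsAlgSpace P) : IsAlgSpace ((res g).obj P) :=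
  (isAlgSpace_res_iff g P).2 (isAlgSpace_prod (IsAlgSpace.yon_obj _) hP)

/-- Algebraic spaces over `S` as algebraic spaces over `h_S`. -/
noncomputable def spaceToOver : Space S ⥤ Over ((ofScheme S').obj (Over.mk g)) where
  obj X := Over.mk (Y := (⟨(shr g).obj X.obj, (isAlgSpace_shr_iff X.obj).2 X.property⟩ : Space S'))
    (ObjectProperty.homMk (π g X.obj))
  map f := Over.homMk (ObjectProperty.homMk ((shr g).map f.hom)) (ObjectProperty.hom_ext _ (π_natural f.hom))
  map_id X := by
    apply Over.OverMorphism.ext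
    exact ObjectProperty.hom_ext _ ((shr g).map_id X.obj)
  map_comp f f' := by
    apply Over.OverMorphism.ext
    exact ObjectProperty.hom_ext _ ((shr g).map_comp f.hom f'.hom)

instance : (spaceToOver g).Faithful where
  map_injective {X Y} f f' h := ObjectProperty.hom_ext _ ((shr g).map_injective
    (congrArg (fun k => k.left.hom) h))

instance : (spaceToOver g).Full where
  map_surjective {X Y} α := by
    obtain ⟨f, hf⟩ := (toOver g).map_surjective (X := X.obj) (Y := Y.obj)
      (Over.homMk α.left.hom (congrArg (fun k => k.hom) (Over.w α)))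
    exact ⟨ObjectProperty.homMk f, Over.OverMorphism.ext (ObjectProperty.hom_ext _
      (congrArg (fun k => k.left) hf))⟩

instance : (spaceToOver g).EssSurj where
  mem_essImage Y := by
    obtain ⟨e, he⟩ := exists_iso_of_over g (P := Y.left.obj) Y.hom.hom
    have h : IsAlgSpace (fib g (P := Y.left.obj) Y.hom.hom) :=
      (isAlgSpace_shr_iff _).1 (ObjectProperty.prop_of_iso _ e.symm Y.left.property)
    exact ⟨⟨_, h⟩, ⟨Over.isoMk ((ObjectProperty.fullyFaithfulι _).preimageIso e) (ObjectProperty.hom_ext _ he)⟩⟩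

instance : (spaceToOver g).IsEquivalence := Functor.IsEquivalence.mk inferInstance inferInstance inferInstance

end AlgSpLib.Shriek
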