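import Groth.Agent.AlgSpLib.DecentTop
import Mathlib.AlgebraicGeometry.Morphisms.LocalFlatDescent

/-!
# One-point spaces, and decency along coverings
-/

set_option autoImplicit false
set_option backward.isDefEq.respectTransparency false
set_option backward.isDefEq.respectTransparency.types false

universe u

open CategoryTheory CategoryTheory.Limits AlgebraicGeometry Opposite AlgSp Topology

namespace AlgSpLib

variable {S : Scheme.{u}}

/-- Decency descends along quasi-compact surjective morphisms. -/
theorem isDecent_of_qc_surjective {X Y : Sp S} (hX : IsAlgSpace X) (hY : IsAlgSpace Y) {f : X ⟶ Y}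
    (hq : IsQuasiCompactMor f) (hs : IsSurjectiveMor f) (hd : IsDecent X) : IsDecent Y := fun y => by
  obtain ⟨x, rfl⟩ := hs y
  obtain ⟨p, rfl, -, hp⟩ := hd x
  refine exists_decentPt_of_qc hY (p.map f) ?_
  rw [FieldPt.toHom_map]
  refine (repWith_quasiCompact_iff (IsAlgSpace.yon_obj _) hY (hY.representable_from_yon _)).2 ?_
  exact isQuasiCompactMor_comp hX hY (isQuasiCompactMor_of_repWith (IsAlgSpace.yon_obj _) hX hp) hq

/-- A field-valued point of a scheme lifts, after a field extension, along a surjective etale morphism. -/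
lemma exists_field_lift {Q : Sp S} {q : FieldPt Q} {V : Over S} {p : (yon S).obj V ⟶ Q}
    (hp : RepWith @Etale p) (hps : RepWith @Surjective p) :
    ∃ (K : Over S) (π : K ⟶ q.pt) (v : K ⟶ V), Subsingleton K.left ∧ Nonempty K.left ∧
      QuasiCompact π.left ∧ Surjective π.left ∧ (yon S).map π ≫ q.toHom = (yon S).map v ≫ p := by
  obtain ⟨W, wV, wK, sq⟩ := exists_isPullback_yon p q.toHom hp.rep
  haveI : Surjective wK.left := surjective_left (repWith_of_isPullback sq hps)
  obtain ⟨w, -⟩ := wK.left.surjective (IsLocalRing.closedPoint q.K)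
  let K : Over S := Over.mk (W.left.fromSpecResidueField w ≫ W.hom)
  let j : K ⟶ W := Over.homMk (W.left.fromSpecResidueField w) rfl
  haveI : Subsingleton K.left := inferInstanceAs (Subsingleton (PrimeSpectrum (W.left.residueField w)))
  haveI : Nonempty K.left := inferInstanceAs (Nonempty (PrimeSpectrum (W.left.residueField w)))
  refine ⟨K, j ≫ wK, j ≫ wV, inferInstance, inferInstance, quasiCompact_of_finite _,
    ⟨fun y => ⟨Classical.arbitrary _, Subsingleton.elim _ _⟩⟩, ?_⟩
  simp only [Functor.map_comp, Category.assoc, sq.w]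

/-- Decency of a morphism is etale local on the target. -/
theorem isDecentMor_of_etale_cover {X Y : Sp S} (hX : IsAlgSpace X) (hY : IsAlgSpace Y) {f : X ⟶ Y} {V : Over S}
    {p : (yon S).obj V ⟶ Y} (hp : RepWith @Etale p) (hps : RepWith @Surjective p) {X' : Sp S} {fst : X' ⟶ X}
    {snd : X' ⟶ (yon S).obj V} (hsq : IsPullback fst snd f p) (h : IsDecentMor snd) : IsDecentMor f := by
  intro T F g fst' snd' sq
  refine isDecent_of_fibres snd' (isDecent_yon T) fun q => ?_
  have sqG := (IsPullback.of_hasPullback snd' q.toHom).paste_horiz sq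
  obtain ⟨K, π, v, hK, hK', hπq, hπs, hπ⟩ := exists_field_lift (q := q.map g) hp hps
  rw [FieldPt.toHom_map] at hπ
  have hsur : IsSurjectiveMor ((yon S).map π) :=
    map_surjective_of_repWith ((repWith_yon_map_iff (P := (@Surjective : MorphismProperty Scheme.{u})) π).2 hπs)
  have hq := IsAlgSpace.yon_obj (S := S) q.pt
  have hG := isAlgSpace_of_isPullback hX hq hY sqG
  have sqK := IsPullback.of_hasPullback (pullback.snd snd' q.toHom) ((yon S).map π)
  have sqK' := sqK.paste_horiz sqG
  have hKa := isAlgSpace_of_isPullback hG (IsAlgSpace.yon_obj K) hq sqK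
  refine isDecent_of_qc_surjective hKa hG (isQuasiCompactMor_of_isPullback sqK.flip
    (isQuasiCompactMor_of_repWith (IsAlgSpace.yon_obj K) hq ((repWith_yon_map_iff _ π).2 hπq)))
    (map_surjective_of_isPullback sqK.flip hsur) ?_
  rw [show (yon S).map π ≫ q.toHom ≫ g = (yon S).map v ≫ p from hπ] at sqK'
  exact h ((yon S).map v) _ _ (IsPullback.of_right (h₁₁ := hsq.lift _ _ (sqK'.w.trans (Category.assoc _ _ _).symm))
    (by rw [hsq.lift_fst]; exact sqK') (hsq.lift_snd _ _ _) hsq)

/-- The residue field at a generic point of a reduced scheme maps flatly to the scheme. -/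
lemma flat_fromSpecResidueField_generic {U : Scheme.{u}} [IsReduced U] (u : U)
    (hu : closure {u} ∈ irreducibleComponents U) : Flat (U.fromSpecResidueField u) := by
  have hfld := isField_stalk_of_closure_mem_irreducibleComponents U u hu
  letI := hfld.toField
  haveI : IsIso (U.residue u) := (ConcreteCategory.isIso_iff_bijective _).2
    ⟨(U.residue u).hom.injective, U.residue_surjective u⟩
  haveI : Flat (U.fromSpecStalk u) := by
    obtain ⟨O, hO, hu, -⟩ := exists_isAffineOpen_mem_and_subset (U := ⊤) (x := u) trivial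
    rw [← hO.fromSpecStalk_eq_fromSpecStalk hu, IsAffineOpen.fromSpecStalk]
    haveI : Flat (Spec.map (U.presheaf.germ O u hu)) := by
      rw [HasRingHomProperty.Spec_iff (P := @Flat)]
      letI := (U.presheaf.germ O u hu).hom.toAlgebra
      haveI := hO.isLocalization_stalk ⟨u, hu⟩
      exact RingHom.flat_algebraMap_iff.2
        (IsLocalization.flat (U.presheaf.stalk u) (hO.primeIdealOf ⟨u, hu⟩).asIdeal.primeCompl)
    haveI : Flat hO.fromSpec := inferInstance
    infer_instance
  exact inferInstanceAs (Flat (Spec.map (U.residue u) ≫ U.fromSpecStalk u))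

lemma discrete_of_specializes {A : Type u} [TopologicalSpace A] [Finite A]
    (h : ∀ a b : A, a ⤳ b → a = b) : DiscreteTopology A := by
  haveI : T1Space A := t1Space_iff_specializes_imp_eq.2 fun a b => h a b
  infer_instance

/-- A decent one-point space has an affine one-point etale atlas inside any atlas. -/
lemma exists_onePoint_chart {X : Sp S} (hX : IsAlgSpace X) (hd : IsDecent X) [Subsingleton (Points X)]
    {U : Over S} {a : (yon S).obj U ⟶ X} (ha : RepWith @Etale a) (u : U.left) :
    ∃ (A : Over S) (j : A ⟶ U), IsOpenImmersion j.left ∧ IsAffine A.left ∧ Subsingleton A.left ∧ Nonempty A.left ∧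
      RepWith @Etale ((yon S).map j ≫ a) ∧ RepWith @Surjective ((yon S).map j ≫ a) := by
  obtain ⟨p, -, -, hpq⟩ := hd (Points.ofPt a u)
  have hfin : ∀ (V : Over S) (b : (yon S).obj V ⟶ X), IsAffine V.left → RepWith @Etale b →
      (Points.ofPt b ⁻¹' {Points.mk p}).Finite := fun V b hV hb => by
    haveI := hV
    exact finite_fibre_of_qc_point hpq hb
  obtain ⟨V, i, v, hV, -, hi, hb⟩ := exists_affine_subchart ha u
  haveI := hV
  haveI : Finite V.left := Set.finite_univ_iff.1 ((hfin V _ hV hb).subset fun _ _ => Subsingleton.elim _ _)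
  haveI : DiscreteTopology V.left := discrete_of_specializes fun b c hbc =>
    (eq_of_specializes_of_finite hX hfin hb (Subsingleton.elim _ _) (Subsingleton.elim _ _) hbc).symm
  let O : V.left.Opens := ⟨{v}, isOpen_discrete _⟩
  let A : Over S := Over.mk (O.ι ≫ V.hom)
  let k : A ⟶ V := Over.homMk O.ι rfl
  haveI : Subsingleton A.left := ⟨fun x y => Subtype.ext (x.2.trans y.2.symm)⟩
  haveI : Nonempty A.left := ⟨(⟨v, rfl⟩ : O)⟩
  haveI : Finite A.left := Finite.of_subsingleton
  haveI : DiscreteTopology A.left := inferInstanceAs (DiscreteTopology ↥({v} : Set V.left))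
  haveI : IsOpenImmersion (k ≫ i).left :=
    haveI := hi
    inferInstanceAs (IsOpenImmersion (O.ι ≫ i.left))
  have hae : RepWith @Etale ((yon S).map (k ≫ i) ≫ a) :=
    repWith_comp ((repWith_yon_map_iff (P := (@Etale : MorphismProperty Scheme.{u})) (k ≫ i)).2 inferInstance) ha
  refine ⟨A, k ≫ i, inferInstance, inferInstance, inferInstance, inferInstance, hae, ?_⟩
  exact (repWith_surjective_iff hae.rep).2 fun y =>
    ⟨Points.schemeHomeo A (Classical.arbitrary _), Subsingleton.elim _ _⟩

/-- A reduced decent one-point space is the spectrum of a field. -/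
theorem exists_field_iso_of_onePoint {X : Sp S} (hX : IsAlgSpace X) (hd : IsDecent X)
    (hr : EtaleLocally (fun U => IsReduced U) X) [Nonempty (Points X)] [Subsingleton (Points X)] :
    ∃ (k : Type u) (_ : Field k) (str : Spec (CommRingCat.of k) ⟶ S),
      Nonempty ((yon S).obj (Over.mk str) ≅ X) := by
  obtain ⟨U, a, ha, has, hU⟩ := hr
  haveI : IsReduced U.left := hU
  obtain ⟨u, -⟩ := surjective_ofPt has (Classical.arbitrary (Points X))
  obtain ⟨A, j, hj, hA, hAs, hAn, hae, has'⟩ := exists_onePoint_chart hX hd ha u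
  haveI := hj
  haveI : IsReduced A.left := isReduced_of_isOpenImmersion j.left
  haveI : IrreducibleSpace A.left := ⟨inferInstance⟩
  haveI : IsIntegral A.left := isIntegral_of_irreducibleSpace_of_isReduced _
  letI : Field Γ(A.left, ⊤) := (isField_of_isIntegral_of_subsingleton A.left).toField
  let str : Spec (CommRingCat.of Γ(A.left, ⊤)) ⟶ S := A.left.isoSpec.inv ≫ A.hom
  let e : Over.mk str ≅ A := Over.isoMk A.left.isoSpec.symm rfl
  obtain ⟨k', hk', str', e', -, -⟩ := exists_iso_field_of_etale_surjective hX hd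
    (k := Γ(A.left, ⊤)) (str := str) (p := (yon S).map e.hom ≫ (yon S).map j ≫ a)
    (MorphismProperty.RespectsIso.precomp _ _ _ hae) (MorphismProperty.RespectsIso.precomp _ _ _ has')
  exact ⟨k', hk', str', ⟨e'⟩⟩

/-- An etale morphism from a finite scheme to an affine one-point scheme is finite locally free. -/
lemma finLocFree_of_etale_onePoint {R A : Scheme.{u}} [IsAffine A] [Subsingleton A] [Nonempty A] [Finite R]
    (g : R ⟶ A) [Etale g] : Mor2.IsFinLocFree g := by
  haveI : LocallyQuasiFinite g := locallyQuasiFinite_of_etale g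
  let z : A := Classical.arbitrary A
  haveI : DiscreteTopology R := by
    have h := g.isDiscrete_preimage_singleton z
    rw [show g ⁻¹' {z} = Set.univ from Set.eq_univ_of_forall fun r => Subsingleton.elim (α := A) _ _] at h
    exact isDiscrete_univ_iff.1 h
  haveI : QuasiCompact g := quasiCompact_of_finite g
  haveI : IsAffineHom g := inferInstance
  let ι := A.fromSpecResidueField z
  haveI : Surjective ι := ⟨fun y => ⟨IsLocalRing.closedPoint _, Subsingleton.elim (α := A) _ _⟩⟩
  haveI : IsClosedImmersion ι := .of_isPreimmersion ι (by rw [ι.surjective.range_eq]; exact isClosed_univ)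
  haveI : IsFinite (pullback.snd g ι) :=
    haveI : LocallyQuasiFinite (pullback.snd g ι) := inferInstance
    IsFinite.of_locallyQuasiFinite _
  haveI : UniversallyClosed (pullback.fst g ι ≫ g) := by
    rw [pullback.condition]; infer_instance
  haveI : Surjective (pullback.fst g ι) := inferInstance
  haveI : UniversallyClosed g := .of_comp_surjective (pullback.fst g ι) g
  haveI : IsIntegralHom g := IsIntegralHom.iff_universallyClosed_and_isAffineHom.2 ⟨inferInstance, inferInstance⟩
  exact ⟨(IsFinite.iff_isIntegralHom_and_locallyOfFiniteType g).2 ⟨inferInstance, inferInstance⟩,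
    inferInstance, inferInstance⟩

/-- An affine atlas with finite relation has a representable quotient. -/
theorem isRepSh_of_finLocFree_atlas {X : Sp S} {U R : Over S} [IsAffine U.left] {b : (yon S).obj U ⟶ X}
    [Sheaf.IsLocallySurjective b] {s t : R ⟶ U} (sq : IsPullback ((yon S).map t) ((yon S).map s) b b)
    (hs : Mor2.IsFinLocFree s.left) (ht : Mor2.IsFinLocFree t.left) : IsRepSh X := by
  obtain ⟨M, m, hm, sqM, hms, -⟩ := Groth.Agent.S10235.exists_surjective_quotient
    (groupoidOfKernelPair sq) hs ht (isEqvRel_of_kernelPair sq) fun C _ hCn =>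
      ⟨hCn.some, hCn.some_mem, ⊤, isAffineOpen_top U.left, fun _ _ => trivial⟩
  obtain ⟨hmf, hmfl, hmp⟩ := hm
  let m' : U ⟶ M := Over.homMk m.left (Over.w m)
  haveI : Flat m'.left := hmfl
  haveI : LocallyOfFinitePresentation m'.left := hmp
  haveI : Surjective m'.left := hms
  haveI := isLocallySurjective_yon_map m'
  have sqMU : IsPullback t s m' m' := isPullback_over sqM
  have sqY := sqMU.map (yon S)
  obtain ⟨c, hc⟩ := exists_desc ((yon S).map m') b fun T g g' e => by
    rw [← sqY.lift_fst _ _ e]
    conv_rhs => rw [← sqY.lift_snd _ _ e]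
    rw [Category.assoc, Category.assoc, sq.w]
  obtain ⟨d, hd⟩ := exists_desc b ((yon S).map m') fun T g g' e => by
    rw [← sq.lift_fst _ _ e]
    conv_rhs => rw [← sq.lift_snd _ _ e]
    rw [Category.assoc, Category.assoc, sqY.w]
  refine ⟨M, ⟨⟨c, d, (cancel_epi ((yon S).map m')).1 ?_, (cancel_epi b).1 ?_⟩⟩⟩
  · rw [← Category.assoc, hc, hd, Category.comp_id]
  · rw [← Category.assoc, hd, hc, Category.comp_id]

/-- A decent one-point space is a scheme. -/
theorem isRepSh_of_onePoint {X : Sp S} (hX : IsAlgSpace X) (hd : IsDecent X)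
    [Nonempty (Points X)] [Subsingleton (Points X)] : IsRepSh X := by
  obtain ⟨U, a, ha, has⟩ := hX.atlas
  obtain ⟨u, -⟩ := surjective_ofPt has (Classical.arbitrary (Points X))
  obtain ⟨A, j, hj, hA, hAs, hAn, hae, has'⟩ := exists_onePoint_chart hX hd ha u
  let b := (yon S).map j ≫ a
  haveI : Sheaf.IsLocallySurjective b := isLocallySurjective_of_repWith
    (repWith_mono (fun _ _ g (_ : Etale g) => (inferInstance : Flat g)) hae)
    (repWith_mono (fun _ _ g (_ : Etale g) => (inferInstance : LocallyOfFinitePresentation g)) hae) has'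
  obtain ⟨R, t, s, sq⟩ := exists_isPullback_yon b b hae.rep
  haveI : Etale s.left := etale_left (repWith_of_isPullback sq hae)
  haveI : Etale t.left := etale_left (repWith_of_isPullback sq.flip hae)
  obtain ⟨p, hp⟩ := hd (Classical.arbitrary (Points X))
  haveI : Finite R.left := Set.finite_univ_iff.1
    (((exists_decentPt_iff_finite hX _).2 ⟨p, hp⟩ A b hA hae R s t sq).2.subset fun _ _ => Subsingleton.elim _ _)
  exact isRepSh_of_finLocFree_atlas sq (finLocFree_of_etale_onePoint s.left) (finLocFree_of_etale_onePoint t.left)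

/-- Reduced one-point spaces are those with a flat surjection from a field. -/
theorem onePoint_reduced_iff {Z : Sp S} (hZ : IsAlgSpace Z) :
    (EtaleLocally (fun U => IsReduced U) Z ∧ Nonempty (Points Z) ∧ Subsingleton (Points Z)) ↔
      ∃ (k : Type u) (_ : Field k) (str : Spec (CommRingCat.of k) ⟶ S) (p : (yon S).obj (Over.mk str) ⟶ Z),
        LocP @Flat p ∧ IsSurjectiveMor p := by
  constructor
  · rintro ⟨⟨U, a, ha, has, hU⟩, hne, hss⟩
    haveI : IsReduced U.left := hU
    obtain ⟨u₀, -⟩ := surjective_ofPt has (Classical.arbitrary (Points Z))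
    obtain ⟨C, hC, -⟩ := exists_mem_irreducibleComponents_subset_of_isIrreducible {u₀} isIrreducible_singleton
    let g := genericPoints.ofComponent (⟨C, hC⟩ : irreducibleComponents U.left)
    let j : Over.mk (U.left.fromSpecResidueField g.1 ≫ U.hom) ⟶ U := Over.homMk (U.left.fromSpecResidueField g.1) rfl
    refine ⟨U.left.residueField g.1, inferInstance, U.left.fromSpecResidueField g.1 ≫ U.hom, (yon S).map j ≫ a, ?_, ?_⟩
    · haveI : Flat j.left := flat_fromSpecResidueField_generic g.1 g.2
      refine locP_of_repWith (repWith_comp ((repWith_yon_map_iff (P := (@Flat : MorphismProperty Scheme.{u})) j).2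
        inferInstance) (repWith_mono (fun _ _ q (_ : Etale q) => (inferInstance : Flat q)) ha))
    · exact fun z => ⟨Points.schemeHomeo _ (IsLocalRing.closedPoint (U.left.residueField g.1)), Subsingleton.elim _ _⟩
  · rintro ⟨k, _, str, p, hp, hps⟩
    haveI : Subsingleton (Over.mk str).left := inferInstanceAs (Subsingleton (PrimeSpectrum k))
    haveI : IsReduced (Over.mk str).left := inferInstanceAs (IsReduced (Spec (CommRingCat.of k)))
    haveI : Subsingleton (Points ((yon S).obj (Over.mk str))) :=
      (Points.schemeHomeo (Over.mk str)).surjective.subsingleton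
    refine ⟨?_, ⟨Points.map p (Points.schemeHomeo _ (IsLocalRing.closedPoint k))⟩, hps.subsingleton⟩
    obtain ⟨U, a, ha, has⟩ := hZ.atlas
    have hrep := hZ.representable_from_yon p
    obtain ⟨P, pk, pU, sq⟩ := exists_isPullback_yon p a hrep
    haveI : Etale pk.left := etale_left (repWith_of_isPullback sq.flip ha)
    haveI : IsReduced P.left := isReduced_of_smooth pk.left
    haveI : Flat pU.left := (repWith_yon_map_iff (P := (@Flat : MorphismProperty Scheme.{u})) pU).1
      (repWith_of_isPullback sq (repWith_of_locP hZ hrep hp))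
    haveI : Surjective pU.left :=
      surjective_left (repWith_of_isPullback sq ((repWith_surjective_iff hrep).2 hps))
    exact ⟨U, a, ha, has, isReduced_of_flat_surjective pU.left⟩

/-- Cartesian squares may be composed with a monomorphism. -/
theorem isPullback_postcomp_mono {F G A B W : Sp S} {p : W ⟶ A} {q : W ⟶ B} {a : A ⟶ F} {b : B ⟶ F}
    (sq : IsPullback p q a b) (j : F ⟶ G) [Mono j] : IsPullback p q (a ≫ j) (b ≫ j) :=
  have hc : ∀ c : PullbackCone (a ≫ j) (b ≫ j), c.fst ≫ a = c.snd ≫ b := fun c =>
    (cancel_mono j).1 (by simpa using c.condition)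
  ⟨⟨by rw [reassoc_of% sq.w]⟩, ⟨PullbackCone.IsLimit.mk _ (fun c => sq.lift c.fst c.snd (hc c))
    (fun _ => sq.lift_fst _ _ _) (fun _ => sq.lift_snd _ _ _)
    (fun c m h1 h2 => sq.hom_ext (by rw [h1, sq.lift_fst]) (by rw [h2, sq.lift_snd]))⟩⟩

/-- A monomorphism into a space fppf covered by a field is an isomorphism or has empty source. -/
theorem isEmpty_or_isIso_of_mono {F Z : Sp S} (hF : IsAlgSpace F) (hZ : IsAlgSpace Z) (f : F ⟶ Z) [Mono f]
    {k : Type u} [Field k] {str : Spec (CommRingCat.of k) ⟶ S} {p : (yon S).obj (Over.mk str) ⟶ Z}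
    (hp₁ : LocP @LocallyOfFinitePresentation p) (hp₂ : LocP @Flat p) (hps : IsSurjectiveMor p) :
    IsEmpty (Points F) ∨ IsIso f := by
  rcases isEmpty_or_nonempty (Points F) with h | ⟨⟨x⟩⟩
  · exact Or.inl h
  refine Or.inr ?_
  let K : Over S := Over.mk str
  have hK := IsAlgSpace.yon_obj (S := S) K
  have hrep := hZ.representable_from_yon p
  haveI : Sheaf.IsLocallySurjective p := isLocallySurjective_of_repWith (repWith_of_locP hZ hrep hp₂)
    (repWith_of_locP hZ hrep hp₁) ((repWith_surjective_iff hrep).2 hps)
  have sq := IsPullback.of_hasPullback f p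
  haveI : Mono (pullback.snd f p) := inferInstance
  have hG := isAlgSpace_of_isPullback hF hK hZ sq
  obtain ⟨k₀, hk₀⟩ := hps (Points.map f x)
  obtain ⟨y, -, -⟩ := exists_point_isPullback sq x k₀ hk₀.symm
  obtain ⟨U, a, ha, has⟩ := hG.atlas
  obtain ⟨u₀, -⟩ := surjective_ofPt has y
  obtain ⟨h, hh⟩ := (yon S).map_surjective (a ≫ pullback.snd f p)
  obtain ⟨R, t, s, sqR⟩ := exists_isPullback_yon a a ha.rep
  have sqR' : IsPullback ((yon S).map t) ((yon S).map s) ((yon S).map h) ((yon S).map h) := by
    rw [hh]; exact isPullback_postcomp_mono sqR _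
  haveI : Etale t.left := etale_left (repWith_of_isPullback sqR.flip ha)
  obtain ⟨O, hO, huO, -⟩ := exists_isAffineOpen_mem_and_subset (U := ⊤) (x := u₀) trivial
  haveI : IsAffine O.toScheme := hO
  haveI : IsAffine K.left := inferInstanceAs (IsAffine (Spec (CommRingCat.of k)))
  haveI : Subsingleton K.left := inferInstanceAs (Subsingleton (PrimeSpectrum k))
  haveI : Flat (O.ι ≫ h.left) := by
    haveI : IrreducibleSpace K.left :=
      haveI : Nonempty K.left := inferInstanceAs (Nonempty (PrimeSpectrum k))
      ⟨inferInstance⟩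
    haveI : IsReduced K.left := inferInstanceAs (IsReduced (Spec (CommRingCat.of k)))
    haveI : IsIntegral K.left := isIntegral_of_irreducibleSpace_of_isReduced _
    infer_instance
  haveI : Surjective (O.ι ≫ h.left) := ⟨fun y => ⟨⟨u₀, huO⟩, Subsingleton.elim _ _⟩⟩
  haveI : Etale (pullback.fst (O.ι ≫ h.left) h.left) := by
    have sqh := (IsPullback.of_hasPullback t.left O.ι).paste_horiz (isPullback_left sqR').flip
    rw [← MorphismProperty.cancel_left_of_respectsIso @Etale sqh.flip.isoPullback.hom,
      IsPullback.isoPullback_hom_fst]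
    infer_instance
  haveI : Etale h.left := MorphismProperty.of_pullback_fst_of_descendsAlong (P := @Etale)
    (Q := @Surjective ⊓ @Flat ⊓ @QuasiCompact) (f := O.ι ≫ h.left) (g := h.left)
    ⟨⟨inferInstance, inferInstance⟩, inferInstance⟩ inferInstance
  have hG' : IsEtaleMor (pullback.snd f p) := (locP_etale_iff hK).1
    (locP_of_chart (P := (@Etale : MorphismProperty Scheme.{u})) (a₀ := a) (b₀ := 𝟙 _) (h₀ := h) ha has
      (repWith_id _ K) (by rw [hh, Category.comp_id]) inferInstance)
  haveI : IsIso (pullback.snd f p) := isIso_of_mono_etale_surjective hG hK _ hG' fun z => by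
    obtain ⟨t₀, rfl⟩ := (Points.schemeHomeo K).surjective z
    obtain ⟨t₁, ht₁⟩ := (Points.schemeHomeo K).surjective (Points.map (pullback.snd f p) y)
    exact ⟨y, ht₁.symm.trans (congrArg _ (Subsingleton.elim _ _))⟩
  exact isIso_of_isPullback sq

end AlgSpLib
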