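import Groth.Agent.AlgSpLib.QcQs
import Groth.Agent.AlgSpLib.Bootstrap
import Groth.Agent.AlgSpLib.Noeth
import Groth.Agent.AlgSpLib.OnePoint
import Groth.Prelude.Def_AlgSpCov
/-!
# Zariski locally quasi-separated algebraic spaces
-/

set_option autoImplicit false
set_option backward.isDefEq.respectTransparency false
universe u
open CategoryTheory CategoryTheory.Limits AlgebraicGeometry Opposite AlgSp Topology

namespace AlgSpLib

variable {S : Scheme.{u}}

/-- A space with a quasi-compact etale affine atlas is quasi-separated. -/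
theorem isQuasiSeparatedSp_of_qc_affine_atlas {X : Sp S} (hX : IsAlgSpace X) {U : Over S} [IsAffine U.left]
    {p : (yon S).obj U ⟶ X} (hq : RepWith @QuasiCompact p) (he : RepWith @Etale p)
    (hs : RepWith @Surjective p) : IsQuasiSeparatedSp X := by
  obtain ⟨R, t, s, sq⟩ := exists_isPullback_yon p p he.rep
  have hXX := isAlgSpace_prod hX hX
  have hUU := isAlgSpace_prod (IsAlgSpace.yon_obj U) (IsAlgSpace.yon_obj U)
  have hpp := repWith_prod_map he he
  have hppo : IsUnivOpenMor (prod.map p p) := isUnivOpenMor_of_flat_lfp hUU hXX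
    (locP_of_repWith (repWith_mono (fun _ _ g (_ : Etale g) => (inferInstance : Flat g)) hpp))
    (locP_of_repWith (repWith_mono (fun _ _ g (_ : Etale g) => (inferInstance : LocallyOfFinitePresentation g)) hpp))
  have hlift : RepWith @QuasiCompact (prod.lift ((yon S).map t) ((yon S).map s)) := by
    have e : prod.lift ((yon S).map t) ((yon S).map s) =
        (yon S).map (prod.lift t s) ≫ prodComparison (yon S) U U := by
      apply prod.hom_ext <;> simp [← Functor.map_comp]
    rw [e]
    refine MorphismProperty.RespectsIso.postcomp _ _ _ ((repWith_yon_map_iff _ _).2 ?_)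
    haveI : QuasiCompact s.left :=
      (repWith_yon_map_iff (P := (@QuasiCompact : MorphismProperty Scheme.{u})) s).1 (repWith_of_isPullback sq hq)
    haveI : CompactSpace R.left := QuasiCompact.compactSpace_of_compactSpace s.left
    haveI : Scheme.IsSeparated (U ⨯ U).left := by
      let d : (U ⨯ U).left ⟶ pullback (terminal.from U.left) (terminal.from U.left) :=
        (Over.prodLeftIsoPullback U U).hom ≫ pullback.lift (pullback.fst _ _) (pullback.snd _ _) (terminal.hom_ext _ _)
      haveI : Mono (pullback.lift (pullback.fst U.hom U.hom) (pullback.snd U.hom U.hom)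
          (terminal.hom_ext (pullback.fst U.hom U.hom ≫ terminal.from U.left)
            (pullback.snd U.hom U.hom ≫ terminal.from U.left))) :=
        ⟨fun a b h => pullback.hom_ext (by simpa using congrArg (· ≫ pullback.fst _ _) h)
          (by simpa using congrArg (· ≫ pullback.snd _ _) h)⟩
      haveI : Mono d := mono_comp _ _
      refine ⟨?_⟩
      rw [terminal.hom_ext (terminal.from (U ⨯ U).left) (d ≫ terminal.from _)]
      haveI : IsSeparated (terminal.from (pullback (terminal.from U.left) (terminal.from U.left))) := by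
        rw [terminal.hom_ext (terminal.from _) (pullback.fst (terminal.from U.left) (terminal.from U.left) ≫
          terminal.from U.left)]
        infer_instance
      infer_instance
    exact quasiCompact_of_compactSpace _
  refine (repWith_quasiCompact_iff hX hXX hX.diag).2 ?_
  exact isQuasiCompactMor_of_base_change hX hXX hUU hppo (map_surjective_of_repWith (repWith_prod_map hs hs))
    (isPullback_diag_prodMap sq) (isQuasiCompactMor_of_repWith (IsAlgSpace.yon_obj _) hUU hlift)

/-- A quasi-separated space has, around every point of an atlas, an open subspace with a quasi-compact affine atlas. -/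
theorem exists_open_qc_affine_atlas {X : Sp S} (hX : IsAlgSpace X) (hq : IsQuasiSeparatedSp X) {U₀ : Over S}
    (a : (yon S).obj U₀ ⟶ X) (ha : RepWith @Etale a) (u : U₀.left) :
    ∃ (A : Set (Points X)), IsOpen A ∧ Points.ofPt a u ∈ A ∧
      ∃ (U : Over S) (p : (yon S).obj U ⟶ openSub X A), IsAffine U.left ∧
        RepWith @QuasiCompact p ∧ RepWith @Etale p ∧ RepWith @Surjective p := by
  obtain ⟨W, hW, huW, -⟩ := exists_isAffineOpen_mem_and_subset (U := ⊤) (x := U₀.hom u) trivial
  obtain ⟨O, hO, huO, hOW⟩ := exists_isAffineOpen_mem_and_subset (U := U₀.hom ⁻¹ᵁ W) (x := u) huW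
  let A := Points.ofPt a '' (O : Set U₀.left)
  have hA : IsOpen A := isOpenMap_ofPt ha _ O.2
  let U : Over S := Over.mk (O.ι ≫ U₀.hom)
  haveI : IsAffine U.left := hO
  let i : U ⟶ U₀ := Over.homMk O.ι rfl
  obtain ⟨p, hp⟩ := (exists_lift_openSub (W := A) ((yon S).map i ≫ a)).2 fun t => by
    rw [ofPt_yon_comp]
    exact ⟨t.1, t.2, rfl⟩
  haveI := mono_openSubι X A
  have hae : RepWith @Etale ((yon S).map i ≫ a) :=
    repWith_comp ((repWith_yon_map_iff (P := (@Etale : MorphismProperty Scheme.{u})) i).2
      (inferInstanceAs (Etale O.ι))) ha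
  have hpe : RepWith @Etale p := by
    have sq : IsPullback p (𝟙 _) (openSubι X A) ((yon S).map i ≫ a) := by
      refine ⟨⟨by rw [Category.id_comp, hp]⟩, ⟨PullbackCone.IsLimit.mk _ (fun c => c.snd)
        (fun c => ?_) (fun c => by simp) (fun c m _ h => by simpa using h)⟩⟩
      rw [← cancel_mono (openSubι X A), Category.assoc, hp, c.condition]
    exact repWith_of_isPullback sq.flip hae
  have hps : RepWith @Surjective p := (repWith_surjective_iff hpe.rep).2 fun z => by
    obtain ⟨t, ht, he⟩ : Points.map (openSubι X A) z ∈ A := by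
      exact (range_openSubι X (W := A)).subset ⟨z, rfl⟩
    refine ⟨Points.schemeHomeo U ⟨t, ht⟩, injective_map_of_mono (openSubι X A) ?_⟩
    rw [← Points.map_comp, hp, ← he]
    exact ((congrFun (ofPt_comp_ofScheme _) _).symm).trans (ofPt_yon_comp i a _)
  refine ⟨A, hA, ⟨u, huO, rfl⟩, U, p, hO, ⟨hpe.rep, ?_⟩, hpe, hps⟩
  intro T P g fst snd sq
  change QuasiCompact snd.left
  obtain ⟨q, rfl⟩ := (yon S).map_surjective fst
  haveI : Surjective snd.left := surjective_left (repWith_of_isPullback sq hps)
  have hT : ∀ t, T.hom t ∈ W := fun t => by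
    obtain ⟨z, rfl⟩ := snd.left.surjective t
    rw [← Scheme.Hom.comp_apply, Over.w snd, ← Over.w q, Scheme.Hom.comp_apply]
    exact hOW (q.left z).2
  let g' : T.left ⟶ W.toScheme := IsOpenImmersion.lift W.ι T.hom (by
    rw [Scheme.Opens.range_ι]; rintro _ ⟨t, rfl⟩; exact hT t)
  let f' : U.left ⟶ W.toScheme := IsOpenImmersion.lift W.ι U.hom (by
    rw [Scheme.Opens.range_ι]; rintro _ ⟨t, rfl⟩; exact hOW t.2)
  haveI : IsAffine W.toScheme := hW
  have hfg : QuasiCompact (pullback.snd U.hom T.hom) := by
    have e1 : f' ≫ W.ι = U.hom := IsOpenImmersion.lift_fac _ _ _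
    have e2 : g' ≫ W.ι = T.hom := IsOpenImmersion.lift_fac _ _ _
    have sqW : IsPullback (pullback.fst f' g') (pullback.snd f' g') (f' ≫ W.ι) (g' ≫ W.ι) :=
      ⟨⟨by rw [pullback.condition_assoc]⟩,
        ⟨PullbackCone.isLimitOfCompMono f' g' W.ι (IsPullback.of_hasPullback f' g').cone (IsPullback.of_hasPullback f' g').isLimit⟩⟩
    rw [e1, e2] at sqW
    haveI : QuasiCompact f' := inferInstance
    rw [← sqW.isoPullback_inv_snd]
    infer_instance
  have sqX := isPullback_postcomp_mono sq (openSubι X A)
  have hl := repWith_of_isPullback (isPullback_diag_prod sqX) hq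
  have e : prod.lift ((yon S).map q) ((yon S).map snd) =
      (yon S).map (prod.lift q snd) ≫ prodComparison (yon S) U T := by
    apply prod.hom_ext <;> simp [← Functor.map_comp]
  rw [e, (RepWith (S := S) @QuasiCompact).cancel_right_of_respectsIso] at hl
  haveI : QuasiCompact (prod.lift q snd).left := (repWith_yon_map_iff _ _).1 hl
  have es : snd.left = (prod.lift q snd).left ≫ (Over.prodLeftIsoPullback U T).hom ≫ pullback.snd U.hom T.hom := by
    rw [Over.prodLeftIsoPullback_hom_snd, ← Over.comp_left, prod.lift_snd]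
  rw [es]
  infer_instance

theorem exists_zarCover_qc_affine_atlas {X : Space S}
    (h : ∃ (ι : Type u) (Xi : ι → Space S) (j : ∀ i, Xi i ⟶ X),
      IsZarCover (fun i => (Xi i).obj) (fun i => (j i).hom) ∧ ∀ i, IsQuasiSeparatedSp (Xi i).obj) :
    ∃ (ι : Type u) (Xi : ι → Space S) (j : ∀ i, Xi i ⟶ X),
      IsZarCover (fun i => (Xi i).obj) (fun i => (j i).hom) ∧
        ∀ i, ∃ (U : Over S) (p : (yon S).obj U ⟶ (Xi i).obj), IsAffine U.left ∧
          RepWith @QuasiCompact p ∧ RepWith @Etale p ∧ RepWith @Surjective p := by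
  obtain ⟨ι, Xi, j, ⟨hj, hcov⟩, hqs⟩ := h
  choose U₀ a ha has using fun i => (Xi i).property.atlas
  choose A hA hmem hat using fun z : Σ i, (U₀ i).left =>
    exists_open_qc_affine_atlas (Xi z.1).property (hqs z.1) (a z.1) (ha z.1) z.2
  refine ⟨Σ i, (U₀ i).left, fun z => ⟨openSub (Xi z.1).obj (A z), isAlgSpace_openSub (Xi z.1).property (hA z)⟩,
    fun z => ObjectProperty.homMk (openSubι (Xi z.1).obj (A z) ≫ (j z.1).hom), ⟨fun z => ?_, fun x => ?_⟩, hat⟩
  · exact repWith_comp (repWith_openSubι _ (hA z)) (hj z.1)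
  · obtain ⟨i, y, rfl⟩ := hcov x
    obtain ⟨u, rfl⟩ := surjective_ofPt (has i) y
    obtain ⟨w, hw⟩ : Points.ofPt (a i) u ∈ Set.range (Points.map (openSubι (Xi i).obj (A ⟨i, u⟩))) := by
      rw [range_openSubι]; exact hmem ⟨i, u⟩
    exact ⟨⟨i, u⟩, w, by rw [← hw]; exact Points.map_comp _ _ _⟩

end AlgSpLib
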