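import Groth.Agent.AlgSpLib.MonoRep
import Groth.Agent.AlgSpLib.RepBase
import Groth.Agent.AlgSpLib.Fppf
import Groth.Agent.AlgSpLib.FpqcMore
import Groth.Agent.AlgStLib.ImmDescent
import Mathlib.AlgebraicGeometry.Morphisms.Immersion

/-!
# Immersions are fppf local on the base
-/

set_option autoImplicit false
set_option backward.isDefEq.respectTransparency false
set_option backward.isDefEq.respectTransparency.types false

universe u

open CategoryTheory CategoryTheory.Limits AlgebraicGeometry Opposite AlgSp Topology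

namespace AlgSpLib

variable {S : Scheme.{u}}

/-- The pieces over a covering of the base determine representable properties. -/
theorem repWith_of_fppf {P : MorphismProperty Scheme.{u}} [P.IsStableUnderBaseChange]
    [P.DescendsAlong (@Surjective ⊓ @Flat ⊓ @LocallyOfFinitePresentation)] [IsZariskiLocalAtTarget P]
    {ι : Type u} {Y : Sp S} (hY : IsAlgSpace Y) {Yi : ι → Sp S} (hYi : ∀ i, IsAlgSpace (Yi i)) {g : ∀ i, Yi i ⟶ Y}
    (hτ : IsFppfCover Yi g) {X : Sp S} {f : X ⟶ Y} (hf : Representable f) {Xi : ι → Sp S}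
    {q : ∀ i, Xi i ⟶ X} {p : ∀ i, Xi i ⟶ Yi i} (sq : ∀ i, IsPullback (q i) (p i) f (g i))
    (h : ∀ i, RepWith P (p i)) : RepWith P f := by
  refine MorphismProperty.relative_of_snd hf fun T ξ => ?_
  choose E c _ hcf hcp hz i l hl using exists_affine_fppf_nhd hY hYi hτ ξ
  let C : Scheme.{u} := ∐ fun t => (E t).left
  let π : C ⟶ T.left := Sigma.desc fun t => (c t).left
  have hπ : ∀ t, Sigma.ι (fun t => (E t).left) t ≫ π = (c t).left := fun t => Sigma.ι_desc _ _
  haveI : Flat π := IsZariskiLocalAtSource.sigmaDesc (P := @Flat) fun t => hcf t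
  haveI : LocallyOfFinitePresentation π :=
    IsZariskiLocalAtSource.sigmaDesc (P := @LocallyOfFinitePresentation) fun t => hcp t
  haveI : Surjective π := ⟨fun x => by
    obtain ⟨y, hy⟩ := hz x
    exact ⟨Sigma.ι (fun t => (E t).left) x y, by rw [← Scheme.Hom.comp_apply, hπ, hy]⟩⟩
  refine MorphismProperty.of_isPullback_of_descendsAlong (P := P)
    (Q := @Surjective ⊓ @Flat ⊓ @LocallyOfFinitePresentation)
    (IsPullback.of_hasPullback π (hf.snd ξ).left) ⟨⟨‹_›, ‹_›⟩, ‹_›⟩ ?_
  refine IsZariskiLocalAtTarget.of_openCover (sigmaOpenCover fun t => (E t).left) fun (t : ↥T.left) => ?_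
  change P (pullback.snd (pullback.fst π (hf.snd ξ).left) (Sigma.ι (fun t => (E t).left) t))
  have big := (IsPullback.of_hasPullback (pullback.fst π (hf.snd ξ).left) (Sigma.ι (fun t => (E t).left) t)).paste_horiz
    (IsPullback.of_hasPullback π (hf.snd ξ).left).flip
  rw [hπ] at big
  have hR : IsPullback (pullback.snd (c t) (hf.snd ξ)).left (pullback.fst (c t) (hf.snd ξ)).left
      (hf.snd ξ).left (c t).left := ((IsPullback.of_hasPullback (c t) (hf.snd ξ)).map (Over.forget S)).flip
  have hmap := ((IsPullback.of_hasPullback (c t) (hf.snd ξ)).flip.map (yon S)).paste_horiz (hf.isPullback ξ)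
  rw [← hl t] at hmap
  let m : (yon S).obj (pullback (c t) (hf.snd ξ)) ⟶ Xi (i t) :=
    (sq (i t)).lift ((yon S).map (pullback.snd (c t) (hf.snd ξ)) ≫ hf.fst ξ)
      ((yon S).map (pullback.fst (c t) (hf.snd ξ)) ≫ l t) (hmap.w.trans (Category.assoc _ _ _).symm)
  have sqm : IsPullback m ((yon S).map (pullback.fst (c t) (hf.snd ξ))) (p (i t)) (l t) :=
    IsPullback.of_right (by rw [(sq (i t)).lift_fst]; exact hmap) ((sq (i t)).lift_snd _ _ _) (sq (i t))
  have hP : P (pullback.fst (c t) (hf.snd ξ)).left := (h (i t)).property (l t) m _ sqm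
  rw [show pullback.snd (pullback.fst π (hf.snd ξ).left) (Sigma.ι (fun t => (E t).left) t) =
      (big.isoIsPullback _ _ hR).hom ≫ (pullback.fst (c t) (hf.snd ξ)).left from
    (big.isoIsPullback_hom_snd _ _ hR).symm, P.cancel_left_of_respectsIso]
  exact hP

lemma mono_inf_lft_of_imm {P : MorphismProperty Scheme.{u}}
    (hP : P = @IsClosedImmersion ∨ P = @IsOpenImmersion ∨ P = @IsImmersion) {A B : Scheme.{u}} (g : A ⟶ B) (h : P g) :
    Mono g ∧ LocallyOfFiniteType g := by
  rcases hP with rfl | rfl | rfl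
  · haveI : IsClosedImmersion g := h
    exact ⟨inferInstance, inferInstance⟩
  · haveI : IsOpenImmersion g := h
    exact ⟨inferInstance, inferInstance⟩
  · haveI : IsImmersion g := h
    exact ⟨inferInstance, inferInstance⟩

/-- Closed immersions, open immersions and immersions are fppf local on the base. -/
theorem repWith_imm_of_fppf {P : MorphismProperty Scheme.{u}}
    (hP : P = @IsClosedImmersion ∨ P = @IsOpenImmersion ∨ P = @IsImmersion)
    {ι : Type u} {Y : Sp S} (hY : IsAlgSpace Y) {Yi : ι → Sp S} (hYi : ∀ i, IsAlgSpace (Yi i)) {g : ∀ i, Yi i ⟶ Y}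
    (hτ : IsFppfCover Yi g) {X : Sp S} (hX : IsAlgSpace X) {f : X ⟶ Y} {Xi : ι → Sp S}
    {q : ∀ i, Xi i ⟶ X} {p : ∀ i, Xi i ⟶ Yi i} (sq : ∀ i, IsPullback (q i) (p i) f (g i))
    (h : ∀ i, RepWith P (p i)) : RepWith P f := by
  have hXi : ∀ i, IsAlgSpace (Xi i) := fun i => isAlgSpace_of_isPullback hX (hYi i) hY (sq i)
  have hfpqc := isFpqcCover_of_isFppfCover hY hYi hτ
  haveI : Mono f := mono_of_fpqc hY hYi hfpqc hX sq fun i =>
    mono_of_repWith (fun g hg => (mono_inf_lft_of_imm hP g hg).1) (h i)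
  have hl : LocP @LocallyOfFiniteType f :=
    (isLocalOnBase_fpqc_locP_of_descendsAlong S @LocallyOfFiniteType Yi g hY hYi hfpqc f hX Xi p q hXi sq).2 fun i =>
      locP_of_repWith (repWith_mono (fun _ _ g hg => (mono_inf_lft_of_imm hP g hg).2) (h i))
  have hr := representable_of_mono_lft hX hY hl
  rcases hP with rfl | rfl | rfl
  · exact repWith_of_fppf hY hYi hτ hr sq h
  · exact repWith_of_fppf hY hYi hτ hr sq h
  · exact repWith_of_fppf hY hYi hτ hr sq h

theorem isFppfCover_of_charts {Y : Sp S} {ι : Type u} {U : ι → Over S} (a : ∀ i, (yon S).obj (U i) ⟶ Y)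
    (ha : ∀ i, RepWith @Etale (a i)) (hs : ∀ y : Points Y, ∃ i, y ∈ Set.range (Points.map (a i))) :
    IsFppfCover (fun i => (yon S).obj (U i)) a :=
  ⟨fun i => ⟨locP_of_repWith (repWith_mono (fun _ _ g (_ : Etale g) => (inferInstance : Flat g)) (ha i)),
    locP_of_repWith (repWith_mono (fun _ _ g (_ : Etale g) => (inferInstance : LocallyOfFinitePresentation g)) (ha i))⟩, hs⟩

end AlgSpLib
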