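import Groth.Agent.AlgSpLib.Qc
import Groth.Agent.AlgSpLib.Sep
/-!
# Quasi-compact quasi-separated algebraic spaces
-/

set_option autoImplicit false
universe u
open CategoryTheory CategoryTheory.Limits AlgebraicGeometry Opposite AlgSp Topology

namespace AlgSpLib

variable {S : Scheme.{u}}

theorem isQuasiCompactSp_prod_yon [QuasiSeparatedSpace ↥S] (E Z : Over S) [IsAffine E.left] [IsAffine Z.left] :
    IsQuasiCompactSp ((yon S).obj E ⨯ (yon S).obj Z) := by
  have : CompactSpace ↥(E ⨯ Z).left :=
    (Over.prodLeftIsoPullback E Z).inv.homeomorph.compactSpace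
  refine isQuasiCompactSp_of_surjective
    (isAlgSpace_prod (IsAlgSpace.yon_obj E) (IsAlgSpace.yon_obj Z))
    (f := (PreservesLimitPair.iso (yon S) E Z).hom) (fun x =>
      ⟨Points.map (PreservesLimitPair.iso (yon S) E Z).inv x, by
        rw [← Points.map_comp, Iso.inv_hom_id, Points.map_id]⟩) (isQuasiCompactSp_yon _)

theorem isQuasiCompactMor_of_qcSp_qsSp [QuasiSeparatedSpace ↥S] {F G : Sp S} (hF : IsAlgSpace F)
    (hG : IsAlgSpace G) (f : F ⟶ G) (hFc : IsQuasiCompactSp F) (hGs : IsQuasiSeparatedSp G) :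
    IsQuasiCompactMor f := by
  rw [isQuasiCompactMor_iff_affine hF hG]
  intro Z hZ g P fst snd sq
  obtain ⟨E, p, hE, -, hps⟩ := exists_affine_chart hFc
  have sq' := IsPullback.of_hasPullback p fst
  have hP := isAlgSpace_of_isPullback hF (IsAlgSpace.yon_obj Z) hG sq
  refine isQuasiCompactSp_of_surjective hP (f := pullback.snd p fst)
    (map_surjective_of_isPullback sq' (map_surjective_of_repWith hps)) ?_
  have big := sq'.paste_vert sq
  have hR := isAlgSpace_of_isPullback (IsAlgSpace.yon_obj E) (IsAlgSpace.yon_obj Z) hG big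
  have hprod := isAlgSpace_prod (IsAlgSpace.yon_obj E) (IsAlgSpace.yon_obj Z)
  exact isQuasiCompactMor_of_repWith hR hprod (repWith_of_isPullback (isPullback_diag_prod big) hGs)
    hprod (isQuasiCompactSp_prod_yon E Z) (𝟙 _) (𝟙 _) _ IsPullback.of_id_fst

theorem isQuasiCompactSp_source {F G : Sp S} (hG : IsAlgSpace G) {f : F ⟶ G}
    (hf : IsQuasiCompactMor f) (hc : IsQuasiCompactSp G) : IsQuasiCompactSp F :=
  hf hG hc (𝟙 _) (𝟙 _) f IsPullback.of_id_fst

theorem repWith_diag_prod {P : MorphismProperty Scheme.{u}} [P.IsStableUnderComposition]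
    [P.RespectsIso] {F G : Sp S} (hF : RepWith P (Limits.diag F)) (hG : RepWith P (Limits.diag G)) :
    RepWith P (Limits.diag (F ⨯ G)) := by
  let e : (F ⨯ F) ⨯ (G ⨯ G) ≅ (F ⨯ G) ⨯ (F ⨯ G) :=
    { hom := prod.lift (prod.map prod.fst prod.fst) (prod.map prod.snd prod.snd)
      inv := prod.lift (prod.map prod.fst prod.fst) (prod.map prod.snd prod.snd)
      hom_inv_id := by
        apply Limits.prod.hom_ext <;> apply Limits.prod.hom_ext <;>
          simp only [Category.assoc, Category.id_comp, Category.comp_id, Limits.prod.lift_fst, Limits.prod.lift_snd, Limits.prod.lift_fst_assoc, Limits.prod.lift_snd_assoc, Limits.prod.map_fst, Limits.prod.map_snd, Limits.prod.map_fst_assoc, Limits.prod.map_snd_assoc]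
      inv_hom_id := by
        apply Limits.prod.hom_ext <;> apply Limits.prod.hom_ext <;>
          simp only [Category.assoc, Category.id_comp, Category.comp_id, Limits.prod.lift_fst, Limits.prod.lift_snd, Limits.prod.lift_fst_assoc, Limits.prod.lift_snd_assoc, Limits.prod.map_fst, Limits.prod.map_snd, Limits.prod.map_fst_assoc, Limits.prod.map_snd_assoc] }
  have : Limits.diag (F ⨯ G) = prod.map (Limits.diag F) (Limits.diag G) ≫ e.hom := by
    apply Limits.prod.hom_ext <;> apply Limits.prod.hom_ext <;>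
      simp only [e, Category.assoc, Category.id_comp, Category.comp_id, Limits.prod.lift_fst, Limits.prod.lift_snd, Limits.prod.lift_fst_assoc, Limits.prod.lift_snd_assoc, Limits.prod.map_fst, Limits.prod.map_snd, Limits.prod.map_fst_assoc, Limits.prod.map_snd_assoc]
  rw [this]
  haveI : IsIso e.hom := e.isIso_hom
  exact ((RepWith P).cancel_right_of_respectsIso _ _).2 (repWith_prod_map hF hG)

theorem isQuasiSeparatedSp_of_isPullback {F G H W : Sp S} {fst : W ⟶ F} {snd : W ⟶ H}
    {f : F ⟶ G} {g : H ⟶ G} (sq : IsPullback fst snd f g) (hF : IsQuasiSeparatedSp F)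
    (hG : IsQuasiSeparatedSp G) (hH : IsQuasiSeparatedSp H) : IsQuasiSeparatedSp W := by
  let l : W ⟶ F ⨯ H := prod.lift fst snd
  have hl : RepWith @QuasiCompact l := repWith_of_isPullback (isPullback_diag_prod sq) hG
  have hmono : Mono l := ⟨fun a b h => sq.hom_ext
    (by simpa only [l, Category.assoc, Limits.prod.lift_fst] using congrArg (· ≫ prod.fst) h)
    (by simpa only [l, Category.assoc, Limits.prod.lift_snd] using congrArg (· ≫ prod.snd) h)⟩
  have hlmap : Mono (prod.map l l) := inferInstance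
  have e : Limits.diag W ≫ prod.map l l = l ≫ Limits.diag (F ⨯ H) := by
    apply Limits.prod.hom_ext <;> simp
  have h : RepWith @QuasiCompact (Limits.diag W ≫ prod.map l l) :=
    e ▸ repWith_comp hl (repWith_diag_prod hF hH)
  refine repWith_of_isPullback (fst := 𝟙 W) (snd := Limits.diag W) (g := prod.map l l) ⟨⟨by simp⟩, ⟨?_⟩⟩ h
  exact PullbackCone.IsLimit.mk _ (fun c => c.fst) (fun c => Category.comp_id _)
    (fun c => (cancel_mono (prod.map l l)).1 ((Category.assoc _ _ _).trans c.condition))
    (fun c m h1 _ => by simpa using h1)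

end AlgSpLib
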