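import Groth.Agent.AlgSpLib.Iso
import Groth.Agent.AlgSpLib.Fppf
import Mathlib.CategoryTheory.Sites.EpiMono
/-!
# Descent of morphisms and isomorphisms of fppf sheaves along local surjections
-/

set_option autoImplicit false
set_option backward.isDefEq.respectTransparency false
set_option backward.isDefEq.respectTransparency.types false
universe u
open CategoryTheory CategoryTheory.Limits AlgebraicGeometry Opposite AlgSp

namespace AlgSpLib

variable {S : Scheme.{u}}

/-- The section of a morphism from a scheme. -/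
noncomputable abbrev yEq {T : Over S} {G : Sp S} : ((yon S).obj T ⟶ G) ≃ G.obj.obj (op T) :=
  (AlgSp.J S).uliftYonedaEquiv

lemma yEq_comp {T : Over S} {F G : Sp S} (b : (yon S).obj T ⟶ F) (f : F ⟶ G) :
    yEq (b ≫ f) = f.hom.app (op T) (yEq b) :=
  GrothendieckTopology.uliftYonedaEquiv_comp (J := AlgSp.J S) b f

lemma yEq_map {T T' : Over S} {G : Sp S} (b : (yon S).obj T ⟶ G) (g : T' ⟶ T) :
    yEq ((yon S).map g ≫ b) = G.obj.map g.op (yEq b) :=
  (GrothendieckTopology.uliftYonedaEquiv_naturality (J := AlgSp.J S) b g).symm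

/-- Every covering sieve contains an fppf family indexed by the points. -/
theorem exists_family_of_mem {U : Over S} {R : Sieve U} (hR : R ∈ AlgSp.J S U) :
    ∃ (V : U.left → Over S) (h : ∀ t, V t ⟶ U), (∀ t, R.arrows (h t)) ∧ (∀ t, Flat (h t).left) ∧
      (∀ t, LocallyOfFinitePresentation (h t).left) ∧ ∀ t, t ∈ Set.range (h t).left := by
  have hR' : Sieve.overEquiv U R ∈ Scheme.fppfPrecoverage.toGrothendieck U.left :=
    (GrothendieckTopology.mem_over_iff _ _).mp hR
  haveI : (@Flat ⊓ @LocallyOfFinitePresentation : MorphismProperty Scheme.{u}).ContainsIdentities :=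
    ⟨fun _ => ⟨inferInstance, inferInstance⟩⟩
  haveI : (@Flat ⊓ @LocallyOfFinitePresentation : MorphismProperty Scheme.{u}).RespectsIso :=
    inferInstance
  haveI : Scheme.fppfPrecoverage.{u}.HasIsos :=
    inferInstanceAs (Scheme.precoverage (@Flat ⊓ @LocallyOfFinitePresentation)).HasIsos
  obtain ⟨T, hT, hle⟩ := Precoverage.mem_toGrothendieck_iff_of_isStableUnderComposition.mp hR'
  have hmem : ∀ t : U.left, ∃ (W : Scheme.{u}) (g : W ⟶ U.left), T g ∧ t ∈ Set.range g ∧
      Flat g ∧ LocallyOfFinitePresentation g := by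
    intro t
    obtain ⟨ι, Z, k, rfl⟩ := T.exists_eq_ofArrows
    obtain ⟨hs, hp⟩ := (Scheme.ofArrows_mem_precoverage_iff _).mp hT
    obtain ⟨i, hi⟩ := hs t
    exact ⟨Z i, k i, ⟨i⟩, hi, (hp i).1, (hp i).2⟩
  choose W g hg ht hgf hgp using hmem
  exact ⟨fun t => Over.mk (g t ≫ U.hom), fun t => Over.homMk (g t),
    fun t => (Sieve.overEquiv_iff _ _).mp (hle _ _ (hg t)), hgf, hgp, ht⟩

/-- Morphisms from schemes lift fppf-locally along local surjections. -/
theorem exists_lift_of_isLocallySurjective {F G : Sp S} (a : F ⟶ G) [Sheaf.IsLocallySurjective a]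
    {T : Over S} (b : (yon S).obj T ⟶ G) :
    ∃ (V : T.left → Over S) (h : ∀ t, V t ⟶ T), (∀ t, Flat (h t).left) ∧
      (∀ t, LocallyOfFinitePresentation (h t).left) ∧ (∀ t, t ∈ Set.range (h t).left) ∧
      ∀ t, ∃ l : (yon S).obj (V t) ⟶ F, l ≫ a = (yon S).map (h t) ≫ b := by
  obtain ⟨V, h, hR, h₁, h₂, h₃⟩ := exists_family_of_mem (U := T) (Presheaf.imageSieve_mem (AlgSp.J S) a.hom (U := op T) (yEq b))
  refine ⟨V, h, h₁, h₂, h₃, fun t => ?_⟩
  obtain ⟨p, hp⟩ := hR t
  refine ⟨yEq.symm p, yEq.injective ?_⟩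
  rw [yEq_comp, yEq_map, Equiv.apply_symm_apply]
  exact hp

/-- Descent of morphisms along a local surjection. -/
theorem exists_desc {F G H : Sp S} (a : F ⟶ G) [Sheaf.IsLocallySurjective a] (x : F ⟶ H)
    (hx : ∀ (T : Over S) (b b' : (yon S).obj T ⟶ F), b ≫ a = b' ≫ a → b ≫ x = b' ≫ x) :
    ∃ y : G ⟶ H, a ≫ y = x := by
  have hx' : ∀ (T : (Over S)ᵒᵖ) (p p' : F.obj.obj T), a.hom.app T p = a.hom.app T p' →
      x.hom.app T p = x.hom.app T p' := fun T p p' e => by
    have := congrArg yEq (hx T.unop (yEq.symm p) (yEq.symm p') (yEq.injective (by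
      rw [yEq_comp, yEq_comp, Equiv.apply_symm_apply, Equiv.apply_symm_apply]; exact e)))
    rw [yEq_comp, yEq_comp, Equiv.apply_symm_apply, Equiv.apply_symm_apply] at this
    exact this
  have hsh := (isSheaf_iff_isSheaf_of_type _ _).1 H.property
  have key : ∀ (T : (Over S)ᵒᵖ) (s : G.obj.obj T), ∃ t : H.obj.obj T, ∀ ⦃T' : Over S⦄ (f : T' ⟶ T.unop)
      (p : F.obj.obj (op T')), a.hom.app _ p = G.obj.map f.op s → H.obj.map f.op t = x.hom.app _ p := by
    intro T s
    let R := Presheaf.imageSieve a.hom (U := T.unop) s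
    have hR : R ∈ AlgSp.J S T.unop := Presheaf.imageSieve_mem (AlgSp.J S) a.hom s
    let fam : Presieve.FamilyOfElements H.obj R.arrows := fun T' f hf => x.hom.app _ hf.choose
    have hfam : fam.Compatible := by
      rw [Presieve.compatible_iff_sieveCompatible]
      intro Y Z f g hf
      change x.hom.app _ _ = H.obj.map g.op (x.hom.app _ _)
      rw [← NatTrans.naturality_apply]
      refine hx' _ _ _ ?_
      rw [NatTrans.naturality_apply, (R.downward_closed hf g).choose_spec, hf.choose_spec, op_comp,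
        Functor.map_comp_apply]
    refine ⟨(hsh R hR).amalgamate fam hfam, fun T' f p hp => ?_⟩
    rw [(hsh R hR).valid_glue hfam f ⟨p, hp⟩]
    exact hx' _ _ _ ((⟨p, hp⟩ : R.arrows f).choose_spec.trans hp.symm)
  choose y hy using key
  have hnat : ∀ ⦃T T' : (Over S)ᵒᵖ⦄ (f : T ⟶ T') (s : G.obj.obj T),
      y T' (G.obj.map f s) = H.obj.map f (y T s) := fun T T' f s => by
    refine ((hsh _ (Presheaf.imageSieve_mem (AlgSp.J S) a.hom (G.obj.map f s))).isSeparatedFor).ext ?_
    rintro Z g ⟨p, hp⟩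
    rw [hy T' _ g p hp, ← Functor.map_comp_apply]
    exact (hy T s (g ≫ f.unop) p (hp.trans (by rw [← Functor.map_comp_apply]; rfl))).symm
  refine ⟨⟨{ app := fun T => TypeCat.ofHom (y T)
             naturality := fun T T' f => ConcreteCategory.hom_ext _ _ fun s => hnat f s }⟩, ?_⟩
  ext T p
  exact (by simpa using hy T (a.hom.app T p) (𝟙 T.unop) p (by simp) :
    y T (a.hom.app T p) = x.hom.app T p)

/-- A morphism which becomes an isomorphism after a base change along a local surjection is an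
isomorphism. -/
theorem isIso_of_isPullback {F G F' G' : Sp S} {fst : F' ⟶ F} {snd : F' ⟶ G'} {f : F ⟶ G} {a : G' ⟶ G}
    (sq : IsPullback fst snd f a) [Sheaf.IsLocallySurjective a] [IsIso snd] : IsIso f := by
  haveI : Sheaf.IsLocallySurjective f := by
    have e : (inv snd ≫ fst) ≫ f = a := by rw [Category.assoc, sq.w, IsIso.inv_hom_id_assoc]
    exact Presheaf.isLocallySurjective_of_isLocallySurjective_fac (AlgSp.J S)
      (show (inv snd ≫ fst).hom ≫ f.hom = a.hom from congrArg (fun t => t.hom) e)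
  haveI : Mono f := by
    refine mono_of_injective fun T p p' e => ?_
    obtain ⟨V, h, h₁, h₂, h₃, hl⟩ := exists_lift_of_isLocallySurjective a (p ≫ f)
    refine yEq.injective ?_
    refine (((isSheaf_iff_isSheaf_of_type _ _).1 F.property _
      (ofArrows_mem_J h h₁ h₂ fun t => ⟨t, h₃ t⟩)).isSeparatedFor).ext ?_
    rintro Z g ⟨W, k, c, ⟨t⟩, rfl⟩
    obtain ⟨l, hl⟩ := hl t
    have eq : (yon S).map (h t) ≫ p = (yon S).map (h t) ≫ p' := by
      have hp : (sq.lift ((yon S).map (h t) ≫ p) l (by rw [Category.assoc, hl])) =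
          (sq.lift ((yon S).map (h t) ≫ p') l (by rw [Category.assoc, ← e, hl])) := by
        rw [← cancel_mono snd, sq.lift_snd, sq.lift_snd]
      simpa using congrArg (· ≫ fst) hp
    rw [← yEq_map, ← yEq_map, Functor.map_comp, Category.assoc, Category.assoc, eq]
  exact isIso_of_mono_isLocallySurjective f

/-- An open subset which is invariant under an fppf covering descends. -/
theorem exists_open_descent {X' X P : Scheme.{u}} (q : X' ⟶ X) [Flat q] [LocallyOfFinitePresentation q]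
    [Surjective q] {p₁ p₂ : P ⟶ X'} (sq : IsPullback p₁ p₂ q q) (V' : X'.Opens)
    (hV : p₁ ⁻¹ᵁ V' = p₂ ⁻¹ᵁ V') : ∃ V : X.Opens, q ⁻¹ᵁ V = V' := by
  refine ⟨⟨q '' V', q.isOpenMap _ V'.2⟩, SetLike.coe_injective ?_⟩
  refine subset_antisymm ?_ fun x hx => ⟨x, hx, rfl⟩
  rintro x ⟨y, hy, hxy⟩
  obtain ⟨z, hz₁, hz₂⟩ := Scheme.Pullback.exists_preimage_pullback x y (f := q) (g := q) hxy.symm
  have h1 : p₁ (sq.isoPullback.inv z) = x := by
    rw [← Scheme.Hom.comp_apply, sq.isoPullback_inv_fst]; exact hz₁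
  have h2 : p₂ (sq.isoPullback.inv z) = y := by
    rw [← Scheme.Hom.comp_apply, sq.isoPullback_inv_snd]; exact hz₂
  have : sq.isoPullback.inv z ∈ p₁ ⁻¹ᵁ V' := by
    rw [hV]; change p₂ _ ∈ V'; rw [h2]; exact hy
  change p₁ _ ∈ V' at this
  rwa [h1] at this

end AlgSpLib
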