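import Groth.Agent.AlgSpLib.PointMono
import Groth.Agent.AlgSpLib.Sep

/-!
# Existence of decent points
-/

set_option autoImplicit false
set_option backward.isDefEq.respectTransparency false
set_option backward.isDefEq.respectTransparency.types false

universe u

open CategoryTheory CategoryTheory.Limits AlgebraicGeometry Opposite AlgSp Topology

namespace AlgSpLib

variable {S : Scheme.{u}}

/-- A quasi-compact field-valued point is equivalent to a quasi-compact monomorphism. -/
theorem exists_decentPt_of_qc {X : Sp S} (hX : IsAlgSpace X) (q : FieldPt X) (hq : RepWith @QuasiCompact q.toHom) :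
    ∃ p : FieldPt X, Points.mk p = Points.mk q ∧ Mono p.toHom ∧ RepWith @QuasiCompact p.toHom := by
  obtain ⟨M, c, m₀, hMi, hMs, hc, hcq, hpt⟩ := exists_mono_point hX q.toHom hq
  letI : Field Γ(M.left, ⊤) := (isField_of_isIntegral_of_subsingleton M.left).toField
  let str : Spec (CommRingCat.of Γ(M.left, ⊤)) ⟶ S := M.left.isoSpec.inv ≫ M.hom
  let e : Over.mk str ≅ M := Over.isoMk M.left.isoSpec.symm rfl
  let p : FieldPt X :=
    { K := Γ(M.left, ⊤)
      str := str
      val := (AlgSp.J S).uliftYonedaEquiv ((yon S).map e.hom ≫ c) }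
  have hp : p.toHom = (yon S).map e.hom ≫ c := Equiv.symm_apply_apply _ _
  refine ⟨p, ?_, ?_, ?_⟩
  · rw [← Points.ofPt_toHom p (IsLocalRing.closedPoint p.K),
      ← Points.ofPt_toHom q (IsLocalRing.closedPoint q.K), hp, ← hpt, ofPt_yon_comp]
    exact congrArg _ (Subsingleton.elim _ _)
  · rw [hp]; exact @mono_comp _ _ _ _ _ _ inferInstance _ hc
  · rw [hp]; exact MorphismProperty.RespectsIso.precomp _ _ _ hcq

/-- Points of a space quasi-separated over a scheme are quasi-compact. -/
theorem repWith_qc_toHom {X : Sp S} (hX : IsAlgSpace X) {T : Over S} {g : X ⟶ (yon S).obj T}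
    (hg : IsQuasiSeparatedMor g) (p : FieldPt X) : RepWith @QuasiCompact p.toHom := by
  have hP := IsAlgSpace.yon_obj (S := S) p.pt
  have hT := IsAlgSpace.yon_obj (S := S) T
  obtain ⟨s, hs⟩ := (yon S).map_surjective (p.toHom ≫ g)
  haveI : Subsingleton p.pt.left := inferInstanceAs (Subsingleton (PrimeSpectrum p.K))
  haveI : QuasiCompact s.left := ⟨fun O _ _ => (Set.subsingleton_of_subsingleton.finite).isCompact⟩
  refine (repWith_quasiCompact_iff hP hX (hX.representable_from_yon _)).2 (isQuasiCompactMor_of_comp hP hX hT ?_ hg)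
  rw [← hs]
  exact isQuasiCompactMor_of_repWith hP hT ((repWith_yon_map_iff _ s).2 ‹QuasiCompact s.left›)

theorem isDecent_of_isQuasiSeparatedMor {X : Sp S} (hX : IsAlgSpace X) {T : Over S} {g : X ⟶ (yon S).obj T}
    (hg : IsQuasiSeparatedMor g) : IsDecent X := fun x => by
  induction x using Points.ind with
  | h q => exact exists_decentPt_of_qc hX q (repWith_qc_toHom hX hg q)

theorem isDecent_of_isQuasiSeparatedSp {X : Sp S} (hX : IsAlgSpace X) (h : IsQuasiSeparatedSp X) : IsDecent X := by
  let T : Over S := Over.mk (𝟙 S)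
  have : ∀ R : Over S, Nonempty (R ⟶ T) := fun R => ⟨Over.homMk R.hom (Category.comp_id _)⟩
  obtain ⟨U, a, ha, has⟩ := hX.atlas
  obtain ⟨g, -⟩ := exists_desc_of_atlas ha has ((yon S).map (Over.homMk U.hom (Category.comp_id _) : U ⟶ T))
    fun Z g g' _ => by
      rw [← Functor.map_comp, ← Functor.map_comp]
      exact congrArg _ (Over.OverMorphism.ext (by simp))
  exact isDecent_of_isQuasiSeparatedMor hX (g := g) (repWith_diagonal_of_diag g h)

theorem isDecentMor_props {X Y : Sp S} (hX : IsAlgSpace X) (hY : IsAlgSpace Y) (f : X ⟶ Y) :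
    (Representable f → IsDecentMor f) ∧ (IsQuasiSeparatedMor f → IsDecentMor f) := by
  refine ⟨fun hf T F' g fst snd sq => ?_, fun hf T F' g fst snd sq => ?_⟩
  · exact isDecent_of_isRepSh ⟨hf.pullback g, ⟨(hf.isPullback g).isoIsPullback _ _ sq⟩⟩
  · exact isDecent_of_isQuasiSeparatedMor (isAlgSpace_of_isPullback hX (IsAlgSpace.yon_obj T) hY sq)
      (g := snd) (repWith_diagonal_of_isPullback sq hf)

/-- A decent space with an etale surjection from the spectrum of a field is the spectrum of a field. -/
theorem exists_iso_field_of_etale_surjective {X : Sp S} (hX : IsAlgSpace X) (hd : IsDecent X) {k : Type u} [Field k]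
    {str : Spec (CommRingCat.of k) ⟶ S} {p : (yon S).obj (Over.mk str) ⟶ X} (hp : RepWith @Etale p)
    (hs : RepWith @Surjective p) :
    ∃ (k' : Type u) (_ : Field k') (str' : Spec (CommRingCat.of k') ⟶ S)
      (e : (yon S).obj (Over.mk str') ≅ X) (c : Over.mk str ⟶ Over.mk str'),
      (yon S).map c ≫ e.hom = p ∧ IsFinite c.left ∧ Etale c.left := by
  let T : Over S := Over.mk str
  haveI : Subsingleton T.left := inferInstanceAs (Subsingleton (PrimeSpectrum k))
  haveI : IsReduced T.left := inferInstanceAs (IsReduced (Spec (CommRingCat.of k)))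
  obtain ⟨q, hq, hm, hqc⟩ := hd (Points.ofPt p (IsLocalRing.closedPoint k))
  haveI := hm
  haveI : Mono q.toHom := hm
  obtain ⟨W, wq, wT, sq⟩ := exists_isPullback_yon q.toHom p hqc.rep
  haveI : Mono ((yon S).map wT) :=
    MorphismProperty.of_isPullback (P := MorphismProperty.monomorphisms _) sq (inferInstanceAs (Mono q.toHom))
  haveI : Mono wT.left := mono_left_of_mono
  haveI : QuasiCompact wT.left :=
    (repWith_yon_map_iff (P := (@QuasiCompact : MorphismProperty Scheme.{u})) wT).1 (repWith_of_isPullback sq hqc)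
  haveI : Surjective wT.left := ⟨fun t => by
    obtain ⟨w, -, hw⟩ := (ofPt_eq_ofPt_iff sq (IsLocalRing.closedPoint q.K) t).1
      ((Points.ofPt_toHom q _).trans (hq.trans (congrArg _ (Subsingleton.elim _ _))))
    exact ⟨w, hw⟩⟩
  haveI : IsIso wT.left := isIso_of_mono_surjective_discrete wT.left
  haveI : IsIso ((Over.forget S).map wT) := inferInstanceAs (IsIso wT.left)
  haveI : IsIso wT := isIso_of_reflects_iso _ (Over.forget S)
  haveI : Sheaf.IsLocallySurjective p := isLocallySurjective_of_repWith
    (repWith_mono (fun _ _ g (_ : Etale g) => (inferInstance : Flat g)) hp)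
    (repWith_mono (fun _ _ g (_ : Etale g) => (inferInstance : LocallyOfFinitePresentation g)) hp) hs
  haveI : IsIso q.toHom := isIso_of_isPullback sq
  obtain ⟨c, hc⟩ := (yon S).map_surjective (p ≫ inv q.toHom)
  haveI : Etale c.left := etale_left (hc ▸ repWith_comp hp (repWith_of_isIso _))
  haveI : Subsingleton q.pt.left := inferInstanceAs (Subsingleton (PrimeSpectrum q.K))
  haveI : QuasiCompact c.left := ⟨fun O _ _ => (Set.subsingleton_of_subsingleton.finite).isCompact⟩
  haveI : LocallyQuasiFinite c.left := locallyQuasiFinite_of_etale c.left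
  haveI : IsLocallyArtinian q.pt.left := inferInstanceAs (IsLocallyArtinian (Spec (CommRingCat.of q.K)))
  exact ⟨q.K, q.field, q.str, asIso q.toHom, c, by rw [asIso_hom, hc, Category.assoc, IsIso.inv_hom_id, Category.comp_id],
    IsFinite.of_locallyQuasiFinite c.left, inferInstance⟩

end AlgSpLib
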