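import Groth.Agent.AlgSpLib.FpqcMore
/-!
# Locality on the source for flat coverings
-/

set_option autoImplicit false
universe u
open CategoryTheory CategoryTheory.Limits AlgebraicGeometry AlgSp Topology

namespace AlgSpLib

variable {S : Scheme.{u}}

/-- Flatness descends along flat surjective maps to the source. -/
theorem flat_of_flat_surjective_comp {X Y Z : Scheme.{u}} (g : X ⟶ Y) (f : Y ⟶ Z) [Flat g]
    [Surjective g] (h : Flat (g ≫ f)) : Flat f := by
  refine Flat.of_stalkMap f fun y => ?_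
  obtain ⟨x, rfl⟩ := g.surjective y
  have h1 := Flat.stalkMap g x
  have h2 := Flat.stalkMap (g ≫ f) x
  rw [Scheme.Hom.stalkMap_comp] at h2
  replace h2 : ((g.stalkMap x).hom.comp (f.stalkMap (g x)).hom).Flat := h2
  algebraize [(f.stalkMap (g x)).hom, (g.stalkMap x).hom,
    (g.stalkMap x).hom.comp (f.stalkMap (g x)).hom]
  have : Module.Flat (Z.presheaf.stalk (f (g x))) (X.presheaf.stalk x) := h2
  have : Module.FaithfullyFlat (Y.presheaf.stalk (g x)) (X.presheaf.stalk x) :=
    @Module.FaithfullyFlat.of_flat_of_isLocalHom _ _ _ _ _ _ _ h1 (g.toLRSHom.prop x)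
  exact flat_of_faithfullyFlat_comp (R := Z.presheaf.stalk (f (g x)))
    (A := Y.presheaf.stalk (g x)) (B := X.presheaf.stalk x)

/-- A property on charts descends along a jointly surjective family with a property `Q` when it does
for schemes. -/
theorem locP_of_src_cover (P Q : MorphismProperty Scheme.{u}) [IsZariskiLocalAtSource Q]
    [IsZariskiLocalAtSource P]
    (hd : ∀ {U' U Y : Scheme.{u}} (π : U' ⟶ U) (k : U ⟶ Y), Q π → Surjective π → P (π ≫ k) → P k)
    {ι : Type u} {F : Sp S} (hF : IsAlgSpace F) {Fi : ι → Sp S} (hFi : ∀ i, IsAlgSpace (Fi i))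
    (g : ∀ i, Fi i ⟶ F) (hg : ∀ i, LocP Q (g i))
    (hs : ∀ x : Points F, ∃ i, x ∈ Set.range (Points.map (g i)))
    {G : Sp S} {f : F ⟶ G} (h : ∀ i, LocP P (g i ≫ f)) : LocP P f := by
  intro U V a b k ha hb e
  have hW : ∀ i, IsAlgSpace (pullback (g i) a) :=
    fun i => isAlgSpace_pullback (hFi i) (IsAlgSpace.yon_obj U) hF _ _
  choose Ui c hc hcs using fun i => (hW i).atlas
  choose p hp using fun i => (yon S).map_surjective (c i ≫ pullback.snd (g i) a)
  have hq : ∀ i, RepWith @Etale (c i ≫ pullback.fst (g i) a) := fun i =>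
    repWith_comp (hc i) (repWith_of_isPullback (IsPullback.of_hasPullback (g i) a).flip ha)
  have hQ : ∀ i, Q (p i).left := fun i => hg i (c i ≫ pullback.fst (g i) a) a (p i) (hq i) ha
    (by rw [hp i, Category.assoc, Category.assoc, pullback.condition])
  have hP : ∀ i, P ((p i).left ≫ k.left) := fun i => by
    rw [← Over.comp_left]
    refine h i (c i ≫ pullback.fst (g i) a) b (p i ≫ k) (hq i) hb ?_
    rw [Functor.map_comp, hp i, Category.assoc, Category.assoc, pullback.condition_assoc, e]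
    rw [Category.assoc]
  let π := Sigma.desc fun i => (p i).left
  refine hd π k.left (IsZariskiLocalAtSource.sigmaDesc hQ) ⟨fun x => ?_⟩ ?_
  · obtain ⟨i, y, hy⟩ := hs (Points.ofPt a x)
    obtain ⟨w, -, hw⟩ := exists_point_isPullback (IsPullback.of_hasPullback (g i) a) y
      (Points.ofScheme U x) (by rw [hy, ← Points.ofPt_eq_map_ofScheme])
    obtain ⟨z, hz⟩ := map_surjective_of_repWith (hcs i) w
    obtain ⟨z, rfl⟩ := (Points.schemeEquiv (Ui i)).surjective z
    refine ⟨Sigma.ι (fun i => (Ui i).left) i z, ?_⟩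
    rw [← Scheme.Hom.comp_apply, Sigma.ι_desc]
    apply (Points.schemeEquiv U).injective
    refine (Points.map_yon_map_apply (p i) z).symm.trans ?_
    change Points.map ((yon S).map (p i)) _ = _
    rw [hp i, Points.map_comp]
    exact (congrArg _ hz).trans hw
  · have : π ≫ k.left = Sigma.desc fun i => (p i).left ≫ k.left := by
      ext i; simp [π]
    rw [this]
    exact IsZariskiLocalAtSource.sigmaDesc hP

/-- The members of an fpqc covering are jointly surjective on points. -/
theorem exists_mem_range_of_fpqc {ι : Type u} {F : Sp S} (hF : IsAlgSpace F) {Fi : ι → Sp S}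
    {g : ∀ i, Fi i ⟶ F} (hτ : IsFpqcCover Fi g) (x : Points F) :
    ∃ i, x ∈ Set.range (Points.map (g i)) := by
  obtain ⟨U, a, -, has⟩ := hF.atlas
  obtain ⟨u, rfl⟩ := surjective_ofPt has x
  obtain ⟨Z, hZ, hu, -⟩ := exists_isAffineOpen_mem_and_subset (X := U.left) (x := u) (U := ⊤) trivial
  let Z' : Over S := Over.mk (Z.ι ≫ U.hom)
  let s : Z' ⟶ U := Over.homMk Z.ι rfl
  have : IsAffine Z'.left := hZ
  obtain ⟨m, W, c, -, -, hcs, hl⟩ := hτ.2 Z' ‹_› ((yon S).map s ≫ a)
  obtain ⟨j, w, hw⟩ := hcs ⟨u, hu⟩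
  obtain ⟨i, l, hl⟩ := hl j
  refine ⟨i, Points.ofPt l w, ?_⟩
  rw [Points.ofPt_eq_map_ofScheme, ← Points.map_comp, hl]
  rw [Points.map_comp, Points.map_comp]
  rw [show Points.map ((yon S).map (c j)) (Points.ofScheme (W j) w) = Points.ofScheme Z' ⟨u, hu⟩ from
    (Points.map_yon_map_apply (c j) w).trans (congrArg (Points.ofScheme Z') hw)]
  rw [show Points.map ((yon S).map s) (Points.ofScheme Z' ⟨u, hu⟩) = Points.ofScheme U u from
    Points.map_yon_map_apply s _]
  exact (Points.ofPt_eq_map_ofScheme a u).symm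

theorem isLocalOnSource_fpqc_locP_flat (S : Scheme.{u}) :
    IsLocalOnSource (IsFpqcCover (S := S)) (LocP @Flat) :=
  fun _ _ _ g hX hXi hτ _ _ hY =>
    ⟨fun hf i => locP_comp (hXi i) hX hY (hτ.1 i) hf, fun h =>
      locP_of_src_cover @Flat @Flat (fun π k (_ : Flat π) _ hh => flat_of_flat_surjective_comp π k hh)
        hX hXi g hτ.1 (fun x => exists_mem_range_of_fpqc hX hτ x) h⟩

theorem locP_flat_of_surjective_comp {X Y Z : Sp S} (hX : IsAlgSpace X) (hY : IsAlgSpace Y)
    {g : X ⟶ Y} {h : Y ⟶ Z} (hg : LocP @Flat g) (hs : IsSurjectiveMor g)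
    (hgh : LocP @Flat (g ≫ h)) : LocP @Flat h :=
  locP_of_src_cover @Flat @Flat (fun π k (_ : Flat π) _ hh => flat_of_flat_surjective_comp π k hh)
    hY (Fi := fun _ : PUnit.{u + 1} => X) (fun _ => hX) (fun _ => g) (fun _ => hg)
    (fun x => ⟨⟨⟩, hs x⟩) fun _ => hgh

/-! ## Openness -/

theorem isOpenMor_of_cover {ι : Type u} {F G : Sp S} {Fi : ι → Sp S} (g : ∀ i, Fi i ⟶ F)
    (hs : ∀ x : Points F, ∃ i, x ∈ Set.range (Points.map (g i))) {f : F ⟶ G}
    (h : ∀ i, IsOpenMor (g i ≫ f)) : IsOpenMor f := fun A hA => by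
  have : Points.map f '' A = ⋃ i, Points.map (g i ≫ f) '' (Points.map (g i) ⁻¹' A) := by
    ext y
    constructor
    · rintro ⟨x, hx, rfl⟩
      obtain ⟨i, z, rfl⟩ := hs x
      exact Set.mem_iUnion.2 ⟨i, z, hx, Points.map_comp _ _ _⟩
    · rintro hy
      obtain ⟨i, z, hz, rfl⟩ := Set.mem_iUnion.1 hy
      exact ⟨_, hz, (Points.map_comp _ _ _).symm⟩
  rw [this]
  exact isOpen_iUnion fun i => h i _ (hA.preimage (Points.continuous_map _))

theorem isLocalOnSource_fppf_isOpenMor (S : Scheme.{u}) :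
    IsLocalOnSource (IsFppfCover (S := S)) IsOpenMor := by
  intro ι X Xi g hX hXi hτ Y f hY
  refine ⟨fun hf i => ?_, isOpenMor_of_cover g hτ.2⟩
  have := isUnivOpenMor_of_flat_lfp (hXi i) hX (hτ.1 i).1 (hτ.1 i).2
  change IsOpenMap _
  rw [show Points.map (g i ≫ f) = Points.map f ∘ Points.map (g i) from funext (Points.map_comp (g i) f)]
  exact hf.comp (this hX (𝟙 _) (𝟙 _) (g i) (IsPullback.of_id_fst))

theorem isLocalOnSource_fppf_isUnivOpenMor (S : Scheme.{u}) :
    IsLocalOnSource (IsFppfCover (S := S)) IsUnivOpenMor := by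
  intro ι X Xi g hX hXi hτ Y f hY
  refine ⟨fun hf i => ?_, fun h Z T hZ b c q sq => ?_⟩
  · intro Z T hZ b c q sq
    have hP := isAlgSpace_pullback hX hZ hY f b
    let l : T ⟶ pullback f b := pullback.lift (c ≫ g i) q (by rw [Category.assoc]; exact sq.w)
    have sq' : IsPullback c l (g i) (pullback.fst f b) := by
      refine IsPullback.of_bot ?_ (pullback.lift_fst _ _ _).symm (IsPullback.of_hasPullback f b)
      rw [pullback.lift_snd]
      exact sq
    change IsOpenMap _
    rw [show q = l ≫ pullback.snd f b from (pullback.lift_snd _ _ _).symm,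
      show Points.map (l ≫ pullback.snd f b) = Points.map (pullback.snd f b) ∘ Points.map l from
        funext (Points.map_comp l _)]
    exact IsOpenMap.comp (hf hZ b _ _ (IsPullback.of_hasPullback f b))
      (isUnivOpenMor_of_flat_lfp (hXi i) hX (hτ.1 i).1 (hτ.1 i).2 hP _ _ _ sq')
  · refine isOpenMor_of_cover (fun i => pullback.snd (g i) c) (fun t => ?_) fun i =>
      h i hZ b _ _ ((IsPullback.of_hasPullback (g i) c).paste_vert sq)
    obtain ⟨i, y, hy⟩ := hτ.2 (Points.map c t)
    obtain ⟨w, -, hw⟩ := exists_point_isPullback (IsPullback.of_hasPullback (g i) c) y t hy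
    exact ⟨i, w, hw⟩

end AlgSpLib
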