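import Groth.Agent.AlgSpLib.OnePoint
import Groth.Agent.AlgSpLib.SrcDescent
import Groth.Agent.AlgSpLib.Reduced
import Groth.Prelude.Def_AlgSpCov
import Mathlib.RingTheory.RegularLocalRing.Defs

/-!
# Permanence of decency, points of locally Noetherian spaces
-/

set_option autoImplicit false
set_option backward.isDefEq.respectTransparency false
set_option backward.isDefEq.respectTransparency.types false

universe u

open CategoryTheory CategoryTheory.Limits AlgebraicGeometry Opposite AlgSp Topology

namespace AlgSpLib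

variable {S : Scheme.{u}}

theorem representable_snd {F G F' G' : Sp S} {fst : F' ⟶ F} {snd : F' ⟶ G'} {f : F ⟶ G} {g : G' ⟶ G}
    (sq : IsPullback fst snd f g) (hf : Representable f) : Representable snd :=
  (repWith_of_isPullback (P := (⊤ : MorphismProperty Scheme.{u})) sq ⟨hf, fun _ _ _ _ _ _ => trivial⟩).rep

/-- Every morphism from a decent space is decent. -/
theorem isDecentMor_of_isDecent {X Y : Sp S} (hY : IsAlgSpace Y) (f : X ⟶ Y) (hX : IsDecent X) :
    IsDecentMor f := fun _ _ g _ _ sq =>
  isDecent_of_representable _ (representable_snd sq.flip (hY.representable_from_yon g)) hX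

theorem isDecentMor_comp {X Y Z : Sp S} {f : X ⟶ Y} {g : Y ⟶ Z} (hf : IsDecentMor f) (hg : IsDecentMor g) :
    IsDecentMor (f ≫ g) := by
  intro T F c fst snd sq
  have sq' := IsPullback.of_hasPullback g c
  let m := sq'.lift (fst ≫ f) snd (by rw [Category.assoc, sq.w])
  have sqm : IsPullback fst m f (pullback.fst g c) :=
    IsPullback.of_bot (by rw [sq'.lift_snd]; exact sq) (sq'.lift_fst _ _ _).symm sq'
  exact isDecent_of_fibres m (hg c _ _ sq') fun p =>
    hf _ _ _ ((IsPullback.of_hasPullback m p.toHom).paste_horiz sqm)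

theorem isDecent_pullback {X Y Z P : Sp S} (hY : IsAlgSpace Y) {f : X ⟶ Y} {g : Z ⟶ Y} {fst : P ⟶ X}
    {snd : P ⟶ Z} (h : IsPullback fst snd f g) (hX : IsDecent X) (hZ : IsDecent Z) : IsDecent P :=
  isDecent_of_fibres fst hX fun p =>
    have big := (IsPullback.of_hasPullback fst p.toHom).paste_horiz h.flip
    isDecent_of_representable _ (representable_snd big.flip (hY.representable_from_yon _)) hZ

theorem isDecentMor_of_affine {X Y : Sp S} (f : X ⟶ Y)
    (h : ∀ (Z : Over S) (g : (yon S).obj Z ⟶ Y) (P : Sp S) (fst : P ⟶ X)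
      (snd : P ⟶ (yon S).obj Z), IsAffine Z.left → IsPullback fst snd f g → IsDecent P) : IsDecentMor f :=
  fun T _ g _ snd sq => isDecent_of_fibres snd (isDecent_yon T) fun p =>
    h p.pt (p.toHom ≫ g) _ _ _ inferInstance ((IsPullback.of_hasPullback snd p.toHom).paste_horiz sq)

theorem finite_of_qc_point {X : Sp S} {p : FieldPt X} (hp : RepWith @QuasiCompact p.toHom) {V W : Over S}
    [CompactSpace V.left] {b : (yon S).obj V ⟶ X} (hb : RepWith @Etale b) {fV : W ⟶ V} {fK : W ⟶ p.pt}
    (sq : IsPullback ((yon S).map fV) ((yon S).map fK) b p.toHom) : Finite W.left := by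
  haveI : Etale fK.left := etale_left (repWith_of_isPullback sq hb)
  haveI : QuasiCompact fV.left :=
    (repWith_yon_map_iff (P := (@QuasiCompact : MorphismProperty Scheme.{u})) fV).1
      (repWith_of_isPullback sq.flip hp)
  haveI : CompactSpace W.left := QuasiCompact.compactSpace_of_compactSpace fV.left
  haveI : LocallyQuasiFinite fK.left := locallyQuasiFinite_of_etale fK.left
  haveI : IsLocallyArtinian W.left := .of_locallyQuasiFinite fK.left
  exact finite_of_compact_of_discrete

/-- Quasi-compactness of a point only depends on the point. -/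
theorem repWith_qc_of_eq {X : Sp S} (hX : IsAlgSpace X) {p q : FieldPt X} (hp : RepWith @QuasiCompact p.toHom)
    (h : Points.mk q = Points.mk p) : RepWith @QuasiCompact q.toHom :=
  repWith_qc_of_finite hX _ fun V b hV hb W fP fV sq => by
    haveI := hV
    obtain ⟨W', fV', fK', sq'⟩ := exists_isPullback_yon b p.toHom hb.rep
    haveI := finite_of_qc_point hp hb sq'
    exact finite_pullback_of_eq (V := V) hb p q h.symm sq' sq.flip

/-- Decency is Zariski local. -/
theorem isDecent_of_open_cover {X : Sp S} (hX : IsAlgSpace X) {ι : Type u} {Xi : ι → Sp S}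
    (hXi : ∀ i, IsAlgSpace (Xi i)) {j : ∀ i, Xi i ⟶ X} (hj : ∀ i, RepWith @IsOpenImmersion (j i))
    (hcov : ∀ x : Points X, ∃ i, x ∈ Set.range (Points.map (j i))) (hd : ∀ i, IsDecent (Xi i)) :
    IsDecent X := by
  have hje : ∀ i, RepWith @Etale (j i) := fun i =>
    repWith_mono (fun _ _ g (_ : IsOpenImmersion g) => (inferInstance : Etale g)) (hj i)
  haveI : ∀ i, Mono (j i) := fun i => mono_of_repWith (fun g (_ : IsOpenImmersion g) => inferInstance) (hj i)
  choose ι' U a hUa ha _ hacov using fun i => exists_affine_charts (hXi i)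
  intro x
  refine (exists_decentPt_iff_finite hX x).1 fun V φ hV hφ R s t sqR => ?_
  haveI := hV
  haveI : ∀ i k, IsAffine (U i k).left := hUa
  have hfin : (Points.ofPt φ ⁻¹' {x}).Finite := by
    refine finite_fibre_transfer (x := x) (U := fun q : Σ i, ι' i => U q.1 q.2)
      (φ := fun q => a q.1 q.2 ≫ j q.1) (fun q => repWith_comp (ha _ _) (hje _)) (fun y => ?_) (fun q => ?_) hφ
    · obtain ⟨i, z, rfl⟩ := hcov y
      obtain ⟨k, hk⟩ := hacov i z
      rw [← range_ofPt] at hk
      obtain ⟨v, rfl⟩ := hk
      exact ⟨⟨i, k⟩, v, (Points.map_ofPt _ _ _).symm⟩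
    · by_cases h : x ∈ Set.range (Points.map (j q.1))
      · obtain ⟨z, rfl⟩ := h
        obtain ⟨p, rfl, -, hp⟩ := hd q.1 z
        refine (finite_fibre_of_qc_point hp (ha q.1 q.2)).subset fun v hv => ?_
        exact injective_map_of_mono (j q.1) ((Points.map_ofPt _ _ _).trans hv)
      · refine Set.finite_empty.subset fun v hv => h ⟨_, (Points.map_ofPt _ _ _).trans hv⟩
  obtain ⟨i, z, rfl⟩ := hcov x
  obtain ⟨p, rfl, hm, -⟩ := hd i z
  refine ⟨hfin, (hfin.biUnion fun u hu => hfin.biUnion fun u' hu' =>
    finite_pairs_of_mono ⟨p.map (j i), rfl, ?_⟩ hφ hu hu' sqR).subset fun r hr => ?_⟩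
  · rw [FieldPt.toHom_map]; exact @mono_comp _ _ _ _ _ _ hm _ inferInstance
  rw [Set.mem_preimage, ofPt_yon_comp] at hr
  refine Set.mem_iUnion₂.2 ⟨s.left r, ?_, Set.mem_iUnion₂.2 ⟨t.left r, hr, rfl, rfl⟩⟩
  exact ((ofPt_eq_ofPt_iff sqR (t.left r) (s.left r)).2 ⟨r, rfl, rfl⟩).symm.trans hr

instance (k : Type u) [Field k] (str : Spec (CommRingCat.of k) ⟶ S) : Subsingleton (Over.mk str).left :=
  inferInstanceAs (Subsingleton (PrimeSpectrum k))

instance (k : Type u) [Field k] (str : Spec (CommRingCat.of k) ⟶ S) : Nonempty (Over.mk str).left :=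
  inferInstanceAs (Nonempty (PrimeSpectrum k))

/-- Every field-valued point of a reduced one-point space is flat. -/
theorem flat_surjective_field_point {Z : Sp S} (hZ : IsAlgSpace Z) {k : Type u} [Field k]
    {str : Spec (CommRingCat.of k) ⟶ S} {p : (yon S).obj (Over.mk str) ⟶ Z}
    (hpf : LocP @Flat p) (hps : IsSurjectiveMor p) {k' : Type u} [Field k'] {str' : Spec (CommRingCat.of k') ⟶ S}
    (q : (yon S).obj (Over.mk str') ⟶ Z) : LocP @Flat q ∧ IsSurjectiveMor q := by
  have hrp := hZ.representable_from_yon p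
  have hrq := hZ.representable_from_yon q
  obtain ⟨P, p₁, p₂, sq⟩ := exists_isPullback_yon p q hrp
  have hf2 : RepWith @Flat ((yon S).map p₂) := repWith_of_isPullback sq (repWith_of_locP hZ hrp hpf)
  have hs2 : RepWith @Surjective ((yon S).map p₂) :=
    repWith_of_isPullback sq ((repWith_surjective_iff hrp).2 hps)
  have hP := IsAlgSpace.yon_obj (S := S) P
  have hK := IsAlgSpace.yon_obj (S := S) (Over.mk str)
  have hK' := IsAlgSpace.yon_obj (S := S) (Over.mk str')
  haveI : IsReduced (Over.mk str).left := inferInstanceAs (IsReduced (Spec (CommRingCat.of k)))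
  haveI : IrreducibleSpace (Over.mk str).left := ⟨inferInstance⟩
  haveI : IsIntegral (Over.mk str).left := isIntegral_of_irreducibleSpace_of_isReduced _
  haveI : Flat p₁.left := inferInstance
  refine ⟨locP_flat_of_surjective_comp hP hK' (locP_of_repWith hf2) (map_surjective_of_repWith hs2) ?_, fun z => ?_⟩
  · rw [← sq.w]
    exact locP_comp hP hK hZ (locP_of_repWith
      ((repWith_yon_map_iff (P := (@Flat : MorphismProperty Scheme.{u})) p₁).2 inferInstance)) hpf
  · haveI : Subsingleton (Points ((yon S).obj (Over.mk str))) :=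
      (Points.schemeHomeo (Over.mk str)).surjective.subsingleton
    haveI := hps.subsingleton
    exact ⟨Points.schemeHomeo _ (Classical.arbitrary _), Subsingleton.elim _ _⟩

/-- A closed point in an affine open gives a point of finite type. -/
lemma exists_lft_point (U : Scheme.{u}) [Nonempty U] :
    ∃ u : U, LocallyOfFiniteType (U.fromSpecResidueField u) := by
  obtain ⟨O, hO, hu₀, -⟩ := exists_isAffineOpen_mem_and_subset (U := ⊤) (x := Classical.arbitrary U) trivial
  haveI : IsAffine O.toScheme := hO
  haveI : Nonempty O.toScheme := ⟨⟨_, hu₀⟩⟩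
  obtain ⟨v, -, hv⟩ := IsClosed.exists_closed_singleton (isClosed_univ (X := O.toScheme)) Set.univ_nonempty
  refine ⟨O.ι v, ?_⟩
  haveI : IsClosedImmersion (O.toScheme.fromSpecResidueField v) :=
    .of_isPreimmersion _ (by rw [O.toScheme.range_fromSpecResidueField]; exact hv)
  have h := O.ι.SpecMap_residueFieldMap_fromSpecResidueField (x := v)
  rw [← MorphismProperty.cancel_left_of_respectsIso @LocallyOfFiniteType (Spec.map (O.ι.residueFieldMap v)), h]
  infer_instance

theorem exists_lft_flat_surjective {Z : Sp S} (hZ : IsAlgSpace Z) {k : Type u} [Field k]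
    {str : Spec (CommRingCat.of k) ⟶ S} {p : (yon S).obj (Over.mk str) ⟶ Z}
    (hpf : LocP @Flat p) (hps : IsSurjectiveMor p) :
    ∃ (k' : Type u) (_ : Field k') (str' : Spec (CommRingCat.of k') ⟶ S) (q : (yon S).obj (Over.mk str') ⟶ Z),
      LocP @LocallyOfFiniteType q ∧ LocP @Flat q ∧ IsSurjectiveMor q := by
  obtain ⟨U, a, ha, has⟩ := hZ.atlas
  obtain ⟨u₀, -⟩ := surjective_ofPt has (Points.ofPt p (Classical.arbitrary (Over.mk str).left))
  haveI : Nonempty U.left := ⟨u₀⟩
  obtain ⟨u, hu⟩ := exists_lft_point U.left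
  let str' := U.left.fromSpecResidueField u ≫ U.hom
  let j : Over.mk str' ⟶ U := Over.homMk (U.left.fromSpecResidueField u) rfl
  haveI : LocallyOfFiniteType j.left := hu
  refine ⟨U.left.residueField u, inferInstance, str', (yon S).map j ≫ a, ?_,
    flat_surjective_field_point hZ hpf hps _⟩
  exact locP_of_repWith (repWith_comp ((repWith_yon_map_iff (P := (@LocallyOfFiniteType : MorphismProperty Scheme.{u})) j).2
    inferInstance) (repWith_mono (fun _ _ g (_ : Etale g) => (inferInstance : LocallyOfFiniteType g)) ha))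

/-- Lifting chains along generalizing maps. -/
lemma coheight_le_of_generalizingMap {A B : Scheme.{u}} (f : A ⟶ B) (hf : GeneralizingMap f) (a : A) :
    Order.coheight (f a) ≤ Order.coheight a := by
  refine Order.coheight_le fun p hp => ?_
  suffices ∃ q : LTSeries A, q.head = a ∧ q.length = p.length ∧ f q.last = p.last by
    obtain ⟨q, h1, h2, -⟩ := this
    rw [← h2]
    exact Order.length_le_coheight (h1 ▸ le_rfl)
  induction p using RelSeries.inductionOn' with
  | singleton y => exact ⟨RelSeries.singleton _ a, rfl, rfl, hp.symm⟩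
  | snoc p y hy ih =>
    obtain ⟨q, h1, h2, h3⟩ := ih (by simpa using hp)
    have hlt : p.last < y := hy
    obtain ⟨z, hz, rfl⟩ := hf (show y ⤳ f q.last by rw [h3]; exact hlt.le)
    have hqz : q.last < z := lt_of_le_not_ge hz fun e => hlt.not_ge (h3 ▸ e.map f.continuous)
    exact ⟨q.snoc z hqz, by simp [h1], by simp [h2], by simp⟩

/-- There are no specializations in the fibres of charts of locally Noetherian spaces. -/
theorem eq_of_specializes_of_noeth {X : Sp S} (hX : IsLocNoethSp X) {U : Over S}
    {a : (yon S).obj U ⟶ X} (ha : RepWith @Etale a) {u u' : U.left}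
    (he : Points.ofPt a u = Points.ofPt a u') (hs : u' ⤳ u) : u = u' := by
  haveI := isLocallyNoetherian_of_chart hX ha
  obtain ⟨R, t, s, sq⟩ := exists_isPullback_yon a a ha.rep
  haveI : Etale s.left := etale_left (repWith_of_isPullback sq ha)
  haveI : Etale t.left := etale_left (repWith_of_isPullback sq.flip ha)
  haveI : LocallyQuasiFinite s.left := locallyQuasiFinite_of_etale s.left
  obtain ⟨r, hrt, hrs⟩ := (ofPt_eq_ofPt_iff sq u u').1 he
  have hmono : StrictMono s.left := fun x y hxy => by
    have h1 : s.left x ≤ s.left y := (hxy.le : y ⤳ x).map s.left.continuous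
    refine lt_of_le_not_ge h1 fun e => hxy.not_ge ?_
    have e' : s.left x = s.left y := ((show s.left x ⤳ s.left y from e).antisymm h1).eq
    rw [(s.left.isDiscrete_preimage_singleton (s.left y)).eq_of_specializes hxy.le rfl e']
  by_contra hne
  have hlt : u < u' := lt_of_le_not_ge hs fun e => hne ((show u ⤳ u' from e).antisymm hs).eq
  have h1 : Order.coheight u ≤ Order.coheight u' :=
    ((hrt ▸ coheight_le_of_generalizingMap t.left (Flat.generalizingMap _) r)).trans
      (hrs ▸ Order.coheight_le_coheight_apply_of_strictMono _ hmono r)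
  have hfin : Order.coheight u' < ⊤ := by
    obtain ⟨O, hO, huO, -⟩ := exists_isAffineOpen_mem_and_subset (U := ⊤) (x := u') trivial
    haveI : IsNoetherianRing Γ(U.left, O) := IsLocallyNoetherian.component_noetherian ⟨O, hO⟩
    letI : Algebra Γ(U.left, O) (U.left.presheaf.stalk u') :=
      U.left.presheaf.algebra_section_stalk ⟨u', huO⟩
    haveI := hO.isLocalization_stalk ⟨u', huO⟩
    haveI : IsNoetherianRing (U.left.presheaf.stalk u') :=
      IsLocalization.isNoetherianRing (hO.primeIdealOf ⟨u', huO⟩).asIdeal.primeCompl _ inferInstance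
    have h2 := ringKrullDim_lt_top (R := U.left.presheaf.stalk u')
    rw [ringKrullDim_stalk_eq_coheight] at h2
    exact WithBot.coe_lt_coe.1 h2
  exact (Order.coheight_strictAnti hlt hfin).not_ge h1

/-- Charts of locally Noetherian one-point spaces are discrete. -/
theorem discreteTopology_of_noeth_onePoint {X : Sp S} (hX : IsLocNoethSp X)
    [Subsingleton (Points X)] {U : Over S} {a : (yon S).obj U ⟶ X} (ha : RepWith @Etale a) :
    DiscreteTopology U.left := by
  haveI := isLocallyNoetherian_of_chart hX ha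
  haveI : T1Space U.left := t1Space_iff_specializes_imp_eq.2 fun u u' h =>
    (eq_of_specializes_of_noeth hX ha (Subsingleton.elim _ _) h).symm
  refine discreteTopology_iff_isOpen_singleton.2 fun u => ?_
  obtain ⟨O, hO, hu, -⟩ := exists_isAffineOpen_mem_and_subset (U := ⊤) (x := u) trivial
  haveI : IsNoetherian O.toScheme :=
    haveI : IsAffine O.toScheme := hO
    ⟨⟩
  haveI : T1Space O.toScheme := O.ι.isOpenEmbedding.isEmbedding.t1Space
  haveI : Finite O.toScheme := Set.finite_univ_iff.1 <| by
    refine ((TopologicalSpace.NoetherianSpace.finite_irreducibleComponents (α := O.toScheme)).biUnion (t := fun C => C)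
      fun C hC => ?_).subset fun x _ => Set.mem_iUnion₂.2 ⟨_, irreducibleComponent_mem_irreducibleComponents x,
        mem_irreducibleComponent (x := x)⟩
    obtain ⟨g, hg⟩ := QuasiSober.sober hC.1 (isClosed_of_mem_irreducibleComponents C hC)
    rw [← hg.def, closure_singleton]
    exact Set.finite_singleton g
  haveI : DiscreteTopology O.toScheme := inferInstance
  have h := O.ι.isOpenEmbedding.isOpenMap _ (isOpen_discrete ({⟨u, hu⟩} : Set O.toScheme))
  rwa [Set.image_singleton] at h

theorem regular_of_noeth_onePoint {X : Sp S} (hX : IsLocNoethSp X)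
    (hr : EtaleLocally (fun U => IsReduced U) X) [Subsingleton (Points X)] :
    EtaleLocally (fun U => IsLocallyNoetherian U ∧ ∀ u : U, IsRegularLocalRing (U.presheaf.stalk u)) X := by
  obtain ⟨U, a, ha, has, hU⟩ := hr
  haveI : IsReduced U.left := hU
  refine ⟨U, a, ha, has, isLocallyNoetherian_of_chart hX ha, fun u => ?_⟩
  haveI := discreteTopology_of_noeth_onePoint hX ha
  have hu : closure {u} ∈ irreducibleComponents U.left := by
    rw [closure_discrete]
    exact ⟨isIrreducible_singleton, fun C hC hle x hx =>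
      (isPreirreducible_iff_subsingleton.1 hC.2) hx (hle rfl)⟩
  letI := (isField_stalk_of_closure_mem_irreducibleComponents U.left u hu).toField
  infer_instance

/-- Reduced locally Noetherian one-point spaces are those fppf covered by a field. -/
theorem onePoint_noeth_iff {Z : Sp S} (hZ : IsAlgSpace Z) :
    (EtaleLocally (fun U => IsReduced U) Z ∧ IsLocNoethSp Z ∧ Nonempty (Points Z) ∧ Subsingleton (Points Z)) ↔
      ∃ (k : Type u) (_ : Field k) (str : Spec (CommRingCat.of k) ⟶ S) (p : (yon S).obj (Over.mk str) ⟶ Z),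
        LocP @LocallyOfFinitePresentation p ∧ LocP @Flat p ∧ IsSurjectiveMor p := by
  constructor
  · rintro ⟨hr, hN, hne, hss⟩
    obtain ⟨k₀, _, str₀, p₀, hf₀, hs₀⟩ := (onePoint_reduced_iff hZ).1 ⟨hr, hne, hss⟩
    obtain ⟨k, hk, str, p, h1, h2, h3⟩ := exists_lft_flat_surjective hZ hf₀ hs₀
    exact ⟨k, hk, str, p, locP_lfp_of_lft hN h1, h2, h3⟩
  · rintro ⟨k, _, str, p, hlfp, hfl, hs⟩
    obtain ⟨hr, hne, hss⟩ := (onePoint_reduced_iff hZ).2 ⟨k, inferInstance, str, p, hfl, hs⟩
    refine ⟨hr, ?_, hne, hss⟩
    obtain ⟨U, a, ha, has, -⟩ := hr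
    have hrep := hZ.representable_from_yon p
    obtain ⟨W, wK, wU, sq⟩ := exists_isPullback_yon p a hrep
    haveI : Etale wK.left := etale_left (repWith_of_isPullback sq.flip ha)
    haveI : IsNoetherian (Over.mk str).left := inferInstanceAs (IsNoetherian (Spec (CommRingCat.of k)))
    haveI : IsLocallyNoetherian W.left := LocallyOfFiniteType.isLocallyNoetherian wK.left
    haveI : Flat wU.left := (repWith_yon_map_iff (P := (@Flat : MorphismProperty Scheme.{u})) wU).1
      (repWith_of_isPullback sq (repWith_of_locP hZ hrep hfl))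
    haveI : Surjective wU.left := surjective_left (repWith_of_isPullback sq ((repWith_surjective_iff hrep).2 hs))
    haveI : LocallyOfFinitePresentation wU.left :=
      (repWith_yon_map_iff (P := (@LocallyOfFinitePresentation : MorphismProperty Scheme.{u})) wU).1
        (repWith_of_isPullback sq (repWith_of_locP hZ hrep hlfp))
    exact ⟨U, a, ha, has, isLocallyNoetherian_of_fppf_surjective wU.left⟩

/-- The one-point subspace at a point is unique. -/
theorem exists_iso_onePoint {X Z Z' : Sp S} (hX : IsAlgSpace X) (hZ : IsAlgSpace Z) (hZ' : IsAlgSpace Z')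
    {x : Points X} {i : Z ⟶ X} {i' : Z' ⟶ X} [Mono i] [Mono i']
    (hi : Set.range (Points.map i) = {x}) (hi' : Set.range (Points.map i') = {x})
    {k : Type u} [Field k] {str : Spec (CommRingCat.of k) ⟶ S} {p : (yon S).obj (Over.mk str) ⟶ Z}
    (hp₁ : LocP @LocallyOfFinitePresentation p) (hp₂ : LocP @Flat p) (hps : IsSurjectiveMor p)
    {k' : Type u} [Field k'] {str' : Spec (CommRingCat.of k') ⟶ S} {p' : (yon S).obj (Over.mk str') ⟶ Z'}
    (hp₁' : LocP @LocallyOfFinitePresentation p') (hp₂' : LocP @Flat p') (hps' : IsSurjectiveMor p') :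
    ∃ e : Z' ≅ Z, e.hom ≫ i = i' := by
  have sq := IsPullback.of_hasPullback i i'
  have hP := isAlgSpace_of_isPullback hZ hZ' hX sq
  obtain ⟨z, hz⟩ : x ∈ Set.range (Points.map i) := hi ▸ rfl
  obtain ⟨z', hz'⟩ : x ∈ Set.range (Points.map i') := hi' ▸ rfl
  obtain ⟨w, -, -⟩ := exists_point_isPullback sq z z' (hz.trans hz'.symm)
  haveI : Mono (pullback.fst i i') := inferInstance
  haveI : Mono (pullback.snd i i') := inferInstance
  haveI := (isEmpty_or_isIso_of_mono hP hZ (pullback.fst i i') hp₁ hp₂ hps).resolve_left (fun h => h.false w)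
  haveI := (isEmpty_or_isIso_of_mono hP hZ' (pullback.snd i i') hp₁' hp₂' hps').resolve_left (fun h => h.false w)
  exact ⟨(asIso (pullback.snd i i')).symm ≪≫ asIso (pullback.fst i i'), by
    simp [pullback.condition]⟩

end AlgSpLib
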