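import Mathlib.AlgebraicGeometry.Sites.Fpqc
import Mathlib.CategoryTheory.MorphismProperty.Descent
import Mathlib.CategoryTheory.MorphismProperty.Local
/-!
# Properties local at the target descend along fppf covers
-/

set_option autoImplicit false
universe u
open CategoryTheory CategoryTheory.Limits AlgebraicGeometry

namespace AlgSpLib

theorem descendsAlong_of_isLocalAtTarget (P : MorphismProperty Scheme.{u})
    [P.IsLocalAtTarget Scheme.fppfPrecoverage] :
    P.DescendsAlong (@Surjective ⊓ @Flat ⊓ @LocallyOfFinitePresentation) := by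
  haveI : P.RespectsIso := (inferInstance : P.IsLocalAtTarget Scheme.fppfPrecoverage).toRespects
  apply MorphismProperty.DescendsAlong.mk'
  intro X Y Z f g _ hf h
  obtain ⟨⟨h1, h2⟩, h3⟩ := hf
  refine MorphismProperty.IsLocalAtTarget.of_forall_pullbackSnd (P := P) (K := Scheme.fppfPrecoverage)
    f.singleton_mem_fppfPrecoverage ?_
  rintro U k _ ⟨⟩
  rw [← pullbackSymmetry_hom_comp_fst g f, P.cancel_left_of_respectsIso]
  exact h

end AlgSpLib
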