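import Groth.Agent.AlgSpLib.AffineFpqc
import Groth.Agent.AlgSpLib.RepSpBase
import Mathlib.AlgebraicGeometry.Artinian
import Mathlib.AlgebraicGeometry.AlgClosed.Basic
import Mathlib.FieldTheory.IsAlgClosed.AlgebraicClosure
import Groth.Prelude.Def_AlgSpDec

/-!
# Algebraic spaces etale over a field, and decent spaces
-/

set_option autoImplicit false
set_option backward.isDefEq.respectTransparency false
set_option backward.isDefEq.respectTransparency.types false

universe u

open CategoryTheory CategoryTheory.Limits AlgebraicGeometry Opposite AlgSp Topology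

namespace AlgSpLib

variable {S : Scheme.{u}}

/-- A space etale over the spectrum of an algebraically closed field with a finite atlas is an affine scheme. -/
theorem exists_affine_of_etale_algClosed {K : Type u} [Field K] [IsAlgClosed K]
    {str : Spec (CommRingCat.of K) ⟶ S} {X : Sp S} (hX : IsAlgSpace X) {f : X ⟶ (yon S).obj (Over.mk str)}
    (hf : IsEtaleMor f) {U : Over S} {a : (yon S).obj U ⟶ X} (ha : RepWith @Etale a) (has : RepWith @Surjective a)
    {u : U ⟶ Over.mk str} (hu : (yon S).map u = a ≫ f) [Finite U.left] [DiscreteTopology U.left] [Etale u.left] :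
    ∃ (W : Over S) (_ : (yon S).obj W ≅ X), IsAffine W.left := by
  let uK : U.left ⟶ Spec (CommRingCat.of K) := u.left
  haveI : Etale uK := ‹Etale u.left›
  let T : Over S := Over.mk str
  have hT := IsAlgSpace.yon_obj (S := S) T
  let σ : ∀ t : U.left, T ⟶ U := fun t => Over.homMk (pointOfClosedPoint uK t (isClosed_discrete _)) (by
    rw [← Over.w u]
    exact (pointOfClosedPoint_comp_assoc uK t _ _).trans rfl)
  have hσ : ∀ t, σ t ≫ u = 𝟙 T := fun t => Over.OverMorphism.ext (pointOfClosedPoint_comp uK t _)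
  have hσt : ∀ t s, (σ t).left s = t := fun t s => by
    have := (pointEquivClosedPoint uK).apply_symm_apply ⟨t, isClosed_discrete _⟩
    rw [Subsingleton.elim (α := PrimeSpectrum K) s (IsLocalRing.closedPoint K)]
    exact congrArg Subtype.val this
  let c : ∀ t, (yon S).obj T ⟶ X := fun t => (yon S).map (σ t) ≫ a
  have hc : ∀ t, c t ≫ f = 𝟙 _ := fun t => by
    rw [Category.assoc, ← hu, ← Functor.map_comp, hσ]; exact (yon S).map_id _
  have hcm : ∀ t, Mono (c t) := fun t => by
    haveI : Mono (c t ≫ f) := by rw [hc]; infer_instance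
    exact mono_of_mono (c t) f
  have hci : ∀ t, RepWith @IsOpenImmersion (c t) := fun t =>
    haveI := hcm t
    repWith_openImmersion_of_mono_etale hT hX _
      (isEtaleMor_of_comp hX (by rw [hc]; exact isEtaleMor_id _) hf)
  have hcp : ∀ t, Points.ofPt (c t) (IsLocalRing.closedPoint K) = Points.ofPt a t := fun t => by
    rw [ofPt_yon_comp, hσt]
  obtain ⟨W, ⟨e⟩⟩ := isRepSh_of_openCover c hci fun R b r => by
    obtain ⟨t, ht⟩ := surjective_ofPt has (Points.ofPt b r)
    obtain ⟨w, -, hw⟩ := (ofPt_eq_ofPt_iff ((hci t).rep.isPullback' b) _ r).1 ((hcp t).trans ht)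
    exact ⟨t, w, hw⟩
  obtain ⟨g, hg⟩ := (yon S).map_surjective (a ≫ e.inv)
  haveI : Etale g.left := etale_left (hg ▸ repWith_comp ha (repWith_of_isIso _))
  haveI : Surjective g.left := surjective_left (hg ▸ repWith_comp has (repWith_of_isIso _))
  haveI : Finite W.left := Finite.of_surjective _ g.left.surjective
  haveI : DiscreteTopology W.left := discreteTopology_iff_isOpen_singleton.mpr fun x => by
    obtain ⟨y, rfl⟩ := g.left.surjective x
    simpa using g.left.isOpenMap _ (isOpen_discrete {y})
  exact ⟨W, e, inferInstance⟩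

/-- A space etale over a field with an affine atlas is an affine scheme. -/
theorem exists_affine_of_etale_field {k : Type u} [Field k]
    {str : Spec (CommRingCat.of k) ⟶ S} {X : Sp S} (hX : IsAlgSpace X) {f : X ⟶ (yon S).obj (Over.mk str)}
    (hf : IsEtaleMor f) {U : Over S} [IsAffine U.left] {a : (yon S).obj U ⟶ X} (ha : RepWith @Etale a)
    (has : RepWith @Surjective a) : ∃ (W : Over S) (_ : (yon S).obj W ≅ X), IsAffine W.left := by
  let T : Over S := Over.mk str
  let K := AlgebraicClosure k
  let φ : CommRingCat.of k ⟶ CommRingCat.of K := CommRingCat.ofHom (algebraMap k K)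
  let T' : Over S := Over.mk (Spec.map φ ≫ str)
  let q : T' ⟶ T := Over.homMk (Spec.map φ) rfl
  haveI : IsAffine T.left := inferInstanceAs (IsAffine (Spec (CommRingCat.of k)))
  haveI : IsAffine T'.left := inferInstanceAs (IsAffine (Spec (CommRingCat.of K)))
  haveI : Flat q.left := by
    change Flat (Spec.map φ)
    rw [HasRingHomProperty.Spec_iff (P := @Flat)]
    exact RingHom.flat_algebraMap_iff.2 inferInstance
  haveI : Surjective q.left := ⟨fun x => ⟨IsLocalRing.closedPoint K, Subsingleton.elim (α := PrimeSpectrum k) _ _⟩⟩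
  have hT := IsAlgSpace.yon_obj (S := S) T
  have hT' := IsAlgSpace.yon_obj (S := S) T'
  have hu0 : IsEtaleMor (a ≫ f) := isEtaleMor_comp hf (isEtaleMor_of_repWith ha)
  obtain ⟨u, hu⟩ := (yon S).map_surjective (a ≫ f)
  rw [← hu] at hu0
  haveI : Etale u.left := (locP_yon_map_iff u).1 (locP_etale_of_isEtaleMor hu0)
  have sq := IsPullback.of_hasPullback f ((yon S).map q)
  have hX' := isAlgSpace_pullback hX hT' hT f ((yon S).map q)
  let U' : Over S := Over.mk (pullback.fst u.left q.left ≫ U.hom)
  let r : U' ⟶ U := Over.homMk (pullback.fst u.left q.left) rfl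
  let u' : U' ⟶ T' := Over.homMk (pullback.snd u.left q.left) (by
    change pullback.snd _ _ ≫ T'.hom = pullback.fst _ _ ≫ U.hom
    rw [← Over.w q, ← Over.w u, pullback.condition_assoc])
  have sqU : IsPullback r u' u q := isPullback_over (IsPullback.of_hasPullback u.left q.left)
  have sqU' : IsPullback ((yon S).map r) ((yon S).map u') (a ≫ f) ((yon S).map q) := hu ▸ sqU.map (yon S)
  let a' := sq.lift ((yon S).map r ≫ a) ((yon S).map u') (by rw [Category.assoc, sqU'.w])
  have sqa : IsPullback ((yon S).map r) a' a (pullback.fst f ((yon S).map q)) :=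
    IsPullback.of_bot (by rw [sq.lift_snd]; exact sqU') (sq.lift_fst _ _ _).symm sq
  haveI : Etale u'.left := inferInstanceAs (Etale (pullback.snd u.left q.left))
  haveI : QuasiCompact u'.left := inferInstanceAs (QuasiCompact (pullback.snd u.left q.left))
  haveI : LocallyQuasiFinite u'.left := locallyQuasiFinite_of_etale u'.left
  haveI : IsLocallyArtinian T'.left :=
    inferInstanceAs (IsLocallyArtinian (Spec (CommRingCat.of K)))
  haveI : IsLocallyArtinian U'.left := .of_locallyQuasiFinite u'.left
  haveI : CompactSpace U'.left := QuasiCompact.compactSpace_of_compactSpace u'.left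
  haveI : Finite U'.left := finite_of_compact_of_discrete
  obtain ⟨W', e, hW'⟩ := exists_affine_of_etale_algClosed hX'
    (isEtaleMor_of_isPullback hX hT hT' sq hf) (repWith_of_isPullback sqa ha) (repWith_of_isPullback sqa has)
    (u := u') (sq.lift_snd _ _ _).symm
  obtain ⟨pW, hpW⟩ := (yon S).map_surjective (e.hom ≫ pullback.snd f ((yon S).map q))
  have sqW : IsPullback (e.hom ≫ pullback.fst f ((yon S).map q)) ((yon S).map pW) f ((yon S).map q) :=
    sq.of_iso e.symm (Iso.refl _) (Iso.refl _) (Iso.refl _) (by simp) (by simp [hpW]) (by simp) (by simp)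
  haveI := hW'
  obtain ⟨W, _, e', hW, -⟩ := exists_affine_of_fpqc_base hX sqW
  exact ⟨W, e', hW⟩

/-- An algebraic space etale over a field is a scheme. -/
theorem isRepSh_of_etale_field {k : Type u} [Field k] {str : Spec (CommRingCat.of k) ⟶ S} {X : Sp S}
    (hX : IsAlgSpace X) {f : X ⟶ (yon S).obj (Over.mk str)} (hf : IsEtaleMor f) : IsRepSh X := by
  obtain ⟨U, a, ha, has⟩ := hX.atlas
  obtain ⟨u, hu⟩ := (yon S).map_surjective (a ≫ f)
  haveI : Etale u.left := (locP_yon_map_iff u).1 (locP_etale_of_isEtaleMor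
    (hu ▸ isEtaleMor_comp hf (isEtaleMor_of_repWith ha)))
  haveI : LocallyQuasiFinite u.left := locallyQuasiFinite_of_etale u.left
  haveI : IsLocallyArtinian (Over.mk str).left :=
    inferInstanceAs (IsLocallyArtinian (Spec (CommRingCat.of k)))
  haveI : IsLocallyArtinian U.left := .of_locallyQuasiFinite u.left
  have hsingle : ∀ v : U.left, ∃ (W : Over S) (c : (yon S).obj W ⟶ X),
      RepWith @IsOpenImmersion c ∧ Points.ofPt a v ∈ Set.range (Points.ofPt c) := by
    intro v
    have hopen : IsOpen ({Points.ofPt a v} : Set (Points X)) := by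
      simpa using isOpenMap_ofPt ha {v} (isOpen_discrete _)
    let O : U.left.Opens := ⟨{v}, isOpen_discrete _⟩
    let V : Over S := Over.mk (O.ι ≫ U.hom)
    let j : V ⟶ U := Over.homMk O.ι rfl
    haveI : Subsingleton V.left := ⟨fun x y => Subtype.ext (x.2.trans y.2.symm)⟩
    haveI : Finite V.left := Finite.of_subsingleton
    haveI : DiscreteTopology V.left := inferInstanceAs (DiscreteTopology ↥({v} : Set U.left))
    haveI : IsAffine V.left := inferInstance
    obtain ⟨l, hl⟩ := (exists_lift_openSub (W := {Points.ofPt a v}) ((yon S).map j ≫ a)).2 fun t => by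
      rw [ofPt_yon_comp]
      exact congrArg (Points.ofPt a) t.2
    have hO := isAlgSpace_openSub hX hopen
    have hι := repWith_openSubι X hopen
    have hle : IsEtaleMor l := isEtaleMor_of_comp hO
      (by rw [hl]; exact isEtaleMor_comp (isEtaleMor_of_repWith ha) (isEtaleMor_of_repWith
        ((repWith_yon_map_iff (P := (@Etale : MorphismProperty Scheme.{u})) j).2 (inferInstanceAs (Etale O.ι)))))
      (isEtaleMor_of_openImmersion hι)
    have hlr := hO.representable_from_yon l
    haveI := mono_openSubι X ({Points.ofPt a v} : Set (Points X))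
    have hls : RepWith @Surjective l := (repWith_surjective_iff hlr).2 fun z => by
      have hz : Points.map (openSubι X {Points.ofPt a v}) z = Points.ofPt a v := by
        exact (Set.ext_iff.1 (range_openSubι X (W := {Points.ofPt a v})) _).1 ⟨z, rfl⟩
      refine ⟨Points.schemeHomeo V ⟨v, rfl⟩, injective_map_of_mono (openSubι X {Points.ofPt a v}) ?_⟩
      rw [hz, ← Points.map_comp, hl]
      exact (congrFun (ofPt_comp_ofScheme ((yon S).map j ≫ a)) _).symm.trans (ofPt_yon_comp j a _)
    obtain ⟨W, e, -⟩ := exists_affine_of_etale_field hO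
      (f := openSubι X _ ≫ f) (isEtaleMor_comp hf (isEtaleMor_of_openImmersion hι))
      (repWith_of_locP hO hlr (locP_etale_of_isEtaleMor hle)) hls
    refine ⟨W, e.hom ≫ openSubι X _, MorphismProperty.RespectsIso.precomp _ _ _ hι, ?_⟩
    rw [range_ofPt]
    obtain ⟨z, hz⟩ := (Set.ext_iff.1 (range_openSubι X (W := {Points.ofPt a v})) _).2 rfl
    refine ⟨Points.map e.inv z, ?_⟩
    rw [← Points.map_comp, e.inv_hom_id_assoc, hz]
  choose W c hc hmem using hsingle
  refine isRepSh_of_openCover c hc fun R b r => ?_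
  obtain ⟨v, hv⟩ := surjective_ofPt has (Points.ofPt b r)
  obtain ⟨s, hs⟩ := hmem v
  obtain ⟨w, -, hw⟩ := (ofPt_eq_ofPt_iff ((hc v).rep.isPullback' b) s r).1 (hs.trans hv)
  exact ⟨v, w, hw⟩

/-! ## Decent spaces -/

theorem isDecent_yon (U : Over S) : IsDecent ((yon S).obj U) := by
  intro x
  obtain ⟨t, rfl⟩ := (Points.schemeHomeo U).surjective x
  let j : Over.mk (U.left.fromSpecResidueField t ≫ U.hom) ⟶ U := Over.homMk (U.left.fromSpecResidueField t) rfl
  refine ⟨FieldPt.ofPt (𝟙 _) t, ?_, ?_, ?_⟩
  · exact (Points.ofPt_eq_map_ofScheme (𝟙 _) t).trans (Points.map_id _)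
  · rw [FieldPt.toHom_ofPt, Category.comp_id]
    haveI : Mono j := (Over.forget S).mono_of_mono_map (inferInstanceAs (Mono (U.left.fromSpecResidueField t)))
    exact (yon S).map_mono j
  · rw [FieldPt.toHom_ofPt, Category.comp_id]
    refine (repWith_yon_map_iff (P := (@QuasiCompact : MorphismProperty Scheme.{u})) j).2 ?_
    exact ⟨fun O _ _ => ((Set.subsingleton_of_subsingleton (α := PrimeSpectrum (U.left.residueField t))).finite).isCompact⟩

theorem isDecent_of_isRepSh {F : Sp S} (h : IsRepSh F) : IsDecent F := by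
  obtain ⟨W, ⟨e⟩⟩ := h
  exact (isDecent_yon W).of_iso e

/-- Decent points descend along quasi-compact monomorphisms. -/
theorem exists_decentPt_of_mono {F F' : Sp S} {i : F' ⟶ F} [Mono i] (hi : RepWith @QuasiCompact i)
    (hF' : IsDecent F') (z : Points F') :
    ∃ p : FieldPt F, Points.mk p = Points.map i z ∧ Mono p.toHom ∧ RepWith @QuasiCompact p.toHom := by
  obtain ⟨p, rfl, hm, hq⟩ := hF' z
  refine ⟨p.map i, rfl, ?_, ?_⟩
  · rw [FieldPt.toHom_map]; exact @mono_comp _ _ _ _ _ _ hm _ inferInstance
  · rw [FieldPt.toHom_map]; exact repWith_comp hq hi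

/-- A space is decent if its fibres over the points of a decent space are. -/
theorem isDecent_of_fibres {X Y : Sp S} (f : X ⟶ Y) (hY : IsDecent Y)
    (h : ∀ p : FieldPt Y, IsDecent (pullback f p.toHom)) : IsDecent X := by
  intro x
  obtain ⟨p, hp, hm, hq⟩ := hY (Points.map f x)
  have sq := IsPullback.of_hasPullback f p.toHom
  haveI := hm
  haveI : Mono (pullback.fst f p.toHom) := inferInstance
  obtain ⟨z, hz, -⟩ := exists_point_isPullback sq x (Points.schemeHomeo p.pt (IsLocalRing.closedPoint p.K)) (by
    rw [← hp, ← Points.ofPt_toHom p (IsLocalRing.closedPoint p.K)]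
    exact (congrFun (ofPt_comp_ofScheme p.toHom) _))
  rw [← hz]
  exact exists_decentPt_of_mono (repWith_of_isPullback sq.flip hq) (h p) z

theorem isDecent_of_representable {X Y : Sp S} (f : X ⟶ Y) (hf : Representable f) (hY : IsDecent Y) :
    IsDecent X :=
  isDecent_of_fibres f hY fun p => isDecent_of_isRepSh ⟨hf.pullback p.toHom,
    ⟨(hf.isPullback p.toHom).isoIsPullback _ _ (IsPullback.of_hasPullback f p.toHom)⟩⟩

theorem isDecent_of_isDecentMor {X Y : Sp S} (f : X ⟶ Y) (hf : IsDecentMor f) (hY : IsDecent Y) :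
    IsDecent X :=
  isDecent_of_fibres f hY fun p => hf _ _ _ (IsPullback.of_hasPullback f p.toHom)

theorem isDecent_of_isEtaleMor {X Y : Sp S} (hX : IsAlgSpace X) (hYs : IsAlgSpace Y) (f : X ⟶ Y)
    (hf : IsEtaleMor f) (hY : IsDecent Y) : IsDecent X :=
  isDecent_of_fibres f hY fun p => isDecent_of_isRepSh (isRepSh_of_etale_field
    (isAlgSpace_pullback hX (IsAlgSpace.yon_obj _) hYs f p.toHom)
    (isEtaleMor_of_isPullback hX hYs (IsAlgSpace.yon_obj _) (IsPullback.of_hasPullback f p.toHom) hf))

end AlgSpLib
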