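import Groth.Agent.AlgSpLib.HasAtMore
import Groth.Agent.UOpenLib.Normal

/-!
# Dimensions of the fibres of morphisms of algebraic spaces
-/

set_option autoImplicit false
universe u

open CategoryTheory CategoryTheory.Limits AlgebraicGeometry Topology
open AlgSp

namespace AlgSpLib

variable {S : Scheme.{u}} {F G : Sp S} {f : F ⟶ G}

theorem map_toHom_eq {G : Sp S} (k : FieldPt G) (p : Points ((yon S).obj k.pt)) :
    Points.map k.toHom p = Points.mk k := by
  obtain ⟨t, rfl⟩ := (Points.schemeHomeo k.pt).surjective p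
  rw [mk_eq_ofPt_toMor, Points.ofPt_eq_map_ofScheme]
  exact congrArg _ (congrArg (Points.schemeHomeo k.pt) (Subsingleton.elim (α := PrimeSpectrum k.K) _ _))

section fibre

variable (hF : IsAlgSpace F) (hG : IsAlgSpace G) (hf : LocP @LocallyOfFiniteType f) {k : FieldPt G}
  {Xk : Sp S} {fst : Xk ⟶ F} {snd : Xk ⟶ (yon S).obj k.pt} (h : IsPullback fst snd f k.toHom)

include h in
theorem map_fst_fibre (w : Points Xk) : Points.map f (Points.map fst w) = Points.mk k := by
  obtain ⟨T, a, t, rfl⟩ := exists_ofPt_eq w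
  rw [Points.map_ofPt, Points.map_ofPt, Category.assoc, h.w, ← Category.assoc, ← Points.map_ofPt, map_toHom_eq]

include h in
theorem exists_fibre_point {x : Points F} (hx : Points.map f x = Points.mk k) :
    ∃ w : Points Xk, Points.map fst w = x := by
  obtain ⟨w, hw, -⟩ := exists_point_isPullback h x (Points.schemeHomeo k.pt (IsLocalRing.closedPoint k.K))
    (by rw [hx, map_toHom_eq])
  exact ⟨w, hw⟩

include hF hG hf h in
/-- The dimension of a fibre is bounded by `c` exactly when the relative dimensions along it are. -/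
theorem dim_fibre_le_iff (c : WithBot ℕ∞) :
    AlgSp.dim Xk ≤ c ↔ ∀ x : Points F, Points.map f x = Points.mk k →
      HasAtMor (fun _ _ h u => FlatMor.fibreDimAt h u ≤ c) f x := by
  have hK : IsAlgSpace ((yon S).obj k.pt) := IsAlgSpace.yon_obj _
  have hXk := isAlgSpace_of_isPullback hF hK hG h
  obtain ⟨U, a, m, ha, has, e⟩ := exists_chart_over hXk hK snd (𝟙 _) (AlgSp.repWith_id _ _) (AlgSp.repWith_id _ _)
  have hU : topologicalKrullDim U.left ≤ AlgSp.dim Xk :=
    le_iSup_of_le U (le_iSup_of_le a (le_iSup_of_le ha le_rfl))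
  refine ⟨fun hd x hx => ?_, fun H => ?_⟩
  · obtain ⟨w, rfl⟩ := exists_fibre_point h hx
    obtain ⟨u, rfl⟩ := surjective_ofPt has w
    refine (hasAtMor_fibreDim_baseChange hF hG hK h hf (fun t => t ≤ c) _).1
      ⟨U, _, a, 𝟙 _, m, u, ha, AlgSp.repWith_id _ _, e, rfl, ?_⟩
    exact (fibreDimAt_eq_localDim (k := k.K) m.left u).le.trans ((FibDimLib.localDim_le u).trans (hU.trans hd))
  · refine iSup_le fun U₀ => iSup_le fun a₀ => iSup_le fun ha₀ => ?_
    rw [FibDimLib.topologicalKrullDim_eq_iSup_localDim]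
    refine iSup_le fun u₀ => ?_
    obtain ⟨u, hu⟩ := surjective_ofPt has (Points.ofPt a₀ u₀)
    have h1 := (hasAtMor_fibreDim_baseChange hF hG hK h hf (fun t => t ≤ c) (Points.ofPt a u)).2
      (H _ (map_fst_fibre h _))
    rw [hasAtMor_iff (Q := fun _ _ h u => FlatMor.fibreDimAt h u ≤ c)
      (etInv_fibreDim fun t => t ≤ c) ha (AlgSp.repWith_id _ _) e] at h1
    have h2 : HasAt (fun U u => FlatMor.localDim ↥U u ≤ c) Xk (Points.ofPt a₀ u₀) :=
      ⟨U, a, u, ha, hu, (fibreDimAt_eq_localDim (k := k.K) m.left u).symm.le.trans h1⟩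
    exact (hasAt_iff (Q := fun U u => FlatMor.localDim ↥U u ≤ c) (etInv_localDim fun t => t ≤ c) ha₀ u₀).1 h2

include hF hG hf h in
theorem dim_fibre_eq_of_point (hq : IsQuasiCompactMor f) (hne : ∃ x, Points.map f x = Points.mk k) :
    ∃ (x : Points F) (n : ℕ), Points.map f x = Points.mk k ∧ AlgSp.dim Xk = n ∧
      HasAtMor (fun _ _ h u => FlatMor.fibreDimAt h u = (n : WithBot ℕ∞)) f x := by
  have hK : IsAlgSpace ((yon S).obj k.pt) := IsAlgSpace.yon_obj _
  obtain ⟨U, a, hU, ha, has⟩ := exists_affine_chart (hq hK (isQuasiCompactSp_yon k.pt) _ _ _ h)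
  haveI := hU
  obtain ⟨m, hm⟩ := (yon S).map_surjective (a ≫ snd)
  have e : a ≫ snd = (yon S).map m ≫ 𝟙 _ := by rw [hm, Category.comp_id]
  haveI : LocallyOfFiniteType m.left :=
    locP_of_isPullback hF hG hK h hf a (𝟙 _) m ha (AlgSp.repWith_id _ _) e
  obtain ⟨x₀, hx₀⟩ := hne
  obtain ⟨w₀, -⟩ := exists_fibre_point h hx₀
  obtain ⟨u₀, -⟩ := surjective_ofPt has w₀
  obtain ⟨t, ht⟩ := isCompact_univ.elim_finite_subcover
    (fun z : U.left => {u | FlatMor.fibreDimAt m.left u ≤ FlatMor.fibreDimAt m.left z})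
    (fun z => FibDimLib.isOpen_fibreDimAt_le m.left _) (fun z _ => Set.mem_iUnion.2 ⟨z, le_refl (FlatMor.fibreDimAt m.left z)⟩)
  obtain ⟨z₀, hz₀, -⟩ := Set.mem_iUnion₂.1 (ht (Set.mem_univ u₀))
  obtain ⟨z, -, hz⟩ := t.exists_max_image (fun z => FlatMor.fibreDimAt m.left z) ⟨z₀, hz₀⟩
  have hmax : ∀ u, FlatMor.fibreDimAt m.left u ≤ FlatMor.fibreDimAt m.left z := fun u => by
    obtain ⟨z', hz', hu⟩ := Set.mem_iUnion₂.1 (ht (Set.mem_univ u))
    exact le_trans hu (hz z' hz')
  obtain ⟨n, hn⟩ := UOpenLib.exists_fibreDimAt_eq_nat m.left z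
  have hzw : HasAtMor (fun _ _ h u => FlatMor.fibreDimAt h u = (n : WithBot ℕ∞)) f
      (Points.map fst (Points.ofPt a z)) :=
    (hasAtMor_fibreDim_baseChange hF hG hK h hf (fun t => t = n) _).1
      ⟨U, _, a, 𝟙 _, m, z, ha, AlgSp.repWith_id _ _, e, rfl, hn⟩
  refine ⟨_, n, map_fst_fibre h _, le_antisymm ?_ ?_, hzw⟩
  · refine (dim_fibre_le_iff hF hG hf h _).2 fun x hx => ?_
    obtain ⟨w, rfl⟩ := exists_fibre_point h hx
    obtain ⟨u, rfl⟩ := surjective_ofPt has w
    exact (hasAtMor_fibreDim_baseChange hF hG hK h hf (fun t => t ≤ (n : WithBot ℕ∞)) _).1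
      ⟨U, _, a, 𝟙 _, m, u, ha, AlgSp.repWith_id _ _, e, rfl, (hmax u).trans_eq hn⟩
  · obtain ⟨U', V', a', b', h', u', ha', hb', e', hu', hq'⟩ := hzw
    have h1 := (dim_fibre_le_iff hF hG hf h _).1 le_rfl _ (map_fst_fibre h (Points.ofPt a z))
    rw [← hu', hasAtMor_iff (Q := fun _ _ h u => FlatMor.fibreDimAt h u ≤ AlgSp.dim Xk)
      (etInv_fibreDim fun t => t ≤ AlgSp.dim Xk) ha' hb' e'] at h1
    exact hq'.symm.le.trans h1

include hF hG hf h in
theorem lt_dim_fibre_iff (d : WithBot ℕ∞) :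
    d < AlgSp.dim Xk ↔ ∃ x : Points F, Points.map f x = Points.mk k ∧
      HasAtMor (fun _ _ h u => d < FlatMor.fibreDimAt h u) f x := by
  rw [← not_le, dim_fibre_le_iff hF hG hf h, not_forall]
  refine exists_congr fun x => ?_
  rw [Classical.not_imp]
  refine and_congr_right fun _ => ?_
  obtain ⟨U, V, a, b, m, u, ha, hb, e, rfl⟩ := exists_chart_at hF hG f x
  rw [hasAtMor_iff (Q := fun _ _ h u => FlatMor.fibreDimAt h u ≤ d) (etInv_fibreDim fun t => t ≤ d) ha hb e,
    hasAtMor_iff (Q := fun _ _ h u => d < FlatMor.fibreDimAt h u) (etInv_fibreDim fun t => d < t) ha hb e, not_le]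

end fibre

/-- The fibre dimension condition, independently of the chosen fibre product. -/
theorem setOf_fibre_dim {F G : Sp S} {f : F ⟶ G} (Q : WithBot ℕ∞ → Prop) (y : Points G) {c : Prop}
    (hc : ∀ (k : FieldPt G), Points.mk k = y → ∀ (Xk : Sp S) (fst : Xk ⟶ F) (snd : Xk ⟶ (yon S).obj k.pt),
      IsPullback fst snd f k.toHom → (Q (AlgSp.dim Xk) ↔ c)) :
    (∀ (k : FieldPt G), Points.mk k = y → ∀ (Xk : Sp S) (fst : Xk ⟶ F) (snd : Xk ⟶ (yon S).obj k.pt),
      IsPullback fst snd f k.toHom → Q (AlgSp.dim Xk)) ↔ c := by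
  refine ⟨fun H => ?_, fun hcc k hk Xk fst snd sq => (hc k hk Xk fst snd sq).2 hcc⟩
  induction y using Points.ind with
  | h k => exact (hc k rfl _ _ _ (IsPullback.of_hasPullback f k.toHom)).1 (H k rfl _ _ _ (IsPullback.of_hasPullback f k.toHom))

theorem withBot_eq_cases (d : WithBot ℕ∞) : d = ⊥ ∨ d = ⊤ ∨ ∃ n : ℕ, d = n := by
  induction d with
  | bot => exact Or.inl rfl
  | coe a =>
    induction a using ENat.recTopCoe with
    | top => exact Or.inr (Or.inl rfl)
    | coe n => exact Or.inr (Or.inr ⟨n, rfl⟩)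

theorem isClosedMap_of_proper (hG : IsAlgSpace G) (hf : IsProperMor f) : IsClosedMap (Points.map f) :=
  hf.2.2 hG (𝟙 G) (𝟙 F) f (IsPullback.of_horiz_isIso ⟨by simp⟩)

theorem dim_fibre_lt_iff (hF : IsAlgSpace F) (hG : IsAlgSpace G) (hf : IsFiniteTypeMor f) {k : FieldPt G}
    {Xk : Sp S} {fst : Xk ⟶ F} {snd : Xk ⟶ (yon S).obj k.pt} (h : IsPullback fst snd f k.toHom)
    {d : WithBot ℕ∞} (hd : d ≠ ⊥) :
    AlgSp.dim Xk < d ↔ ∀ x : Points F, Points.map f x = Points.mk k →
      HasAtMor (fun _ _ h u => FlatMor.fibreDimAt h u < d) f x := by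
  constructor
  · intro hlt x hx
    obtain ⟨U, V, a, b, m, u, ha, hb, e, hu, hq⟩ := (dim_fibre_le_iff hF hG hf.1 h _).1 le_rfl x hx
    exact ⟨U, V, a, b, m, u, ha, hb, e, hu, lt_of_le_of_lt hq hlt⟩
  · intro H
    by_cases hne : ∃ x, Points.map f x = Points.mk k
    · obtain ⟨x, n, hx, hn, U, V, a, b, m, u, ha, hb, e, hu, hq⟩ := dim_fibre_eq_of_point hF hG hf.1 h hf.2 hne
      have h1 := H x hx
      rw [← hu, hasAtMor_iff (Q := fun _ _ h u => FlatMor.fibreDimAt h u < d)
        (etInv_fibreDim fun t => t < d) ha hb e] at h1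
      rw [hn]
      exact hq.symm.le.trans_lt h1
    · exact lt_of_le_of_lt ((dim_fibre_le_iff hF hG hf.1 h ⊥).2 fun x hx => absurd ⟨x, hx⟩ hne)
        (bot_lt_iff_ne_bot.2 hd)

theorem isOpen_hasAtMor_fibreDim_lt (hF : IsAlgSpace F) (hG : IsAlgSpace G)
    (hf : LocP @LocallyOfFiniteType f) (d : WithBot ℕ∞) :
    IsOpen {x : Points F | HasAtMor (fun _ _ h u => FlatMor.fibreDimAt h u < d) f x} := by
  obtain ⟨U, V, a, b, m, ha, has, hb, -, e⟩ := exists_chart hF hG f
  haveI : LocallyOfFiniteType m.left := hf a b m ha hb e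
  rw [setOf_hasAtMor_eq_image (etInv_fibreDim fun t => t < d) ha has hb e]
  refine isOpenMap_ofPt ha _ (isOpen_iff_forall_mem_open.2 fun u hu => ?_)
  exact ⟨{z | FlatMor.fibreDimAt m.left z ≤ FlatMor.fibreDimAt m.left u},
    fun z hz => lt_of_le_of_lt (α := WithBot ℕ∞) hz hu, FibDimLib.isOpen_fibreDimAt_le m.left _,
    le_refl (FlatMor.fibreDimAt m.left u)⟩

theorem isOpen_setOf_dim_fibre_lt (hF : IsAlgSpace F) (hG : IsAlgSpace G) (hf : IsProperMor f)
    (d : WithBot ℕ∞) :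
    IsOpen {y : Points G | ∀ (k : FieldPt G), Points.mk k = y → ∀ (Xk : Sp S) (fst : Xk ⟶ F)
      (snd : Xk ⟶ (yon S).obj k.pt), IsPullback fst snd f k.toHom → AlgSp.dim Xk < d} := by
  by_cases hd : d = ⊥
  · subst hd
    convert isOpen_empty using 1
    ext y
    refine iff_of_false (fun H => ?_) (Set.notMem_empty y)
    induction y using Points.ind with
    | h k => exact not_lt_bot (H k rfl _ _ _ (IsPullback.of_hasPullback f k.toHom))
  · convert ((isClosedMap_of_proper hG hf) _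
      (isOpen_hasAtMor_fibreDim_lt hF hG hf.2.1.1 d).isClosed_compl).isOpen_compl using 1
    ext y
    refine (setOf_fibre_dim (fun t => t < d) y fun k hk Xk fst snd sq => ?_)
    subst hk
    rw [dim_fibre_lt_iff hF hG hf.2.1 sq hd]
    simp only [Set.mem_compl_iff, Set.mem_image, Set.mem_setOf_eq, not_exists, not_and]
    exact ⟨fun H x hx hxy => hx (H x hxy), fun H x hxy => by_contra fun hx => H x hx hxy⟩

theorem isOpen_setOf_lt_dim_fibre (hF : IsAlgSpace F) (hG : IsAlgSpace G) (hf1 : LocP @Flat f)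
    (hf2 : IsFinitePresentationMor f) (d : WithBot ℕ∞) :
    IsOpen {y : Points G | ∀ (k : FieldPt G), Points.mk k = y → ∀ (Xk : Sp S) (fst : Xk ⟶ F)
      (snd : Xk ⟶ (yon S).obj k.pt), IsPullback fst snd f k.toHom → d < AlgSp.dim Xk} := by
  have hlft : LocP @LocallyOfFiniteType f :=
    locP_mono (fun _ _ g (_ : LocallyOfFinitePresentation g) => (inferInstance : LocallyOfFiniteType g)) hf2.1
  have hset : ∀ y : Points G, (∀ (k : FieldPt G), Points.mk k = y → ∀ (Xk : Sp S) (fst : Xk ⟶ F)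
      (snd : Xk ⟶ (yon S).obj k.pt), IsPullback fst snd f k.toHom → d < AlgSp.dim Xk) ↔
      ∃ x, Points.map f x = y ∧ HasAtMor (fun _ _ h u => d < FlatMor.fibreDimAt h u) f x := by
    intro y
    refine setOf_fibre_dim (fun t => d < t) y fun k hk Xk fst snd sq => ?_
    subst hk
    exact lt_dim_fibre_iff hF hG hlft sq d
  simp only [hset]
  obtain ⟨V, b, hb, hbs⟩ := hG.atlas
  rw [← (isQuotientMap_ofPt hb hbs).isOpen_preimage]
  refine isOpen_iff_forall_mem_open.2 fun v hv => ?_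
  obtain ⟨O, hO, hvO, -⟩ := exists_isAffineOpen_mem_and_subset (U := ⊤) (x := v) trivial
  let W : Over S := Over.mk (O.ι ≫ V.hom)
  let j : W ⟶ V := Over.homMk O.ι rfl
  haveI : IsAffine W.left := hO
  let sq := IsPullback.of_hasPullback f ((yon S).map j ≫ b)
  have hW : IsAlgSpace ((yon S).obj W) := IsAlgSpace.yon_obj W
  have hP := isAlgSpace_pullback hF hW hG f ((yon S).map j ≫ b)
  obtain ⟨U, a, hU, ha, has⟩ := exists_affine_chart (hf2.2.1 hW (isQuasiCompactSp_yon W) _ _ _ sq)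
  haveI := hU
  obtain ⟨m, hm⟩ := (yon S).map_surjective (a ≫ pullback.snd f ((yon S).map j ≫ b))
  have e : a ≫ pullback.snd f ((yon S).map j ≫ b) = (yon S).map m ≫ 𝟙 _ := by rw [hm, Category.comp_id]
  haveI : LocallyOfFinitePresentation m.left :=
    locP_of_isPullback hF hG hW sq hf2.1 a (𝟙 _) m ha (AlgSp.repWith_id _ _) e
  haveI : Flat m.left := locP_of_isPullback hF hG hW sq hf1 a (𝟙 _) m ha (AlgSp.repWith_id _ _) e
  haveI : UniversallyOpen m.left := inferInstance
  let A : Set W.left := {s | d < topologicalKrullDim (m.left.fiber s)}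
  have hA : IsOpen A :=
    FibDimLib.isOpen_lt_fiber_dim m.left (fun x => UOpenLib.isUnivOpenAt_of_universallyOpen' m.left x) d
  have key : ∀ w : W.left, w ∈ A ↔
      ∃ x, Points.map f x = Points.ofPt ((yon S).map j ≫ b) w ∧
        HasAtMor (fun _ _ h u => d < FlatMor.fibreDimAt h u) f x := by
    intro w
    have hw : w ∈ A ↔ ∃ z, m.left.base z = w ∧ d < FlatMor.fibreDimAt m.left z := by
      show d < _ ↔ _
      rw [← not_le, FibDimLib.topologicalKrullDim_fiber_le_iff]
      simp only [not_forall, not_le, exists_prop]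
    rw [hw]
    constructor
    · rintro ⟨z, rfl, hz⟩
      refine ⟨Points.map (pullback.fst f ((yon S).map j ≫ b)) (Points.ofPt a z), ?_, ?_⟩
      · rw [Points.map_ofPt, Points.map_ofPt, Category.assoc, pullback.condition, ← Category.assoc, ← hm,
          ofPt_yon_comp m]
      · exact (hasAtMor_fibreDim_baseChange hF hG hW sq hlft (fun t => d < t) _).1
          ⟨U, _, a, 𝟙 _, m, z, ha, AlgSp.repWith_id _ _, e, rfl, hz⟩
    · rintro ⟨x, hxy, hx⟩
      obtain ⟨p, hp, hpw⟩ := exists_point_isPullback sq x (Points.ofPt (𝟙 _) w)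
        (by rw [hxy, Points.map_ofPt, Category.id_comp])
      obtain ⟨z, rfl⟩ := surjective_ofPt has p
      refine ⟨z, ?_, ?_⟩
      · rw [map_ofPt_chart e, Points.ofPt_eq_map_ofScheme, Points.ofPt_eq_map_ofScheme, Points.map_id,
          Points.map_id] at hpw
        exact (Points.schemeHomeo W).injective hpw
      · rw [← hp, ← hasAtMor_fibreDim_baseChange hF hG hW sq hlft (fun t => d < t)] at hx
        exact (hasAtMor_iff (Q := fun _ _ h u => d < FlatMor.fibreDimAt h u)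
          (etInv_fibreDim fun t => d < t) ha (AlgSp.repWith_id _ _) e z).1 hx
  refine ⟨O.ι.base '' A, ?_, O.ι.isOpenEmbedding.isOpenMap _ hA, ⟨v, hvO⟩, ?_, rfl⟩
  · rintro _ ⟨w, hw, rfl⟩
    obtain ⟨x, hx, hx'⟩ := (key w).1 hw
    exact ⟨x, hx.trans (ofPt_yon_comp j b w), hx'⟩
  · refine (key _).2 ?_
    obtain ⟨x, hx, hx'⟩ := hv
    exact ⟨x, hx.trans (ofPt_yon_comp j b (⟨v, hvO⟩ : W.left)).symm, hx'⟩

theorem isOpen_setOf_dim_fibre_eq (hF : IsAlgSpace F) (hG : IsAlgSpace G) (hf : IsProperMor f)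
    (hf2 : LocP @Flat f) (hf3 : IsFinitePresentationMor f) (d : WithBot ℕ∞) :
    IsOpen {y : Points G | ∀ (k : FieldPt G), Points.mk k = y → ∀ (Xk : Sp S) (fst : Xk ⟶ F)
      (snd : Xk ⟶ (yon S).obj k.pt), IsPullback fst snd f k.toHom → AlgSp.dim Xk = d} := by
  rcases withBot_eq_cases d with rfl | rfl | ⟨n, rfl⟩
  · convert isOpen_setOf_dim_fibre_lt hF hG hf ((0 : ℕ) : WithBot ℕ∞) using 1
    ext y
    refine forall₂_congr fun k hk => forall₄_congr fun Xk fst snd sq => ?_
    by_cases hne : ∃ x, Points.map f x = Points.mk k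
    · obtain ⟨x, m, -, hm, -⟩ := dim_fibre_eq_of_point hF hG hf.2.1.1 sq hf.2.1.2 hne
      rw [hm]
      exact iff_of_false (WithBot.coe_ne_bot) (by norm_cast; omega)
    · have h0 : AlgSp.dim Xk = ⊥ :=
        le_bot_iff.1 ((dim_fibre_le_iff hF hG hf.2.1.1 sq ⊥).2 fun x hx => absurd ⟨x, hx⟩ hne)
      simp [h0]
  · convert isOpen_empty using 1
    ext y
    refine iff_of_false (fun H => ?_) (Set.notMem_empty y)
    induction y using Points.ind with
    | h k =>
      have sq := IsPullback.of_hasPullback f k.toHom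
      have htop := H k rfl _ _ _ sq
      by_cases hne : ∃ x, Points.map f x = Points.mk k
      · obtain ⟨x, m, -, hm, -⟩ := dim_fibre_eq_of_point hF hG hf.2.1.1 sq hf.2.1.2 hne
        rw [hm] at htop
        exact ENat.natCast_ne_top m (WithBot.coe_injective htop)
      · have h0 : AlgSp.dim (pullback f k.toHom) = ⊥ :=
          le_bot_iff.1 ((dim_fibre_le_iff hF hG hf.2.1.1 sq ⊥).2 fun x hx => absurd ⟨x, hx⟩ hne)
        rw [h0] at htop
        exact bot_ne_top htop
  · convert (isOpen_setOf_dim_fibre_lt hF hG hf ((n + 1 : ℕ) : WithBot ℕ∞)).inter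
      (isOpen_setOf_lt_dim_fibre hF hG hf2 hf3 (if n = 0 then ⊥ else ((n - 1 : ℕ) : WithBot ℕ∞))) using 1
    ext y
    simp only [Set.mem_inter_iff, Set.mem_setOf_eq]
    have key : ∀ t : WithBot ℕ∞, t = n ↔ t < ((n + 1 : ℕ) : WithBot ℕ∞) ∧
        (if n = 0 then ⊥ else ((n - 1 : ℕ) : WithBot ℕ∞)) < t := by
      intro t
      rcases withBot_eq_cases t with rfl | rfl | ⟨m, rfl⟩
      · exact iff_of_false WithBot.coe_ne_bot.symm (fun h => not_lt_bot h.2)
      · exact iff_of_false (fun h => ENat.natCast_ne_top n (WithBot.coe_injective h).symm)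
          (fun h => not_top_lt h.1)
      · rcases Nat.eq_zero_or_pos n with rfl | hn
        · simp only [if_true]
          norm_cast
          exact ⟨fun h => ⟨by omega, WithBot.bot_lt_coe _⟩, fun h => by omega⟩
        · rw [if_neg (by omega)]
          norm_cast
          omega
    constructor
    · intro H
      exact ⟨fun k hk Xk fst snd sq => ((key _).1 (H k hk Xk fst snd sq)).1,
        fun k hk Xk fst snd sq => ((key _).1 (H k hk Xk fst snd sq)).2⟩
    · intro H k hk Xk fst snd sq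
      exact (key _).2 ⟨H.1 k hk Xk fst snd sq, H.2 k hk Xk fst snd sq⟩

end AlgSpLib
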