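import Groth.Agent.AlgSpLib.FibreCond
import Groth.Agent.CommAlgDim.Regular
import Groth.Agent.AlgSpLib.DecentTop

/-!
# Points of codimension zero and quasi-finiteness
-/

set_option autoImplicit false
universe u

open CategoryTheory CategoryTheory.Limits AlgebraicGeometry Topology
open AlgSp

namespace AlgSpLib

variable {S : Scheme.{u}}

theorem eq_of_specializes_of_stalkDim_zero {U : Scheme.{u}} {z z' : U}
    (h : ringKrullDim (U.presheaf.stalk z) ≤ 0) (hs : z' ⤳ z) : z' = z := by
  have h1 : z' ∈ Set.range (U.fromSpecStalk z).base := by rw [Scheme.range_fromSpecStalk]; exact hs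
  obtain ⟨p, hp⟩ := h1
  haveI : Ring.KrullDimLE 0 (U.presheaf.stalk z) := Ring.krullDimLE_iff.2 (by exact_mod_cast h)
  haveI : Subsingleton (PrimeSpectrum (U.presheaf.stalk z)) :=
    ⟨fun p q => PrimeSpectrum.ext ((IsLocalRing.eq_maximalIdeal (Ideal.IsPrime.isMaximal' (I := p.asIdeal) p.2)).trans
      (IsLocalRing.eq_maximalIdeal (Ideal.IsPrime.isMaximal' (I := q.asIdeal) q.2)).symm)⟩
  rw [← hp, Subsingleton.elim (α := PrimeSpectrum (U.presheaf.stalk z)) p (IsLocalRing.closedPoint _)]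
  exact U.fromSpecStalk_closedPoint

theorem exists_maximal_generization {U : Scheme.{u}} (z : U) :
    ∃ ξ : U, ξ ⤳ z ∧ ∀ w, w ⤳ ξ → w = ξ := by
  obtain ⟨p, hp, -⟩ := Ideal.exists_minimalPrimes_le
    (show (⊥ : Ideal (U.presheaf.stalk z)) ≤ IsLocalRing.maximalIdeal _ from bot_le)
  let P : PrimeSpectrum (U.presheaf.stalk z) := ⟨p, hp.1.1⟩
  have hPz : (U.fromSpecStalk z).base P ⤳ z := by
    have h1 : (U.fromSpecStalk z).base P ∈ Set.range (U.fromSpecStalk z).base := ⟨P, rfl⟩
    rwa [Scheme.range_fromSpecStalk] at h1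
  refine ⟨_, hPz, fun w hw => ?_⟩
  obtain ⟨Q, rfl⟩ : w ∈ Set.range (U.fromSpecStalk z).base := by
    rw [Scheme.range_fromSpecStalk]; exact hw.trans hPz
  have hQ : Q.asIdeal ≤ P.asIdeal :=
    (PrimeSpectrum.le_iff_specializes Q P).2 ((U.fromSpecStalk z).isEmbedding.isInducing.specializes_iff.1 hw)
  rw [show Q = P from PrimeSpectrum.ext (le_antisymm hQ (hp.2 ⟨Q.2, bot_le⟩ hQ))]

theorem resTrdeg_eq_zero_of_fibreDim_zero {X Y : Scheme.{u}} (m : X ⟶ Y) [LocallyOfFiniteType m] (z : X)
    (h : FlatMor.fibreDimAt m z = 0) : Dual3.resTrdeg m z = 0 := by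
  have h1 : UOpenLib.fibreClosureDim m z ≤ 0 := by
    rw [← h]
    show _ ≤ FlatMor.localDim (m.fiber (m.base z)) (m.asFiber z)
    rw [@FibDimLib.localDim_eq_closure_add_stalk _ _ _ (m.fiberToSpecResidueField (m.base z))
      (UOpenLib.lft_fiberToSpec m _) (m.asFiber z)]
    exact le_add_of_nonneg_right ringKrullDim_nonneg_of_nontrivial
  rw [fibreClosureDim_eq_resTrdeg] at h1
  exact Cardinal.toENat_eq_zero.1 (le_antisymm (WithBot.coe_le_coe.1 h1) zero_le)

theorem fibreClosureDim_le_zero_of_resTrdeg {X Y : Scheme.{u}} (m : X ⟶ Y) [LocallyOfFiniteType m] (z : X)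
    (h : Dual3.resTrdeg m z = 0) : UOpenLib.fibreClosureDim m z ≤ 0 := by
  rw [fibreClosureDim_eq_resTrdeg, h, map_zero]
  rfl

theorem fibreClosureDim_le_zero_of_closed {X Y : Scheme.{u}} (m : X ⟶ Y) [LocallyOfFiniteType m] (z : X)
    (h : ∀ w, m.base w = m.base z → z ⤳ w → w = z) : UOpenLib.fibreClosureDim m z ≤ 0 := by
  rw [UOpenLib.fibreClosureDim_eq_inter]
  have : Subsingleton ↥(closure ({z} : Set X) ∩ m.base ⁻¹' {m.base z}) :=
    ⟨fun p q => Subtype.ext ((h p.1 p.2.2 (specializes_iff_mem_closure.2 p.2.1)).trans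
      (h q.1 q.2.2 (specializes_iff_mem_closure.2 q.2.1)).symm)⟩
  exact topologicalKrullDim_le_zero_of_subsingleton

/-- In a chart, quasi-finiteness at a point whose fibre has no proper generisations there. -/
theorem fibreDimAt_zero_of_stalk_zero {X Y : Scheme.{u}} (m : X ⟶ Y) [LocallyOfFiniteType m] (z : X)
    (h : ringKrullDim (X.presheaf.stalk z) ≤ 0) (hr : Dual3.resTrdeg m z = 0) : FlatMor.fibreDimAt m z = 0 :=
  fibreDimAt_eq_zero_of_closed_generic m z (fun _ _ hs => eq_of_specializes_of_stalkDim_zero h hs)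
    (fibreClosureDim_le_zero_of_resTrdeg m z hr)

theorem stalkDim_zero_of_fibreDim_zero {X Y : Scheme.{u}} (m : X ⟶ Y) [LocallyOfFiniteType m] (z : X)
    (hv : ringKrullDim (Y.presheaf.stalk (m.base z)) ≤ 0) (h : FlatMor.fibreDimAt m z = 0) :
    ringKrullDim (X.presheaf.stalk z) = 0 := by
  refine stalkDim_eq_zero_of_maximal z fun w hw => ?_
  have hwv : m.base w = m.base z := eq_of_specializes_of_stalkDim_zero hv (hw.map m.continuous)
  have ho := (fibreDimAt_eq_zero_iff m z).1 h
  obtain ⟨w', rfl⟩ : w ∈ Set.range (m.fiberι (m.base z)).base := by rw [m.range_fiberι]; exact hwv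
  have hs : w' ⤳ m.asFiber z := by
    refine (m.fiberι _).isEmbedding.isInducing.specializes_iff.1 ?_
    rw [m.fiberι_asFiber]; exact hw
  have : w' = m.asFiber z := hs.mem_open ho rfl
  rw [this, m.fiberι_asFiber]

/-- Over a point of codimension zero: the first comparison. -/
theorem codimZero_iff_qf {F G : Sp S} (hF : IsAlgSpace F) (hG : IsAlgSpace G) {f : F ⟶ G}
    (hf : LocP @LocallyOfFiniteType f) (y : Points G)
    (hy : HasAt (fun U u => ringKrullDim ↥(U.presheaf.stalk u) = 0) G y) :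
    ((∀ x : Points F, Points.map f x = y → HasAt (fun U u => ringKrullDim ↥(U.presheaf.stalk u) = 0) F x) ↔
      (∀ x : Points F, Points.map f x = y → HasAtMor (fun _ _ h u => FlatMor.fibreDimAt h u = 0) f x)) ∧
    ((∀ x : Points F, Points.map f x = y → HasAt (fun U u => ringKrullDim ↥(U.presheaf.stalk u) = 0) F x →
        HasAtMor (fun _ _ h u => FlatMor.fibreDimAt h u = 0) f x) →
      ∀ x : Points F, Points.map f x = y → HasAt (fun U u => ringKrullDim ↥(U.presheaf.stalk u) = 0) F x) := by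
  obtain ⟨U, V, a, b, h, ha, has, hb, -, e⟩ := exists_chart hF hG f
  haveI : LocallyOfFiniteType h.left := hf a b h ha hb e
  have hv : ∀ z : U.left, Points.map f (Points.ofPt a z) = y →
      ringKrullDim (V.left.presheaf.stalk (h.left.base z)) ≤ 0 := fun z hz => by
    rw [map_ofPt_chart e] at hz
    rw [← hz, hasAt_iff (etInv_stalkDim fun t => t = 0) hb] at hy
    exact hy.le
  have hmapeq : ∀ z w : U.left, Points.map f (Points.ofPt a z) = y → h.left.base w = h.left.base z →
      Points.map f (Points.ofPt a w) = y := fun z w hz he => by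
    rw [map_ofPt_chart e, he, ← map_ofPt_chart e, hz]
  constructor
  · constructor
    · intro H x hx
      obtain ⟨z, rfl⟩ := surjective_ofPt has x
      have hzero : ∀ w, h.left.base w = h.left.base z → ringKrullDim (U.left.presheaf.stalk w) ≤ 0 := fun w hw =>
        ((hasAt_iff (etInv_stalkDim fun t => t = 0) ha w).1 (H _ (hmapeq z w hx hw))).le
      refine (hasAtMor_iff (etInv_fibreDim fun t => t = 0) ha hb e z).2 ?_
      exact fibreDimAt_eq_zero_of_closed_generic h.left z
        (fun w _ hs => eq_of_specializes_of_stalkDim_zero (hzero z rfl) hs)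
        (fibreClosureDim_le_zero_of_closed h.left z fun w hw hs =>
          (eq_of_specializes_of_stalkDim_zero (hzero w hw) hs).symm)
    · intro H x hx
      obtain ⟨z, rfl⟩ := surjective_ofPt has x
      exact ⟨U, a, z, ha, rfl, stalkDim_zero_of_fibreDim_zero h.left z (hv z hx)
        ((hasAtMor_iff (etInv_fibreDim fun t => t = 0) ha hb e z).1 (H _ hx))⟩
  · intro H x hx
    obtain ⟨z, rfl⟩ := surjective_ofPt has x
    obtain ⟨ξ, hξ, hmax⟩ := exists_maximal_generization z
    have hξv : h.left.base ξ = h.left.base z :=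
      eq_of_specializes_of_stalkDim_zero (hv z hx) (hξ.map h.left.continuous)
    have h0 := (hasAtMor_iff (etInv_fibreDim fun t => t = 0) ha hb e ξ).1
      (H _ (hmapeq z ξ hx hξv) ⟨U, a, ξ, ha, rfl, stalkDim_eq_zero_of_maximal ξ hmax⟩)
    haveI : LocallyOfFiniteType (h.left.fiberToSpecResidueField (h.left.base ξ)) := UOpenLib.lft_fiberToSpec h.left _
    haveI : JacobsonSpace (h.left.fiber (h.left.base ξ)) :=
      LocallyOfFiniteType.jacobsonSpace (h.left.fiberToSpecResidueField _)
    have hcl : IsClosed ({h.left.asFiber ξ} : Set _) :=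
      isClosed_singleton_of_isLocallyClosed_singleton ((fibreDimAt_eq_zero_iff h.left ξ).1 h0).isLocallyClosed
    obtain ⟨z', hz'⟩ : z ∈ Set.range (h.left.fiberι (h.left.base ξ)).base := by
      rw [h.left.range_fiberι]; exact hξv.symm
    have hs : h.left.asFiber ξ ⤳ z' := by
      refine (h.left.fiberι _).isEmbedding.isInducing.specializes_iff.1 ?_
      rw [h.left.fiberι_asFiber, hz']; exact hξ
    have : z' = h.left.asFiber ξ := hs.mem_closed hcl rfl
    rw [this, h.left.fiberι_asFiber] at hz'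
    exact ⟨U, a, z, ha, rfl, by subst hz'; exact stalkDim_eq_zero_of_maximal ξ hmax⟩

/-- Over a point of codimension at most one of a Noetherian space. -/
theorem qf_over_codim_le_one {F G : Sp S} (hF : IsAlgSpace F) (hG : IsAlgSpace G) {f : F ⟶ G}
    (hf : LocP @LocallyOfFiniteType f) (hN : IsLocNoethSp G) (y : Points G)
    (hy : HasAt (fun U u => ringKrullDim ↥(U.presheaf.stalk u) ≤ 1) G y)
    (h : ∀ x : Points F, HasAt (fun U u => ringKrullDim ↥(U.presheaf.stalk u) = 0) F x → Points.map f x ⤳ y →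
      HasAtMor (fun _ _ h u => Dual3.resTrdeg h u = 0) f x)
    (x : Points F) (hx : Points.map f x = y) :
    HasAtMor (fun _ _ h u => FlatMor.fibreDimAt h u = 0) f x := by
  obtain ⟨U, V, a, b, m, z, ha, hb, e, rfl⟩ := exists_chart_at hF hG f x
  haveI := isLocallyNoetherian_of_chart hN hb
  haveI : LocallyOfFiniteType m.left := hf a b m ha hb e
  haveI : IsLocallyNoetherian U.left := LocallyOfFiniteType.isLocallyNoetherian m.left
  rw [← hx, map_ofPt_chart e, hasAt_iff (Q := fun U u => ringKrullDim ↥(U.presheaf.stalk u) ≤ 1)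
    (etInv_stalkDim fun t => t ≤ 1) hb] at hy
  have hgen : ∀ ξ, ξ ⤳ z → ringKrullDim (U.left.presheaf.stalk ξ) = 0 → Dual3.resTrdeg m.left ξ = 0 := by
    intro ξ hξ h0
    refine (hasAtMor_iff (etInv_resTrdeg fun t => t = 0) ha hb e ξ).1 (h _ ⟨U, a, ξ, ha, rfl, h0⟩ ?_)
    rw [← hx]
    exact (hξ.map (Points.continuous_ofPt a)).map (Points.continuous_map f)
  obtain ⟨ξ, hmax, hξz, hle⟩ := DimIneqLib.stalk_le m.left z
  have hξ0 := stalkDim_eq_zero_of_maximal ξ hmax
  rw [show (DimIneqLib.trH (m.left.residueFieldMap ξ).hom : WithBot ℕ∞) = 0 from by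
    show ((Cardinal.toENat (Dual3.resTrdeg m.left ξ) : ℕ∞) : WithBot ℕ∞) = 0
    rw [hgen ξ hξz hξ0, map_zero]; rfl, add_zero] at hle
  have hsum := hle.trans hy
  refine (hasAtMor_iff (etInv_fibreDim fun t => t = 0) ha hb e z).2 ?_
  by_cases hz0 : ringKrullDim (U.left.presheaf.stalk z) ≤ 0
  · exact fibreDimAt_zero_of_stalk_zero m.left z hz0
      (hgen z specializes_rfl (le_antisymm hz0 ringKrullDim_nonneg_of_nontrivial))
  have hz1 : (1 : WithBot ℕ∞) ≤ ringKrullDim (U.left.presheaf.stalk z) := by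
    obtain ⟨n, hn⟩ := CommAlgDim.exists_ringKrullDim_eq (R := U.left.presheaf.stalk z)
    rw [hn] at hz0 ⊢
    norm_cast at hz0 ⊢
    omega
  have hr : Dual3.resTrdeg m.left z = 0 := by
    refine Cardinal.toENat_eq_zero.1 (le_antisymm ?_ zero_le)
    by_contra hne
    rw [not_le] at hne
    have h2 : (1 : WithBot ℕ∞) + 1 ≤ 1 := le_trans (add_le_add hz1
      (WithBot.coe_le_coe.2 (ENat.one_le_iff_ne_zero.2 hne.ne') : (1 : WithBot ℕ∞) ≤ _)) hsum
    norm_cast at h2
  refine fibreDimAt_eq_zero_of_closed_generic m.left z (fun w hwv hws => ?_)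
    (fibreClosureDim_le_zero_of_resTrdeg m.left z hr)
  by_contra hne
  -- a proper generisation has codimension zero, hence is closed in its fibre
  have hw0 : ringKrullDim (U.left.presheaf.stalk w) ≤ 0 := by
    by_contra hw1
    obtain ⟨η, hη, hηmax⟩ := exists_maximal_generization w
    have hηw : η ≠ w := fun he => hw1 (he ▸ (stalkDim_eq_zero_of_maximal η hηmax).le)
    have h2 : ((2 : ℕ) : WithBot ℕ∞) ≤ ringKrullDim (U.left.presheaf.stalk z) :=
      DimIneqLib.le_stalk_dim_of_chain z 2 ![η, w, z] (fun i j hij => by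
        fin_cases i <;> fin_cases j <;> simp at hij ⊢
        · exact ⟨hη, hηw⟩
        · exact ⟨hη.trans hws, fun he => hηw ((hη.antisymm (he ▸ hws)).eq)⟩
        · exact ⟨hws, hne⟩) (fun i => by
        fin_cases i
        · exact hη.trans hws
        · exact hws
        · exact specializes_rfl)
    have h3 := h2.trans ((le_add_of_nonneg_right (WithBot.coe_le_coe.2 zero_le)).trans hsum)
    norm_cast at h3
  have h4 := fibreDimAt_zero_of_stalk_zero m.left w hw0
    (hgen w hws (le_antisymm hw0 ringKrullDim_nonneg_of_nontrivial))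
  haveI : LocallyOfFiniteType (m.left.fiberToSpecResidueField (m.left.base w)) := UOpenLib.lft_fiberToSpec m.left _
  haveI : JacobsonSpace (m.left.fiber (m.left.base w)) :=
    LocallyOfFiniteType.jacobsonSpace (m.left.fiberToSpecResidueField _)
  have hcl : IsClosed ({m.left.asFiber w} : Set _) :=
    isClosed_singleton_of_isLocallyClosed_singleton ((fibreDimAt_eq_zero_iff m.left w).1 h4).isLocallyClosed
  obtain ⟨z', hz'⟩ : z ∈ Set.range (m.left.fiberι (m.left.base w)).base := by
    rw [m.left.range_fiberι]; exact hwv.symm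
  have hs : m.left.asFiber w ⤳ z' := by
    refine (m.left.fiberι _).isEmbedding.isInducing.specializes_iff.1 ?_
    rw [m.left.fiberι_asFiber, hz']; exact hws
  have : z' = m.left.asFiber w := hs.mem_closed hcl rfl
  rw [this, m.left.fiberι_asFiber] at hz'
  exact hne hz'

theorem codimZero_of_generic {F : Sp S} (hF : IsAlgSpace F) (hd : IsDecent F) {x : Points F}
    (hx : IsGenericPoint x (Set.univ : Set (Points F))) :
    HasAt (fun U u => ringKrullDim ↥(U.presheaf.stalk u) = 0) F x := by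
  haveI : T0Space (Points F) := t0Space_points hF hd
  obtain ⟨U, a, ha, has⟩ := hF.atlas
  obtain ⟨u, rfl⟩ := surjective_ofPt has x
  obtain ⟨ξ, hξ, hmax⟩ := exists_maximal_generization u
  exact ⟨U, a, ξ, ha, ((hξ.map (Points.continuous_ofPt a)).antisymm (hx.specializes trivial)).eq,
    stalkDim_eq_zero_of_maximal ξ hmax⟩

theorem eq_generic_of_codimZero {F : Sp S} (hd : IsDecent F) {x : Points F}
    (hx : IsGenericPoint x (Set.univ : Set (Points F))) {z : Points F}
    (hz : HasAt (fun U u => ringKrullDim ↥(U.presheaf.stalk u) = 0) F z) : z = x := by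
  obtain ⟨U, a, u, ha, rfl, h0⟩ := hz
  obtain ⟨p, hp, -, hq⟩ := hd x
  obtain ⟨u', hs, hu'⟩ := exists_generalization_lift (hx.specializes (trivial : Points.ofPt a u ∈ Set.univ))
    ⟨p, hp, hq⟩ ha rfl
  rw [← hu', eq_of_specializes_of_stalkDim_zero h0.le hs]

theorem generic_map_eq {F G : Sp S} (hG : IsAlgSpace G) (hd : IsDecent G) {f : F ⟶ G} (hdom : IsDominantMor f)
    {x : Points F} (hx : IsGenericPoint x (Set.univ : Set (Points F))) {y : Points G}
    (hy : IsGenericPoint y (Set.univ : Set (Points G))) : Points.map f x = y := by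
  haveI : T0Space (Points G) := t0Space_points hG hd
  refine (Specializes.antisymm ?_ (hy.specializes trivial)).eq
  rw [specializes_iff_mem_closure]
  have hsub : Set.range (Points.map f) ⊆ closure {Points.map f x} := by
    rintro _ ⟨z, rfl⟩
    exact specializes_iff_mem_closure.1 ((hx.specializes (trivial : z ∈ Set.univ)).map (Points.continuous_map f))
  have h : closure (Set.range (Points.map f)) = Set.univ := hdom.closure_range
  exact closure_minimal hsub isClosed_closure (h.symm ▸ Set.mem_univ y)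

theorem maximal_mem_of_dense {U : Scheme.{u}} [IsLocallyNoetherian U] {W : Set U} (hW : IsOpen W) (hd : Dense W)
    {ξ : U} (hmax : ∀ w, w ⤳ ξ → w = ξ) : ξ ∈ W := by
  obtain ⟨O, hO, hξO, -⟩ := exists_isAffineOpen_mem_and_subset (U := ⊤) (x := ξ) trivial
  haveI : CompactSpace ↥(O : Scheme.{u}) := isCompact_iff_compactSpace.mp hO.isCompact
  haveI : AlgebraicGeometry.IsNoetherian (O : Scheme.{u}) := {}
  haveI : TopologicalSpace.NoetherianSpace ↥(O : Scheme.{u}) := inferInstance
  have hmax' : ∀ w : (O : Scheme.{u}), w ⤳ ⟨ξ, hξO⟩ → w = ⟨ξ, hξO⟩ := fun w hw =>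
    Subtype.ext (hmax _ (hw.map continuous_subtype_val))
  obtain ⟨N, hN, hNne, hNle⟩ := TopologicalSpace.NoetherianSpace.exists_isOpen_nonempty_subset_irreducibleComponent _
    (DimIneqLib.closure_mem_components hmax')
  obtain ⟨n, hn⟩ := hNne
  obtain ⟨w, ⟨n', hn', rfl⟩, hwW⟩ := hd.inter_open_nonempty _ (O.isOpen.isOpenMap_subtype_val N hN) ⟨_, n, hn, rfl⟩
  have hs : (⟨ξ, hξO⟩ : (O : Scheme.{u})) ⤳ n' := specializes_iff_mem_closure.2 (hNle hn')
  exact (hs.map continuous_subtype_val).mem_open hW hwW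

theorem qf_locus_codimZero {F G : Sp S} (hF : IsAlgSpace F) (hG : IsAlgSpace G) {f : F ⟶ G}
    (hf : LocP @LocallyOfFiniteType f) (hN : IsLocNoethSp G)
    (h : Dense {x : Points F | HasAtMor (fun _ _ h u => FlatMor.fibreDimAt h u = 0) f x})
    (x : Points F) (hx : HasAt (fun U u => ringKrullDim ↥(U.presheaf.stalk u) = 0) F x) :
    HasAtMor (fun _ _ h u => FlatMor.fibreDimAt h u = 0) f x := by
  obtain ⟨U, V, a, b, m, ha, has, hb, -, e⟩ := exists_chart hF hG f
  haveI := isLocallyNoetherian_of_chart hN hb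
  haveI : LocallyOfFiniteType m.left := hf a b m ha hb e
  haveI : IsLocallyNoetherian U.left := LocallyOfFiniteType.isLocallyNoetherian m.left
  obtain ⟨u, rfl⟩ := surjective_ofPt has x
  rw [hasAt_iff (etInv_stalkDim fun t => t = 0) ha] at hx
  rw [hasAtMor_iff (etInv_fibreDim fun t => t = 0) ha hb e]
  have hset : Points.ofPt a ⁻¹' {x | HasAtMor (fun _ _ h u => FlatMor.fibreDimAt h u = 0) f x} =
      {z | FlatMor.fibreDimAt m.left z ≤ 0} := by
    ext z
    rw [Set.mem_preimage, Set.mem_setOf_eq, hasAtMor_iff (etInv_fibreDim fun t => t = 0) ha hb e]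
    exact ⟨le_of_eq, fun hz => le_antisymm hz (fibreDimAt_nonneg _ _)⟩
  have hd : Dense {z | FlatMor.fibreDimAt m.left z ≤ 0} := hset ▸ h.preimage (isOpenMap_ofPt ha)
  exact le_antisymm (maximal_mem_of_dense (FibDimLib.isOpen_fibreDimAt_le m.left 0) hd
    fun w hw => eq_of_specializes_of_stalkDim_zero hx.le hw) (fibreDimAt_nonneg _ _)

theorem resTrdeg_zero_of_qf {F G : Sp S} (hF : IsAlgSpace F) (hG : IsAlgSpace G) {f : F ⟶ G}
    (hf : LocP @LocallyOfFiniteType f) {x : Points F}
    (h : HasAtMor (fun _ _ h u => FlatMor.fibreDimAt h u = 0) f x) :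
    HasAtMor (fun _ _ h u => Dual3.resTrdeg h u = 0) f x := by
  obtain ⟨U, V, a, b, m, u, ha, hb, e, hu, hq⟩ := h
  haveI : LocallyOfFiniteType m.left := hf a b m ha hb e
  exact ⟨U, V, a, b, m, u, ha, hb, e, hu, resTrdeg_eq_zero_of_fibreDim_zero m.left u hq⟩

theorem qf_of_codimZero_resTrdeg {F G : Sp S} (hF : IsAlgSpace F) (hG : IsAlgSpace G) {f : F ⟶ G}
    (hf : LocP @LocallyOfFiniteType f) {x : Points F}
    (h0 : HasAt (fun U u => ringKrullDim ↥(U.presheaf.stalk u) = 0) F x)
    (h : HasAtMor (fun _ _ h u => Dual3.resTrdeg h u = 0) f x) :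
    HasAtMor (fun _ _ h u => FlatMor.fibreDimAt h u = 0) f x := by
  obtain ⟨U, V, a, b, m, u, ha, hb, e, rfl, hq⟩ := h
  haveI : LocallyOfFiniteType m.left := hf a b m ha hb e
  rw [hasAt_iff (etInv_stalkDim fun t => t = 0) ha] at h0
  exact ⟨U, V, a, b, m, u, ha, hb, e, rfl, fibreDimAt_zero_of_stalk_zero m.left u h0.le hq⟩

theorem unique_iff_qf {F G : Sp S} (hF : IsAlgSpace F) (hG : IsAlgSpace G) (hdF : IsDecent F) (hdG : IsDecent G)
    {f : F ⟶ G} (hf : LocP @LocallyOfFiniteType f) (hdom : IsDominantMor f)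
    {x : Points F} (hx : IsGenericPoint x (Set.univ : Set (Points F))) {y : Points G}
    (hy : IsGenericPoint y (Set.univ : Set (Points G))) :
    HasAtMor (fun _ _ h u => FlatMor.fibreDimAt h u = 0) f x ↔
      ∀ x' : Points F, Points.map f x' = y → x' = x := by
  obtain ⟨h1, h2⟩ := codimZero_iff_qf hF hG hf y (codimZero_of_generic hG hdG hy)
  refine ⟨fun h x' hx' => eq_generic_of_codimZero hdF hx (h2 (fun z _ hz => ?_) x' hx'), fun h => ?_⟩
  · rw [eq_generic_of_codimZero hdF hx hz]; exact h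
  · refine h1.1 (fun z hz => ?_) x (generic_map_eq hG hdG hdom hx hy)
    rw [h z hz]; exact codimZero_of_generic hF hdF hx

end AlgSpLib
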