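import Groth.Agent.AlgSpLib.PointFactor

/-!
# Elementary etale neighbourhoods in decent spaces

Their distinguished residue fields agree over the space; they dominate each other, and morphisms between them are
etale with trivial residue extensions.
-/

set_option autoImplicit false
set_option linter.style.haveILetI false
set_option backward.isDefEq.respectTransparency false
set_option backward.isDefEq.respectTransparency.types false

universe u

open CategoryTheory CategoryTheory.Limits AlgebraicGeometry Opposite AlgSp Topology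

namespace AlgSpLib

variable {S : Scheme.{u}}

/-- A monomorphism between spectra of fields is an isomorphism. -/
theorem isIso_of_mono_spec_field {K L : Type u} [Field K] [Field L] (f : Spec (CommRingCat.of K) ⟶ Spec (CommRingCat.of L))
    [Mono f] : IsIso f := by
  obtain ⟨φ, rfl⟩ := Spec.map_surjective f
  letI : Algebra L K := φ.hom.toAlgebra
  have heq : CommRingCat.ofHom (algebraMap L K) = φ := rfl
  let iL : CommRingCat.of K ⟶ CommRingCat.of (TensorProduct L K K) :=
    CommRingCat.ofHom Algebra.TensorProduct.includeLeftRingHom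
  let iR : CommRingCat.of K ⟶ CommRingCat.of (TensorProduct L K K) :=
    CommRingCat.ofHom (Algebra.TensorProduct.includeRight : K →ₐ[L] TensorProduct L K K).toRingHom
  have h : iL = iR := by
    refine Spec.map_injective ((cancel_mono (Spec.map φ)).1 ?_)
    rw [← Spec.map_comp, ← Spec.map_comp]
    refine congrArg Spec.map (CommRingCat.hom_ext (RingHom.ext fun l => ?_))
    show (algebraMap L K l) ⊗ₜ[L] (1 : K) = (1 : K) ⊗ₜ[L] algebraMap L K l
    rw [Algebra.algebraMap_eq_smul_one, TensorProduct.smul_tmul]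
  have hsurj : Function.Surjective (algebraMap L K) := fun x => by
    by_contra hx
    have hli : LinearIndependent L ![(1 : K), x] := by
      rw [LinearIndependent.pair_iff' one_ne_zero]
      exact fun c hc => hx ⟨c, by rwa [Algebra.smul_def, mul_one] at hc⟩
    let B := Module.Basis.extend hli.linearIndepOn_id
    have hx1 : x ∈ hli.linearIndepOn_id.extend (Set.subset_univ _) :=
      hli.linearIndepOn_id.subset_extend _ ⟨1, rfl⟩
    have h11 : (1 : K) ∈ hli.linearIndepOn_id.extend (Set.subset_univ _) :=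
      hli.linearIndepOn_id.subset_extend _ ⟨0, rfl⟩
    have key : x ⊗ₜ[L] (1 : K) = (1 : K) ⊗ₜ[L] x :=
      congrArg (fun g : CommRingCat.of K ⟶ CommRingCat.of (TensorProduct L K K) => g.hom x) h
    have h2 := congrArg (fun z => (B.tensorProduct B).repr z (⟨x, hx1⟩, ⟨1, h11⟩)) key
    have hne : (⟨1, h11⟩ : ↥(hli.linearIndepOn_id.extend (Set.subset_univ _))) ≠ ⟨x, hx1⟩ := fun e =>
      hx ⟨1, by rw [map_one]; exact congrArg Subtype.val e⟩
    have e1 : B.repr x = Finsupp.single ⟨x, hx1⟩ 1 := by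
      have h3 := B.repr_self ⟨x, hx1⟩
      rwa [Module.Basis.extend_apply_self] at h3
    have e2 : B.repr (1 : K) = Finsupp.single ⟨1, h11⟩ 1 := by
      have h3 := B.repr_self ⟨1, h11⟩
      rwa [Module.Basis.extend_apply_self] at h3
    simp [Module.Basis.tensorProduct_repr_tmul_apply, e1, e2, Finsupp.single_eq_of_ne, hne, hne.symm] at h2
  haveI : IsIso φ := (ConcreteCategory.isIso_iff_bijective φ).2 ⟨φ.hom.injective, hsurj⟩
  infer_instance

/-- The morphism of a distinguished point. -/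
theorem toHom_elem {X : Sp S} {U : Over S} (a : (yon S).obj U ⟶ X) (u : U.left) :
    (FieldPt.ofPt a u).toHom = (yon S).map (Over.homMk (U.left.fromSpecResidueField u) rfl) ≫ a :=
  FieldPt.toHom_ofPt a u

/-- The distinguished points of two elementary neighbourhoods agree. -/
theorem exists_iso_of_elem {X : Sp S} (hX : IsAlgSpace X) (hd : IsDecent X) {x : Points X} {U₁ U₂ : Over S}
    {a₁ : (yon S).obj U₁ ⟶ X} {a₂ : (yon S).obj U₂ ⟶ X} {u₁ : U₁.left} {u₂ : U₂.left}
    (h₁ : IsElemEtaleNbhd a₁ u₁ x) (h₂ : IsElemEtaleNbhd a₂ u₂ x) :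
    ∃ e : (FieldPt.ofPt a₁ u₁).pt ≅ (FieldPt.ofPt a₂ u₂).pt,
      (yon S).map e.hom ≫ (FieldPt.ofPt a₂ u₂).toHom = (FieldPt.ofPt a₁ u₁).toHom := by
  obtain ⟨p, hp, hm, hq⟩ := hd x
  haveI := hm
  have key : ∀ q : FieldPt X, Mono q.toHom → Points.mk q = x →
      ∃ e : q.pt ≅ p.pt, (yon S).map e.hom ≫ p.toHom = q.toHom := fun q hmq hxq => by
    haveI := hmq
    obtain ⟨g, hg⟩ := exists_factor_point hX (IsAlgSpace.yon_obj q.pt) (f := q.toHom) hp hm hq
      ⟨q.pt, 𝟙 _, repWith_id _ q.pt, repWith_id _ q.pt, inferInstanceAs (IsReduced (Spec (CommRingCat.of q.K)))⟩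
      fun y => by
        obtain ⟨t, rfl⟩ := (Points.schemeHomeo q.pt).surjective y
        rw [← hxq, ← Points.ofPt_toHom q t]
        exact (Points.ofPt_eq_map_ofScheme _ _).symm
    obtain ⟨g', rfl⟩ := (yon S).map_surjective g
    haveI : Mono ((yon S).map g') := mono_of_mono_fac hg
    haveI : Mono g'.left := mono_left_of_mono
    haveI : IsIso g'.left :=
      isIso_of_mono_spec_field (K := q.K) (L := p.K) (g'.left : Spec (CommRingCat.of q.K) ⟶ Spec (CommRingCat.of p.K))
    haveI : IsIso ((Over.forget S).map g') := ‹IsIso g'.left›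
    haveI : IsIso g' := isIso_of_reflects_iso g' (Over.forget S)
    exact ⟨asIso g', hg⟩
  obtain ⟨e₁, he₁⟩ := key _ h₁.mono h₁.ofPt_eq
  obtain ⟨e₂, he₂⟩ := key _ h₂.mono h₂.ofPt_eq
  refine ⟨e₁ ≪≫ e₂.symm, ?_⟩
  rw [← he₂, ← Functor.map_comp_assoc, Iso.trans_hom, Iso.symm_hom, Category.assoc, e₂.inv_hom_id, Category.comp_id,
    he₁]

/-- An etale morphism with trivial residue extension at the point gives an elementary neighbourhood. -/
theorem isElemEtaleNbhd_comp {X : Sp S} {x : Points X} {U U' : Over S} {a : (yon S).obj U ⟶ X} (g : U' ⟶ U)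
    {u' : U'.left} [Etale g.left] (ha : IsElemEtaleNbhd a (g.left u') x)
    (hb : Function.Bijective (g.left.residueFieldMap u')) : IsElemEtaleNbhd ((yon S).map g ≫ a) u' x := by
  refine ⟨repWith_comp ((repWith_yon_map_iff (P := (@Etale : MorphismProperty Scheme.{u})) g).2 inferInstance) ha.etale,
    (ofPt_yon_comp g a u').trans ha.ofPt_eq, ?_⟩
  haveI := ha.mono
  haveI : IsIso (g.left.residueFieldMap u') := (ConcreteCategory.isIso_iff_bijective _).2 hb
  let j : (FieldPt.ofPt ((yon S).map g ≫ a) u').pt ⟶ (FieldPt.ofPt a (g.left u')).pt :=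
    Over.homMk (Spec.map (g.left.residueFieldMap u')) (by
      show Spec.map _ ≫ U.left.fromSpecResidueField (g.left u') ≫ U.hom = U'.left.fromSpecResidueField u' ≫ U'.hom
      rw [← Category.assoc, Scheme.Hom.SpecMap_residueFieldMap_fromSpecResidueField, Category.assoc, Over.w g])
  haveI : IsIso ((Over.forget S).map j) := inferInstanceAs (IsIso (Spec.map (g.left.residueFieldMap u')))
  haveI : IsIso j := isIso_of_reflects_iso j (Over.forget S)
  have e : (FieldPt.ofPt ((yon S).map g ≫ a) u').toHom = (yon S).map j ≫ (FieldPt.ofPt a (g.left u')).toHom := by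
    rw [toHom_elem, toHom_elem, ← Functor.map_comp_assoc, ← Category.assoc, ← Functor.map_comp]
    refine congrArg (fun m => (yon S).map m ≫ a) (Over.OverMorphism.ext ?_)
    exact (Scheme.Hom.SpecMap_residueFieldMap_fromSpecResidueField (f := g.left) u').symm
  rw [e]
  infer_instance

/-- A residue field map with a left inverse over the source is bijective. -/
theorem residueFieldMap_bijective_of_section {W V : Scheme.{u}} (h : W ⟶ V) (v : V)
    (s : Spec (V.residueField v) ⟶ W) (hs : s ≫ h = V.fromSpecResidueField v) :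
    ∃ w : W, h w = v ∧ Function.Bijective (h.residueFieldMap w) ∧ ∀ t, s t = w := by
  let w := s (IsLocalRing.closedPoint _)
  have hw : h w = v := by
    show h (s _) = v
    rw [← Scheme.Hom.comp_apply, hs]
    exact Scheme.fromSpecResidueField_apply _ _
  refine ⟨w, hw, ⟨RingHom.injective _, ?_⟩, fun t => congrArg s (Subsingleton.elim (α := PrimeSpectrum _) _ _)⟩
  obtain ⟨φ, hφ⟩ : ∃ φ : W.residueField w ⟶ V.residueField v, Spec.map φ ≫ W.fromSpecResidueField w = s :=
    ⟨_, Scheme.descResidueField_stalkClosedPointTo_fromSpecResidueField _ _ s⟩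
  have h1 : h.residueFieldMap w ≫ φ = (V.residueFieldCongr hw).hom := by
    apply Spec.map_injective
    rw [← cancel_mono (V.fromSpecResidueField _), Scheme.residueFieldCongr_fromSpecResidueField, Spec.map_comp,
      Category.assoc, Scheme.Hom.SpecMap_residueFieldMap_fromSpecResidueField, ← Category.assoc, hφ, hs]
  intro z
  obtain ⟨y, hy⟩ := ((ConcreteCategory.isIso_iff_bijective (V.residueFieldCongr hw).hom).1 inferInstance).2 (φ z)
  refine ⟨y, φ.hom.injective ?_⟩
  have h2 := congr($h1 y)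
  exact h2.trans hy

/-- A morphism of elementary neighbourhoods is etale with trivial residue extension. -/
theorem bijective_residueFieldMap_of_elem {X : Sp S} (hX : IsAlgSpace X) (hd : IsDecent X) {x : Points X}
    {U U' : Over S} {a : (yon S).obj U ⟶ X} (g : U' ⟶ U) {u' : U'.left}
    (ha : IsElemEtaleNbhd a (g.left u') x) (ha' : IsElemEtaleNbhd ((yon S).map g ≫ a) u' x) :
    Etale g.left ∧ Function.Bijective (g.left.residueFieldMap u') := by
  refine ⟨etale_cancel g a ha'.etale ha.etale, RingHom.injective _, ?_⟩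
  obtain ⟨e, he⟩ := exists_iso_of_elem hX hd ha' ha
  haveI := ha.mono
  let j : (FieldPt.ofPt ((yon S).map g ≫ a) u').pt ⟶ (FieldPt.ofPt a (g.left u')).pt :=
    Over.homMk (Spec.map (g.left.residueFieldMap u')) (by
      show Spec.map _ ≫ U.left.fromSpecResidueField (g.left u') ≫ U.hom = U'.left.fromSpecResidueField u' ≫ U'.hom
      rw [← Category.assoc, Scheme.Hom.SpecMap_residueFieldMap_fromSpecResidueField, Category.assoc, Over.w g])
  have ej : (FieldPt.ofPt ((yon S).map g ≫ a) u').toHom = (yon S).map j ≫ (FieldPt.ofPt a (g.left u')).toHom := by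
    rw [toHom_elem, toHom_elem, ← Functor.map_comp_assoc, ← Category.assoc, ← Functor.map_comp]
    refine congrArg (fun m => (yon S).map m ≫ a) (Over.OverMorphism.ext ?_)
    exact (Scheme.Hom.SpecMap_residueFieldMap_fromSpecResidueField (f := g.left) u').symm
  have hje : j = e.hom := (yon S).map_injective ((cancel_mono _).1 (ej.symm.trans he.symm))
  haveI : IsIso (Spec.map (g.left.residueFieldMap u')) := by
    show IsIso ((Over.forget S).map j)
    rw [hje]; infer_instance
  haveI : IsIso (g.left.residueFieldMap u') := by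
    haveI : IsIso (Scheme.Spec.map (g.left.residueFieldMap u').op) := ‹IsIso (Spec.map (g.left.residueFieldMap u'))›
    haveI := isIso_of_reflects_iso (g.left.residueFieldMap u').op Scheme.Spec
    exact isIso_of_op _
  exact ((ConcreteCategory.isIso_iff_bijective _).1 ‹_›).2

/-- Two elementary neighbourhoods are dominated by a third. -/
theorem exists_elem_refine {X : Sp S} (hX : IsAlgSpace X) (hd : IsDecent X) {x : Points X} {U₁ U₂ : Over S}
    {a₁ : (yon S).obj U₁ ⟶ X} {a₂ : (yon S).obj U₂ ⟶ X} {u₁ : U₁.left} {u₂ : U₂.left}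
    (h₁ : IsElemEtaleNbhd a₁ u₁ x) (h₂ : IsElemEtaleNbhd a₂ u₂ x) :
    ∃ (W : Over S) (p₁ : W ⟶ U₁) (p₂ : W ⟶ U₂) (v : W.left),
      IsElemEtaleNbhd ((yon S).map p₁ ≫ a₁) v x ∧ (yon S).map p₂ ≫ a₂ = (yon S).map p₁ ≫ a₁ ∧
        p₁.left v = u₁ ∧ p₂.left v = u₂ := by
  obtain ⟨e, he⟩ := exists_iso_of_elem hX hd h₁ h₂
  obtain ⟨W, p₁, p₂, sq⟩ := exists_isPullback_yon a₁ a₂ h₁.etale.rep
  haveI : Etale p₁.left := etale_left (repWith_of_isPullback sq.flip h₂.etale)
  let j₁ : (FieldPt.ofPt a₁ u₁).pt ⟶ U₁ := Over.homMk (U₁.left.fromSpecResidueField u₁) rfl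
  let j₂ : (FieldPt.ofPt a₂ u₂).pt ⟶ U₂ := Over.homMk (U₂.left.fromSpecResidueField u₂) rfl
  have hcomm : (yon S).map j₁ ≫ a₁ = (yon S).map (e.hom ≫ j₂) ≫ a₂ := by
    rw [← toHom_elem, Functor.map_comp, Category.assoc, ← toHom_elem, he]
  obtain ⟨s, hs⟩ := (yon S).map_surjective (sq.lift _ _ hcomm)
  have hs₁ : s ≫ p₁ = j₁ := (yon S).map_injective (by rw [Functor.map_comp, hs, sq.lift_fst])
  have hs₂ : s ≫ p₂ = e.hom ≫ j₂ := (yon S).map_injective (by rw [Functor.map_comp, hs, sq.lift_snd])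
  obtain ⟨v, hv, hb, hsv⟩ := residueFieldMap_bijective_of_section p₁.left u₁ s.left (congrArg CommaMorphism.left hs₁)
  subst hv
  refine ⟨W, p₁, p₂, v, isElemEtaleNbhd_comp p₁ h₁ hb, sq.w.symm, rfl, ?_⟩
  rw [← hsv (IsLocalRing.closedPoint _), ← Scheme.Hom.comp_apply, ← Over.comp_left, hs₂, Over.comp_left,
    Scheme.Hom.comp_apply]
  exact Scheme.fromSpecResidueField_apply _ _

/-- Parallel morphisms of elementary neighbourhoods are equalized by another one. -/
theorem exists_elem_equalize {X : Sp S} (hX : IsAlgSpace X) (hd : IsDecent X) {x : Points X} {U₁ U₂ : Over S}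
    {a₁ : (yon S).obj U₁ ⟶ X} {a₂ : (yon S).obj U₂ ⟶ X} {u₁ : U₁.left} {u₂ : U₂.left}
    (h₁ : IsElemEtaleNbhd a₁ u₁ x) (h₂ : IsElemEtaleNbhd a₂ u₂ x) (b c : U₁ ⟶ U₂)
    (hb : (yon S).map b ≫ a₂ = a₁) (hc : (yon S).map c ≫ a₂ = a₁) (hbu : b.left u₁ = u₂) (hcu : c.left u₁ = u₂) :
    ∃ (U : Over S) (v : U.left) (h : U ⟶ U₁),
      IsElemEtaleNbhd ((yon S).map h ≫ a₁) v x ∧ h.left v = u₁ ∧ h ≫ b = h ≫ c := by
  obtain ⟨W, q₁, q₂, sq⟩ := exists_isPullback_yon a₂ a₂ h₂.etale.rep
  haveI : Etale q₁.left := etale_left (repWith_of_isPullback sq.flip h₂.etale)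
  obtain ⟨Δ, hΔ⟩ := (yon S).map_surjective (sq.lift (𝟙 _) (𝟙 _) rfl)
  obtain ⟨β, hβ⟩ := (yon S).map_surjective (sq.lift ((yon S).map b) ((yon S).map c) (hb.trans hc.symm))
  have hΔ₁ : Δ ≫ q₁ = 𝟙 U₂ := (yon S).map_injective (by rw [Functor.map_comp, hΔ, sq.lift_fst, CategoryTheory.Functor.map_id])
  have hΔ₂ : Δ ≫ q₂ = 𝟙 U₂ := (yon S).map_injective (by rw [Functor.map_comp, hΔ, sq.lift_snd, CategoryTheory.Functor.map_id])
  have hβ₁ : β ≫ q₁ = b := (yon S).map_injective (by rw [Functor.map_comp, hβ, sq.lift_fst])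
  have hβ₂ : β ≫ q₂ = c := (yon S).map_injective (by rw [Functor.map_comp, hβ, sq.lift_snd])
  have hid : Δ.left ≫ q₁.left = 𝟙 _ := congrArg CommaMorphism.left hΔ₁
  haveI : Etale (Δ.left ≫ q₁.left) := by rw [hid]; infer_instance
  haveI : Etale Δ.left := Etale.of_comp Δ.left q₁.left
  haveI : Mono Δ.left := mono_of_mono_fac hid
  haveI : IsOpenImmersion Δ.left := IsOpenImmersion.of_flat_of_mono Δ.left
  let O : U₁.left.Opens := β.left ⁻¹ᵁ Δ.left.opensRange
  let U : Over S := Over.mk (O.ι ≫ U₁.hom)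
  let h : U ⟶ U₁ := Over.homMk O.ι rfl
  haveI : Etale h.left := inferInstanceAs (Etale O.ι)
  let d : (FieldPt.ofPt a₁ u₁).pt ⟶ U₁ := Over.homMk (U₁.left.fromSpecResidueField u₁) rfl
  let j₂ : (FieldPt.ofPt a₂ u₂).pt ⟶ U₂ := Over.homMk (U₂.left.fromSpecResidueField u₂) rfl
  have hfac : ∀ f : U₁ ⟶ U₂, f.left u₁ = u₂ → (yon S).map f ≫ a₂ = a₁ →
      ∃ k, k ≫ j₂ = d ≫ f ∧ (yon S).map k ≫ (FieldPt.ofPt a₂ u₂).toHom = (FieldPt.ofPt a₁ u₁).toHom := fun f hf hfa => by
    subst hf
    let k : (FieldPt.ofPt a₁ u₁).pt ⟶ (FieldPt.ofPt a₂ (f.left u₁)).pt :=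
      Over.homMk (Spec.map (f.left.residueFieldMap u₁)) (by
        show Spec.map _ ≫ U₂.left.fromSpecResidueField (f.left u₁) ≫ U₂.hom = U₁.left.fromSpecResidueField u₁ ≫ U₁.hom
        rw [← Category.assoc, Scheme.Hom.SpecMap_residueFieldMap_fromSpecResidueField, Category.assoc, Over.w f])
    have hk : k ≫ j₂ = d ≫ f :=
      Over.OverMorphism.ext (Scheme.Hom.SpecMap_residueFieldMap_fromSpecResidueField (f := f.left) u₁)
    refine ⟨k, hk, ?_⟩
    rw [toHom_elem, toHom_elem, ← hfa, ← Functor.map_comp_assoc, hk, Functor.map_comp, Category.assoc]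
  haveI := h₂.mono
  obtain ⟨k, hk, hk'⟩ := hfac b hbu hb
  obtain ⟨k', hk₂, hk₂'⟩ := hfac c hcu hc
  obtain rfl : k = k' := (yon S).map_injective ((cancel_mono _).1 (hk'.trans hk₂'.symm))
  have hd' : d ≫ b = d ≫ c := hk.symm.trans hk₂
  have hβΔ : d ≫ β = d ≫ b ≫ Δ := by
    refine (yon S).map_injective (sq.hom_ext ?_ ?_) <;> simp only [← Functor.map_comp, Category.assoc]
    · rw [hβ₁, hΔ₁, Category.comp_id]
    · rw [hβ₂, hΔ₂, Category.comp_id, hd']
  have hu : u₁ ∈ O := by
    show β.left u₁ ∈ Set.range Δ.left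
    have h3 := congr($(congrArg CommaMorphism.left hβΔ) (IsLocalRing.closedPoint _))
    simp only [Over.comp_left, Scheme.Hom.comp_apply] at h3
    rw [show d.left (IsLocalRing.closedPoint _) = u₁ from Scheme.fromSpecResidueField_apply _ _] at h3
    exact ⟨_, h3.symm⟩
  have hsec : IsOpenImmersion.lift O.ι (U₁.left.fromSpecResidueField u₁) (by
      rw [Scheme.Opens.range_ι, Scheme.range_fromSpecResidueField]; exact Set.singleton_subset_iff.2 hu) ≫ O.ι =
        U₁.left.fromSpecResidueField u₁ := IsOpenImmersion.lift_fac _ _ _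
  obtain ⟨v, hv, hvb, -⟩ := residueFieldMap_bijective_of_section h.left u₁ _ hsec
  subst hv
  refine ⟨U, v, h, isElemEtaleNbhd_comp h h₁ hvb, rfl, ?_⟩
  refine Over.OverMorphism.ext ?_
  let s := IsOpenImmersion.lift Δ.left (O.ι ≫ β.left) (by rintro _ ⟨t, rfl⟩; exact t.2)
  have hs : s ≫ Δ.left = O.ι ≫ β.left := IsOpenImmersion.lift_fac _ _ _
  show O.ι ≫ b.left = O.ι ≫ c.left
  rw [← hβ₁, ← hβ₂, Over.comp_left, Over.comp_left, ← Category.assoc, ← Category.assoc, ← hs, Category.assoc,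
    Category.assoc, ← Over.comp_left, ← Over.comp_left, hΔ₁, hΔ₂]

end AlgSpLib
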