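import Groth.Prelude.Def_AlgSpSub
import Groth.Agent.AlgSpLib.Sep
/-!
# Morphisms to a separated space agreeing on a scheme-theoretically dense subobject
-/

set_option autoImplicit false
universe u
open CategoryTheory CategoryTheory.Limits AlgebraicGeometry Opposite AlgSp Topology

namespace AlgSpLib

variable {S : Scheme.{u}}

theorem eq_of_eq_on_schImage_top {U X Y B : Sp S} (hX : IsAlgSpace X) {q : Y ⟶ B}
    (hq : IsSeparatedMor q) (f g : X ⟶ Y) (hfg : f ≫ q = g ≫ q) (j : U ⟶ X)
    (hcl : IsSchImage j (𝟙 X)) (heq : j ≫ f = j ≫ g) : f = g := by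
  let fg : X ⟶ pullback q q := pullback.lift f g hfg
  have sq := IsPullback.of_hasPullback fg (pullback.diagonal q)
  have hi : RepWith @IsClosedImmersion (pullback.fst fg (pullback.diagonal q)) :=
    repWith_of_isPullback sq.flip hq
  have hZ : IsAlgSpace (pullback fg (pullback.diagonal q)) := isAlgSpace_of_representable hX _ hi.rep
  have e : j ≫ fg = (j ≫ f) ≫ pullback.diagonal q := by
    apply pullback.hom_ext
    · simp only [Category.assoc, fg, pullback.lift_fst, pullback.diagonal_fst, Category.comp_id]
    · simp only [Category.assoc, fg, pullback.lift_snd, pullback.diagonal_snd, Category.comp_id, heq]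
  obtain ⟨k, hk⟩ := hcl.2.2 _ hZ hi ⟨pullback.lift j (j ≫ f) e, pullback.lift_fst _ _ _⟩
  have h := congrArg (k ≫ ·) (pullback.condition (f := fg) (g := pullback.diagonal q))
  simp only [← Category.assoc, hk, Category.id_comp] at h
  have hf := congrArg (· ≫ pullback.fst q q) h
  have hg := congrArg (· ≫ pullback.snd q q) h
  simp only [Category.assoc, fg, pullback.lift_fst, pullback.lift_snd, pullback.diagonal_fst,
    pullback.diagonal_snd, Category.comp_id] at hf hg
  exact hf.trans hg.symm

end AlgSpLib
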