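import Groth.Agent.AlgSpLib.PointMono
import Mathlib.AlgebraicGeometry.AlgClosed.Basic
/-!
# Lifting geometric points along etale morphisms; factorisation through monic points
-/

set_option autoImplicit false
universe u
open CategoryTheory CategoryTheory.Limits AlgebraicGeometry Opposite AlgSp Topology

namespace AlgSpLib

variable {S : Scheme.{u}}

theorem existsUnique_factor_of_mono {X : Sp S} (hX : IsAlgSpace X) (p q : FieldPt X)
    (h : Points.mk p = Points.mk q) [Mono p.toHom] :
    ∃! c : q.pt ⟶ p.pt, (yon S).map c ≫ p.toHom = q.toHom := by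
  obtain ⟨W, a, b, sq⟩ := exists_isPullback_yon p.toHom q.toHom (hX.representable_from_yon _)
  haveI : Mono ((yon S).map b) :=
    MorphismProperty.of_isPullback (P := MorphismProperty.monomorphisms _) sq (inferInstanceAs (Mono p.toHom))
  haveI : Mono b.left := mono_left_of_mono
  haveI hq : Subsingleton ↥q.pt.left := inferInstanceAs (Subsingleton (PrimeSpectrum q.K))
  haveI : Surjective b.left := by
    obtain ⟨w, -, hw⟩ := (ofPt_eq_ofPt_iff sq (IsLocalRing.closedPoint p.K) (IsLocalRing.closedPoint q.K)).1 (by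
      rw [Points.ofPt_toHom, Points.ofPt_toHom, h])
    exact ⟨fun x => ⟨w, Subsingleton.elim _ _⟩⟩
  have hinj : Function.Injective b.left := b.left.injective
  haveI : Subsingleton ↥W.left := ⟨fun x y => hinj (Subsingleton.elim _ _)⟩
  haveI : CompactSpace ↥W.left := Finite.compactSpace
  haveI : QuasiSeparatedSpace ↥q.pt.left := inferInstanceAs (QuasiSeparatedSpace (PrimeSpectrum q.K))
  haveI : QuasiCompact b.left := quasiCompact_of_compactSpace _
  haveI : DiscreteTopology ↥q.pt.left := inferInstance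
  haveI : IsReduced q.pt.left := inferInstanceAs (IsReduced (Spec (CommRingCat.of q.K)))
  haveI : IsIso b.left := isIso_of_mono_surjective_discrete b.left
  haveI : IsIso ((Over.forget S).map b) := inferInstanceAs (IsIso b.left)
  haveI : IsIso b := isIso_of_reflects_iso b (Over.forget S)
  refine ⟨inv b ≫ a, ?_, fun c hc => ?_⟩
  · change (yon S).map (inv b ≫ a) ≫ p.toHom = q.toHom
    rw [Functor.map_comp, Category.assoc, sq.w, ← Category.assoc, ← Functor.map_comp, IsIso.inv_hom_id,
      CategoryTheory.Functor.map_id, Category.id_comp]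
  · apply (yon S).map_injective
    rw [← cancel_mono p.toHom, hc, Functor.map_comp, Category.assoc, sq.w, ← Category.assoc,
      ← Functor.map_comp, IsIso.inv_hom_id, CategoryTheory.Functor.map_id, Category.id_comp]

theorem exists_geometric_lift {U X : Sp S} (hU : IsAlgSpace U) (hX : IsAlgSpace X) (φ : U ⟶ X)
    (hφ : IsEtaleMor φ) (xbar : FieldPt X) (hx : xbar.IsGeometric) (u : Points U)
    (hu : Points.map φ u = Points.mk xbar) :
    ∃ ubar : (yon S).obj xbar.pt ⟶ U,
      ubar ≫ φ = xbar.toHom ∧ Points.ofPt ubar (IsLocalRing.closedPoint xbar.K) = u := by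
  haveI : IsAlgClosed xbar.K := hx
  let t₀ : ↥xbar.pt.left := IsLocalRing.closedPoint xbar.K
  haveI : Subsingleton ↥xbar.pt.left := inferInstanceAs (Subsingleton (PrimeSpectrum xbar.K))
  have sq := IsPullback.of_hasPullback φ xbar.toHom
  have hP : IsAlgSpace (pullback φ xbar.toHom) :=
    isAlgSpace_pullback hU (IsAlgSpace.yon_obj _) hX φ xbar.toHom
  obtain ⟨z, hz, -⟩ := exists_point_isPullback sq u (Points.schemeHomeo xbar.pt t₀) (by
    rw [hu, ← Points.ofPt_toHom xbar (IsLocalRing.closedPoint xbar.K)]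
    exact congrFun (ofPt_comp_ofScheme xbar.toHom) _)
  obtain ⟨V, a, ha, has⟩ := hP.atlas
  obtain ⟨v, rfl⟩ := surjective_ofPt has z
  obtain ⟨ψ, hψ⟩ := (yon S).map_surjective (a ≫ pullback.snd φ xbar.toHom)
  haveI : Etale ψ.left :=
    locP_etale_of_isEtaleMor (isEtaleMor_of_isPullback hU hX (IsAlgSpace.yon_obj _) sq hφ) a (𝟙 _) ψ ha
      (repWith_id (@Etale : MorphismProperty Scheme.{u}) xbar.pt) (by rw [Category.comp_id, hψ])
  haveI : LocallyQuasiFinite ψ.left := locallyQuasiFinite_of_etale _
  have hv : IsClosed ({v} : Set V.left) := by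
    have hd := ψ.left.isDiscrete_preimage_singleton t₀
    rw [Set.eq_univ_of_forall (s := ψ.left ⁻¹' {t₀}) fun x => Subsingleton.elim _ _] at hd
    haveI : DiscreteTopology ↥V.left := ⟨by
      haveI := isDiscrete_iff_discreteTopology.1 hd
      exact (Homeomorph.Set.univ _).symm.isEmbedding.discreteTopology.eq_bot⟩
    exact isClosed_discrete _
  let σ := pointOfClosedPoint (K := xbar.K) ψ.left v hv
  have hσ : σ ≫ ψ.left = 𝟙 _ := pointOfClosedPoint_comp (K := xbar.K) ψ.left v hv
  let σ' : xbar.pt ⟶ V := Over.homMk σ (by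
    change σ ≫ V.hom = xbar.pt.hom
    rw [← Over.w ψ, ← Category.assoc]
    exact (congrArg (· ≫ xbar.pt.hom) hσ).trans (Category.id_comp _))
  have hσ' : σ' ≫ ψ = 𝟙 _ := Over.OverMorphism.ext hσ
  refine ⟨(yon S).map σ' ≫ a ≫ pullback.fst φ xbar.toHom, ?_, ?_⟩
  · rw [Category.assoc, Category.assoc, pullback.condition, ← Category.assoc a, ← hψ, ← Category.assoc,
      ← Functor.map_comp, hσ', CategoryTheory.Functor.map_id, Category.id_comp]
  · rw [ofPt_yon_comp, ← Points.map_ofPt, ← hz]
    have : σ'.left (IsLocalRing.closedPoint xbar.K) = v := pointOfClosedPoint_apply (K := xbar.K) ψ.left v hv _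
    rw [this]

end AlgSpLib
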