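import Groth.Prelude.Def_AlgSpOX3
import Groth.Agent.AlgSpLib.GeomLift
import Mathlib.AlgebraicGeometry.Morphisms.FlatMono
/-!
# Etale neighbourhoods of a geometric point
-/

set_option autoImplicit false
set_option backward.isDefEq.respectTransparency false
universe u
open CategoryTheory CategoryTheory.Limits AlgebraicGeometry Opposite AlgSp Topology

namespace AlgSpLib

variable {S : Scheme.{u}}

theorem exists_lift_of_etale {K : Type u} [Field K] [IsAlgClosed K] {str : Spec (CommRingCat.of K) ⟶ S}
    {V U : Over S} (g : V ⟶ U) [Etale g.left] (u : Over.mk str ⟶ U) (v : V.left)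
    (hv : g.left v = u.left (IsLocalRing.closedPoint K)) : ∃ w : Over.mk str ⟶ V, w ≫ g = u := by
  obtain ⟨z, -, -⟩ := Scheme.Pullback.exists_preimage_pullback (f := g.left) (g := u.left) v
    (IsLocalRing.closedPoint K) hv
  let π : pullback g.left u.left ⟶ Spec (CommRingCat.of K) := pullback.snd g.left u.left
  haveI : Etale π := inferInstanceAs (Etale (pullback.snd g.left u.left))
  haveI : LocallyQuasiFinite π := locallyQuasiFinite_of_etale _
  haveI : Subsingleton ↥(Spec (CommRingCat.of K)) := inferInstanceAs (Subsingleton (PrimeSpectrum K))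
  have hd := π.isDiscrete_preimage_singleton (IsLocalRing.closedPoint K)
  rw [Set.eq_univ_of_forall (s := π ⁻¹' {IsLocalRing.closedPoint K}) fun x => Subsingleton.elim _ _] at hd
  haveI : DiscreteTopology ↥(pullback g.left u.left) := ⟨by
    haveI := isDiscrete_iff_discreteTopology.1 hd
    exact (Homeomorph.Set.univ _).symm.isEmbedding.discreteTopology.eq_bot⟩
  let σ := pointOfClosedPoint (K := K) π z (isClosed_discrete _)
  have hσ : σ ≫ π = 𝟙 _ := pointOfClosedPoint_comp (K := K) π z _
  refine ⟨Over.homMk (σ ≫ pullback.fst g.left u.left) ?_, Over.OverMorphism.ext ?_⟩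
  · rw [← Over.w g, Category.assoc, pullback.condition_assoc, Over.w u, ← Category.assoc]
    exact (congrArg (· ≫ str) hσ).trans (Category.id_comp _)
  · change (σ ≫ pullback.fst g.left u.left) ≫ g.left = u.left
    rw [Category.assoc, pullback.condition, ← Category.assoc]
    exact (congrArg (· ≫ u.left) hσ).trans (Category.id_comp _)

theorem exists_nbhd {X : Sp S} (hX : IsAlgSpace X) (p : FieldPt X) (hp : p.IsGeometric) :
    Nonempty (EtNbhd p) := by
  haveI : IsAlgClosed p.K := hp
  obtain ⟨U, a, ha, has⟩ := hX.atlas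
  obtain ⟨W, f, s, sq⟩ := exists_isPullback_yon a p.toHom ha.rep
  haveI : Etale s.left := etale_left (repWith_of_isPullback sq ha)
  haveI : Surjective s.left := surjective_left (repWith_of_isPullback sq has)
  obtain ⟨w, hw⟩ := s.left.surjective (IsLocalRing.closedPoint p.K)
  obtain ⟨σ, hσ⟩ := exists_lift_of_etale (K := p.K) (str := p.str) s (𝟙 _) w hw
  refine ⟨⟨EtOver.mk a ha, ⟨σ ≫ f, ?_⟩⟩⟩
  change (yon S).map (σ ≫ f) ≫ a = p.toHom
  rw [Functor.map_comp, Category.assoc, sq.w, ← Category.assoc, ← Functor.map_comp, hσ,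
    CategoryTheory.Functor.map_id, Category.id_comp]

theorem exists_lift_nbhd_of_mem {X : Sp S} (p : FieldPt X) (hp : p.IsGeometric) (N : EtNbhd p)
    {ι : Type u} (Ui : ι → EtOver X) (g : ∀ i, Ui i ⟶ N.1)
    (hcov : Presieve.ofArrows Ui g ∈ etPre X N.1) :
    ∃ (i : ι) (ui : (FieldPt.liftsTo p).obj (Ui i)), (FieldPt.liftsTo p).map (g i) ui = N.2 := by
  haveI : IsAlgClosed p.K := hp
  obtain ⟨i, v, hv⟩ := (ofArrows_mem_etPre_iff Ui g).1 hcov (N.2.1.left (IsLocalRing.closedPoint p.K))
  haveI : Etale (g i).hom.left.left := EtOver.etale_left (g i)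
  obtain ⟨w, hw⟩ := exists_lift_of_etale (K := p.K) (str := p.str) (g i).hom.left N.2.1 v hv
  refine ⟨i, ⟨w, ?_⟩, Subtype.ext hw⟩
  rw [← EtOver.w (g i), ← Category.assoc, ← Functor.map_comp, hw]
  exact N.2.2

theorem isCofiltered_etNbhd {X : Sp S} (hX : IsAlgSpace X) (p : FieldPt X) (hp : p.IsGeometric) :
    IsCofiltered (EtNbhd p) where
  nonempty := exists_nbhd hX p hp
  cone_objs := by
    rintro ⟨E₁, u₁, hu₁⟩ ⟨E₂, u₂, hu₂⟩
    obtain ⟨W, a, b, sq⟩ := exists_isPullback_yon E₁.obj.hom E₂.obj.hom E₁.property.rep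
    have hW : RepWith @Etale ((yon S).map a ≫ E₁.obj.hom) :=
      repWith_comp (repWith_of_isPullback sq.flip E₂.property) E₁.property
    obtain ⟨c, hc⟩ := (yon S).map_surjective
      (sq.lift ((yon S).map u₁) ((yon S).map u₂) (hu₁.trans hu₂.symm))
    have hca : c ≫ a = u₁ := (yon S).map_injective (by rw [Functor.map_comp, hc, sq.lift_fst])
    have hcb : c ≫ b = u₂ := (yon S).map_injective (by rw [Functor.map_comp, hc, sq.lift_snd])
    have hcX : (yon S).map c ≫ (yon S).map a ≫ E₁.obj.hom = p.toHom := by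
      rw [← Category.assoc, ← Functor.map_comp, hca, hu₁]
    exact ⟨⟨EtOver.mk _ hW, c, hcX⟩,
      CategoryOfElements.homMk _ _ (EtOver.homMk a rfl) (Subtype.ext hca),
      CategoryOfElements.homMk _ _ (EtOver.homMk b sq.w.symm) (Subtype.ext hcb), trivial⟩
  cone_maps := by
    rintro ⟨E₁, u₁, hu₁⟩ ⟨E₂, u₂, hu₂⟩ g h
    obtain ⟨W, a, b, sq⟩ := exists_isPullback_yon E₁.obj.hom E₂.obj.hom E₁.property.rep
    haveI : Etale a.left := AlgSpLib.etale_left (repWith_of_isPullback sq.flip E₂.property)
    have sec : ∀ k : E₁ ⟶ E₂, ∃ s : E₁.obj.left ⟶ W, s ≫ a = 𝟙 _ ∧ s ≫ b = k.hom.left := fun k => by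
      obtain ⟨s, hs⟩ := (yon S).map_surjective (sq.lift (𝟙 _) ((yon S).map k.hom.left)
        ((Category.id_comp _).trans (EtOver.w k).symm))
      exact ⟨s, (yon S).map_injective (by rw [Functor.map_comp, hs, sq.lift_fst, CategoryTheory.Functor.map_id]),
        (yon S).map_injective (by rw [Functor.map_comp, hs, sq.lift_snd])⟩
    obtain ⟨sg, hga, hgb⟩ := sec g.1
    obtain ⟨sh, hha, hhb⟩ := sec h.1
    have opn : ∀ s : E₁.obj.left ⟶ W, s ≫ a = 𝟙 _ → IsOpenImmersion s.left := fun s hs => by
      have e : s.left ≫ a.left = 𝟙 _ := congrArg Over.Hom.left hs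
      haveI : Etale s.left := MorphismProperty.HasOfPostcompProperty.of_postcomp (W := @Etale) s.left a.left
        ‹_› (by rw [e]; infer_instance)
      haveI : IsSplitMono s.left := IsSplitMono.mk' ⟨a.left, e⟩
      exact IsOpenImmersion.of_flat_of_mono s.left
    haveI := opn sg hga
    haveI := opn sh hha
    let q : pullback sg.left sh.left ⟶ E₁.obj.left.left := pullback.fst sg.left sh.left
    let E' : Over S := Over.mk (q ≫ E₁.obj.left.hom)
    let e : E' ⟶ E₁.obj.left := Over.homMk q rfl
    have hE : RepWith @Etale ((yon S).map e ≫ E₁.obj.hom) :=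
      repWith_comp ((repWith_yon_map_iff (P := (@Etale : MorphismProperty Scheme.{u})) e).2
        (inferInstanceAs (Etale q))) E₁.property
    have hfs : pullback.fst sg.left sh.left = pullback.snd sg.left sh.left := by
      have hga' : sg.left ≫ a.left = 𝟙 _ := congrArg Over.Hom.left hga
      have hha' : sh.left ≫ a.left = 𝟙 _ := congrArg Over.Hom.left hha
      calc pullback.fst sg.left sh.left = (pullback.fst sg.left sh.left ≫ sg.left) ≫ a.left := by
            rw [Category.assoc, hga', Category.comp_id]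
        _ = (pullback.snd sg.left sh.left ≫ sh.left) ≫ a.left := by rw [pullback.condition]
        _ = pullback.snd sg.left sh.left := by rw [Category.assoc, hha', Category.comp_id]
    have hegh : e ≫ g.1.hom.left = e ≫ h.1.hom.left := by
      rw [← hgb, ← hhb]
      apply Over.OverMorphism.ext
      change q ≫ sg.left ≫ b.left = q ≫ sh.left ≫ b.left
      simp only [q]
      rw [pullback.condition_assoc, ← hfs]
    have hus : u₁ ≫ sg = u₁ ≫ sh := (yon S).map_injective (sq.hom_ext
      (by rw [← Functor.map_comp, ← Functor.map_comp, Category.assoc, Category.assoc, hga, hha])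
      (by
        rw [← Functor.map_comp, ← Functor.map_comp, Category.assoc, Category.assoc, hgb, hhb]
        exact congrArg _ ((congrArg Subtype.val g.2).trans (congrArg Subtype.val h.2).symm)))
    let c : p.pt ⟶ E' := Over.homMk (pullback.lift u₁.left u₁.left (congrArg Over.Hom.left hus)) (by
      change _ ≫ q ≫ E₁.obj.left.hom = _
      rw [pullback.lift_fst_assoc, Over.w u₁])
    have hce : c ≫ e = u₁ := Over.OverMorphism.ext (pullback.lift_fst _ _ _)
    refine ⟨⟨EtOver.mk _ hE, c, ?_⟩,
      CategoryOfElements.homMk _ _ (EtOver.homMk e rfl) (Subtype.ext hce), ?_⟩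
    · change (yon S).map c ≫ (yon S).map e ≫ E₁.obj.hom = p.toHom
      rw [← Category.assoc, ← Functor.map_comp, hce, hu₁]
    · exact CategoryOfElements.ext _ _ _ (EtOver.hom_ext _ _ hegh)

end AlgSpLib
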