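import Groth.Agent.AlgSpLib.EtSmLocal
import Mathlib.Combinatorics.Nullstellensatz
import Mathlib.GroupTheory.OrderOfElement
import Mathlib.RingTheory.TensorProduct.MvPolynomial
import Mathlib.RingTheory.Etale.StandardEtale
import Mathlib.FieldTheory.IsAlgClosed.AlgebraicClosure
/-!
# Descending along an affine space: the translation argument

If `O ⊆ 𝔸ⁿ_A` is open, `O ⟶ 𝔸ⁿ_B` has the property and `O` meets the fibre over a point of `Spec A`,
then `Spec A ⟶ Spec B` has the property etale locally at that point.
-/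

set_option autoImplicit false
universe u
open CategoryTheory CategoryTheory.Limits AlgebraicGeometry

namespace AlgSpLib

/-- The polynomial ring as an object of `CommRingCat`. -/
noncomputable abbrev poly (n : ℕ) (B : CommRingCat.{u}) : CommRingCat.{u} := CommRingCat.of (MvPolynomial (Fin n) B)

/-- The inclusion of the constants. -/
noncomputable abbrev polyC (n : ℕ) (B : CommRingCat.{u}) : B ⟶ poly n B := CommRingCat.ofHom MvPolynomial.C

/-- The map of polynomial rings induced by a ring map. -/
noncomputable abbrev polyMap (n : ℕ) {B A : CommRingCat.{u}} (φ : B ⟶ A) : poly n B ⟶ poly n A :=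
  CommRingCat.ofHom (MvPolynomial.map φ.hom)

theorem isPullback_poly (n : ℕ) {B A : CommRingCat.{u}} (φ : B ⟶ A) :
    IsPullback (Spec.map (polyC n A)) (Spec.map (polyMap n φ)) (Spec.map φ)
      (Spec.map (polyC n B)) := by
  let := φ.hom.toAlgebra
  let := MvPolynomial.algebraMvPolynomial (σ := Fin n) (R := B) (S := A)
  have h := isPullback_SpecMap_of_isPushout _ _ _ _
    (CommRingCat.isPushout_of_isPushout B A (MvPolynomial (Fin n) B) (MvPolynomial (Fin n) A))
  exact h

/-- Translation by a vector of constants. -/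
noncomputable def shift {n : ℕ} {B : Type u} [CommRing B] (c : Fin n → B) :
    MvPolynomial (Fin n) B ≃ₐ[B] MvPolynomial (Fin n) B :=
  AlgEquiv.ofAlgHom (MvPolynomial.aeval fun j => MvPolynomial.X j + MvPolynomial.C (c j))
    (MvPolynomial.aeval fun j => MvPolynomial.X j - MvPolynomial.C (c j))
    (by ext j; simp) (by ext j; simp)

/-- The standard etale pair `(1 + X + ⋯ + X ^ (M - 1), M)`. -/
noncomputable def rootPair (B : Type u) [CommRing B] (M : ℕ) [NeZero M] : StandardEtalePair B where
  f := ∑ i ∈ Finset.range M, Polynomial.X ^ i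
  monic_f := Polynomial.monic_geom_sum_X (NeZero.ne M)
  g := Polynomial.C (M : B)
  cond := by
    set F : Polynomial B := ∑ i ∈ Finset.range M, Polynomial.X ^ i with hF
    refine ⟨(Polynomial.X - 1) * Polynomial.X,
      Polynomial.X - (M : Polynomial B) * (Polynomial.X - 1), 1, ?_⟩
    have h := congrArg Polynomial.derivative (geom_sum_mul (Polynomial.X : Polynomial B) M)
    rw [← hF, Polynomial.derivative_mul, Polynomial.derivative_sub, Polynomial.derivative_X,
      Polynomial.derivative_one, Polynomial.derivative_sub, Polynomial.derivative_one,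
      Polynomial.derivative_X_pow] at h
    have hX : (Polynomial.X : Polynomial B) ^ (M - 1) * Polynomial.X = F * (Polynomial.X - 1) + 1 := by
      rw [← pow_succ, Nat.sub_add_cancel (Nat.one_le_iff_ne_zero.2 (NeZero.ne M)),
        geom_sum_mul]
      ring
    rw [pow_one, map_natCast] at *
    linear_combination Polynomial.X * h + (M : Polynomial B) * hX

theorem rootPair_orderOf {B K : Type u} [CommRing B] [Field K] [Algebra B K] {M : ℕ} [NeZero M]
    (hM : M.Prime) {z : K} (hz : (rootPair B M).HasMap z) : orderOf z = M := by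
  have h1 : (∑ i ∈ Finset.range M, z ^ i) = 0 := by simpa [rootPair] using hz.1
  have h2 : (M : K) ≠ 0 := by simpa [rootPair] using hz.2
  haveI : Fact M.Prime := ⟨hM⟩
  refine orderOf_eq_prime ?_ ?_
  · have := geom_sum_mul z M
    rw [h1, zero_mul] at this
    exact sub_eq_zero.1 this.symm
  · rintro rfl
    simp [h2] at h1

theorem natDegree_rootPair_f_ne_zero {B : Type u} [CommRing B] [Nontrivial B] {M : ℕ} [NeZero M]
    (hM : M.Prime) : (rootPair B M).f.natDegree ≠ 0 := by
  intro h
  have h1 := (rootPair B M).monic_f.natDegree_eq_zero.1 h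
  have h2 := congrArg (fun f => Polynomial.coeff f 1) h1
  simp [rootPair, Polynomial.finset_sum_coeff, Polynomial.coeff_X_pow, hM.one_lt,
    Polynomial.coeff_one] at h2

theorem exists_field_root {B A : Type u} [CommRing B] [CommRing A] {M : ℕ} [NeZero M]
    (hM : M.Prime) (x : PrimeSpectrum A) (hx : (M : A) ∉ x.asIdeal) :
    ∃ (K : Type u) (_ : Field K) (_ : Algebra A K), (∀ t, algebraMap A K t = 0 ↔ t ∈ x.asIdeal) ∧
      ∃ z : K, ∀ (_ : Algebra B K), (rootPair B M).HasMap z := by
  let F := AlgebraicClosure x.asIdeal.ResidueField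
  let ρ : A →+* F := (algebraMap x.asIdeal.ResidueField F).comp (algebraMap A _)
  have hρ : ∀ t, ρ t = 0 ↔ t ∈ x.asIdeal := fun t => by
    simp [ρ, Ideal.algebraMap_residueField_eq_zero]
  obtain ⟨z, hz⟩ := IsAlgClosed.exists_root
    (∑ i ∈ Finset.range M, (Polynomial.X : Polynomial F) ^ i) (by
      have h : (rootPair F M).f.natDegree ≠ 0 := natDegree_rootPair_f_ne_zero hM
      rw [Ne, Polynomial.degree_eq_natDegree (Polynomial.monic_geom_sum_X (NeZero.ne M)).ne_zero,
        Nat.cast_eq_zero]
      exact h)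
  refine ⟨F, inferInstance, ρ.toAlgebra, hρ, z, fun _ => ⟨?_, ?_⟩⟩
  · simpa [rootPair, Polynomial.eval_finset_sum] using hz
  · have : (M : F) ≠ 0 := by
      rw [← map_natCast ρ M]
      exact fun h => hx ((hρ _).1 h)
    simp only [rootPair, map_natCast]
    exact this.isUnit

theorem fibBound_standardEtale {R T : CommRingCat.{u}} (φ : R ⟶ T)
    (P : StandardEtalePair R) (e : P.Ring ≃+* T)
    (he : ∀ r, e (algebraMap R P.Ring r) = φ.hom r) :
    LocalQ.FibBound (Spec.map φ) P.f.natDegree := by
  intro K _ ee hee hinj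
  let χ : Fin (P.f.natDegree + 1) → (P.Ring →+* K) := fun i => (Spec.preimage (ee i)).hom.comp e.toRingHom
  have hbase : ∀ i j r, χ i (algebraMap R P.Ring r) = χ j (algebraMap R P.Ring r) := by
    intro i j r
    have := hee i j
    rw [← Spec.map_preimage (ee i), ← Spec.map_preimage (ee j), ← Spec.map_comp, ← Spec.map_comp] at this
    have := congrArg (fun t => t.hom r) (Spec.map_injective this)
    simpa [χ, he] using this
  let ρ : R →+* K := (χ 0).comp (algebraMap R P.Ring)
  algebraize [ρ]
  let ψ : Fin (P.f.natDegree + 1) → (P.Ring →ₐ[R] K) := fun i =>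
    { χ i with commutes' := fun r => hbase i 0 r }
  have hroot : ∀ i, (P.f.map ρ).eval (ψ i P.X) = 0 := by
    intro i
    rw [Polynomial.eval_map]
    exact ((P.hasMap_X).map (ψ i)).1
  have hψ : Function.Injective fun i => ψ i P.X := by
    intro i j hij
    apply hinj
    have h1 : ψ i = ψ j := P.hom_ext hij
    rw [← Spec.map_preimage (ee i), ← Spec.map_preimage (ee j)]
    congr 1
    ext t
    simpa [ψ, χ] using AlgHom.congr_fun h1 (e.symm t)
  have := Polynomial.eq_zero_of_natDegree_lt_card_of_eval_eq_zero (P.f.map ρ) hψ hroot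
    (by simp [P.monic_f.natDegree_map])
  exact (P.monic_f.map ρ).ne_zero this

theorem etale_standardEtale {R T : CommRingCat.{u}} (φ : R ⟶ T)
    (P : StandardEtalePair R) (e : P.Ring ≃+* T)
    (he : ∀ r, e (algebraMap R P.Ring r) = φ.hom r) : Etale (Spec.map φ) := by
  rw [HasRingHomProperty.Spec_iff (P := @Etale)]
  algebraize [φ.hom]
  let e' : P.Ring ≃ₐ[R] T := AlgEquiv.ofRingEquiv (f := e) he
  have : Algebra.Etale R T := Algebra.Etale.of_equiv e'
  exact this

namespace LocalQ

variable {S : Scheme.{u}} {Q : ∀ ⦃A B : Scheme.{u}⦄, (A ⟶ B) → (B ⟶ S) → Prop} (hQ : LocalQ Q)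
include hQ

theorem affineCore (n : ℕ) {B A : CommRingCat.{u}} (φ : B ⟶ A) (sB : Spec B ⟶ S)
    (O : (Spec (poly n A)).Opens) (h : Q (O.ι ≫ Spec.map (polyMap n φ)) (Spec.map (polyC n B) ≫ sB))
    (w0 : Spec (poly n A)) (hw0 : w0 ∈ O) :
    ∃ (C : Scheme.{u}) (g : C ⟶ Spec A), Etale g ∧ Spec.map (polyC n A) w0 ∈ Set.range g ∧
      Q (g ≫ Spec.map φ) sB := by
  classical
  obtain ⟨_, ⟨g, rfl⟩, hg0, hgO⟩ :=
    PrimeSpectrum.isTopologicalBasis_basic_opens.exists_subset_of_mem_open hw0 O.2
  let x0 : PrimeSpectrum A := PrimeSpectrum.comap MvPolynomial.C w0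
  obtain ⟨m, hm⟩ : ∃ m, MvPolynomial.coeff m g ∉ x0.asIdeal := by
    by_contra! hall
    refine hg0 ?_
    have : Ideal.map MvPolynomial.C x0.asIdeal ≤ w0.asIdeal := Ideal.map_comap_le
    exact this (MvPolynomial.mem_map_C_iff.2 hall)
  let a := MvPolynomial.coeff m g
  let N := g.totalDegree
  obtain ⟨M, hMp, hMN, hMx⟩ : ∃ M : ℕ, M.Prime ∧ N < M ∧ (M : A) ∉ x0.asIdeal := by
    obtain ⟨p, hpN, hp⟩ := Nat.exists_infinite_primes (N + 1)
    by_cases hpx : (p : A) ∈ x0.asIdeal
    · obtain ⟨q, hqN, hq⟩ := Nat.exists_infinite_primes (p + 1)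
      refine ⟨q, hq, by omega, fun hqx => x0.isPrime.ne_top ((Ideal.eq_top_iff_one _).2 ?_)⟩
      have hco : IsCoprime (p : ℤ) (q : ℤ) := by
        rw [Nat.isCoprime_iff_coprime]
        exact (Nat.coprime_primes hp hq).2 (by omega)
      obtain ⟨s, t, hst⟩ := hco
      have : ((s * p + t * q : ℤ) : A) = 1 := by rw [hst]; simp
      rw [← this]
      push_cast
      exact add_mem (Ideal.mul_mem_left _ _ hpx) (Ideal.mul_mem_left _ _ hqx)
    · exact ⟨p, hp, by omega, hpx⟩
  have : NeZero M := ⟨hMp.ne_zero⟩
  -- the etale extension of the base and of the source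
  algebraize [φ.hom]
  let P := rootPair B M
  let B' : CommRingCat.{u} := CommRingCat.of P.Ring
  let A' : CommRingCat.{u} := CommRingCat.of (TensorProduct B A P.Ring)
  let β : B ⟶ B' := CommRingCat.ofHom (algebraMap B P.Ring)
  let α : A ⟶ A' := CommRingCat.ofHom
    (Algebra.TensorProduct.includeLeftRingHom : A →+* TensorProduct B A P.Ring)
  let φ' : B' ⟶ A' := CommRingCat.ofHom
    (Algebra.TensorProduct.includeRight : P.Ring →ₐ[B] TensorProduct B A P.Ring).toRingHom
  have sqA : IsPullback (Spec.map α) (Spec.map φ') (Spec.map φ) (Spec.map β) :=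
    isPullback_SpecMap_of_isPushout _ _ _ _ (CommRingCat.isPushout_tensorProduct B A P.Ring)
  have hβe : Etale (Spec.map β) := etale_standardEtale β P (RingEquiv.refl _) (fun _ => rfl)
  have : Etale (Spec.map α) := MorphismProperty.of_isPullback sqA.flip hβe
  -- base change of the affine spaces
  have sqT : IsPullback (Spec.map (polyMap n α)) (Spec.map (polyMap n φ'))
      (Spec.map (polyMap n φ)) (Spec.map (polyMap n β)) := by
    refine IsPullback.of_right ?_ ?_ (isPullback_poly n φ)
    · have := ((isPullback_poly n φ').paste_horiz sqA)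
      convert this using 1
      all_goals
        rw [← Spec.map_comp, ← Spec.map_comp]
        congr 1
        ext x
        simp
    · rw [← Spec.map_comp, ← Spec.map_comp]
      congr 1
      ext x
      · simp only [polyMap, CommRingCat.hom_comp, CommRingCat.hom_ofHom, RingHom.comp_apply,
          MvPolynomial.map_C]
        exact congrArg (fun t => MvPolynomial.coeff _ (MvPolynomial.C t))
          ((Algebra.TensorProduct.includeRight : P.Ring →ₐ[B] TensorProduct B A P.Ring).commutes x).symm
      · simp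
  have : Etale (Spec.map (polyMap n β)) :=
    MorphismProperty.of_isPullback (isPullback_poly n β) hβe
  let ζ : P.Ring := P.X
  -- the open subscheme of the new source where the argument works
  let W : (Spec A').Opens := (Spec.map α) ⁻¹ᵁ PrimeSpectrum.basicOpen a
  let T : (Spec (poly n A')).Opens := (Spec.map (polyC n A')) ⁻¹ᵁ W
  have key : Q (T.ι ≫ Spec.map (polyMap n φ')) (Spec.map (polyMap n β) ≫ Spec.map (polyC n B) ≫ sB) := by
    refine hQ.of_forall_exists _ _ (fun z => ?_)
    -- a translation moving the point into the open set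
    let K := z.1.asIdeal.ResidueField
    let χ : MvPolynomial (Fin n) A' →+* K :=
      algebraMap (MvPolynomial (Fin n) A') z.1.asIdeal.ResidueField
    have hχ : ∀ t, χ t = 0 ↔ t ∈ z.1.asIdeal := fun t => Ideal.algebraMap_residueField_eq_zero
    let ρ : A →+* K := (χ.comp MvPolynomial.C).comp α.hom
    have hρa : ρ a ≠ 0 := by
      intro h0
      exact z.2 ((hχ _).1 h0)
    let ζK : K := χ (MvPolynomial.C (φ'.hom ζ))
    let ρB : B →+* K := ρ.comp φ.hom
    letI : Algebra B K := ρB.toAlgebra
    let χB : P.Ring →ₐ[B] K :=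
      { (χ.comp MvPolynomial.C).comp φ'.hom with
        commutes' := fun b => by
          change χ (MvPolynomial.C (φ'.hom (algebraMap B P.Ring b))) = χ (MvPolynomial.C (α.hom (φ.hom b)))
          refine congrArg (fun t => χ (MvPolynomial.C t)) ?_
          exact (Algebra.TensorProduct.includeRight :
            P.Ring →ₐ[B] TensorProduct B A P.Ring).commutes b }
    have hord : orderOf ζK = M := rootPair_orderOf hMp ((P.hasMap_X).map χB)
    let k : Fin n → K := fun j => χ (MvPolynomial.X j)
    let grid : Fin n → Finset K := fun j => (Finset.range M).image fun i => k j + ζK ^ i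
    have hgrid : ∀ j, (grid j).card = M := by
      intro j
      rw [Finset.card_image_of_injOn, Finset.card_range]
      intro i hi i' hi' he
      have := pow_injOn_Iio_orderOf (x := ζK)
      exact this (by simpa [hord] using hi) (by simpa [hord] using hi') (add_left_cancel he)
    obtain ⟨d, hd⟩ : ∃ d : Fin n → ℕ,
        MvPolynomial.eval (fun j => k j + ζK ^ d j) (MvPolynomial.map ρ g) ≠ 0 := by
      by_contra! hall
      have hG : MvPolynomial.map ρ g = 0 := by
        refine MvPolynomial.eq_zero_of_eval_zero_at_prod_finset _ grid (fun j => ?_) (fun v hv => ?_)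
        · rw [hgrid]
          calc _ ≤ (MvPolynomial.map ρ g).totalDegree := MvPolynomial.degreeOf_le_totalDegree _ _
            _ ≤ N := Finset.sup_mono (MvPolynomial.support_map_subset ρ g)
            _ < M := hMN
        · have : ∀ j, ∃ i, k j + ζK ^ i = v j := fun j => by
            obtain ⟨i, -, hi⟩ := Finset.mem_image.1 (hv j)
            exact ⟨i, hi⟩
          choose d hd using this
          have := hall d
          rwa [funext hd] at this
      have := congrArg (MvPolynomial.coeff m) hG
      rw [MvPolynomial.coeff_map, MvPolynomial.coeff_zero] at this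
      exact hρa this
    let σB : poly n B' ⟶ poly n B' := CommRingCat.ofHom (shift fun j => ζ ^ d j).toRingEquiv.toRingHom
    let σA : poly n A' ⟶ poly n A' :=
      CommRingCat.ofHom (shift fun j => φ'.hom (ζ ^ d j)).toRingEquiv.toRingHom
    have : IsIso σB := (shift fun j => ζ ^ d j).toRingEquiv.toCommRingCatIso.isIso_hom
    have : IsIso σA := (shift fun j => φ'.hom (ζ ^ d j)).toRingEquiv.toCommRingCatIso.isIso_hom
    have hσ : polyMap n φ' ≫ σA = σB ≫ polyMap n φ' := by
      ext x
      · simp [σA, σB, shift]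
      · simp [σA, σB, shift]
    let qA := Spec.map σA ≫ Spec.map (polyMap n α)
    let qB := Spec.map σB ≫ Spec.map (polyMap n β)
    have sqQ : IsPullback qA (Spec.map (polyMap n φ')) (Spec.map (polyMap n φ)) qB :=
      (IsPullback.of_horiz_isIso ⟨by rw [← Spec.map_comp, ← Spec.map_comp, hσ]⟩).paste_horiz sqT
    let Dg : (Spec (poly n A)).Opens := PrimeSpectrum.basicOpen g
    have hDg : Q (Dg.ι ≫ Spec.map (polyMap n φ)) (Spec.map (polyC n B) ≫ sB) := by
      have hle : Dg ≤ O := hgO
      rw [← Scheme.homOfLE_ι (Spec (poly n A)) hle, Category.assoc]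
      exact hQ.precomp _ _ _ h
    let V := qA ⁻¹ᵁ Dg
    have sqV : IsPullback (qA ∣_ Dg) (V.ι ≫ Spec.map (polyMap n φ')) (Dg.ι ≫ Spec.map (polyMap n φ)) qB :=
      (isPullback_morphismRestrict qA Dg).paste_vert sqQ
    have hV : Q (V.ι ≫ Spec.map (polyMap n φ')) (Spec.map (polyMap n β) ≫ Spec.map (polyC n B) ≫ sB) := by
      have := hQ.baseChange sqV _ hDg
      have e : qB ≫ Spec.map (polyC n B) = Spec.map (polyMap n β) ≫ Spec.map (polyC n B) := by
        rw [Category.assoc, ← Spec.map_comp, ← Spec.map_comp]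
        congr 1
        ext x
        simp [σB, shift]
      rwa [← Category.assoc, e, Category.assoc] at this
    have hzV : z.1 ∈ V := by
      change g ∉ ((Spec.map (polyMap n α)) ((Spec.map σA) z.1)).asIdeal
      intro hmem
      refine hd ?_
      have : χ (σA.hom ((polyMap n α).hom g)) = 0 := (hχ _).2 hmem
      refine Eq.trans ?_ this
      change _ = (χ.comp (σA.hom.comp (polyMap n α).hom)) g
      rw [MvPolynomial.eval_map]
      change (MvPolynomial.eval₂Hom ρ (fun j => k j + ζK ^ d j)) g = _
      refine (congrArg (fun f : MvPolynomial (Fin n) A →+* K => f g) ?_)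
      ext x
      · simp [σA, shift, ρ]
      · simp [σA, shift, k, ζK]
    refine ⟨(T.ι ⁻¹ᵁ V).toScheme, (T.ι ⁻¹ᵁ V).ι, inferInstance, ⟨⟨z, hzV⟩, rfl⟩, ?_⟩
    have e : (T.ι ⁻¹ᵁ V).ι ≫ T.ι = (T.ι ∣_ V) ≫ V.ι := (morphismRestrict_ι _ _).symm
    rw [← Category.assoc, e, Category.assoc]
    exact hQ.precomp _ _ _ hV
  -- descend to the open subset of the new source
  have hW : Q (W.ι ≫ Spec.map φ') (Spec.map β ≫ sB) := by
    have sq : IsPullback (Spec.map (polyC n A') ∣_ W) (T.ι ≫ Spec.map (polyMap n φ'))
        (W.ι ≫ Spec.map φ') (Spec.map (polyC n B')) :=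
      (isPullback_morphismRestrict (Spec.map (polyC n A')) W).paste_vert (isPullback_poly n φ')
    have : Smooth (Spec.map (polyC n B')) := by
      rw [HasRingHomProperty.Spec_iff (P := @Smooth)]
      change RingHom.Smooth (algebraMap B' (MvPolynomial (Fin n) B'))
      rw [RingHom.smooth_algebraMap]
      constructor <;> infer_instance
    refine hQ.descend (g := Spec.map (polyC n B')) ?_ sq _ ?_
    · intro b _
      let ev : MvPolynomial (Fin n) B' →+* B' := MvPolynomial.eval 0
      refine ⟨Spec.map (CommRingCat.ofHom ev) b, ?_⟩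
      rw [← Scheme.Hom.comp_apply, ← Spec.map_comp]
      have : polyC n B' ≫ CommRingCat.ofHom ev = 𝟙 B' := by ext x; simp [ev]
      rw [this, Spec.map_id]
      rfl
    · have e : Spec.map (polyC n B') ≫ Spec.map β = Spec.map (polyMap n β) ≫ Spec.map (polyC n B) := by
        rw [← Spec.map_comp, ← Spec.map_comp]
        congr 1
        ext x
        simp
      rwa [← Category.assoc, e, Category.assoc]
  refine ⟨W.toScheme, W.ι ≫ Spec.map α, inferInstance, ?_, ?_⟩
  · -- a point of the new source over the given point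
    obtain ⟨K, _, _, hρ, z, hP⟩ := exists_field_root (B := B) hMp x0 hMx
    letI : Algebra B K := ((algebraMap A K).comp φ.hom).toAlgebra
    haveI : IsScalarTower B A K := .of_algebraMap_eq fun _ => rfl
    let ψ : TensorProduct B A P.Ring →ₐ[A] K :=
      Algebra.TensorProduct.lift (Algebra.ofId A K) (P.lift z (hP _)) (fun _ _ => Commute.all _ _)
    let pt : Spec A' := PrimeSpectrum.comap ψ.toRingHom ⊥
    have hpt : ∀ t, α.hom t ∈ pt.asIdeal ↔ t ∈ x0.asIdeal := fun t => by
      rw [← hρ]
      change ψ (Algebra.TensorProduct.includeLeftRingHom t) ∈ (⊥ : Ideal K) ↔ _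
      rw [Ideal.mem_bot]
      simp [ψ]
    refine ⟨⟨pt, fun h => hm ((hpt a).1 h)⟩, ?_⟩
    exact PrimeSpectrum.ext (Ideal.ext hpt)
  · have := hQ.etalePost _ (W.ι ≫ Spec.map φ') (Spec.map β) sB
      (fibBound_standardEtale β P (RingEquiv.refl _) (fun _ => rfl)) hW
    rwa [Category.assoc, ← sqA.w, ← Category.assoc] at this

end LocalQ

end AlgSpLib
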