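import Mathlib.AlgebraicGeometry.Morphisms.Etale
import Mathlib.AlgebraicGeometry.Morphisms.Smooth
import Mathlib.AlgebraicGeometry.Morphisms.Separated
import Mathlib.AlgebraicGeometry.Morphisms.UniversallyOpen
import Mathlib.AlgebraicGeometry.PullbackCarrier
/-!
# Properties of morphisms of schemes etale local on the source and smooth local on the base

Elementary consequences, in particular stability under postcomposition with etale morphisms with
bounded geometric fibres.
-/

set_option autoImplicit false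
universe u
open CategoryTheory CategoryTheory.Limits AlgebraicGeometry

namespace AlgSpLib

variable {S : Scheme.{u}}

/-- `Q f sB` is a property of the morphism `f` of schemes over `S`, `sB` being the structure map of the target. -/
structure LocalQ (Q : ∀ ⦃A B : Scheme.{u}⦄, (A ⟶ B) → (B ⟶ S) → Prop) : Prop where
  srcLocal : ∀ ⦃A B : Scheme.{u}⦄ (f : A ⟶ B) (sB : B ⟶ S) ⦃ι : Type u⦄ (Ai : ι → Scheme.{u})
    (g : ∀ i, Ai i ⟶ A), (∀ i, Etale (g i)) → (∀ a : A, ∃ i, a ∈ Set.range (g i)) →
    (Q f sB ↔ ∀ i, Q (g i ≫ f) sB)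
  baseLocal : ∀ ⦃A B : Scheme.{u}⦄ (f : A ⟶ B) (sB : B ⟶ S) ⦃ι : Type u⦄ (Bi Ai : ι → Scheme.{u})
    (g : ∀ i, Bi i ⟶ B) (p : ∀ i, Ai i ⟶ Bi i) (q : ∀ i, Ai i ⟶ A),
    (∀ i, Smooth (g i)) → (∀ b : B, ∃ i, b ∈ Set.range (g i)) →
    (∀ i, IsPullback (q i) (p i) f (g i)) → (Q f sB ↔ ∀ i, Q (p i) (g i ≫ sB))
  postOpen : ∀ ⦃A B C : Scheme.{u}⦄ (f : A ⟶ B) (j : B ⟶ C) (sC : C ⟶ S) [IsOpenImmersion j],
    Q f (j ≫ sC) → Q (f ≫ j) sC

namespace LocalQ

variable {Q : ∀ ⦃A B : Scheme.{u}⦄, (A ⟶ B) → (B ⟶ S) → Prop} (hQ : LocalQ Q)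
include hQ

theorem empty {A B : Scheme.{u}} [IsEmpty ↥A] (f : A ⟶ B) (sB : B ⟶ S) : Q f sB :=
  (hQ.srcLocal f sB (ι := PEmpty.{u + 1}) (fun i => i.elim) (fun i => i.elim) (fun i => i.elim)
    (fun a => isEmptyElim a)).2 (fun i => i.elim)

theorem precomp {A' A B : Scheme.{u}} (g : A' ⟶ A) [Etale g] (f : A ⟶ B) (sB : B ⟶ S)
    (h : Q f sB) : Q (g ≫ f) sB := by
  let Ai : ULift.{u} Bool → Scheme.{u} := fun i => bif i.down then A' else A
  let gi : ∀ i, Ai i ⟶ A := fun i => match i with
    | ⟨true⟩ => g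
    | ⟨false⟩ => 𝟙 A
  exact (hQ.srcLocal f sB Ai gi (fun i => match i with
    | ⟨true⟩ => ‹Etale g›
    | ⟨false⟩ => (inferInstance : Etale (𝟙 A)))
    (fun a => ⟨⟨false⟩, a, rfl⟩)).1 h ⟨true⟩

theorem baseChange {A B A' B' : Scheme.{u}} {f : A ⟶ B} {g : B' ⟶ B} {p : A' ⟶ B'} {q : A' ⟶ A}
    [Smooth g] (sq : IsPullback q p f g) (sB : B ⟶ S) (h : Q f sB) : Q p (g ≫ sB) := by
  let Bi : ULift.{u} Bool → Scheme.{u} := fun i => bif i.down then B' else B
  let Ai : ULift.{u} Bool → Scheme.{u} := fun i => bif i.down then A' else A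
  let gi : ∀ i, Bi i ⟶ B := fun i => match i with
    | ⟨true⟩ => g
    | ⟨false⟩ => 𝟙 B
  let pi' : ∀ i, Ai i ⟶ Bi i := fun i => match i with
    | ⟨true⟩ => p
    | ⟨false⟩ => f
  let qi : ∀ i, Ai i ⟶ A := fun i => match i with
    | ⟨true⟩ => q
    | ⟨false⟩ => 𝟙 A
  exact (hQ.baseLocal f sB Bi Ai gi pi' qi (fun i => match i with
    | ⟨true⟩ => ‹Smooth g›
    | ⟨false⟩ => (inferInstance : Smooth (𝟙 B)))
    (fun a => ⟨⟨false⟩, a, rfl⟩) (fun i => match i with
    | ⟨true⟩ => sq
    | ⟨false⟩ => IsPullback.id_horiz f)).1 h ⟨true⟩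

/-- A morphism has the property as soon as it has it etale locally near every point of the source. -/
theorem of_forall_exists {A B : Scheme.{u}} (f : A ⟶ B) (sB : B ⟶ S)
    (h : ∀ a : A, ∃ (C : Scheme.{u}) (g : C ⟶ A), Etale g ∧ a ∈ Set.range g ∧ Q (g ≫ f) sB) :
    Q f sB := by
  choose C g hg ha hq using h
  exact (hQ.srcLocal f sB C g hg (fun a => ⟨a, ha a⟩)).2 hq

/-- Descent along a smooth morphism whose image contains the image of `f`. -/
theorem descend {A B A' B' : Scheme.{u}} {f : A ⟶ B} {g : B' ⟶ B} {p : A' ⟶ B'} {q : A' ⟶ A}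
    [Smooth g] (hsurj : Set.range f ⊆ Set.range g) (sq : IsPullback q p f g) (sB : B ⟶ S)
    (h : Q p (g ≫ sB)) : Q f sB := by
  let O : B.Opens := ⟨Set.range g, g.isOpenMap.isOpen_range⟩
  have hO : Set.range O.ι = Set.range g := Scheme.Opens.range_ι O
  let g' := IsOpenImmersion.lift O.ι g hO.ge
  let f' := IsOpenImmersion.lift O.ι f (hO ▸ hsurj)
  have hg' : g' ≫ O.ι = g := IsOpenImmersion.lift_fac _ _ _
  have hf' : f' ≫ O.ι = f := IsOpenImmersion.lift_fac _ _ _
  have : Smooth g' := by
    have e : IsPullback (𝟙 B') g' g O.ι := by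
      refine ⟨⟨by rw [hg', Category.id_comp]⟩, ⟨PullbackCone.IsLimit.mk _ (fun s => s.fst)
        (fun s => by simp) (fun s => ?_) (fun s m h1 _ => by simpa using h1)⟩⟩
      rw [← cancel_mono O.ι, Category.assoc, hg']
      exact s.condition
    exact MorphismProperty.of_isPullback (P := @Smooth) e ‹Smooth g›
  have sq' : IsPullback q p f' g' := by
    have e : q ≫ f' = p ≫ g' := by
      rw [← cancel_mono O.ι, Category.assoc, Category.assoc, hf', hg']; exact sq.w
    refine IsPullback.of_isLimit' ⟨e⟩ (PullbackCone.IsLimit.mk _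
      (fun s => sq.lift s.fst s.snd (by rw [← hf', ← hg', ← Category.assoc, s.condition, Category.assoc]))
      (fun s => sq.lift_fst _ _ _) (fun s => sq.lift_snd _ _ _) (fun s m h1 h2 => ?_))
    exact sq.hom_ext (by rw [sq.lift_fst]; exact h1) (by rw [sq.lift_snd]; exact h2)
  have hb : Q f' (O.ι ≫ sB) := by
    refine (hQ.baseLocal f' (O.ι ≫ sB) (ι := PUnit.{u + 1}) (fun _ => B') (fun _ => A') (fun _ => g')
      (fun _ => p) (fun _ => q) (fun _ => ‹_›) (fun b => ?_) (fun _ => sq')).2 (fun _ => ?_)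
    · have : O.ι b ∈ Set.range g := hO ▸ Set.mem_range_self b
      obtain ⟨b', hb'⟩ := this
      refine ⟨⟨⟩, b', O.ι.isOpenEmbedding.injective ?_⟩
      rw [← Scheme.Hom.comp_apply, hg', hb']
    · rwa [← Category.assoc, hg']
  simpa [hf'] using hQ.postOpen f' O.ι sB hb

/-- Geometric fibres have at most `n` points. -/
def FibBound {E V : Scheme.{u}} (g : E ⟶ V) (n : ℕ) : Prop :=
  ∀ (K : Type u) [Field K] (e : Fin (n + 1) → (Spec (CommRingCat.of K) ⟶ E)),
    (∀ i j, e i ≫ g = e j ≫ g) → ¬ Function.Injective e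

/-- Stability under postcomposition with separated etale morphisms with bounded geometric fibres. -/
theorem etalePost (n : ℕ) :
    ∀ {U E V : Scheme.{u}} (h : U ⟶ E) (g : E ⟶ V) [Etale g] [IsSeparated g] (sV : V ⟶ S),
      FibBound g n → Q h (g ≫ sV) → Q (h ≫ g) sV := by
  induction n with
  | zero =>
    intro U E V h g _ _ sV hb _
    have : IsEmpty ↥U := ⟨fun u => hb _ (fun _ => E.fromSpecResidueField (h u)) (fun _ _ => rfl)
      (fun i j _ => Fin.ext (by omega))⟩
    exact hQ.empty _ _
  | succ n ih =>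
    intro U E V h g _ _ sV hb hh
    let p1 := pullback.fst g g
    let p2 := pullback.snd g g
    let a := pullback.fst h p1
    let h' := pullback.snd h p1
    have big : IsPullback a (h' ≫ p2) (h ≫ g) g :=
      ((IsPullback.of_hasPullback h p1).flip.paste_horiz
        (IsPullback.of_hasPullback g g).flip).flip
    refine hQ.descend ?_ big sV ?_
    · rintro _ ⟨x, rfl⟩
      exact ⟨h x, rfl⟩
    refine hQ.of_forall_exists _ _ (fun z => ?_)
    by_cases hz : h' z ∈ Set.range (pullback.diagonal g)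
    · refine ⟨pullback h' (pullback.diagonal g), pullback.fst _ _,
        (MorphismProperty.pullback_fst _ _ (inferInstanceAs (Etale (pullback.diagonal g)))), ?_, ?_⟩
      · obtain ⟨w, hw⟩ := hz
        obtain ⟨c, hc, -⟩ := Scheme.Pullback.exists_preimage_pullback z w hw.symm
        exact ⟨c, hc⟩
      · let c := pullback.snd h' (pullback.diagonal g)
        have e : pullback.fst h' (pullback.diagonal g) ≫ h' ≫ p2 = c := by
          rw [← Category.assoc, pullback.condition, Category.assoc]
          simp [p2, c]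
        have sq : IsPullback (pullback.fst h' (pullback.diagonal g) ≫ a) c h (𝟙 E) := by
          have := (IsPullback.of_hasPullback h' (pullback.diagonal g)).flip.paste_vert
            (IsPullback.of_hasPullback h p1).flip
          rw [show pullback.diagonal g ≫ p1 = 𝟙 E from pullback.diagonal_fst g] at this
          exact this.flip
        rw [e]
        simpa using hQ.baseChange sq (g ≫ sV) hh
    · let O : (pullback g g).Opens :=
        ⟨(Set.range (pullback.diagonal g))ᶜ,
          (pullback.diagonal g).isClosedEmbedding.isClosed_range.isOpen_compl⟩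
      refine ⟨pullback h' O.ι, pullback.fst _ _,
        (MorphismProperty.pullback_fst _ _ (inferInstanceAs (Etale O.ι))), ?_, ?_⟩
      · obtain ⟨c, hc, -⟩ :=
          Scheme.Pullback.exists_preimage_pullback (f := h') (g := O.ι) z (⟨h' z, hz⟩ : O) rfl
        exact ⟨c, hc⟩
      · let c := pullback.snd h' O.ι
        have e : pullback.fst h' O.ι ≫ h' ≫ p2 = c ≫ O.ι ≫ p2 := by
          rw [← Category.assoc, pullback.condition, Category.assoc]
        have sq : IsPullback (pullback.fst h' O.ι ≫ a) c h (O.ι ≫ p1) :=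
          ((IsPullback.of_hasPullback h' O.ι).flip.paste_vert
            (IsPullback.of_hasPullback h p1).flip).flip
        have hcond : (O.ι ≫ p1) ≫ g = (O.ι ≫ p2) ≫ g := by
          simp [p1, p2, pullback.condition]
        rw [e]
        refine ih c (O.ι ≫ p2) (g ≫ sV) ?_ ?_
        · intro K _ e' he hinj
          refine hb K (Fin.cons (e' 0 ≫ O.ι ≫ p2) (fun i => e' i ≫ O.ι ≫ p1)) ?_ ?_
          · have : ∀ i, Fin.cons (α := fun _ => Spec (CommRingCat.of K) ⟶ E)
                (e' 0 ≫ O.ι ≫ p2) (fun i => e' i ≫ O.ι ≫ p1) i ≫ g = (e' 0 ≫ O.ι ≫ p2) ≫ g := by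
              refine Fin.cases ?_ ?_
              · simp
              · intro i
                rw [Fin.cons_succ, he 0 i]
                simp only [Category.assoc] at hcond ⊢
                rw [hcond]
            intro i j
            rw [this i, this j]
          · refine Fin.cons_injective_iff.2 ⟨?_, ?_⟩
            · rintro ⟨i, hi⟩
              have hd : e' i ≫ O.ι = (e' 0 ≫ O.ι ≫ p2) ≫ pullback.diagonal g := by
                apply pullback.hom_ext
                · simpa [p1, p2] using hi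
                · simpa [p1, p2] using (he i 0)
              have hmem : O.ι (e' i (IsLocalRing.closedPoint K)) ∈ Set.range (pullback.diagonal g) := by
                refine ⟨(e' 0 ≫ O.ι ≫ p2) (IsLocalRing.closedPoint K), ?_⟩
                rw [← Scheme.Hom.comp_apply, ← Scheme.Hom.comp_apply, hd]
              exact (e' i (IsLocalRing.closedPoint K)).2 hmem
            · intro i j hij
              apply hinj
              rw [← cancel_mono O.ι]
              apply pullback.hom_ext
              · simpa [p1] using hij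
              · simpa [p2] using he i j
        · have := hQ.baseChange sq (g ≫ sV) hh
          rwa [← Category.assoc, hcond, Category.assoc] at this

end LocalQ

end AlgSpLib
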