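import Groth.Agent.AlgSpLib.ThickSpace
/-!
# First order thickenings pull back along arbitrary maps from affine schemes
-/

set_option autoImplicit false
universe u
open CategoryTheory CategoryTheory.Limits AlgebraicGeometry Opposite AlgSp Topology TensorProduct

namespace AlgSpLib

variable {S : Scheme.{u}}

/-- A flat algebra detects vanishing near the primes in its image. -/
theorem exists_notMem_mul_eq_zero {A D : Type u} [CommRing A] [CommRing D] [Algebra A D] [Module.Flat A D]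
    (z : A) (hz : algebraMap A D z = 0) (q : PrimeSpectrum D) :
    ∃ s, s ∉ (PrimeSpectrum.comap (algebraMap A D) q).asIdeal ∧ s * z = 0 := by
  by_contra! hc
  let an : Ideal A := LinearMap.ker (LinearMap.toSpanSingleton A A z)
  have hle : an.map (algebraMap A D) ≤ q.asIdeal := Ideal.map_le_iff_le_comap.2 fun s hs => by
    by_contra hn
    exact hc s hn (by simpa [an] using hs)
  have hex := Module.Flat.lTensor_exact D (LinearMap.exact_subtype_ker_map (LinearMap.toSpanSingleton A A z))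
  obtain ⟨t, ht⟩ := (hex (1 ⊗ₜ 1)).1 (by
    rw [LinearMap.lTensor_tmul, LinearMap.toSpanSingleton_apply, smul_eq_mul, one_mul]
    rw [← mul_one z, ← smul_eq_mul, TensorProduct.tmul_smul, TensorProduct.smul_tmul', Algebra.smul_def, hz,
      zero_mul, TensorProduct.zero_tmul])
  have key : ∀ t : D ⊗[A] an, TensorProduct.rid A D ((an.subtype).lTensor D t) ∈ an.map (algebraMap A D) := by
    intro t
    induction t using TensorProduct.induction_on with
    | zero => simp
    | add x y hx hy => rw [map_add, map_add]; exact Ideal.add_mem _ hx hy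
    | tmul d s =>
      rw [LinearMap.lTensor_tmul, TensorProduct.rid_tmul, Algebra.smul_def]
      exact Ideal.mul_mem_right _ _ (Ideal.mem_map_of_mem _ s.2)
  have h1 := hle (key t)
  rw [show (an.subtype).lTensor D t = 1 ⊗ₜ 1 from ht, TensorProduct.rid_tmul, one_smul] at h1
  exact q.2.ne_top ((Ideal.eq_top_iff_one _).2 h1)

theorem exists_data_of_charts {T T' : Sp S} {j : T ⟶ T'} (hj : IsThickMor j)
    (hchart : ∀ x : Points T', ∃ (C : CommRingCat.{u}) (strC : Spec C ⟶ S)
      (e : (yon S).obj (Over.mk strC) ⟶ T') (zc : ↥(Spec C)), RepWith @Etale e ∧ Points.ofPt e zc = x ∧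
        ∃ I : Ideal C, I ^ 2 = ⊥ ∧ ∃ r : (yon S).obj (ptA strC (C ⧸ I)) ⟶ T,
          IsPullback r ((yon S).map (stA strC (C ⧸ I))) j e)
    {A : Type u} [CommRing A] {str : Spec (CommRingCat.of A) ⟶ S} (m : (yon S).obj (Over.mk str) ⟶ T') :
    ∃ I : Ideal A, I ^ 2 = ⊥ ∧ ∃ r : (yon S).obj (ptA str (A ⧸ I)) ⟶ T,
      IsPullback r ((yon S).map (stA str (A ⧸ I))) j m := by
  obtain ⟨W, tW, jW, sqT⟩ : ∃ (W : Over S) (tW : (yon S).obj W ⟶ T) (jW : W ⟶ Over.mk str),
      IsPullback tW ((yon S).map jW) j m := ⟨_, _, _, hj.rep.isPullback m⟩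
  obtain ⟨hjc, hjs⟩ := (repWith_yon_map_iff (P := thick) jW).1 (repWith_of_isPullback sqT hj)
  obtain ⟨I, ι, hι, -⟩ := exists_quotient_iso_of_thick (A := A) jW.left
  let ι' : ptA str (A ⧸ I) ⟶ W := Over.homMk ι.hom (by
    change ι.hom ≫ W.hom = Spec.map _ ≫ str
    rw [← Over.w jW, ← Category.assoc, hι]
    rfl)
  have : IsIso ((Over.forget S).map ι') := inferInstanceAs (IsIso ι.hom)
  have : IsIso ι' := isIso_of_reflects_iso ι' (Over.forget S)
  have sqI : IsPullback ((yon S).map ι' ≫ tW) ((yon S).map (stA str (A ⧸ I))) j m :=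
    sqT.of_iso (asIso ((yon S).map ι')).symm (Iso.refl _) (Iso.refl _) (Iso.refl _) (by simp) (by
      rw [Iso.refl_hom, Category.comp_id, Iso.symm_hom, asIso_inv, IsIso.eq_inv_comp, ← Functor.map_comp]
      exact congrArg (yon S).map (Over.OverMorphism.ext hι)) (by simp) (by simp)
  refine ⟨I, ?_, _, sqI⟩
  rw [pow_two]
  refine le_bot_iff.1 (Ideal.mul_le.2 fun x hx y hy => ?_)
  rw [Ideal.mem_bot]
  let an : Ideal A := LinearMap.ker (LinearMap.toSpanSingleton A A (x * y))
  suffices an = ⊤ by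
    have h1 : (1 : A) ∈ an := by rw [this]; trivial
    simpa [an] using h1
  by_contra hne
  obtain ⟨p, hp, hanp⟩ := Ideal.exists_le_maximal an hne
  let P : PrimeSpectrum A := ⟨p, hp.isPrime⟩
  -- an etale chart near the prime
  obtain ⟨C, strC, e, zc, he, hzc, IC, hIC, rC, sqC⟩ := hchart (Points.ofPt m P)
  obtain ⟨V, pC, pA, sqV⟩ : ∃ (V : Over S) (pC : V ⟶ Over.mk strC) (pA : V ⟶ Over.mk str),
      IsPullback ((yon S).map pC) ((yon S).map pA) e m := exists_isPullback_yon e m he.rep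
  have : Etale pA.left := etale_left (repWith_of_isPullback sqV he)
  obtain ⟨w, -, hw⟩ := exists_point_isPullback sqV (Points.ofScheme (Over.mk strC) zc)
    (Points.ofScheme (Over.mk str) P)
    (by rw [← Points.ofPt_eq_map_ofScheme, ← Points.ofPt_eq_map_ofScheme, hzc])
  obtain ⟨v, rfl⟩ := (Points.schemeEquiv V).surjective w
  have hv : pA.left v = P := by
    apply (Points.schemeEquiv (Over.mk str)).injective
    exact (Points.map_yon_map_apply pA v).symm.trans hw
  obtain ⟨O, hO, hvO, -⟩ := exists_isAffineOpen_mem_and_subset (X := V.left) (x := v) (U := ⊤) trivial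
  let φ : A →+* Γ(V.left, O) := (Spec.preimage (hO.fromSpec ≫ pA.left)).hom
  let ψ : C →+* Γ(V.left, O) := (Spec.preimage (hO.fromSpec ≫ pC.left)).hom
  have hφ : Spec.map (CommRingCat.ofHom φ) = hO.fromSpec ≫ pA.left := Spec.map_preimage _
  have hψ : Spec.map (CommRingCat.ofHom ψ) = hO.fromSpec ≫ pC.left := Spec.map_preimage _
  let J := IC.map ψ
  let strD : Spec Γ(V.left, O) ⟶ S := hO.fromSpec ≫ V.hom
  let o : Over.mk strD ⟶ V := Over.homMk hO.fromSpec rfl
  let DJ : Over S := Over.mk (Spec.map (CommRingCat.ofHom (Ideal.Quotient.mk J)) ≫ strD)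
  let jD : DJ ⟶ Over.mk strD := Over.homMk (Spec.map (CommRingCat.ofHom (Ideal.Quotient.mk J))) rfl
  let k : DJ ⟶ ptA strC (C ⧸ IC) :=
    Over.homMk (Spec.map (CommRingCat.ofHom (Ideal.quotientMap J ψ Ideal.le_comap_map))) (by
      change _ ≫ Spec.map _ ≫ _ = Spec.map _ ≫ strD
      rw [show strD = (o ≫ pC).left ≫ strC from (Over.w (o ≫ pC)).symm,
        show (o ≫ pC).left = Spec.map (CommRingCat.ofHom ψ) from hψ.symm,
        ← Spec.map_comp_assoc, ← Spec.map_comp_assoc]
      exact congrArg (fun k => Spec.map k ≫ _) (CommRingCat.hom_ext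
        (Ideal.quotientMap_comp_mk (J := IC) (f := ψ) Ideal.le_comap_map)))
  have hk : k ≫ stA strC (C ⧸ IC) = jD ≫ o ≫ pC := Over.OverMorphism.ext (by
    change Spec.map _ ≫ Spec.map _ = Spec.map _ ≫ hO.fromSpec ≫ pC.left
    rw [← hψ, ← Spec.map_comp, ← Spec.map_comp]
    exact congrArg Spec.map (CommRingCat.hom_ext
      (Ideal.quotientMap_comp_mk (J := IC) (f := ψ) Ideal.le_comap_map)))
  obtain ⟨k', hk'⟩ := (yon S).map_surjective (sqI.lift ((yon S).map k ≫ rC) ((yon S).map (jD ≫ o ≫ pA)) (by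
    rw [Category.assoc, sqC.w, ← Functor.map_comp_assoc, hk]
    simp only [Functor.map_comp, Category.assoc]
    rw [sqV.w]))
  have hk'2 : k' ≫ stA str (A ⧸ I) = jD ≫ o ≫ pA :=
    (yon S).map_injective (by rw [Functor.map_comp, hk', sqI.lift_snd])
  have hIJ : ∀ a ∈ I, φ a ∈ J := fun a ha => by
    have h := congrArg CommaMorphism.left hk'2
    change k'.left ≫ Spec.map (CommRingCat.ofHom (Ideal.Quotient.mk I)) = Spec.map _ ≫ hO.fromSpec ≫ pA.left at h
    rw [← hφ, ← Spec.map_preimage k'.left, ← Spec.map_comp, ← Spec.map_comp] at h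
    have := congrArg (fun f => f.hom a) (Spec.map_injective h)
    simp only [CommRingCat.hom_comp, CommRingCat.hom_ofHom, RingHom.comp_apply] at this
    rw [← Ideal.Quotient.eq_zero_iff_mem, ← this, Ideal.Quotient.eq_zero_iff_mem.2 ha]
    exact map_zero _
  let : Algebra A Γ(V.left, O) := φ.toAlgebra
  have : Module.Flat A Γ(V.left, O) := by
    refine RingHom.flat_algebraMap_iff.1 ((HasRingHomProperty.Spec_iff (P := @Flat)).1 ?_)
    exact (show Flat (Spec.map (Spec.preimage (hO.fromSpec ≫ pA.left))) from by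
      rw [Spec.map_preimage]; exact inferInstanceAs (Flat (hO.fromSpec ≫ pA.left)))
  have hzero : φ (x * y) = 0 := by
    have hJ : J ^ 2 = ⊥ := by rw [← Ideal.map_pow, hIC, Ideal.map_bot]
    have := Ideal.mul_mem_mul (hIJ x hx) (hIJ y hy)
    rw [← pow_two, hJ, Ideal.mem_bot] at this
    rw [map_mul, this]
  obtain ⟨s, hs, hs0⟩ := exists_notMem_mul_eq_zero (x * y) hzero (hO.isoSpec.hom ⟨v, hvO⟩)
  refine hs ?_
  have : PrimeSpectrum.comap φ (hO.isoSpec.hom ⟨v, hvO⟩) = P := by
    change (Spec.map (CommRingCat.ofHom φ)) (hO.isoSpec.hom ⟨v, hvO⟩) = P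
    rw [hφ, ← hv]
    change (hO.isoSpec.hom ≫ hO.fromSpec ≫ pA.left) ⟨v, hvO⟩ = _
    rw [IsAffineOpen.isoSpec_hom_fromSpec_assoc]
    rfl
  change s ∈ (PrimeSpectrum.comap φ (hO.isoSpec.hom ⟨v, hvO⟩)).asIdeal
  rw [this]
  exact hanp (by simpa [an] using hs0)

theorem exists_data_any {T T' : Sp S} {j : T ⟶ T'} (hj : IsFOThickMor j) (hT' : IsAlgSpace T') {A : Type u}
    [CommRing A] {str : Spec (CommRingCat.of A) ⟶ S} (m : (yon S).obj (Over.mk str) ⟶ T') :
    ∃ I : Ideal A, I ^ 2 = ⊥ ∧ ∃ r : (yon S).obj (ptA str (A ⧸ I)) ⟶ T,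
      IsPullback r ((yon S).map (stA str (A ⧸ I))) j m := by
  refine exists_data_of_charts hj.1 (fun x => ?_) m
  obtain ⟨C, strC, e, zc, he, hzc⟩ := exists_affine_etale_nhd hT' x
  obtain ⟨I, hI, r, sq⟩ := exists_chart_data hj e he
  exact ⟨C, strC, e, zc, he, hzc, I, hI, r, sq⟩

theorem sqZero_specMap_mk {A : Type u} [CommRing A] (I : Ideal A) (hI : I ^ 2 = ⊥) :
    sqZero (Spec.map (CommRingCat.ofHom (Ideal.Quotient.mk I))) := by
  unfold sqZero
  refine Scheme.IdealSheafData.ext_of_isAffine ?_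
  rw [Scheme.IdealSheafData.ideal_mul, Pi.mul_apply, Scheme.Hom.ker_apply]
  change RingHom.ker (Spec.map (CommRingCat.ofHom (Ideal.Quotient.mk I))).appTop.hom *
    RingHom.ker (Spec.map (CommRingCat.ofHom (Ideal.Quotient.mk I))).appTop.hom = ⊥
  refine le_bot_iff.1 (Ideal.mul_le.2 fun x hx y hy => ?_)
  let σ := Scheme.ΓSpecIso (CommRingCat.of A)
  have key : ∀ z, z ∈ RingHom.ker (Spec.map (CommRingCat.ofHom (Ideal.Quotient.mk I))).appTop.hom →
      σ.hom z ∈ I := by
    intro z hz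
    have := congrArg (fun k => k.hom z) (Scheme.ΓSpecIso_naturality (CommRingCat.ofHom (Ideal.Quotient.mk I)))
    simp only [CommRingCat.hom_comp, RingHom.comp_apply, CommRingCat.hom_ofHom] at this
    rw [← Ideal.Quotient.eq_zero_iff_mem, ← this, RingHom.mem_ker.1 hz, map_zero]
  have h2 := Ideal.mul_mem_mul (key x hx) (key y hy)
  rw [← pow_two, hI, Ideal.mem_bot, ← map_mul] at h2
  rw [Ideal.mem_bot]
  exact σ.commRingCatIsoToRingEquiv.injective (h2.trans (map_zero _).symm)

/-- Square-zero quotients of affine schemes are first order thickenings. -/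
theorem isFOThickMor_stA {A : Type u} [CommRing A] (str : Spec (CommRingCat.of A) ⟶ S) (I : Ideal A)
    (hI : I ^ 2 = ⊥) : IsFOThickMor ((yon S).map (stA str (A ⧸ I))) := by
  have ht : IsThickMor ((yon S).map (stA str (A ⧸ I))) := (isThickMor_yon_map_iff _).2 (thick_quotient A I hI)
  refine ⟨ht, fun V W b fst snd hV hb sq => ?_⟩
  obtain ⟨hc, hs⟩ := (repWith_yon_map_iff (P := thick) snd).1 (repWith_of_isPullback sq ht)
  obtain ⟨β, rfl⟩ := (yon S).map_surjective b
  obtain ⟨f₁, rfl⟩ := (yon S).map_surjective fst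
  obtain ⟨K, ι, hι, -⟩ := exists_quotient_iso_of_thick (A := Γ(V.left, ⊤)) (snd.left ≫ V.left.isoSpec.hom)
  let φ : A →+* Γ(V.left, ⊤) := (Spec.preimage (V.left.isoSpec.inv ≫ β.left)).hom
  have hφ : Spec.map (CommRingCat.ofHom φ) = V.left.isoSpec.inv ≫ β.left := Spec.map_preimage _
  have sqL : IsPullback f₁.left snd.left (stA str (A ⧸ I)).left β.left := isPullback_left sq
  let J := I.map φ
  let g₁ : Spec (CommRingCat.of (Γ(V.left, ⊤) ⧸ J)) ⟶ (ptA str (A ⧸ I)).left :=
    Spec.map (CommRingCat.ofHom (Ideal.quotientMap J φ Ideal.le_comap_map))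
  let g₂ : Spec (CommRingCat.of (Γ(V.left, ⊤) ⧸ J)) ⟶ V.left :=
    Spec.map (CommRingCat.ofHom (Ideal.Quotient.mk J)) ≫ V.left.isoSpec.inv
  have hw : g₁ ≫ (stA str (A ⧸ I)).left = g₂ ≫ β.left := by
    change Spec.map _ ≫ Spec.map _ = (Spec.map _ ≫ _) ≫ _
    rw [Category.assoc, ← hφ, ← Spec.map_comp, ← Spec.map_comp]
    exact congrArg Spec.map (CommRingCat.hom_ext
      (Ideal.quotientMap_comp_mk (J := I) (f := φ) Ideal.le_comap_map))
  have hle : K ≤ J := by
    have h : (sqL.lift g₁ g₂ hw ≫ ι.inv) ≫ Spec.map (CommRingCat.ofHom (Ideal.Quotient.mk K)) =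
        Spec.map (CommRingCat.ofHom (Ideal.Quotient.mk J)) := by
      rw [Category.assoc, ← hι, Iso.inv_hom_id_assoc, ← Category.assoc, sqL.lift_snd, Category.assoc,
        Iso.inv_hom_id, Category.comp_id]
    rw [← Spec.map_preimage (sqL.lift g₁ g₂ hw ≫ ι.inv), ← Spec.map_comp] at h
    intro z hz
    have := congrArg (fun f => f.hom z) (Spec.map_injective h)
    simp only [CommRingCat.hom_comp, CommRingCat.hom_ofHom, RingHom.comp_apply] at this
    rw [← Ideal.Quotient.eq_zero_iff_mem, ← this, Ideal.Quotient.eq_zero_iff_mem.2 hz]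
    exact map_zero _
  have hK : K ^ 2 = ⊥ := le_bot_iff.1 ((Ideal.pow_right_mono hle 2).trans
    (by rw [← Ideal.map_pow, hI, Ideal.map_bot]))
  have h := sqZero_specMap_mk K hK
  have hker : (snd.left ≫ V.left.isoSpec.hom).ker * (snd.left ≫ V.left.isoSpec.hom).ker = ⊥ := by
    unfold sqZero at h
    rwa [← hι, Scheme.Hom.ker_comp_of_isIso] at h
  have : IsAffine V.left := hV
  unfold sqZero
  refine Scheme.IdealSheafData.ext_of_isAffine ?_
  rw [Scheme.IdealSheafData.ideal_mul, Pi.mul_apply, Scheme.Hom.ker_apply]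
  change RingHom.ker snd.left.appTop.hom * RingHom.ker snd.left.appTop.hom = ⊥
  refine le_bot_iff.1 (Ideal.mul_le.2 fun x hx y hy => ?_)
  have hk := congrArg (fun I => Scheme.IdealSheafData.ideal I ⟨⊤, isAffineOpen_top _⟩) hker
  simp only [Scheme.IdealSheafData.ideal_mul, Pi.mul_apply, Scheme.Hom.ker_apply,
    Scheme.IdealSheafData.ideal_bot, Pi.bot_apply] at hk
  have : IsIso V.left.isoSpec.hom.appTop := inferInstanceAs (IsIso (V.left.isoSpec.hom.app ⊤))
  have hbij := ConcreteCategory.bijective_of_isIso V.left.isoSpec.hom.appTop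
  obtain ⟨x', rfl⟩ := hbij.2 x
  obtain ⟨y', rfl⟩ := hbij.2 y
  have key : ∀ z, V.left.isoSpec.hom.appTop z ∈ RingHom.ker snd.left.appTop.hom →
      z ∈ RingHom.ker (snd.left ≫ V.left.isoSpec.hom).appTop.hom := fun z hz => by
    rw [RingHom.mem_ker, Scheme.Hom.comp_appTop, CommRingCat.hom_comp, RingHom.comp_apply]
    exact hz
  have h2 := Ideal.mul_mem_mul (key _ hx) (key _ hy)
  rw [show RingHom.ker (snd.left ≫ V.left.isoSpec.hom).appTop.hom *
      RingHom.ker (snd.left ≫ V.left.isoSpec.hom).appTop.hom = ⊥ from hk, Ideal.mem_bot] at h2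
  rw [Ideal.mem_bot, ← map_mul, h2, map_zero]

end AlgSpLib
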