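import Groth.Agent.AlgSpLib.CodimZero
import Groth.Agent.DepthLib.GeomRk
import Groth.Agent.CMFlatLib.DimFormula

/-!
# Local rings of fibres under base change
-/

set_option autoImplicit false
universe u

open CategoryTheory CategoryTheory.Limits AlgebraicGeometry Topology
open AlgSp

namespace AlgSpLib

theorem stalkDim_fiber_congr {X Y : Scheme.{u}} (f : X ⟶ Y) (s : Y) (w : f.fiber s) (z : X)
    (hz : (f.fiberι s).base w = z) :
    ringKrullDim ((f.fiber s).presheaf.stalk w) =
      ringKrullDim ((f.fiber (f.base z)).presheaf.stalk (f.asFiber z)) := by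
  obtain rfl : s = f.base z := by
    have h : (f.fiberι s).base w ∈ Set.range (f.fiberι s).base := ⟨w, rfl⟩
    rw [f.range_fiberι, hz] at h
    exact (h : f.base z = s).symm
  rw [(f.fiberι _).isEmbedding.injective (hz.trans (f.fiberι_asFiber z).symm)]

theorem fibreStalk_baseChange {X S X' S' : Scheme.{u}} {f : X ⟶ S} [LocallyOfFiniteType f] {g : S' ⟶ S}
    {g' : X' ⟶ X} {f' : X' ⟶ S'} (hc : IsPullback g' f' f g) (x' : X') :
    ringKrullDim ((f.fiber (f.base (g'.base x'))).presheaf.stalk (f.asFiber (g'.base x'))) ≤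
        ringKrullDim ((f'.fiber (f'.base x')).presheaf.stalk (f'.asFiber x')) ∧
      ∃ z : X', g'.base z = g'.base x' ∧ f'.base z = f'.base x' ∧
        ringKrullDim ((f'.fiber (f'.base z)).presheaf.stalk (f'.asFiber z)) =
          ringKrullDim ((f.fiber (f.base (g'.base x'))).presheaf.stalk (f.asFiber (g'.base x'))) := by
  haveI : LocallyOfFiniteType f' := MorphismProperty.of_isPullback hc ‹_›
  have h := isPullback_fiberToSpecResidueField_of_isPullback hc (f'.base x')
  let a := pullback.lift (f'.fiberι (f'.base x') ≫ g') (f'.fiberToSpecResidueField (f'.base x') ≫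
      Spec.map (g.residueFieldMap (f'.base x'))) (by
    rw [Category.assoc, Category.assoc, hc.w, Scheme.Hom.SpecMap_residueFieldMap_fromSpecResidueField]
    exact pullback.condition_assoc _) (f := f) (g := S.fromSpecResidueField (g (f'.base x')))
  replace h : IsPullback a (f'.fiberToSpecResidueField (f'.base x'))
      (f.fiberToSpecResidueField (g (f'.base x'))) (Spec.map (g.residueFieldMap (f'.base x'))) := h
  haveI : Flat (Spec.map (g.residueFieldMap (f'.base x'))) := by
    rw [HasRingHomProperty.Spec_iff (P := @Flat)]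
    letI := (g.residueFieldMap (f'.base x')).hom.toAlgebra
    exact RingHom.flat_algebraMap_iff.2 inferInstance
  haveI : Flat a := MorphismProperty.of_isPullback h.flip ‹Flat (Spec.map _)›
  haveI : LocallyOfFiniteType (f.fiberToSpecResidueField (g (f'.base x'))) := UOpenLib.lft_fiberToSpec f _
  haveI : LocallyOfFiniteType (f'.fiberToSpecResidueField (f'.base x')) := UOpenLib.lft_fiberToSpec f' _
  haveI : IsLocallyNoetherian (f.fiber (g (f'.base x'))) :=
    LocallyOfFiniteType.isLocallyNoetherian (f.fiberToSpecResidueField (g (f'.base x')))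
  haveI : IsLocallyNoetherian (f'.fiber (f'.base x')) :=
    LocallyOfFiniteType.isLocallyNoetherian (f'.fiberToSpecResidueField (f'.base x'))
  have hι : ∀ w, (f.fiberι (g (f'.base x'))).base (a.base w) = g'.base ((f'.fiberι (f'.base x')).base w) := fun w =>
    congrArg (fun m : f'.fiber (f'.base x') ⟶ X => m.base w) (pullback.lift_fst _ _ _)
  have hw0 : (f.fiberι (g (f'.base x'))).base (a.base (f'.asFiber x')) = g'.base x' :=
    (hι _).trans (congrArg g'.base (f'.fiberι_asFiber x'))
  refine ⟨?_, ?_⟩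
  · rw [← stalkDim_fiber_congr f _ _ _ hw0]
    exact DepthLib.ringKrullDim_stalk_le_of_flat a (f'.asFiber x')
  obtain ⟨ξ, -, hξ⟩ := exists_maximal_generization (a.asFiber (f'.asFiber x'))
  let ζ := (a.fiberι (a.base (f'.asFiber x'))).base ξ
  have hζ : a.base ζ = a.base (f'.asFiber x') := by
    have h1 : ζ ∈ Set.range (a.fiberι (a.base (f'.asFiber x'))).base := ⟨ξ, rfl⟩
    rwa [a.range_fiberι] at h1
  have h2 := CMFlatLib.ringKrullDim_stalk_eq_add a _ ξ (Flat.stalkMap a _)
  rw [stalkDim_eq_zero_of_maximal ξ hξ, add_zero] at h2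
  refine ⟨(f'.fiberι (f'.base x')).base ζ, ?_, ?_, ?_⟩
  · rw [← hι, hζ, hw0]
  · have h1 : (f'.fiberι (f'.base x')).base ζ ∈ Set.range (f'.fiberι (f'.base x')).base := ⟨ζ, rfl⟩
    rwa [f'.range_fiberι] at h1
  · rw [← stalkDim_fiber_congr f' _ ζ _ rfl, ← stalkDim_fiber_congr f _ _ _ hw0]
    refine h2.trans ?_
    show ringKrullDim ((f.fiber _).presheaf.stalk (a.base ζ)) = _
    rw [hζ]

theorem add_cancel_of_ne_top {a b r : WithBot ℕ∞} (hr : r ≠ ⊥) (hr' : r ≠ ⊤) (h : a + r = b + r) : a = b := by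
  induction r with
  | bot => exact absurd rfl hr
  | coe c =>
    induction c using ENat.recTopCoe with
    | top => exact absurd rfl hr'
    | coe n =>
      refine FibDimLib.add_cancel_nat (n := n) ?_
      rw [add_comm _ a, add_comm _ b]
      exact h

theorem fibreDim_ne_top {X Y : Scheme.{u}} (f : X ⟶ Y) [LocallyOfFiniteType f] (x : X) :
    ((Cardinal.toENat (Dual3.resTrdeg f x) : ℕ∞) : WithBot ℕ∞) ≠ ⊤ := by
  intro h
  obtain ⟨n, hn⟩ := UOpenLib.exists_fibreDimAt_eq_nat f x
  rw [fibreDimAt_eq_stalk_add_resTrdeg f x, h] at hn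
  have h0 : (0 : WithBot ℕ∞) ≤ ringKrullDim ((f.fiber (f.base x)).presheaf.stalk (f.asFiber x)) :=
    ringKrullDim_nonneg_of_nontrivial
  have h2 : (⊤ : WithBot ℕ∞) ≤ n := hn ▸ le_add_of_nonneg_left h0
  exact ENat.natCast_ne_top n (WithBot.coe_injective (top_le_iff.1 h2))

variable {S : Scheme.{u}}

/-- The dimension of the local ring of the fibre can be read off in any chart. -/
theorem fibreStalk_eq_of_hasAtMor {F G : Sp S} {f : F ⟶ G} (hf : LocP @LocallyOfFiniteType f) {U V : Over S}
    {a : (yon S).obj U ⟶ F} {b : (yon S).obj V ⟶ G} {h : U ⟶ V} (ha : RepWith @Etale a)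
    (hb : RepWith @Etale b) (e : a ≫ f = (yon S).map h ≫ b) (u : U.left) {d : WithBot ℕ∞}
    (hd : HasAtMor (fun _ _ h u => ringKrullDim ↥((h.fiber (h u)).presheaf.stalk (h.asFiber u)) = d) f
      (Points.ofPt a u)) :
    ringKrullDim ((h.left.fiber (h.left.base u)).presheaf.stalk (h.left.asFiber u)) = d := by
  obtain ⟨U', V', a', b', h', u', ha', hb', e', hu, hq⟩ := hd
  haveI : LocallyOfFiniteType h.left := hf a b h ha hb e
  haveI : LocallyOfFiniteType h'.left := hf a' b' h' ha' hb' e'
  have h1 : HasAtMor (fun _ _ g w => FlatMor.fibreDimAt g w = FlatMor.fibreDimAt h'.left u') f (Points.ofPt a u) :=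
    ⟨U', V', a', b', h', u', ha', hb', e', hu, rfl⟩
  have h2 : HasAtMor (fun _ _ g w => Dual3.resTrdeg g w = Dual3.resTrdeg h'.left u') f (Points.ofPt a u) :=
    ⟨U', V', a', b', h', u', ha', hb', e', hu, rfl⟩
  rw [hasAtMor_iff (etInv_fibreDim fun t => t = FlatMor.fibreDimAt h'.left u') ha hb e] at h1
  rw [hasAtMor_iff (etInv_resTrdeg fun t => t = Dual3.resTrdeg h'.left u') ha hb e] at h2
  rw [← hq]
  refine add_cancel_of_ne_top WithBot.coe_ne_bot (fibreDim_ne_top h'.left u') ?_
  conv_lhs => rw [← h2]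
  rw [← fibreDimAt_eq_stalk_add_resTrdeg, h1, fibreDimAt_eq_stalk_add_resTrdeg]

end AlgSpLib
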