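import Groth.Agent.AlgSpLib.FibrePts

/-!
# Conditions on a point of a fibre
-/

set_option autoImplicit false
universe u

open CategoryTheory CategoryTheory.Limits AlgebraicGeometry Topology
open AlgSp

namespace AlgSpLib

variable {S : Scheme.{u}} {F G : Sp S} {f : F ⟶ G}

/-- In the fibre over a point, isolated, "closed without generisations" and relative dimension zero agree
over a decent base. -/
theorem fibre_point_iffs (hF : IsAlgSpace F) (hG : IsAlgSpace G) (hf : LocP @LocallyOfFiniteType f)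
    (hd : IsDecent G) (y : Points G) (x : ↥(Points.map f ⁻¹' {y})) :
    (IsOpen ({x} : Set ↥(Points.map f ⁻¹' {y})) ↔
        HasAtMor (fun _ _ h u => FlatMor.fibreDimAt h u = 0) f x.1) ∧
      ((IsClosed ({x} : Set ↥(Points.map f ⁻¹' {y})) ∧
          ∀ x' : ↥(Points.map f ⁻¹' {y}), x' ⤳ x → x' = x) ↔
        HasAtMor (fun _ _ h u => FlatMor.fibreDimAt h u = 0) f x.1) := by
  obtain ⟨x, hx⟩ := x
  have hxy : Points.map f x = y := hx
  subst hxy
  refine ⟨⟨fun h => ?_, fun h => ?_⟩, ⟨fun h => ?_, fun h => ⟨?_, fun x' hs => ?_⟩⟩⟩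
  · obtain ⟨W, hW, hWe⟩ := (isOpen_singleton_subtype_iff _).1 h
    exact zero_of_isolated hF hG hf hW hWe
  · obtain ⟨W, hW, hWe⟩ := isolated_of_zero hF hG hf hd h
    exact (isOpen_singleton_subtype_iff _).2 ⟨W, hW, hWe⟩
  · refine zero_of_closed_no_gen hF hG hf (fun x' hx' hs => ?_) (fun x' hx' hs => ?_)
    · have hs' : (⟨x, hx⟩ : ↥(Points.map f ⁻¹' {Points.map f x})) ⤳ ⟨x', hx'⟩ := (subtype_specializes_iff _ _).2 hs
      have := hs'.mem_closed h.1 rfl
      exact congrArg Subtype.val this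
    · exact congrArg Subtype.val (h.2 ⟨x', hx'⟩ ((subtype_specializes_iff _ _).2 hs))
  · rw [← closure_eq_iff_isClosed]
    refine Set.Subset.antisymm (fun z hz => ?_) subset_closure
    exact Subtype.ext (closed_of_zero hF hG hf hd h z.2
      ((subtype_specializes_iff _ _).1 (specializes_iff_mem_closure.2 hz)))
  · obtain ⟨W, hW, hWe⟩ := isolated_of_zero hF hG hf hd h
    have hxW : x ∈ W ∩ Points.map f ⁻¹' {Points.map f x} := by rw [hWe]; exact rfl
    have : x'.1 ∈ W ∩ Points.map f ⁻¹' {Points.map f x} :=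
      ⟨((subtype_specializes_iff _ _).1 hs).mem_open hW hxW.1, x'.2⟩
    rw [hWe] at this
    exact Subtype.ext this

/-- Points of the fibre over a field point. -/
theorem fibre_pullback_point_iff {X Y : Space S} {f : X ⟶ Y} (hf : LocP @LocallyOfFiniteType f.hom)
    {r : FieldPt Y.obj} {Xk : Space S} {fst : Xk ⟶ X} {snd : Xk.obj ⟶ (yon S).obj r.pt}
    (hsq : IsPullback fst.hom snd f.hom r.toHom) (w : Points Xk.obj) :
    HasAt (fun U u => FlatMor.localDim ↥U u = 0) Xk.obj w ↔
      HasAtMor (fun _ _ h u => FlatMor.fibreDimAt h u = 0) f.hom (Points.map fst.hom w) := by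
  have hK : IsAlgSpace ((yon S).obj r.pt) := IsAlgSpace.yon_obj _
  rw [← hasAtMor_fibreDim_baseChange X.property Y.property hK hsq hf (fun t => t = 0) w]
  obtain ⟨U, a, m, ha, has, e⟩ := exists_chart_over Xk.property hK snd (𝟙 _)
    (AlgSp.repWith_id _ _) (AlgSp.repWith_id _ _)
  obtain ⟨u, rfl⟩ := surjective_ofPt has w
  rw [hasAtMor_iff (etInv_fibreDim fun t => t = 0) ha (AlgSp.repWith_id _ _) e,
    hasAt_iff (etInv_localDim fun t => t = 0) ha, fibreDimAt_eq_localDim (k := r.K)]

theorem discrete_iff_forall {A : Type u} [TopologicalSpace A] : DiscreteTopology A ↔ ∀ a : A, IsOpen ({a} : Set A) :=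
  discreteTopology_iff_isOpen_singleton

theorem dimZero_of_discrete {A : Type u} [TopologicalSpace A] [DiscreteTopology A] [Nonempty A] :
    topologicalKrullDim A = 0 := by
  refine le_antisymm ?_ ((FibDimLib.localDim_nonneg (Classical.arbitrary A)).trans (FibDimLib.localDim_le _))
  rw [FibDimLib.topologicalKrullDim_eq_iSup_localDim]
  exact iSup_le fun a => FibDimLib.localDim_le_zero_of_isOpen (isOpen_discrete _)

theorem localDim_zero_of_dimZero {A : Type u} [TopologicalSpace A] (h : topologicalKrullDim A = 0) (a : A) :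
    FlatMor.localDim A a = 0 :=
  le_antisymm ((FibDimLib.localDim_le a).trans_eq h) (FibDimLib.localDim_nonneg a)

theorem dim_fibre_eq_zero_iff {X Y : Space S} {f : X ⟶ Y} (hf : LocP @LocallyOfFiniteType f.hom)
    {r : FieldPt Y.obj} (hy : Points.mk r ∈ Set.range (Points.map f.hom)) {Xk : Space S} {fst : Xk ⟶ X}
    {snd : Xk.obj ⟶ (yon S).obj r.pt} (hsq : IsPullback fst.hom snd f.hom r.toHom) :
    AlgSp.dim Xk.obj = 0 ↔ ∀ x : Points X.obj, Points.map f.hom x = Points.mk r →
      HasAtMor (fun _ _ h u => FlatMor.fibreDimAt h u = 0) f.hom x := by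
  constructor
  · intro h x hx
    obtain ⟨U, V, a, b, m, u, ha, hb, e, hu, hq⟩ :=
      (dim_fibre_le_iff X.property Y.property hf hsq 0).1 h.le x hx
    exact ⟨U, V, a, b, m, u, ha, hb, e, hu, le_antisymm hq (fibreDimAt_nonneg _ _)⟩
  · intro H
    refine le_antisymm ((dim_fibre_le_iff X.property Y.property hf hsq 0).2 fun x hx => ?_) ?_
    · obtain ⟨U, V, a, b, m, u, ha, hb, e, hu, hq⟩ := H x hx
      exact ⟨U, V, a, b, m, u, ha, hb, e, hu, hq.le⟩
    · obtain ⟨x, hx⟩ := hy
      obtain ⟨w, -⟩ := exists_fibre_point hsq hx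
      obtain ⟨U, a, ha, has⟩ := Xk.property.atlas
      obtain ⟨u, -⟩ := surjective_ofPt has w
      exact ((FibDimLib.localDim_nonneg u).trans (FibDimLib.localDim_le u)).trans
        (le_iSup_of_le U (le_iSup_of_le a (le_iSup_of_le ha le_rfl)))

end AlgSpLib
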