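import Groth.Agent.AlgSpLib.Univ
import Groth.Agent.AlgSpLib.Space
import Mathlib.AlgebraicGeometry.Morphisms.UniversallyOpen
/-!
# Morphisms to spectra of fields are universally open
-/

set_option autoImplicit false
universe u
open CategoryTheory CategoryTheory.Limits AlgebraicGeometry Opposite AlgSp Topology

namespace AlgSpLib

variable {S : Scheme.{u}}

theorem isUnivOpenMor_yon_map {U T : Over S} (φ : U ⟶ T) [UniversallyOpen φ.left] :
    IsUnivOpenMor ((yon S).map φ) := by
  refine (repWith_universally_iff descends_isOpenMor (Q' := topologically @IsOpenMap)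
    (fun φ => isOpenMap_map_yon_iff φ) (fun e _ p h => ?_) (representable_yon_map φ)).1 ?_
  · change IsOpenMap (Points.map (e ≫ p))
    rw [show Points.map (e ≫ p) = Points.map p ∘ Points.map e from funext fun x => Points.map_comp e p x]
    exact IsOpenMap.comp h (isHomeomorph_map_of_isIso e).isOpenMap
  · rw [← UniversallyOpen.eq]
    exact (repWith_yon_map_iff (P := (@UniversallyOpen : MorphismProperty Scheme.{u})) φ).2 inferInstance

theorem isUnivOpenMor_to_field {X : Sp S} (hX : IsAlgSpace X) {k : Type u} [Field k]
    (str : Spec (CommRingCat.of k) ⟶ S) (p : X ⟶ (yon S).obj (Over.mk str)) : IsUnivOpenMor p := by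
  intro Z Z' hZ g fst snd sq
  obtain ⟨U, a, ha, has⟩ := hX.atlas
  obtain ⟨φ, hφ⟩ := (yon S).map_surjective (a ≫ p)
  haveI : Subsingleton ↥(Over.mk str).left := inferInstanceAs (Subsingleton (PrimeSpectrum k))
  haveI : IsIntegral (Over.mk str).left := inferInstanceAs (IsIntegral (Spec (CommRingCat.of k)))
  haveI : UniversallyOpen φ.left := inferInstance
  have sq' := IsPullback.of_hasPullback a fst
  have h : IsOpenMap (Points.map (pullback.snd a fst ≫ snd)) := by
    refine (isUnivOpenMor_yon_map φ) hZ g (pullback.fst a fst) _ ?_
    rw [hφ]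
    exact sq'.paste_vert sq
  have hs : Function.Surjective (Points.map (pullback.snd a fst)) :=
    map_surjective_of_isPullback sq' (map_surjective_of_repWith has)
  intro W hW
  have e : Points.map snd '' W =
      Points.map (pullback.snd a fst ≫ snd) '' (Points.map (pullback.snd a fst) ⁻¹' W) := by
    conv_lhs => rw [← Set.image_preimage_eq W hs, Set.image_image]
    simp only [Points.map_comp]
  rw [e]
  exact h _ (hW.preimage (Points.continuous_map _))

end AlgSpLib
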