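import Groth.Agent.AlgSpLib.CodimZero
import Groth.Agent.AlgSpLib.MorPack
import Groth.Agent.S10260

/-!
# Proper morphisms are finite over neighbourhoods of quasi-finite fibres
-/

set_option autoImplicit false
universe u

open CategoryTheory CategoryTheory.Limits AlgebraicGeometry Topology
open AlgSp

namespace AlgSpLib

variable {S : Scheme.{u}}

theorem isFiniteMor_of_proper_lqf {F G : Sp S} (hF : IsAlgSpace F) (hG : IsAlgSpace G) {f : F ⟶ G}
    (hp : IsProperMor f) (hq : LocP (@LocallyQuasiFinite ⊓ @LocallyOfFiniteType) f) : IsFiniteMor f := by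
  have hr : Representable f :=
    Groth.Agent.S10260.result (X := ⟨F, hF⟩) (Y := ⟨G, hG⟩) (ObjectProperty.homMk f) hq hp.1
  rw [isFiniteMor_iff]
  refine ⟨hr, fun T W g fst snd sq => ?_⟩
  haveI : IsSeparated snd.left :=
    ((repWith_diagonal_iff (P := (@IsClosedImmersion : MorphismProperty Scheme.{u}))
      (fun g => (isSeparated_iff g).symm) hr).1 hp.1).property g fst snd sq
  haveI : LocallyOfFiniteType snd.left := (repWith_of_locP hG hr hp.2.1.1).property g fst snd sq
  haveI : UniversallyClosed snd.left :=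
    ((isUnivClosedMor_iff_repWith hF hG hr).2 hp.2.2).property g fst snd sq
  haveI : LocallyQuasiFinite snd.left := ((repWith_of_locP hG hr hq).property g fst snd sq).1
  haveI : IsProper snd.left := {}
  exact IsFinite.of_isProper_of_locallyQuasiFinite snd.left

theorem exists_open_finite_of_qf_fibre {X Y : Space S} (f : X ⟶ Y) (y : Points Y.obj)
    (hf : IsProperMor f.hom)
    (hq : ∀ x : Points X.obj, Points.map f.hom x = y →
      HasAtMor (fun _ _ h u => FlatMor.fibreDimAt h u = 0) f.hom x) :
    ∃ (V : Space S) (j : V ⟶ Y), RepWith @IsOpenImmersion j.hom ∧ y ∈ Set.range (Points.map j.hom) ∧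
      ∀ (P : Space S) (fst : P ⟶ X) (snd : P ⟶ V), IsPullback fst.hom snd.hom f.hom j.hom →
        IsFiniteMor snd.hom := by
  let W : Set (Points Y.obj) := (Points.map f.hom ''
    {x | HasAtMor (fun _ _ h u => FlatMor.fibreDimAt h u ≤ 0) f.hom x}ᶜ)ᶜ
  have hW : IsOpen W := ((isClosedMap_of_proper Y.property hf) _
    (isOpen_hasAtMor_fibreDim_le X.property Y.property hf.2.1.1 0).isClosed_compl).isOpen_compl
  refine ⟨⟨openSub Y.obj W, isAlgSpace_openSub Y.property hW⟩, ObjectProperty.homMk (openSubι Y.obj W),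
    repWith_openSubι Y.obj hW, ?_, fun P fst snd sq => ?_⟩
  · show y ∈ Set.range (Points.map (openSubι Y.obj W))
    rw [range_openSubι]
    rintro ⟨x, hx, hxy⟩
    obtain ⟨U, V, a, b, h, u, ha, hb, e, hu, h0⟩ := hq x hxy
    exact hx ⟨U, V, a, b, h, u, ha, hb, e, hu, h0.le⟩
  · have hV : IsAlgSpace (openSub Y.obj W) := isAlgSpace_openSub Y.property hW
    refine isFiniteMor_of_proper_lqf P.property hV ⟨repWith_diagonal_of_isPullback sq hf.1,
      ⟨locP_of_isPullback X.property Y.property hV sq hf.2.1.1, isQuasiCompactMor_of_isPullback sq hf.2.1.2⟩,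
      univSp_of_isPullback sq hf.2.2⟩ ?_
    refine (locP_lqf_iff_fibreDim_zero P.property hV
      (locP_of_isPullback X.property Y.property hV sq hf.2.1.1)).2 fun p => ?_
    rw [hasAtMor_fibreDim_baseChange X.property Y.property hV sq hf.2.1.1 (fun t => t = 0) p]
    by_contra hne
    have h1 : Points.map (openSubι Y.obj W) (Points.map snd.hom p) ∈ W := by
      have : Points.map (openSubι Y.obj W) (Points.map snd.hom p) ∈ Set.range (Points.map (openSubι Y.obj W)) :=
        ⟨_, rfl⟩
      rwa [range_openSubι] at this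
    refine h1 ⟨Points.map fst.hom p, fun hle => hne ?_, ?_⟩
    · obtain ⟨U, V, a, b, h, u, ha, hb, e, hu, h0⟩ := hle
      exact ⟨U, V, a, b, h, u, ha, hb, e, hu, le_antisymm h0 (fibreDimAt_nonneg _ _)⟩
    · obtain ⟨T, a, t, rfl⟩ := exists_ofPt_eq p
      rw [Points.map_ofPt, Points.map_ofPt, Points.map_ofPt, Points.map_ofPt, Category.assoc, Category.assoc, sq.w]
      rfl

end AlgSpLib
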