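import Mathlib.RingTheory.Flat.Basic
import Mathlib.RingTheory.TensorProduct.Maps
/-!
# Flat descent of algebras through equalizers

For `A → A'` flat, an `A'`-algebra `B'` with a coaction `φ : B' → B' ⊗[A] A'` has
`B' = B ⊗[A] A'` where `B` is the equalizer of `φ` and `b ↦ b ⊗ 1`.
-/

set_option autoImplicit false
universe u
open TensorProduct

namespace AlgSpLib.FlatEq

variable {A A' B' : Type u} [CommRing A] [CommRing A'] [CommRing B'] [Algebra A A'] [Algebra A B']

/-- The algebra of coinvariants of a coaction. -/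
def fixed (φ : B' →ₐ[A] B' ⊗[A] A') : Subalgebra A B' :=
  AlgHom.equalizer φ Algebra.TensorProduct.includeLeft

variable (p : A' →ₐ[A] B')

/-- Multiplication `b ⊗ a ↦ b · p a`. -/
noncomputable def mulMap : B' ⊗[A] A' →ₐ[A] B' :=
  Algebra.TensorProduct.lift (AlgHom.id A B') p fun x y => Commute.all _ _

/-- The comparison map `B ⊗ A' → B'`. -/
noncomputable def comparison (φ : B' →ₐ[A] B' ⊗[A] A') : fixed φ ⊗[A] A' →ₐ[A] B' :=
  (mulMap p).comp (Algebra.TensorProduct.map (fixed φ).val (AlgHom.id A A'))

@[simp] lemma comparison_tmul (φ : B' →ₐ[A] B' ⊗[A] A') (b : fixed φ) (a : A') :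
    comparison p φ (b ⊗ₜ a) = (b : B') * p a := by
  simp [comparison, mulMap]

/-- Flat descent: the coinvariants of a coaction span. -/
theorem bijective_comparison [Module.Flat A A'] (φ : B' →ₐ[A] B' ⊗[A] A')
    (hφp : ∀ a, φ (p a) = 1 ⊗ₜ a) (hμ : ∀ b, mulMap p (φ b) = b)
    (hco : ∀ b, Algebra.TensorProduct.map φ (AlgHom.id A A') (φ b) =
      Algebra.TensorProduct.map (Algebra.TensorProduct.includeLeft : B' →ₐ[A] B' ⊗[A] A')
        (AlgHom.id A A') (φ b)) :
    Function.Bijective (comparison p φ) := by
  let δ : B' →ₗ[A] B' ⊗[A] A' :=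
    φ.toLinearMap - (Algebra.TensorProduct.includeLeft : B' →ₐ[A] B' ⊗[A] A').toLinearMap
  let j : fixed φ →ₗ[A] B' := (fixed φ).val.toLinearMap
  have hex : Function.Exact j δ := fun b => by
    constructor
    · intro hb
      exact ⟨⟨b, sub_eq_zero.mp hb⟩, rfl⟩
    · rintro ⟨c, rfl⟩
      exact sub_eq_zero.mpr c.2
  have hexT := Module.Flat.rTensor_exact (M := A') hex
  have hinj : Function.Injective (j.rTensor A') :=
    Module.Flat.rTensor_preserves_injective_linearMap j Subtype.val_injective
  have hj : ∀ x, j.rTensor A' x = Algebra.TensorProduct.map (fixed φ).val (AlgHom.id A A') x := fun x => by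
    induction x using TensorProduct.induction_on with
    | zero => simp
    | tmul b a => rfl
    | add x y hx hy => simp [hx, hy]
  have hker : ∀ z : B' ⊗[A] A', δ.rTensor A' z = Algebra.TensorProduct.map φ (AlgHom.id A A') z -
      Algebra.TensorProduct.map (Algebra.TensorProduct.includeLeft : B' →ₐ[A] B' ⊗[A] A')
        (AlgHom.id A A') z := fun z => by
    induction z using TensorProduct.induction_on with
    | zero => simp
    | tmul b a => simp [δ, sub_tmul]
    | add x y hx hy => simp only [map_add, hx, hy]; abel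
  -- on the kernel, `φ ∘ μ` is the identity
  have key : ∀ z : B' ⊗[A] A', δ.rTensor A' z = 0 → φ (mulMap p z) = z := fun z hz => by
    have e := sub_eq_zero.mp ((hker z).symm.trans hz)
    let m : (B' ⊗[A] A') ⊗[A] A' →ₐ[A] B' ⊗[A] A' :=
      Algebra.TensorProduct.lift (AlgHom.id A _) Algebra.TensorProduct.includeRight fun _ _ => Commute.all _ _
    have h1 : ∀ z : B' ⊗[A] A', m (Algebra.TensorProduct.map φ (AlgHom.id A A') z) = φ (mulMap p z) := fun z => by
      induction z using TensorProduct.induction_on with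
      | zero => simp
      | tmul b a => simp [m, mulMap, hφp]
      | add x y hx hy => simp [hx, hy]
    have h2 : ∀ z : B' ⊗[A] A', m (Algebra.TensorProduct.map
        (Algebra.TensorProduct.includeLeft : B' →ₐ[A] B' ⊗[A] A') (AlgHom.id A A') z) = z := fun z => by
      induction z using TensorProduct.induction_on with
      | zero => simp
      | tmul b a => simp [m]
      | add x y hx hy => simp [hx, hy]
    rw [← h1, e, h2]
  have hzero : ∀ x, δ.rTensor A' (j.rTensor A' x) = 0 := fun x => (hexT _).mpr ⟨x, rfl⟩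
  constructor
  · intro x y hxy
    refine hinj ?_
    have hc : ∀ x, comparison p φ x = mulMap p (j.rTensor A' x) := fun x => by rw [hj]; rfl
    rw [← key _ (hzero x), ← key _ (hzero y), ← hc, ← hc, hxy]
  · intro b
    obtain ⟨x, hx⟩ := (hexT (φ b)).mp (by rw [hker, hco, sub_self])
    exact ⟨x, by
      change mulMap p (Algebra.TensorProduct.map (fixed φ).val (AlgHom.id A A') x) = b
      rw [← hj, hx, hμ]⟩

end AlgSpLib.FlatEq
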