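import Groth.Agent.AlgSpLib.FormalLocal
/-!
# Formally etale morphisms: descent along etale surjections and the scheme criterion
-/

set_option autoImplicit false
universe u
open CategoryTheory CategoryTheory.Limits AlgebraicGeometry Opposite AlgSp Topology

namespace AlgSpLib

variable {S : Scheme.{u}}

theorem isFormallyEtaleMor_of_repWith_etale {F G : Sp S} {f : F ⟶ G} (hf : RepWith @Etale f) :
    IsFormallyEtaleMor f := by
  refine Formal.etale_iff.2 ⟨fun sq => ?_, isFormallyUnramifiedMor_of_repWith_etale hf⟩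
  obtain ⟨W, p, q, sqW⟩ : ∃ (W : Over S) (p : (yon S).obj W ⟶ F) (q : W ⟶ sq.ptT'),
      IsPullback p ((yon S).map q) f sq.bot := ⟨_, _, _, hf.rep.isPullback sq.bot⟩
  have : Etale q.left := etale_left (repWith_of_isPullback sqW hf)
  obtain ⟨l, hl1, hl2⟩ := (existsUnique_lift_of_isEtaleMor (IsAlgSpace.yon_obj sq.ptT)
    (IsAlgSpace.yon_obj sq.ptT') (IsAlgSpace.yon_obj W) (IsAlgSpace.yon_obj sq.ptT')
    (isThickMor_infSq sq) ((isEtaleMor_yon_map_iff q).2 ‹_›)
    (sqW.lift sq.top ((yon S).map sq.j) sq.comm) (𝟙 _)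
    (by rw [sqW.lift_snd, Category.comp_id])).exists
  exact ⟨l ≫ p, by rw [← Category.assoc, hl1, sqW.lift_fst],
    by rw [Category.assoc, sqW.w, ← Category.assoc, hl2, Category.id_comp]⟩

theorem unramified_of_etale_precomp {F G H : Sp S} {a : F ⟶ G} {b : G ⟶ H}
    (ha : RepWith @Etale a) (has : RepWith @Surjective a) (h : IsFormallyUnramifiedMor (a ≫ b)) :
    IsFormallyUnramifiedMor b := by
  intro sq l l' h1 h2 h1' h2'
  obtain ⟨W, p, c, sqW⟩ : ∃ (W : Over S) (p : (yon S).obj W ⟶ F) (c : W ⟶ sq.ptT'),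
      IsPullback p ((yon S).map c) a l := ⟨_, _, _, ha.rep.isPullback l⟩
  have : Etale c.left := etale_left (repWith_of_isPullback sqW ha)
  have : Surjective c.left := surjective_left (repWith_of_isPullback sqW has)
  obtain ⟨B, _, φ, k, hk, _, _⟩ := exists_affine_refine sq c
  obtain ⟨r, hr, htop⟩ := pullSq_j_hom sq φ
  let sq' := pullSq sq φ
  let u : (yon S).obj sq'.ptT' ⟶ F := (yon S).map k ≫ p
  have hu : u ≫ a = (yon S).map (pullSqHom sq φ) ≫ l := by
    rw [Category.assoc, sqW.w, ← Category.assoc, ← Functor.map_comp, hk]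
  let sA : InfSq a :=
  { A := sq'.A, I := sq'.I, sq_zero := sq'.sq_zero, str := sq'.str,
    top := (yon S).map sq'.j ≫ u, bot := (yon S).map (pullSqHom sq φ) ≫ l',
    comm := by
      rw [Category.assoc, hu, ← Functor.map_comp_assoc, ← Functor.map_comp_assoc, hr,
        Functor.map_comp, Category.assoc, Category.assoc, h1, h1'] }
  obtain ⟨u', hu'1, hu'2⟩ := (isFormallyEtaleMor_of_repWith_etale ha sA).exists
  let s : InfSq (a ≫ b) :=
  { A := sq'.A, I := sq'.I, sq_zero := sq'.sq_zero, str := sq'.str,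
    top := (yon S).map sq'.j ≫ u, bot := u ≫ a ≫ b, comm := Category.assoc _ _ _ }
  have e := h s u u' rfl rfl hu'1 (by
    rw [← Category.assoc, hu'2]
    change ((yon S).map (pullSqHom sq φ) ≫ l') ≫ b = u ≫ a ≫ b
    rw [← Category.assoc u a b, hu, Category.assoc, Category.assoc, h2, h2'])
  have : Etale (pullSqHom sq φ).left := ‹_›
  refine eq_of_comp_eq (pullSqHom sq φ) ?_
  rw [← hu, e]
  exact hu'2

theorem formally_etale_on_top {F G H : Sp S} (a : F ⟶ G) (b : G ⟶ H)
    (ha : RepWith @Etale a) (ha' : RepWith @Surjective a) :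
    (IsFormallySmoothMor b → IsFormallySmoothMor (a ≫ b)) ∧
    (IsFormallyEtaleMor b → IsFormallyEtaleMor (a ≫ b)) ∧
    (IsFormallyUnramifiedMor b → IsFormallyUnramifiedMor (a ≫ b)) ∧
    (IsFormallyUnramifiedMor (a ≫ b) → IsFormallyUnramifiedMor b) ∧
    (IsFormallyEtaleMor (a ≫ b) → IsFormallyEtaleMor b) :=
  ⟨Formal.smooth_comp (Formal.etale_iff.1 (isFormallyEtaleMor_of_repWith_etale ha)).1,
    Formal.etale_comp (isFormallyEtaleMor_of_repWith_etale ha),
    Formal.unramified_comp (isFormallyUnramifiedMor_of_repWith_etale ha),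
    unramified_of_etale_precomp ha ha',
    fun h => isFormallyEtaleMor_of_etale_precomp ha ha'
      (unramified_of_etale_precomp ha ha' (Formal.etale_iff.1 h).2) (Formal.etale_iff.1 h).1⟩

/-- Formally etale morphisms of schemes are formally etale on affine opens. -/
theorem formallyEtale_appLE {X Y : Scheme.{u}} (f : X ⟶ Y) (hf : MoreMor.IsFormallyEtaleHom f)
    {V : Y.Opens} (hV : IsAffineOpen V) {U : X.Opens} (hU : IsAffineOpen U) (e : U ≤ f ⁻¹ᵁ V) :
    (f.appLE V U e).hom.FormallyEtale := by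
  let := (f.appLE V U e).hom.toAlgebra
  change Algebra.FormallyEtale Γ(Y, V) Γ(X, U)
  refine Algebra.FormallyEtale.iff_comp_bijective.2 fun R _ _ I hI => ?_
  have key : ∀ g : Γ(X, U) →ₐ[Γ(Y, V)] R,
      Spec.map (CommRingCat.ofHom g.toRingHom) ≫ hU.fromSpec ≫ f =
        Spec.map (CommRingCat.ofHom (algebraMap Γ(Y, V) R)) ≫ hV.fromSpec := fun g => by
    rw [← hV.SpecMap_appLE_fromSpec f hU e, ← Spec.map_comp_assoc]
    congr 2
    exact CommRingCat.hom_ext g.comp_algebraMap
  constructor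
  · intro g₁ g₂ h
    have hj : Spec.map (CommRingCat.ofHom (Ideal.Quotient.mk I)) ≫
          Spec.map (CommRingCat.ofHom g₁.toRingHom) ≫ hU.fromSpec =
        Spec.map (CommRingCat.ofHom (Ideal.Quotient.mk I)) ≫
          Spec.map (CommRingCat.ofHom g₂.toRingHom) ≫ hU.fromSpec := by
      rw [← Spec.map_comp_assoc, ← Spec.map_comp_assoc, ← CommRingCat.ofHom_comp, ← CommRingCat.ofHom_comp]
      exact congrArg (fun k => Spec.map (CommRingCat.ofHom k) ≫ hU.fromSpec) (congrArg AlgHom.toRingHom h)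
    have := (hf R I hI (Spec.map (CommRingCat.ofHom (Ideal.Quotient.mk I)) ≫
        Spec.map (CommRingCat.ofHom g₁.toRingHom) ≫ hU.fromSpec)
      (Spec.map (CommRingCat.ofHom (algebraMap Γ(Y, V) R)) ≫ hV.fromSpec)
      (by rw [← key g₁]; simp only [Category.assoc])).unique
      (y₁ := Spec.map (CommRingCat.ofHom g₁.toRingHom) ≫ hU.fromSpec)
      (y₂ := Spec.map (CommRingCat.ofHom g₂.toRingHom) ≫ hU.fromSpec)
      ⟨rfl, by rw [Category.assoc, key]⟩ ⟨hj.symm, by rw [Category.assoc, key]⟩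
    rw [cancel_mono, Spec.map_inj] at this
    exact AlgHom.ext fun x => congr($this x)
  · intro g
    let a : Spec (.of (R ⧸ I)) ⟶ X := Spec.map (CommRingCat.ofHom g.toRingHom) ≫ hU.fromSpec
    obtain ⟨L, ⟨hL1, hL2⟩, -⟩ := hf R I hI a
      (Spec.map (CommRingCat.ofHom (algebraMap Γ(Y, V) R)) ≫ hV.fromSpec) (by
        change _ = (Spec.map (CommRingCat.ofHom g.toRingHom) ≫ hU.fromSpec) ≫ f
        rw [Category.assoc, ← hV.SpecMap_appLE_fromSpec f hU e, ← Spec.map_comp_assoc,
          ← Spec.map_comp_assoc, ← CommRingCat.ofHom_comp]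
        congr 2
        exact CommRingCat.hom_ext g.comp_algebraMap.symm)
    have hsub : Set.range L ⊆ Set.range hU.fromSpec := by
      rintro _ ⟨p, rfl⟩
      obtain ⟨t, rfl⟩ := (thick_quotient R I hI).2.surj p
      refine ⟨Spec.map (CommRingCat.ofHom g.toRingHom) t, ?_⟩
      rw [← Scheme.Hom.comp_apply, ← Scheme.Hom.comp_apply, hL1]
    let L' := IsOpenImmersion.lift hU.fromSpec L hsub
    have hL' : L' ≫ hU.fromSpec = L := IsOpenImmersion.lift_fac _ _ hsub
    have hcomm : f.appLE V U e ≫ Spec.preimage L' = CommRingCat.ofHom (algebraMap Γ(Y, V) R) :=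
      Spec.map_injective (by
        rw [← cancel_mono hV.fromSpec, Spec.map_comp, Category.assoc, hV.SpecMap_appLE_fromSpec f hU e,
          ← Category.assoc, Spec.map_preimage, hL', hL2])
    refine ⟨⟨(Spec.preimage L').hom, fun x => congrArg (fun k => k.hom x) hcomm⟩, AlgHom.ext fun x => ?_⟩
    have h' : Spec.preimage L' ≫ CommRingCat.ofHom (Ideal.Quotient.mk I) = CommRingCat.ofHom g.toRingHom :=
      Spec.map_injective (by
        rw [← cancel_mono hU.fromSpec, Spec.map_comp, Category.assoc, Spec.map_preimage, hL', hL1])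
    exact congrArg (fun k => k.hom x) h'

theorem etale_of_lfp_formallyEtaleHom {X Y : Scheme.{u}} (f : X ⟶ Y) [LocallyOfFinitePresentation f]
    (hf : MoreMor.IsFormallyEtaleHom f) : Etale f := by
  refine ⟨fun {V} hV {U} hU e => ?_⟩
  have h1 := formallyEtale_appLE f hf hV hU e
  have h2 := HasRingHomProperty.appLE (P := @LocallyOfFinitePresentation) f ‹_› ⟨V, hV⟩ ⟨U, hU⟩ e
  algebraize [(f.appLE V U e).hom]
  exact Algebra.Etale.mk

theorem isEtaleMor_iff_lfp_and_formallyEtale {F G : Sp S} (hF : IsAlgSpace F) (hG : IsAlgSpace G)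
    (f : F ⟶ G) : IsEtaleMor f ↔ LocP @LocallyOfFinitePresentation f ∧ IsFormallyEtaleMor f := by
  refine ⟨fun h => ⟨locP_mono (fun _ _ g (_ : Etale g) => (inferInstance : LocallyOfFinitePresentation g))
    (locP_etale_of_isEtaleMor h), isFormallyEtaleMor_of_isEtaleMor hF hG h⟩, fun ⟨h1, h2⟩ => ?_⟩
  refine (isEtaleMor_iff_locP hG).2 fun U V a b h ha hb e => ?_
  have : LocallyOfFinitePresentation h.left := h1 a b h ha hb e
  exact etale_of_lfp_formallyEtaleHom h.left ((isFormallyEtaleMor_iff_locP hF hG f).1 h2 a b h ha hb e)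

theorem smooth_of_etale_charts {X Y U V : Sp S} (hU : IsAlgSpace U) (hX : IsAlgSpace X)
    (hV : IsAlgSpace V) (hY : IsAlgSpace Y) {f : X ⟶ Y} (hf : IsFormallySmoothMor f) {p : U ⟶ X}
    {q : V ⟶ Y} (hp : IsEtaleMor p) (hq : IsEtaleMor q) {ψ : U ⟶ V} (w : ψ ≫ q = p ≫ f) :
    IsFormallySmoothMor ψ := by
  refine Formal.smooth_of_comp (Formal.etale_iff.1 (isFormallyEtaleMor_of_isEtaleMor hV hY hq)).2 ?_
  rw [w]
  exact Formal.smooth_comp (Formal.etale_iff.1 (isFormallyEtaleMor_of_isEtaleMor hU hX hp)).1 hf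

end AlgSpLib
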