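import Groth.Agent.AlgSpLib.RepSpMore
import Groth.Agent.AlgSpLib.LocP
/-!
# The diagonal of a sheaf with an fppf covering by a space is representable
-/

set_option autoImplicit false
set_option backward.isDefEq.respectTransparency false
set_option backward.isDefEq.respectTransparency.types false
universe u
open CategoryTheory CategoryTheory.Limits AlgebraicGeometry Opposite AlgSp

namespace AlgSpLib

variable {S : Scheme.{u}}

/-- Surjective, flat and locally of finite presentation. -/
abbrev FppfMor : MorphismProperty (Sp S) :=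
  IsSurjectiveMor ⊓ LocP @Flat ⊓ LocP @LocallyOfFinitePresentation

lemma repWith_etale_iso_comp {A B : Sp S} {U : Over S} (e : (yon S).obj U ⟶ A) (r : A ⟶ B) [IsIso e]
    (hr : RepWith @Etale r) : RepWith @Etale (e ≫ r) :=
  MorphismProperty.RespectsIso.precomp _ e r hr

/-- A surjective flat lfp map, representable by spaces, is locally surjective. -/
theorem isLocallySurjective_of_repBySp_fppf {X F : Sp S} (p : X ⟶ F) (hp : RepBySpWith FppfMor p.hom) :
    Sheaf.IsLocallySurjective p := by
  rw [repBySpWith_hom_iff] at hp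
  refine ⟨fun {T} s => ?_⟩
  obtain ⟨hP, ⟨hps, hpf⟩, hpp⟩ := hp (yEq.symm s : (yon S).obj T ⟶ F) _ _ (IsPullback.of_hasPullback _ _)
  obtain ⟨W, b, hb, hbs⟩ := hP.atlas
  obtain ⟨w, hw⟩ := (yon S).map_surjective (b ≫ pullback.snd p (yEq.symm s))
  haveI : Flat w.left := hpf b (𝟙 _) w hb (repWith_id _ T) (by rw [Category.comp_id, hw])
  haveI : LocallyOfFinitePresentation w.left :=
    hpp b (𝟙 _) w hb (repWith_id _ T) (by rw [Category.comp_id, hw])
  have hmem : Sieve.ofArrows (fun _ : PUnit.{u + 1} => W) (fun _ => w) ∈ AlgSp.J S T :=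
    ofArrows_mem_J _ (fun _ => inferInstance) (fun _ => inferInstance) fun t => by
      obtain ⟨z, hz⟩ := hps (Points.schemeHomeo T t)
      obtain ⟨x, rfl⟩ := surjective_ofPt hbs z
      refine ⟨⟨⟩, x, (Points.schemeHomeo T).injective ?_⟩
      rw [← ofPt_yon_map, hw, ← Points.map_ofPt]; exact hz
  refine GrothendieckTopology.superset_covering _ ?_ hmem
  rintro V g ⟨_, k, c, ⟨⟩, rfl⟩
  refine ⟨yEq ((yon S).map k ≫ b ≫ pullback.fst p (yEq.symm s)), ?_⟩
  refine (yEq_comp _ p).symm.trans ?_
  rw [Category.assoc, Category.assoc, pullback.condition, ← reassoc_of% hw, ← Functor.map_comp_assoc,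
    yEq_map, Equiv.apply_symm_apply]

/-- An fppf covering by a space gives representable diagonal and an fppf chart. -/
theorem exists_fppf_chart {X F : Sp S} (hX : IsAlgSpace X) (p : X ⟶ F) (hp : RepBySpWith FppfMor p.hom) :
    Representable (Limits.diag F) ∧ ∃ (U : Over S) (q : (yon S).obj U ⟶ F),
      RepWith @Flat q ∧ RepWith @LocallyOfFinitePresentation q ∧ RepWith @Surjective q := by
  haveI := isLocallySurjective_of_repBySp_fppf p hp
  obtain ⟨U, a, ha, has⟩ := hX.atlas
  haveI : Sheaf.IsLocallySurjective a := isLocallySurjective_of_repWith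
    (repWith_mono (fun _ _ g (_ : Etale g) => (inferInstance : Flat g)) ha)
    (repWith_mono (fun _ _ g (_ : Etale g) => (inferInstance : LocallyOfFinitePresentation g)) ha) has
  haveI : Sheaf.IsLocallySurjective (a ≫ p) :=
    Presheaf.isLocallySurjective_comp (AlgSp.J S) a.hom p.hom
  rw [repBySpWith_hom_iff] at hp
  have key : ∀ {R : Sp S} (f g : R ⟶ (yon S).obj U), IsPullback f g (a ≫ p) (a ≫ p) →
      IsAlgSpace R ∧ LocP @Flat g ∧ LocP @LocallyOfFinitePresentation g ∧ IsSurjectiveMor g := by
    intro R f g sq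
    have hP := IsPullback.of_hasPullback p (a ≫ p)
    obtain ⟨hPs, ⟨hPe, hPf⟩, hPp⟩ := hp (a ≫ p) _ _ hP
    let r : R ⟶ pullback p (a ≫ p) := pullback.lift (f ≫ a) g (by rw [Category.assoc]; exact sq.w)
    have sq' : IsPullback f r a (pullback.fst p (a ≫ p)) :=
      IsPullback.of_bot (by rw [pullback.lift_snd]; exact sq) (by rw [pullback.lift_fst]) hP
    have hr : RepWith @Etale r := repWith_of_isPullback sq' ha
    have e : r ≫ pullback.snd p (a ≫ p) = g := pullback.lift_snd _ _ _
    refine ⟨isAlgSpace_of_representable hPs r hr.rep, ?_, ?_, ?_⟩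
    · intro A B c d h hc hd hcd
      exact hPf (c ≫ r) d h (MorphismProperty.comp_mem _ _ _ hc hr) hd (by rw [Category.assoc, e, hcd])
    · intro A B c d h hc hd hcd
      exact hPp (c ≫ r) d h (MorphismProperty.comp_mem _ _ _ hc hr) hd (by rw [Category.assoc, e, hcd])
    · intro y
      obtain ⟨z, hz⟩ := hPe y
      obtain ⟨x, hx⟩ := map_surjective_of_repWith (repWith_of_isPullback sq' has) z
      exact ⟨x, by rw [← e, Points.map_comp, hx, hz]⟩
  have sqR := IsPullback.of_hasPullback (a ≫ p) (a ≫ p)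
  obtain ⟨hR, hRf, hRp, hRs⟩ := key _ _ sqR
  obtain ⟨-, -, hRp', -⟩ := key _ _ sqR.flip
  let j : pullback (a ≫ p) (a ≫ p) ⟶ (yon S).obj (U ⨯ U) :=
    prod.lift (pullback.fst _ _) (pullback.snd _ _) ≫ inv (prodComparison (yon S) U U)
  have hj₁ : j ≫ (yon S).map prod.fst = pullback.fst _ _ := by
    simp only [j, Category.assoc, inv_prodComparison_map_fst, prod.lift_fst]
  have hj₂ : j ≫ (yon S).map prod.snd = pullback.snd _ _ := by
    simp only [j, Category.assoc, inv_prodComparison_map_snd, prod.lift_snd]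
  haveI : Mono j := ⟨fun {Z} x y h => pullback.hom_ext (by rw [← hj₁, reassoc_of% h]) (by rw [← hj₂, reassoc_of% h])⟩
  obtain ⟨R, ⟨e⟩⟩ := isRepSh_of_space_mono hR j fun W b w hb hw => by
    haveI : LocallyOfFinitePresentation (w ≫ prod.fst).left := hRp' b (𝟙 _) _ hb (repWith_id _ U)
      (by rw [Category.comp_id, Functor.map_comp, hw, Category.assoc, hj₁])
    haveI : LocallyOfFiniteType (w.left ≫ (prod.fst : U ⨯ U ⟶ U).left) := by
      rw [← Over.comp_left]; infer_instance
    exact locallyOfFiniteType_of_comp w.left (prod.fst : U ⨯ U ⟶ U).left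
  obtain ⟨t, ht⟩ := (yon S).map_surjective (e.hom ≫ pullback.fst (a ≫ p) (a ≫ p))
  obtain ⟨s, hs⟩ := (yon S).map_surjective (e.hom ≫ pullback.snd (a ≫ p) (a ≫ p))
  have sq : IsPullback ((yon S).map t) ((yon S).map s) (a ≫ p) (a ≫ p) :=
    sqR.of_iso e.symm (Iso.refl _) (Iso.refl _) (Iso.refl _) (by simp [ht]) (by simp [hs]) (by simp) (by simp)
  have hee : RepWith @Etale e.hom := by
    have := MorphismProperty.RespectsIso.precomp (RepWith (S := S) @Etale) e.hom (𝟙 _)
      (MorphismProperty.id_mem _ _)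
    rwa [Category.comp_id] at this
  haveI hsf : Flat s.left := hRf e.hom (𝟙 _) s hee (repWith_id _ U) (by rw [Category.comp_id, hs])
  haveI hsp : LocallyOfFinitePresentation s.left :=
    hRp e.hom (𝟙 _) s hee (repWith_id _ U) (by rw [Category.comp_id, hs])
  haveI : LocallyOfFinitePresentation t.left :=
    hRp' e.hom (𝟙 _) t hee (repWith_id _ U) (by rw [Category.comp_id, ht])
  have hss : Surjective s.left := ⟨fun x => by
    obtain ⟨z, hz⟩ := hRs (Points.schemeHomeo U x)
    obtain ⟨r, hr⟩ : ∃ r, Points.ofPt e.hom r = z := surjective_ofPt (by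
      have := MorphismProperty.RespectsIso.precomp (RepWith (S := S) @Surjective) e.hom (𝟙 _)
        (MorphismProperty.id_mem _ _)
      rwa [Category.comp_id] at this) z
    refine ⟨r, (Points.schemeHomeo U).injective ?_⟩
    rw [← ofPt_yon_map, hs, ← Points.map_ofPt, hr, hz]⟩
  haveI := isLocallySurjective_prodMap (a ≫ p) (a ≫ p)
  haveI : (SepLqf : MorphismProperty Scheme.{u}).RespectsIso :=
    MorphismProperty.IsStableUnderBaseChange.respectsIso
  have hinj : ∀ (T : Over S) (r r' : T ⟶ R), r ≫ t = r' ≫ t → r ≫ s = r' ≫ s → r = r' := fun T r r' h1 h2 =>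
    (yon S).map_injective (sq.hom_ext (by rw [← Functor.map_comp, ← Functor.map_comp, h1])
      (by rw [← Functor.map_comp, ← Functor.map_comp, h2]))
  have hlift : RepWith SepLqf (prod.lift ((yon S).map t) ((yon S).map s)) := by
    have e : prod.lift ((yon S).map t) ((yon S).map s) =
        (yon S).map (prod.lift t s) ≫ prodComparison (yon S) U U := by
      apply prod.hom_ext <;> simp [← Functor.map_comp]
    rw [e]
    exact MorphismProperty.RespectsIso.postcomp _ _ _
      ((repWith_yon_map_iff _ _).2 (sepLqf_lift t s hinj))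
  have hd : Representable (Limits.diag F) :=
    representable_of_cover isEffClass_sepLqf (isPullback_diag_prodMap sq) hlift
  have hq : Representable (a ≫ p) := Functor.relativelyRepresentable.of_diag hd (a ≫ p)
  exact ⟨hd, U, a ≫ p, repWith_of_cover sq hq ((repWith_yon_map_iff _ _).2 hsf),
    repWith_of_cover sq hq ((repWith_yon_map_iff _ _).2 hsp),
    repWith_of_cover sq hq ((repWith_yon_map_iff _ _).2 hss)⟩

end AlgSpLib
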