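import Groth.Agent.AlgSpLib.Noeth
import Groth.Prelude.Def_AlgSpCov
import Mathlib.AlgebraicGeometry.Morphisms.LocalFlatDescent
/-!
# Fpqc coverings of algebraic spaces: descent of properties of morphisms
-/

set_option autoImplicit false
universe u
open CategoryTheory CategoryTheory.Limits AlgebraicGeometry Opposite AlgSp Topology

namespace AlgSpLib

variable {S : Scheme.{u}}

/-! ## Flat quasi-compact surjective morphisms -/

theorem isQuotientMap_map_of_flat_qc_surjective {F G : Sp S} (hF : IsAlgSpace F) (hG : IsAlgSpace G)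
    {f : F ⟶ G} (hfl : LocP @Flat f) (hqc : IsQuasiCompactMor f) (hs : IsSurjectiveMor f) :
    IsQuotientMap (Points.map f) := by
  obtain ⟨ι, V, b, hV, -, ho, hbs⟩ := exists_affine_charts hG
  refine isQuotientMap_descend (c := b) (fun i => IsPullback.of_hasPullback f (b i)) ho hbs fun i => ?_
  have sq := IsPullback.of_hasPullback f (b i)
  have hP := isAlgSpace_pullback hF (IsAlgSpace.yon_obj (V i)) hG f (b i)
  have : IsAffine (V i).left := hV i
  obtain ⟨E, p, hE, hp, hps⟩ :=
    exists_affine_chart (hqc (IsAlgSpace.yon_obj _) (isQuasiCompactSp_yon (V i)) (b i) _ _ sq)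
  obtain ⟨φ, hφ⟩ := (yon S).map_surjective (p ≫ pullback.snd f (b i))
  have : Flat φ.left := locP_of_isPullback hF hG (IsAlgSpace.yon_obj (V i)) sq hfl p (𝟙 _) φ hp
    (repWith_id _ _) (by rw [hφ, Category.comp_id])
  have hsur : Function.Surjective (Points.map ((yon S).map φ)) := by
    rw [hφ, show Points.map (p ≫ pullback.snd f (b i)) = Points.map (pullback.snd f (b i)) ∘ Points.map p from
      funext (Points.map_comp p (pullback.snd f (b i)))]
    exact (map_surjective_of_isPullback sq hs).comp (map_surjective_of_repWith hps)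
  rw [Points.map_yon_map_eq] at hsur
  have : Surjective φ.left :=
    ⟨(Function.Surjective.of_comp_left hsur (Points.schemeHomeo (V i)).injective).of_comp⟩
  have hq : IsQuotientMap (Points.map (p ≫ pullback.snd f (b i))) := by
    rw [← hφ, isQuotientMap_map_yon_iff]
    exact Flat.isQuotientMap_of_surjective φ.left
  rw [show Points.map (p ≫ pullback.snd f (b i)) = Points.map (pullback.snd f (b i)) ∘ Points.map p from
      funext (Points.map_comp p (pullback.snd f (b i)))] at hq
  exact IsQuotientMap.of_comp (Points.continuous_map _) (Points.continuous_map _) hq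

theorem isUnivSubmersiveMor_of_flat_qc_surjective {F G : Sp S} (hF : IsAlgSpace F) (hG : IsAlgSpace G)
    {f : F ⟶ G} (hfl : LocP @Flat f) (hqc : IsQuasiCompactMor f) (hs : IsSurjectiveMor f) :
    IsUnivSubmersiveMor f := fun _ _ hZ _ _ _ sq =>
  isQuotientMap_map_of_flat_qc_surjective (isAlgSpace_of_isPullback hF hZ hG sq) hZ
    (locP_of_isPullback hF hG hZ sq hfl) (isQuasiCompactMor_of_isPullback sq hqc)
    (map_surjective_of_isPullback sq hs)

/-! ## Descent along maps that are quotient maps on points -/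

section QDescent

variable {W' W Z' Z : Sp S} {d : W' ⟶ W} {q : W' ⟶ Z'} {p : W ⟶ Z} {c : Z' ⟶ Z}
  (sq : IsPullback d q p c) (hc : IsQuotientMap (Points.map c))

include sq hc in
theorem isOpenMap_qdescend (h : IsOpenMap (Points.map q)) : IsOpenMap (Points.map p) := fun A hA => by
  rw [← hc.isOpen_preimage, preimage_image sq]
  exact h _ (hA.preimage (Points.continuous_map _))

include sq hc in
theorem isClosedMap_qdescend (h : IsClosedMap (Points.map q)) : IsClosedMap (Points.map p) := fun A hA => by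
  rw [← hc.isClosed_preimage, preimage_image sq]
  exact h _ (hA.preimage (Points.continuous_map _))

include sq hc in
theorem surjective_qdescend (h : Function.Surjective (Points.map q)) : Function.Surjective (Points.map p) := by
  refine surjective_descend (ι := PUnit.{u + 1}) (c := fun _ => c) (fun _ => sq) (fun z => ?_) fun _ => h
  obtain ⟨y, hy⟩ := hc.surjective z
  exact ⟨⟨⟩, y, hy⟩

include sq hc in
theorem injective_qdescend (h : Function.Injective (Points.map q)) : Function.Injective (Points.map p) := by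
  refine injective_descend (ι := PUnit.{u + 1}) (c := fun _ => c) (fun _ => sq) (fun z => ?_) fun _ => h
  obtain ⟨y, hy⟩ := hc.surjective z
  exact ⟨⟨⟩, y, hy⟩

include sq hc in
theorem isQuotientMap_qdescend (h : IsQuotientMap (Points.map q)) : IsQuotientMap (Points.map p) := by
  have h2 : IsQuotientMap (Points.map c ∘ Points.map q) := hc.comp h
  rw [show Points.map c ∘ Points.map q = Points.map p ∘ Points.map d from funext fun x => by
    simp only [Function.comp_apply, ← Points.map_comp, sq.w]] at h2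
  exact IsQuotientMap.of_comp (Points.continuous_map _) (Points.continuous_map _) h2

include sq hc in
theorem isHomeomorph_qdescend (h : IsHomeomorph (Points.map q)) : IsHomeomorph (Points.map p) :=
  ⟨Points.continuous_map p, isOpenMap_qdescend sq hc h.isOpenMap,
    injective_qdescend sq hc h.injective, surjective_qdescend sq hc h.surjective⟩

end QDescent

/-- A property that descends along quotient maps on points. -/
def QDescends (Q : MorphismProperty (Sp S)) : Prop :=
  ∀ {W' W Z' Z : Sp S} {d : W' ⟶ W} {q : W' ⟶ Z'} {p : W ⟶ Z} {c : Z' ⟶ Z},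
    IsPullback d q p c → IsQuotientMap (Points.map c) → Q q → Q p

/-! ## Unfolding an fpqc covering over an affine scheme -/

theorem exists_affine_refinement {ι : Type u} {Y : Sp S} {Yi : ι → Sp S} {g : ∀ i, Yi i ⟶ Y}
    (hτ : IsFpqcCover Yi g) (Z : Over S) [IsAffine Z.left] (h : (yon S).obj Z ⟶ Y) :
    ∃ (W : Over S) (c : W ⟶ Z) (J : Type u) (Wj : J → Over S) (s : ∀ j, Wj j ⟶ W),
      IsAffine W.left ∧ Flat c.left ∧ Surjective c.left ∧ (∀ j, IsOpenImmersion (s j).left) ∧
      (∀ w : W.left, ∃ j, w ∈ Set.range (s j).left) ∧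
      ∀ j, ∃ (i : ι) (l : (yon S).obj (Wj j) ⟶ Yi i), l ≫ g i = (yon S).map (s j ≫ c) ≫ h := by
  obtain ⟨m, W, c, hW, hc, hs, hl⟩ := hτ.2 Z ‹_› h
  let Wl : ULift.{u} (Fin m) → Scheme.{u} := fun j => (W j.down).left
  let V : Over S := Over.mk (Sigma.desc fun j : ULift.{u} (Fin m) => (W j.down).hom)
  let π : (∐ Wl) ⟶ Z.left := Sigma.desc fun j => (c j.down).left
  let cV : V ⟶ Z := Over.homMk π (by
    change π ≫ Z.hom = Sigma.desc _
    refine Sigma.hom_ext _ _ fun j => ?_
    rw [← Category.assoc, Sigma.ι_desc, Sigma.ι_desc, Over.w])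
  refine ⟨V, cV, ULift.{u} (Fin m), fun j => W j.down,
    fun j => Over.homMk (Sigma.ι Wl j) (by exact Sigma.ι_desc _ j), ?_, ?_, ?_, fun j => ?_, ?_, fun j => ?_⟩
  · have : ∀ j, IsAffine (Wl j) := fun j => hW j.down
    exact inferInstanceAs (IsAffine (∐ Wl))
  · exact IsZariskiLocalAtSource.sigmaDesc (P := @Flat) fun j => hc j.down
  · refine ⟨fun z => ?_⟩
    obtain ⟨j, y, hy⟩ := hs z
    refine ⟨Sigma.ι Wl ⟨j⟩ y, ?_⟩
    change π _ = z
    rw [← Scheme.Hom.comp_apply, Sigma.ι_desc]
    exact hy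
  · exact inferInstanceAs (IsOpenImmersion ((sigmaOpenCover Wl).f j))
  · exact fun w => (sigmaOpenCover Wl).exists_eq w
  · obtain ⟨i, l, e⟩ := hl j.down
    refine ⟨i, l, e.trans (congrArg (fun k => (yon S).map k ≫ h) (Over.OverMorphism.ext ?_))⟩
    exact (Sigma.ι_desc (f := Wl) (fun j => (c j.down).left) j).symm

theorem isQuotientMap_map_yon_of_fpqc {W Z : Over S} (c : W ⟶ Z) [IsAffine W.left] [IsAffine Z.left]
    [Flat c.left] [Surjective c.left] : IsQuotientMap (Points.map ((yon S).map c)) :=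
  (isQuotientMap_map_yon_iff c).2 (Flat.isQuotientMap_of_surjective c.left)

theorem isOpenMap_map_yon_of_openImmersion {W Z : Over S} (s : W ⟶ Z) [IsOpenImmersion s.left] :
    IsOpenMap (Points.map ((yon S).map s)) :=
  (isOpenMap_map_yon_iff s).2 s.left.isOpenEmbedding.isOpenMap

theorem exists_mem_range_map_yon {J : Type*} {W : Over S} {Wj : J → Over S} (s : ∀ j, Wj j ⟶ W)
    (hs : ∀ w : W.left, ∃ j, w ∈ Set.range (s j).left) (x : Points ((yon S).obj W)) :
    ∃ j, x ∈ Set.range (Points.map ((yon S).map (s j))) := by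
  obtain ⟨w, rfl⟩ := (Points.schemeHomeo W).surjective x
  obtain ⟨j, v, rfl⟩ := hs w
  exact ⟨j, Points.schemeHomeo _ v, Points.map_yon_map_apply (s j) v⟩

/-- `UnivSp Q` is fpqc local on the base. -/
theorem isLocalOnBase_fpqc_univSp (S : Scheme.{u}) {Q : MorphismProperty (Sp S)} (hD : Descends Q)
    (hQ : QDescends Q) : IsLocalOnBase (IsFpqcCover (S := S)) (UnivSp Q) := by
  intro ι Y Yi g hY hYi hτ X f hX Xi p q hXi sq
  refine ⟨fun hf i => univSp_of_isPullback (sq i) hf,
    fun h => (univSp_iff_affine hD).2 fun Z hZ k P fst snd sqP => ?_⟩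
  have : IsAffine Z.left := hZ
  obtain ⟨W, c, J, Wj, s, hW, hc, hcs, hso, hss, hl⟩ := exists_affine_refinement hτ Z k
  have sq1 := IsPullback.of_hasPullback snd ((yon S).map c)
  refine hQ sq1 (isQuotientMap_map_yon_of_fpqc c) ?_
  refine hD (ι := J) (c := fun j => (yon S).map (s j))
    (fun j => IsPullback.of_hasPullback (pullback.snd snd ((yon S).map c)) ((yon S).map (s j)))
    (fun j => isOpenMap_map_yon_of_openImmersion (s j)) (exists_mem_range_map_yon s hss) fun j => ?_
  obtain ⟨i, l, e⟩ := hl j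
  have big := ((IsPullback.of_hasPullback (pullback.snd snd ((yon S).map c))
    ((yon S).map (s j))).paste_horiz sq1).paste_horiz sqP
  rw [← Functor.map_comp, ← e] at big
  exact h i (IsAlgSpace.yon_obj _) l ((sq i).lift _ _ (big.w.trans (Category.assoc _ _ _).symm)) _
    (IsPullback.of_right (by rw [(sq i).lift_fst]; exact big) ((sq i).lift_snd _ _ _) (sq i))

theorem qdescends_isOpenMor : QDescends (S := S) IsOpenMor := fun sq hc h => isOpenMap_qdescend sq hc h
theorem qdescends_isClosedMor : QDescends (S := S) IsClosedMor := fun sq hc h => isClosedMap_qdescend sq hc h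
theorem qdescends_injective : QDescends (S := S) (fun _ _ f => Function.Injective (Points.map f)) :=
  fun sq hc h => injective_qdescend sq hc h
theorem qdescends_isSurjectiveMor : QDescends (S := S) IsSurjectiveMor :=
  fun sq hc h => surjective_qdescend sq hc h
theorem qdescends_isSubmersiveMor : QDescends (S := S) IsSubmersiveMor :=
  fun sq hc h => isQuotientMap_qdescend sq hc h
theorem qdescends_isHomeomorph : QDescends (S := S) (fun _ _ f => IsHomeomorph (Points.map f)) :=
  fun sq hc h => isHomeomorph_qdescend sq hc h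

/-- Quasi-compactness is fpqc local on the base. -/
theorem isLocalOnBase_fpqc_isQuasiCompactMor (S : Scheme.{u}) :
    IsLocalOnBase (IsFpqcCover (S := S)) IsQuasiCompactMor := by
  intro ι Y Yi g hY hYi hτ X f hX Xi p q hXi sq
  refine ⟨fun hf i => isQuasiCompactMor_of_isPullback (sq i) hf,
    fun h => (isQuasiCompactMor_iff_affine hX hY).2 fun Z hZ k P fst snd sqP => ?_⟩
  obtain ⟨m, W, c, hW, -, hs, hl⟩ := hτ.2 Z hZ k
  refine isQuasiCompactSp_of_compactSpace (isAlgSpace_of_isPullback hX (IsAlgSpace.yon_obj Z) hY sqP) ⟨?_⟩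
  have key : (Set.univ : Set (Points P)) = ⋃ j, Set.range (Points.map (pullback.fst snd ((yon S).map (c j)))) := by
    refine (Set.eq_univ_of_forall fun x => ?_).symm
    obtain ⟨z, hz⟩ := (Points.schemeHomeo Z).surjective (Points.map snd x)
    obtain ⟨j, w, hw⟩ := hs z
    obtain ⟨y, hy, -⟩ := exists_point_isPullback (IsPullback.of_hasPullback snd ((yon S).map (c j))) x
      (Points.schemeHomeo (W j) w) (by rw [Points.map_yon_map_apply, hw, hz])
    exact Set.mem_iUnion.2 ⟨j, y, hy⟩
  rw [key]
  refine isCompact_iUnion fun j => ?_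
  obtain ⟨i, l, e⟩ := hl j
  have big := (IsPullback.of_hasPullback snd ((yon S).map (c j))).paste_horiz sqP
  rw [← e] at big
  have : IsAffine (W j).left := hW j
  have := compactSpace_points_of_isQuasiCompactSp <|
    h i (IsAlgSpace.yon_obj _) (isQuasiCompactSp_yon (W j)) l
      ((sq i).lift _ _ (big.w.trans (Category.assoc _ _ _).symm)) _
      (IsPullback.of_right (by rw [(sq i).lift_fst]; exact big) ((sq i).lift_snd _ _ _) (sq i))
  exact isCompact_range (Points.continuous_map _)

/-- The base change of an fpqc covering is an fpqc covering. -/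
theorem isFpqcCover_of_isPullback {ι : Type u} {Y T : Sp S} {Yi Ti : ι → Sp S} {g : ∀ i, Yi i ⟶ Y}
    (hY : IsAlgSpace Y) (hT : IsAlgSpace T) (hYi : ∀ i, IsAlgSpace (Yi i)) (hτ : IsFpqcCover Yi g)
    {k : T ⟶ Y} {g' : ∀ i, Ti i ⟶ T} {k' : ∀ i, Ti i ⟶ Yi i}
    (sq : ∀ i, IsPullback (k' i) (g' i) (g i) k) : IsFpqcCover Ti g' := by
  refine ⟨fun i => locP_of_isPullback (hYi i) hY hT (sq i) (hτ.1 i), fun Z hZ h => ?_⟩
  obtain ⟨m, W, c, hW, hc, hs, hl⟩ := hτ.2 Z hZ (h ≫ k)
  refine ⟨m, W, c, hW, hc, hs, fun j => ?_⟩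
  obtain ⟨i, l, e⟩ := hl j
  exact ⟨i, (sq i).lift l ((yon S).map (c j) ≫ h) (e.trans (Category.assoc _ _ _).symm), (sq i).lift_snd _ _ _⟩

/-- `LocP P` is fpqc local on the base if `P` satisfies fpqc descent on schemes. -/
theorem isLocalOnBase_fpqc_locP (S : Scheme.{u}) (P : MorphismProperty Scheme.{u}) [EtLocProp P]
    [P.IsStableUnderBaseChange] [IsZariskiLocalAtTarget P]
    (hP : ∀ {A B C : Scheme.{u}} (φ : A ⟶ B) (c : C ⟶ B), Flat c → Surjective c → QuasiCompact c →
      P (pullback.snd φ c) → P φ) :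
    IsLocalOnBase (IsFpqcCover (S := S)) (LocP P) := by
  intro ι Y Yi g hY hYi hτ X f hX Xi p q hXi sq
  refine ⟨fun hf i => locP_of_isPullback hX hY (hYi i) (sq i) hf, fun h => ?_⟩
  obtain ⟨κ, V, b, hV, hbe, -, hbs⟩ := exists_affine_charts hY
  refine (isLocalOnBase_locP S P (fun k => (yon S).obj (V k)) b hY (fun k => IsAlgSpace.yon_obj _)
    ⟨fun k => isEtaleMor_of_repWith (hbe k), hbs⟩ f hX (fun k => pullback f (b k))
    (fun k => pullback.snd f (b k)) (fun k => pullback.fst f (b k))
    (fun k => isAlgSpace_pullback hX (IsAlgSpace.yon_obj _) hY f (b k))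
    (fun k => IsPullback.of_hasPullback f (b k))).2 fun k => ?_
  have hPk := isAlgSpace_pullback hX (IsAlgSpace.yon_obj (V k)) hY f (b k)
  obtain ⟨U, a, ha, has⟩ := hPk.atlas
  obtain ⟨φ, hφ⟩ := (yon S).map_surjective (a ≫ pullback.snd f (b k))
  refine locP_of_chart (P := P) (b₀ := 𝟙 _) ha has (repWith_id _ _) (by rw [Category.comp_id, hφ]) ?_
  have : IsAffine (V k).left := hV k
  obtain ⟨W, c, J, Wj, s, hW, hc, hcs, hso, hss, hl⟩ := exists_affine_refinement hτ (V k) (b k)
  refine hP φ.left c.left hc hcs inferInstance ?_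
  choose jw hjw using hss
  refine IsZariskiLocalAtTarget.of_iSup_eq_top (fun w : W.left => (s (jw w)).left.opensRange) ?_ fun w => ?_
  · exact TopologicalSpace.Opens.ext (Set.eq_univ_of_forall fun w => by
      rw [TopologicalSpace.Opens.coe_iSup]; exact Set.mem_iUnion.2 ⟨w, hjw w⟩)
  · refine (P.arrow_mk_iso_iff (morphismRestrictOpensRange (pullback.snd φ.left c.left) (s (jw w)).left)).2 ?_
    let j := jw w
    let U' : Over S := pullback φ (s j ≫ c)
    have sqU : IsPullback ((yon S).map (pullback.fst φ (s j ≫ c))) ((yon S).map (pullback.snd φ (s j ≫ c)))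
        ((yon S).map φ) ((yon S).map (s j ≫ c)) := (IsPullback.of_hasPullback φ (s j ≫ c)).map (yon S)
    rw [hφ] at sqU
    have sqQ := IsPullback.of_hasPullback (pullback.snd f (b k)) ((yon S).map (s j ≫ c))
    let a' : (yon S).obj U' ⟶ pullback (pullback.snd f (b k)) ((yon S).map (s j ≫ c)) :=
      sqQ.lift ((yon S).map (pullback.fst φ (s j ≫ c)) ≫ a) ((yon S).map (pullback.snd φ (s j ≫ c)))
        (by rw [Category.assoc]; exact sqU.w)
    have sqa : IsPullback ((yon S).map (pullback.fst φ (s j ≫ c))) a' a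
        (pullback.fst (pullback.snd f (b k)) ((yon S).map (s j ≫ c))) :=
      IsPullback.of_bot (by rw [sqQ.lift_snd]; exact sqU) (sqQ.lift_fst _ _ _).symm sqQ
    have ha' : RepWith @Etale a' := repWith_of_isPullback sqa ha
    obtain ⟨i, l, e⟩ := hl j
    have big := sqQ.paste_horiz (IsPullback.of_hasPullback f (b k))
    rw [← e] at big
    have key : P (pullback.snd φ (s j ≫ c)).left :=
      locP_of_isPullback (hXi i) (hYi i) (IsAlgSpace.yon_obj (Wj j))
        (IsPullback.of_right (by rw [(sq i).lift_fst]; exact big)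
          ((sq i).lift_snd _ _ (big.w.trans (Category.assoc _ _ _).symm)) (sq i)) (h i)
        a' (𝟙 _) (pullback.snd φ (s j ≫ c)) ha' (repWith_id _ _)
        (by rw [Category.comp_id]; exact sqQ.lift_snd _ _ _)
    have sqS : IsPullback (pullback.fst φ (s j ≫ c)).left (pullback.snd φ (s j ≫ c)).left φ.left
        ((s j).left ≫ c.left) :=
      isPullback_left ((IsPullback.of_hasPullback φ (s j ≫ c)).map (yon S))
    rw [← sqS.isoPullback_hom_snd, P.cancel_left_of_respectsIso] at key
    change P (pullback.snd (pullback.snd φ.left c.left) (s j).left)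
    rwa [← pullbackLeftPullbackSndIso_hom_snd, P.cancel_left_of_respectsIso]

theorem flat_codescendsAlong_faithfullyFlat :
    RingHom.CodescendsAlong RingHom.Flat RingHom.FaithfullyFlat := by
  refine .mk _ RingHom.Flat.respectsIso fun R S T _ _ _ _ _ h h' => ?_
  rw [RingHom.flat_algebraMap_iff] at h' ⊢
  rw [RingHom.faithfullyFlat_algebraMap_iff] at h
  exact Module.Flat.of_flat_tensorProduct R T S

instance descendsAlong_flat : MorphismProperty.DescendsAlong (@Flat : MorphismProperty Scheme.{u})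
    (@Surjective ⊓ @Flat ⊓ @QuasiCompact) :=
  HasRingHomProperty.descendsAlong_flat flat_codescendsAlong_faithfullyFlat

theorem isLocalOnBase_fpqc_locP_of_descendsAlong (S : Scheme.{u}) (P : MorphismProperty Scheme.{u}) [EtLocProp P]
    [P.IsStableUnderBaseChange] [IsZariskiLocalAtTarget P]
    [P.DescendsAlong (@Surjective ⊓ @Flat ⊓ @QuasiCompact)] :
    IsLocalOnBase (IsFpqcCover (S := S)) (LocP P) :=
  isLocalOnBase_fpqc_locP S P fun φ c h1 h2 h3 h =>
    MorphismProperty.of_pullback_snd_of_descendsAlong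
      (Q := @Surjective ⊓ @Flat ⊓ @QuasiCompact) ⟨⟨h2, h1⟩, h3⟩ h

theorem isLocalOnBase_and {τ : CovNotion S} {P Q : MorphismProperty (Sp S)} (hP : IsLocalOnBase τ P)
    (hQ : IsLocalOnBase τ Q) : IsLocalOnBase τ (P ⊓ Q) := by
  intro ι Y Yi g hY hYi hτ X f hX Xi p q hXi sq
  exact ⟨fun h i => ⟨(hP Yi g hY hYi hτ f hX Xi p q hXi sq).1 h.1 i, (hQ Yi g hY hYi hτ f hX Xi p q hXi sq).1 h.2 i⟩,
    fun h => ⟨(hP Yi g hY hYi hτ f hX Xi p q hXi sq).2 fun i => (h i).1,
      (hQ Yi g hY hYi hτ f hX Xi p q hXi sq).2 fun i => (h i).2⟩⟩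

/-- The map of self fibre products is a base change of the covering. -/
theorem isPullback_map_self {X Y Xi Yi : Sp S} {q : Xi ⟶ X} {p : Xi ⟶ Yi} {f : X ⟶ Y} {g : Yi ⟶ Y}
    (sq : IsPullback q p f g) :
    IsPullback (pullback.fst p p ≫ p) (pullback.map p p f f q q g sq.w.symm sq.w.symm) g
      (pullback.fst f f ≫ f) := by
  let m := pullback.map p p f f q q g sq.w.symm sq.w.symm
  have big : IsPullback (pullback.snd p p ≫ q) (pullback.fst p p) f (q ≫ f) := by
    rw [sq.w]
    exact (IsPullback.of_hasPullback p p).flip.paste_horiz sq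
  have e1 : m ≫ pullback.snd f f = pullback.snd p p ≫ q := pullback.lift_snd _ _ _
  have e2 : m ≫ pullback.fst f f = pullback.fst p p ≫ q := pullback.lift_fst _ _ _
  have left : IsPullback m (pullback.fst p p) (pullback.fst f f) q :=
    IsPullback.of_right (by rw [e1]; exact big) e2 (IsPullback.of_hasPullback f f).flip
  exact left.flip.paste_horiz sq.flip

theorem isLocalOnBase_fpqc_isQuasiSeparatedMor (S : Scheme.{u}) :
    IsLocalOnBase (IsFpqcCover (S := S)) IsQuasiSeparatedMor := by
  intro ι Y Yi g hY hYi hτ X f hX Xi p q hXi sq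
  refine ⟨fun hf i => repWith_diagonal_of_isPullback (sq i) hf, fun h => ?_⟩
  have hXX := isAlgSpace_pullback hX hX hY f f
  have hPP := fun i => isAlgSpace_pullback (hXi i) (hXi i) (hYi i) (p i) (p i)
  refine (repWith_quasiCompact_iff hX hXX (repWith_diagonal_properties hX f).1).2 ?_
  refine (isLocalOnBase_fpqc_isQuasiCompactMor S _ _ hXX hPP
    (isFpqcCover_of_isPullback hY hXX hYi hτ fun i => isPullback_map_self (sq i))
    (pullback.diagonal f) hX Xi (fun i => pullback.diagonal (p i)) q hXi fun i => isPullback_diagonal (sq i)).2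
    fun i => ?_
  exact isQuasiCompactMor_of_repWith (hXi i) (hPP i) (h i)

end AlgSpLib
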