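import Groth.Agent.AlgSpLib.SepLqfScheme
import Groth.Agent.AlgSpLib.FpqcMore
import Mathlib.AlgebraicGeometry.Sites.Fpqc
import Mathlib.AlgebraicGeometry.Morphisms.LocalFlatDescent
import Mathlib.AlgebraicGeometry.Morphisms.FlatDescent

/-!
# Separated spaces satisfy fpqc descent for morphisms
-/

set_option autoImplicit false
set_option backward.isDefEq.respectTransparency false
set_option backward.isDefEq.respectTransparency.types false

universe u

open CategoryTheory CategoryTheory.Limits AlgebraicGeometry Opposite AlgSp Topology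

namespace AlgSpLib

variable {S : Scheme.{u}}

/-- The equalizer of two points of a separated space is a closed subscheme. -/
theorem exists_closed_equalizer {X : Sp S} {T V : Over S} {f : X ⟶ (yon S).obj T} (hsep : IsSeparatedMor f)
    (w₁ w₂ : (yon S).obj V ⟶ X) (h : w₁ ≫ f = w₂ ≫ f) :
    ∃ (E : Over S) (ι : E ⟶ V), IsClosedImmersion ι.left ∧ (yon S).map ι ≫ w₁ = (yon S).map ι ≫ w₂ ∧
      ∀ (W : Over S) (m : W ⟶ V), (yon S).map m ≫ w₁ = (yon S).map m ≫ w₂ → ∃ l : W ⟶ E, l ≫ ι = m := by
  have hd : RepWith @IsClosedImmersion (pullback.diagonal f) := hsep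
  let z : (yon S).obj V ⟶ pullback f f := pullback.lift w₁ w₂ h
  have sq := hd.rep.isPullback z
  have h1 : hd.rep.fst z = (yon S).map (hd.rep.snd z) ≫ w₁ := by
    simpa [z] using congrArg (· ≫ pullback.fst f f) sq.w
  have h2 : hd.rep.fst z = (yon S).map (hd.rep.snd z) ≫ w₂ := by
    simpa [z] using congrArg (· ≫ pullback.snd f f) sq.w
  refine ⟨hd.rep.pullback z, hd.rep.snd z, hd.property_snd z, h1.symm.trans h2, fun W m hm => ?_⟩
  refine ⟨hd.rep.lift (g := z) ((yon S).map m ≫ w₁) m ?_, Functor.relativelyRepresentable.lift_snd _ _ _ _⟩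
  exact pullback.hom_ext (by simp [z]) (by simp [z, hm])

/-- Morphisms to a separated space are determined after a flat quasi-compact surjective base change. -/
theorem hom_eq_of_fpqc {X : Sp S} {T V V' : Over S} {f : X ⟶ (yon S).obj T} (hsep : IsSeparatedMor f)
    (m : V' ⟶ V) [Flat m.left] [Surjective m.left] [QuasiCompact m.left] (w₁ w₂ : (yon S).obj V ⟶ X)
    (h : w₁ ≫ f = w₂ ≫ f) (hm : (yon S).map m ≫ w₁ = (yon S).map m ≫ w₂) : w₁ = w₂ := by
  obtain ⟨E, ι, hι, hιw, huniv⟩ := exists_closed_equalizer hsep w₁ w₂ h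
  haveI := hι
  obtain ⟨l, hl⟩ := huniv V' m hm
  have hl' : l.left ≫ ι.left = m.left := congrArg Over.Hom.left hl
  haveI : IsIso (pullback.fst m.left ι.left) := by
    refine ⟨pullback.lift (𝟙 _) l.left (by rw [Category.id_comp, hl']), ?_, pullback.lift_fst _ _ _⟩
    apply pullback.hom_ext
    · rw [Category.assoc, pullback.lift_fst, Category.comp_id, Category.id_comp]
    · rw [← cancel_mono ι.left]
      simp [hl', pullback.condition]
  haveI : IsIso ι.left := MorphismProperty.of_isPullback_of_descendsAlong (P := MorphismProperty.isomorphisms _)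
    (Q := @Surjective ⊓ @Flat ⊓ @QuasiCompact) (IsPullback.of_hasPullback m.left ι.left)
    ⟨⟨‹_›, ‹_›⟩, ‹_›⟩ (MorphismProperty.isomorphisms.infer_property _)
  haveI : IsIso ((Over.forget S).map ι) := inferInstanceAs (IsIso ι.left)
  haveI : IsIso ι := isIso_of_reflects_iso _ (Over.forget S)
  exact (cancel_epi ((yon S).map ι)).1 hιw

/-- Morphisms from affine schemes to separated quasi-compact spaces over them descend along fpqc covers. -/
theorem exists_fpqc_desc {X : Sp S} (hX : IsAlgSpace X) {T T' U : Over S} [IsAffine T.left] [IsAffine T'.left]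
    [IsAffine U.left] {f : X ⟶ (yon S).obj T} (hsep : IsSeparatedMor f) {a : (yon S).obj U ⟶ X}
    (ha : RepWith @Etale a) (has : RepWith @Surjective a) (q : T' ⟶ T) [Flat q.left] [Surjective q.left]
    (b : (yon S).obj T' ⟶ X) (hb : b ≫ f = (yon S).map q)
    (heq : (yon S).map (pullback.fst q q) ≫ b = (yon S).map (pullback.snd q q) ≫ b) :
    ∃ c : (yon S).obj T ⟶ X, (yon S).map q ≫ c = b ∧ c ≫ f = 𝟙 _ := by
  obtain ⟨u, hu⟩ := (yon S).map_surjective (a ≫ f)
  obtain ⟨P, pU, pP, sq⟩ := exists_isPullback_yon a b ha.rep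
  have hpP : Etale pP.left := etale_left (repWith_of_isPullback sq ha)
  have hpPs : Surjective pP.left := surjective_left (repWith_of_isPullback sq has)
  haveI : IsAffine P.left := by
    obtain ⟨ψ, hψ, -, -⟩ := isClosedImmersion_pairs hsep sq hu.symm hb
    haveI : IsAffine (pullback u q).left := IsAffine.of_isIso (left_isPullback u q).isoPullback.hom
    exact isAffine_of_isAffineHom ψ.left
  have huP : pU ≫ u = pP ≫ q := (yon S).map_injective (by
    rw [Functor.map_comp, Functor.map_comp, hu, ← hb, reassoc_of% sq.w])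
  -- the descent datum
  let Q : Over S := Over.mk (pullback.fst (pP.left ≫ q.left) q.left ≫ P.hom)
  let r₁ : Q ⟶ P := Over.homMk (pullback.fst (pP.left ≫ q.left) q.left) rfl
  let r₂ : Q ⟶ T' := Over.homMk (pullback.snd (pP.left ≫ q.left) q.left) (by
    change pullback.snd (pP.left ≫ q.left) q.left ≫ T'.hom = pullback.fst _ _ ≫ P.hom
    rw [← Over.w q, ← pullback.condition_assoc, Category.assoc, Over.w q, Over.w pP])
  have sqQ : IsPullback r₁ r₂ (pP ≫ q) q :=
    isPullback_over (IsPullback.of_hasPullback (pP.left ≫ q.left) q.left)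
  have hbb : ∀ {W : Over S} (x y : W ⟶ T'), x ≫ q = y ≫ q → (yon S).map x ≫ b = (yon S).map y ≫ b := by
    intro W x y hxy
    rw [← pullback.lift_fst x y hxy, Functor.map_comp, Category.assoc, heq, ← Category.assoc, ← Functor.map_comp,
      pullback.lift_snd]
  have hlift : ∀ {W : Over S} (x : W ⟶ P) (t : W ⟶ T'), x ≫ pP ≫ q = t ≫ q →
      ∃! y : W ⟶ P, y ≫ pU = x ≫ pU ∧ y ≫ pP = t := by
    intro W x t ht
    have h1 : (yon S).map (x ≫ pU) ≫ a = (yon S).map t ≫ b := by
      rw [Functor.map_comp, Category.assoc, sq.w, ← Category.assoc, ← Functor.map_comp]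
      exact hbb _ _ (by rw [Category.assoc]; exact ht)
    obtain ⟨y, hy⟩ := (yon S).map_surjective (sq.lift _ _ h1)
    refine ⟨y, ⟨(yon S).map_injective (by rw [Functor.map_comp, hy, sq.lift_fst]),
      (yon S).map_injective (by rw [Functor.map_comp, hy, sq.lift_snd])⟩, fun z hz => ?_⟩
    exact (yon S).map_injective (sq.hom_ext (by rw [hy, sq.lift_fst, ← Functor.map_comp, hz.1])
      (by rw [hy, sq.lift_snd, ← Functor.map_comp, hz.2]))
  obtain ⟨d, ⟨hd₁, hd₂⟩, -⟩ := hlift r₁ r₂ sqQ.w
  have hsec : pullback.lift (f := pP.left ≫ q.left) (g := q.left) (𝟙 P.left) pP.left (Category.id_comp _) ≫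
      d.left = 𝟙 _ := by
    let s : P ⟶ Q := sqQ.lift (𝟙 P) pP (Category.id_comp _)
    have hs : s.left = pullback.lift (f := pP.left ≫ q.left) (g := q.left) (𝟙 P.left) pP.left
        (Category.id_comp _) := pullback.hom_ext
      (by rw [pullback.lift_fst]; exact congrArg Over.Hom.left (sqQ.lift_fst _ _ _))
      (by rw [pullback.lift_snd]; exact congrArg Over.Hom.left (sqQ.lift_snd _ _ _))
    have : s ≫ d = 𝟙 P := (hlift (𝟙 P) pP (Category.id_comp _)).unique
      ⟨by rw [Category.assoc, hd₁, ← Category.assoc, sqQ.lift_fst], by rw [Category.assoc, hd₂, sqQ.lift_snd]⟩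
      ⟨rfl, Category.id_comp _⟩
    rw [← hs]; exact congrArg Over.Hom.left this
  obtain ⟨Wb, β, h, w, hWb, hdh, -, hiso⟩ := exists_affine_descent q.left pP.left d.left
    (congrArg Over.Hom.left hd₂) hsec (by
    intro Z y t w₁ w₂
    let Zo : Over S := Over.mk (t ≫ T'.hom)
    let yo : Zo ⟶ Q := Over.homMk y (by
      change y ≫ pullback.fst _ _ ≫ P.hom = t ≫ T'.hom
      rw [← Over.w pP, ← Over.w q]
      simpa only [Category.assoc] using congrArg (· ≫ T.hom) w₂)
    let to' : Zo ⟶ T' := Over.homMk t rfl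
    have e₁ : (yo ≫ d) ≫ pP ≫ q = to' ≫ q := Over.OverMorphism.ext (by simpa [yo, to'] using w₁)
    have e₂ : (yo ≫ r₁) ≫ pP ≫ q = to' ≫ q := Over.OverMorphism.ext (by simpa [yo, to', r₁] using w₂)
    let A : Zo ⟶ Q := sqQ.lift (yo ≫ d) to' e₁
    let B : Zo ⟶ Q := sqQ.lift (yo ≫ r₁) to' e₂
    have hA : A.left = pullback.lift (y ≫ d.left) t w₁ := pullback.hom_ext
      (by rw [pullback.lift_fst]; exact congrArg Over.Hom.left (sqQ.lift_fst _ _ _))
      (by rw [pullback.lift_snd]; exact congrArg Over.Hom.left (sqQ.lift_snd _ _ _))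
    have hB : B.left = pullback.lift (y ≫ pullback.fst _ _) t w₂ := pullback.hom_ext
      (by rw [pullback.lift_fst]; exact congrArg Over.Hom.left (sqQ.lift_fst _ _ _))
      (by rw [pullback.lift_snd]; exact congrArg Over.Hom.left (sqQ.lift_snd _ _ _))
    have : A ≫ d = B ≫ d := (hlift (yo ≫ r₁) to' e₂).unique
      ⟨by rw [Category.assoc, hd₁, ← Category.assoc, sqQ.lift_fst, Category.assoc, hd₁, Category.assoc],
        by rw [Category.assoc, hd₂, sqQ.lift_snd]⟩
      ⟨by rw [Category.assoc, hd₁, ← Category.assoc, sqQ.lift_fst], by rw [Category.assoc, hd₂, sqQ.lift_snd]⟩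
    rw [← hA, ← hB]; exact congrArg Over.Hom.left this)
  haveI := hWb
  haveI := hiso ‹_›
  have sqW : IsPullback h pP.left β q.left :=
    IsPullback.of_iso_pullback ⟨w⟩ (asIso (pullback.lift h pP.left w)) (pullback.lift_fst _ _ _)
      (pullback.lift_snd _ _ _)
  haveI : Flat h := MorphismProperty.of_isPullback (P := @Flat) sqW.flip inferInstance
  haveI : Surjective h := MorphismProperty.of_isPullback (P := @Surjective) sqW.flip inferInstance
  haveI : Etale β := MorphismProperty.of_isPullback_of_descendsAlong (P := @Etale)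
    (Q := @Surjective ⊓ @Flat ⊓ @QuasiCompact) sqW.flip ⟨⟨‹_›, ‹_›⟩, inferInstance⟩ hpP
  haveI : Surjective β := by
    haveI : Surjective (h ≫ β) := by rw [w]; infer_instance
    exact .of_comp h β
  let W : Over S := Over.mk (β ≫ T.hom)
  let ho : P ⟶ W := Over.homMk h (by
    change h ≫ β ≫ T.hom = P.hom
    rw [reassoc_of% w, Over.w q, Over.w pP])
  let βo : W ⟶ T := Over.homMk β rfl
  have sqWo : IsPullback ho pP βo q := isPullback_over sqW
  -- the descended chart
  obtain ⟨g₀, hg₀⟩ : ∃ g₀ : Wb ⟶ U.left, h ≫ g₀ = pU.left := by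
    refine ⟨EffectiveEpi.desc h pU.left fun {Z} z₁ z₂ hz => ?_, EffectiveEpi.fac _ _ _⟩
    let Zo : Over S := Over.mk (z₁ ≫ P.hom)
    let z₁o : Zo ⟶ P := Over.homMk z₁ rfl
    let z₂o : Zo ⟶ P := Over.homMk z₂ (by
      change z₂ ≫ P.hom = z₁ ≫ P.hom
      rw [← Over.w ho]
      change z₂ ≫ h ≫ β ≫ T.hom = z₁ ≫ h ≫ β ≫ T.hom
      rw [reassoc_of% hz])
    have hzo : z₁o ≫ ho = z₂o ≫ ho := Over.OverMorphism.ext hz
    have e : z₁o ≫ pP ≫ q = (z₂o ≫ pP) ≫ q := by
      rw [← sqWo.w, ← Category.assoc, hzo, Category.assoc, Category.assoc, sqWo.w]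
    let y : Zo ⟶ Q := sqQ.lift z₁o (z₂o ≫ pP) e
    have hy : y ≫ d = z₂o := by
      refine sqWo.hom_ext ?_ (by rw [Category.assoc, hd₂, sqQ.lift_snd])
      rw [Category.assoc, ← hzo, show d ≫ ho = r₁ ≫ ho from Over.OverMorphism.ext hdh, ← Category.assoc,
        sqQ.lift_fst]
    have : z₁o ≫ pU = z₂o ≫ pU := by rw [← hy, Category.assoc, hd₁, ← Category.assoc, sqQ.lift_fst]
    exact congrArg Over.Hom.left this
  haveI : Epi h := Flat.epi_of_flat_of_surjective h
  let g : W ⟶ U := Over.homMk g₀ ((cancel_epi h).1 (by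
    rw [reassoc_of% hg₀, Over.w pU]; exact (Over.w ho).symm))
  have hg : ho ≫ g = pU := Over.OverMorphism.ext hg₀
  have hgu : g ≫ u = βo := Over.OverMorphism.ext ((cancel_epi h).1 (by
    change (ho ≫ g ≫ u).left = (ho ≫ βo).left
    rw [← Category.assoc, hg, huP, sqWo.w]))
  haveI : Etale βo.left := ‹Etale β›
  haveI : Surjective βo.left := ‹Surjective β›
  haveI := isLocallySurjective_yon_map βo
  obtain ⟨c, hc⟩ := exists_desc ((yon S).map βo) ((yon S).map g ≫ a) fun V b₁ b₂ e => by
    obtain ⟨b₁, rfl⟩ := (yon S).map_surjective b₁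
    obtain ⟨b₂, rfl⟩ := (yon S).map_surjective b₂
    rw [← Functor.map_comp, ← Functor.map_comp] at e
    replace e := (yon S).map_injective e
    let V' := pullback (b₁ ≫ βo) q
    have hsq := left_isPullback (b₁ ≫ βo) q
    haveI : Flat (pullback.fst (b₁ ≫ βo) q).left := MorphismProperty.of_isPullback (P := @Flat) hsq.flip inferInstance
    haveI : Surjective (pullback.fst (b₁ ≫ βo) q).left :=
      MorphismProperty.of_isPullback (P := @Surjective) hsq.flip inferInstance
    haveI : QuasiCompact (pullback.fst (b₁ ≫ βo) q).left :=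
      MorphismProperty.of_isPullback (P := @QuasiCompact) hsq.flip inferInstance
    refine hom_eq_of_fpqc hsep (pullback.fst (b₁ ≫ βo) q) _ _ ?_ ?_
    · rw [Category.assoc, Category.assoc, Category.assoc, Category.assoc, ← hu, ← (yon S).map_comp g u, hgu,
        ← Functor.map_comp, ← Functor.map_comp, e]
    · have key : ∀ v : V ⟶ W, v ≫ βo = b₁ ≫ βo →
          (yon S).map (pullback.fst (b₁ ≫ βo) q) ≫ (yon S).map v ≫ (yon S).map g ≫ a =
            (yon S).map (pullback.snd (b₁ ≫ βo) q) ≫ b := by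
        intro v hv
        let p := sqWo.lift (pullback.fst (b₁ ≫ βo) q ≫ v) (pullback.snd (b₁ ≫ βo) q)
          (by rw [Category.assoc, hv, pullback.condition])
        have e1 : pullback.fst (b₁ ≫ βo) q ≫ v ≫ g = p ≫ pU := by
          rw [← hg, ← Category.assoc p, sqWo.lift_fst, Category.assoc]
        rw [← Functor.map_comp_assoc, ← Functor.map_comp_assoc, Category.assoc, e1, Functor.map_comp_assoc, sq.w,
          ← Functor.map_comp_assoc, sqWo.lift_snd]
      exact (key b₁ rfl).trans (key b₂ e.symm).symm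
  refine ⟨c, ?_, ?_⟩
  · haveI : Etale pP.left := hpP
    haveI : Surjective pP.left := hpPs
    haveI := isLocallySurjective_yon_map pP
    rw [← cancel_epi ((yon S).map pP), ← Functor.map_comp_assoc, ← sqWo.w, Functor.map_comp_assoc, hc,
      ← Functor.map_comp_assoc, hg, sq.w]
  · rw [← cancel_epi ((yon S).map βo), ← Category.assoc, hc, Category.assoc, ← hu, ← Functor.map_comp, hgu,
      Category.comp_id]

end AlgSpLib
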