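import Groth.Prelude.Def_AlgSp
import Mathlib
/-!
# The equivalence relation of a free action of an abstract group
-/

set_option autoImplicit false
set_option backward.isDefEq.respectTransparency false
universe u
open CategoryTheory CategoryTheory.Limits AlgebraicGeometry Opposite AlgSp

namespace AlgSpLib.FreeAct

variable {S : Scheme.{u}} {U : Over S} {G : Type u} (c : Cofan (fun _ : G => U)) (hc : IsColimit c)

/-- The summands as an open cover. -/
noncomputable def cover : c.pt.left.OpenCover :=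
  let hc' : IsColimit (Cofan.mk c.pt c.inj) :=
    IsColimit.ofIsoColimit hc (Cofan.ext (c₁ := c) (c₂ := Cofan.mk c.pt c.inj) (Iso.refl _) (fun _ => by simp))
  let e := (isColimitCofanMkObjOfIsColimit (Over.forget S) (fun _ : G => U) c.inj hc').coconePointUniqueUpToIso
      (colimit.isColimit (Discrete.functor fun _ : G => U.left))
  ((sigmaOpenCover (fun _ : G => U.left)).pushforwardIso e.inv).copy G (fun _ => U.left) (fun g => (c.inj g).left)
    (Equiv.refl _) (fun _ => Iso.refl _) (fun g => by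
      change (c.inj g).left = 𝟙 _ ≫ Sigma.ι (fun _ : G => U.left) g ≫ e.inv
      rw [Category.id_comp]
      exact (IsColimit.comp_coconePointUniqueUpToIso_inv
        (isColimitCofanMkObjOfIsColimit (Over.forget S) (fun _ : G => U) c.inj hc')
        (colimit.isColimit (Discrete.functor fun _ : G => U.left)) (⟨g⟩ : Discrete G)).symm)

variable {c}

theorem exists_decomp {T : Over S} (r : T ⟶ c.pt) (hc : IsColimit c) :
    ∃ (𝒰 : Scheme.OpenCover.{u} T.left) (lbl : 𝒰.I₀ → G) (a : ∀ i, Over.mk (𝒰.f i ≫ T.hom) ⟶ U),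
      ∀ i, (Over.homMk (𝒰.f i) rfl : Over.mk (𝒰.f i ≫ T.hom) ⟶ T) ≫ r = a i ≫ c.inj (lbl i) := by
  let 𝒰 := Precoverage.ZeroHypercover.pullback₁ r.left (cover c hc)
  refine ⟨𝒰, fun i => i, fun i => Over.homMk (pullback.snd r.left (c.inj i).left) ?_, fun i => ?_⟩
  · change pullback.snd r.left (c.inj i).left ≫ U.hom = pullback.fst r.left (c.inj i).left ≫ T.hom
    conv_lhs => rw [← Over.w (c.inj i), ← pullback.condition_assoc, Over.w r]
  · exact Over.OverMorphism.ext pullback.condition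

theorem hom_ext_of_cover {T X : Over S} (𝒰 : Scheme.OpenCover.{u} T.left) {f f' : T ⟶ X}
    (h : ∀ i, (Over.homMk (𝒰.f i) rfl : Over.mk (𝒰.f i ≫ T.hom) ⟶ T) ≫ f = Over.homMk (𝒰.f i) rfl ≫ f') :
    f = f' :=
  Over.OverMorphism.ext (𝒰.hom_ext _ _ fun i => congrArg Over.Hom.left (h i))

variable [Group G] (ρ : G →* Aut U) {s t : c.pt ⟶ U}
  (hs : ∀ g, c.inj g ≫ s = 𝟙 U) (ht : ∀ g, c.inj g ≫ t = (ρ g).hom)
  (hfree : ∀ (g : G) (x : U.left), g ≠ 1 →
    U.left.fromSpecResidueField x ≫ (ρ g).hom.left ≠ U.left.fromSpecResidueField x)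

theorem hom_mul (g h : G) : (ρ (g * h)).hom = (ρ h).hom ≫ (ρ g).hom := by rw [map_mul]; rfl

include hfree in
theorem eq_of_comp_eq {T : Over S} (x : T.left) (a : T ⟶ U) (g h : G)
    (e : a ≫ (ρ g).hom = a ≫ (ρ h).hom) : g = h := by
  by_contra hne
  have e1 : a ≫ (ρ (h⁻¹ * g)).hom = a := by
    rw [hom_mul, ← Category.assoc, e, Category.assoc, ← hom_mul, inv_mul_cancel, map_one]
    exact Category.comp_id a
  refine hfree (h⁻¹ * g) (a.left x) (fun h0 => hne (inv_mul_eq_one.1 h0).symm) ?_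
  haveI : Surjective (Spec.map (a.left.residueFieldMap x)) :=
    ⟨fun z => ⟨IsLocalRing.closedPoint _, Subsingleton.elim (α := PrimeSpectrum (U.left.residueField (a.left x))) _ _⟩⟩
  haveI : Flat (Spec.map (a.left.residueFieldMap x)) := by
    rw [Flat.SpecMap_iff]
    algebraize [(a.left.residueFieldMap x).hom]
    exact RingHom.flat_algebraMap_iff.2 inferInstance
  haveI : QuasiCompact (Spec.map (a.left.residueFieldMap x)) := inferInstance
  haveI := Flat.epi_of_flat_of_surjective (Spec.map (a.left.residueFieldMap x))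
  rw [← cancel_epi (Spec.map (a.left.residueFieldMap x)), ← Category.assoc,
    a.left.SpecMap_residueFieldMap_fromSpecResidueField x, Category.assoc, ← Over.comp_left, e1]

include hs ht hfree hc in
theorem injective_rel {T : Over S} (r r' : T ⟶ c.pt) (h₁ : r ≫ t = r' ≫ t) (h₂ : r ≫ s = r' ≫ s) : r = r' := by
  obtain ⟨𝒰, lbl, a, ha⟩ := exists_decomp r hc
  refine hom_ext_of_cover 𝒰 fun i => ?_
  let j : Over.mk (𝒰.f i ≫ T.hom) ⟶ T := Over.homMk (𝒰.f i) rfl
  obtain ⟨𝒱, lbl', b, hb⟩ := exists_decomp (j ≫ r') hc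
  refine hom_ext_of_cover 𝒱 fun k => ?_
  let q : Over.mk (𝒱.f k ≫ 𝒰.f i ≫ T.hom) ⟶ Over.mk (𝒰.f i ≫ T.hom) := Over.homMk (𝒱.f k) rfl
  change q ≫ j ≫ r = q ≫ j ≫ r'
  have e1 : q ≫ j ≫ r = (q ≫ a i) ≫ c.inj (lbl i) := by rw [Category.assoc]; exact congrArg (q ≫ ·) (ha i)
  have e2 : q ≫ j ≫ r' = b k ≫ c.inj (lbl' k) := hb k
  have hab : q ≫ a i = b k := by
    have this : (q ≫ j ≫ r) ≫ s = (q ≫ j ≫ r') ≫ s := by simp only [Category.assoc, h₂]
    rw [e1, e2] at this
    simpa [hs] using this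
  rcases isEmpty_or_nonempty ↥(Over.mk (𝒱.f k ≫ 𝒰.f i ≫ T.hom)).left with hT | ⟨⟨x⟩⟩
  · exact Over.OverMorphism.ext
      ((isInitialOfIsEmpty (X := (Over.mk (𝒱.f k ≫ 𝒰.f i ≫ T.hom)).left)).hom_ext _ _)
  have hlab : lbl i = lbl' k := by
    refine eq_of_comp_eq ρ hfree x (b k) _ _ ?_
    have this : (q ≫ j ≫ r) ≫ t = (q ≫ j ≫ r') ≫ t := by simp only [Category.assoc, h₁]
    rw [e1, e2] at this
    simpa [ht, hab] using this
  rw [e1, e2, hab, hlab]

include hs ht hfree hc in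
theorem compat_of_rel {T : Over S} (a b : T ⟶ U) {X Y : Scheme.{u}} (f : X ⟶ T.left) (g : Y ⟶ T.left)
    (r₁ : Over.mk (f ≫ T.hom) ⟶ c.pt) (r₂ : Over.mk (g ≫ T.hom) ⟶ c.pt)
    (t₁ : r₁ ≫ t = Over.homMk f rfl ≫ a) (t₂ : r₂ ≫ t = Over.homMk g rfl ≫ a)
    (s₁ : r₁ ≫ s = Over.homMk f rfl ≫ b) (s₂ : r₂ ≫ s = Over.homMk g rfl ≫ b) :
    pullback.fst f g ≫ r₁.left = pullback.snd f g ≫ r₂.left := by
  let P : Over S := Over.mk (pullback.fst f g ≫ f ≫ T.hom)
  let p₁ : P ⟶ Over.mk (f ≫ T.hom) := Over.homMk (pullback.fst f g) rfl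
  let p₂ : P ⟶ Over.mk (g ≫ T.hom) := Over.homMk (pullback.snd f g) (pullback.condition_assoc T.hom).symm
  have hp : p₁ ≫ (Over.homMk f rfl : Over.mk (f ≫ T.hom) ⟶ T) = p₂ ≫ (Over.homMk g rfl : Over.mk (g ≫ T.hom) ⟶ T) :=
    Over.OverMorphism.ext pullback.condition
  have key : p₁ ≫ r₁ = p₂ ≫ r₂ := by
    refine injective_rel hc ρ hs ht hfree _ _ ?_ ?_
    · rw [Category.assoc, t₁, Category.assoc, t₂, ← Category.assoc, hp, Category.assoc]
    · rw [Category.assoc, s₁, Category.assoc, s₂, ← Category.assoc, hp, Category.assoc]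
  exact congrArg Over.Hom.left key

include hs ht hfree hc in
theorem exists_rel_of_local {T : Over S} (a b : T ⟶ U) (𝒰 : Scheme.OpenCover.{u} T.left)
    (h : ∀ i, ∃ r : Over.mk (𝒰.f i ≫ T.hom) ⟶ c.pt,
      r ≫ t = Over.homMk (𝒰.f i) rfl ≫ a ∧ r ≫ s = Over.homMk (𝒰.f i) rfl ≫ b) :
    ∃ r : T ⟶ c.pt, r ≫ t = a ∧ r ≫ s = b := by
  choose r hrt hrs using h
  have compat : ∀ i k, pullback.fst (𝒰.f i) (𝒰.f k) ≫ (r i).left = pullback.snd (𝒰.f i) (𝒰.f k) ≫ (r k).left :=
    fun i k => compat_of_rel hc ρ hs ht hfree a b (𝒰.f i) (𝒰.f k) (r i) (r k) (hrt i) (hrt k) (hrs i) (hrs k)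
  let f : ∀ i, 𝒰.X i ⟶ c.pt.left := fun i => (r i).left
  let F : T.left ⟶ c.pt.left := 𝒰.glueMorphisms f compat
  have hF : ∀ i, 𝒰.f i ≫ F = f i := fun i => Scheme.Cover.ι_glueMorphisms 𝒰 f compat i
  have hw : ∀ i, f i ≫ c.pt.hom = 𝒰.f i ≫ T.hom := fun i => Over.w (r i)
  let R : T ⟶ c.pt := Over.homMk F (𝒰.hom_ext _ _ fun i => by rw [← Category.assoc, hF, hw])
  have hR : ∀ i, (Over.homMk (𝒰.f i) rfl : Over.mk (𝒰.f i ≫ T.hom) ⟶ T) ≫ R = r i := fun i =>
    Over.OverMorphism.ext (hF i)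
  exact ⟨R, hom_ext_of_cover 𝒰 fun i => by rw [← Category.assoc, hR, hrt],
    hom_ext_of_cover 𝒰 fun i => by rw [← Category.assoc, hR, hrs]⟩

include hs ht hfree hc in
theorem isEtaleEqvRel : IsEtaleEqvRel s t where
  injective _ r r' h₁ h₂ := injective_rel hc ρ hs ht hfree r r' h₁ h₂
  equivalence T := by
    refine ⟨fun a => ⟨a ≫ c.inj 1, ?_, ?_⟩, ?_, ?_⟩
    · rw [Category.assoc, ht, map_one]; exact Category.comp_id a
    · rw [Category.assoc, hs, Category.comp_id]
    · rintro a b ⟨r, rfl, rfl⟩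
      refine exists_rel_of_local hc ρ hs ht hfree _ _ (exists_decomp r hc).choose fun i => ?_
      obtain ⟨lbl, u, hu⟩ := (exists_decomp r hc).choose_spec
      refine ⟨(u i ≫ (ρ (lbl i)).hom) ≫ c.inj (lbl i)⁻¹, ?_, ?_⟩
      · simp only [reassoc_of% hu i, hs, Category.assoc, ht, Category.comp_id]
        rw [← hom_mul, inv_mul_cancel, map_one]
        exact Category.comp_id _
      · simp only [reassoc_of% hu i, hs, Category.assoc, ht, Category.comp_id]
    · rintro a b d ⟨r, rfl, rfl⟩ ⟨r', h't, rfl⟩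
      refine exists_rel_of_local hc ρ hs ht hfree _ _ (exists_decomp r hc).choose fun i => ?_
      obtain ⟨lbl, u, hu⟩ := (exists_decomp r hc).choose_spec
      let j : Over.mk ((exists_decomp r hc).choose.f i ≫ T.hom) ⟶ T :=
        Over.homMk ((exists_decomp r hc).choose.f i) rfl
      have hu' : j ≫ r = u i ≫ c.inj (lbl i) := hu i
      have hu2 : u i = (j ≫ r') ≫ t := by
        rw [Category.assoc, h't, ← Category.assoc, hu', Category.assoc, hs, Category.comp_id]
      let m := Cofan.IsColimit.desc hc (fun g => c.inj (lbl i * g))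
      have hm : ∀ g, c.inj g ≫ m = c.inj (lbl i * g) := fun g => Cofan.IsColimit.fac hc _ g
      have hms : m ≫ s = s := Cofan.IsColimit.hom_ext hc _ _ fun g => by rw [reassoc_of% hm g, hs, hs]
      have hmt : m ≫ t = t ≫ (ρ (lbl i)).hom := Cofan.IsColimit.hom_ext hc _ _ fun g => by
        rw [reassoc_of% hm g, ht, reassoc_of% ht g, hom_mul]
      refine ⟨(j ≫ r') ≫ m, ?_, ?_⟩
      · change _ = j ≫ r ≫ t
        rw [Category.assoc, hmt, reassoc_of% hu', ht, hu2]
        simp only [Category.assoc]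
      · change _ = j ≫ r' ≫ s
        rw [Category.assoc, hms, Category.assoc]
  etale_left := (IsZariskiLocalAtSource.iff_of_openCover (P := @Etale) (cover c hc)).2 fun g => by
    change Etale ((c.inj g).left ≫ s.left)
    rw [← Over.comp_left, hs g]
    exact inferInstanceAs (Etale (𝟙 U.left))
  etale_right := (IsZariskiLocalAtSource.iff_of_openCover (P := @Etale) (cover c hc)).2 fun g => by
    change Etale ((c.inj g).left ≫ t.left)
    rw [← Over.comp_left, ht g]
    haveI : IsIso (ρ g).hom.left := inferInstanceAs (IsIso ((Over.forget S).map (ρ g).hom))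
    infer_instance

end AlgSpLib.FreeAct
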