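import Groth.Agent.AlgSpLib.DecentBasic
import Groth.Agent.AlgSpLib.ReducedSmooth
import Groth.Agent.AlgSpLib.SheafDesc
import Groth.Agent.S10235

/-!
# Quasi-compact monomorphisms from fields to algebraic spaces
-/

set_option autoImplicit false
set_option backward.isDefEq.respectTransparency false
set_option backward.isDefEq.respectTransparency.types false

universe u

open CategoryTheory CategoryTheory.Limits AlgebraicGeometry Opposite AlgSp Topology

namespace AlgSpLib

variable {S : Scheme.{u}}

/-- A quasi-compact surjective monomorphism onto a discrete reduced scheme is an isomorphism. -/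
theorem isIso_of_mono_surjective_discrete {P R : Scheme.{u}} (k : P ⟶ R) [Mono k] [Surjective k] [QuasiCompact k]
    [DiscreteTopology R] [IsReduced R] : IsIso k := by
  haveI : Flat k := by
    refine IsZariskiLocalAtTarget.of_iSup_eq_top (fun r : R => (⟨{r}, isOpen_discrete _⟩ : R.Opens))
      (TopologicalSpace.Opens.ext (Set.eq_univ_of_forall fun r => by
        rw [TopologicalSpace.Opens.coe_iSup]; exact Set.mem_iUnion.2 ⟨r, rfl⟩)) fun r => ?_
    let O : R.Opens := ⟨{r}, isOpen_discrete _⟩
    haveI : Subsingleton ↥O.toScheme := ⟨fun x y => Subtype.ext (x.2.trans y.2.symm)⟩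
    haveI : Nonempty ↥O.toScheme := ⟨⟨r, rfl⟩⟩
    haveI : IrreducibleSpace ↥O.toScheme := ⟨inferInstance⟩
    haveI : IsIntegral O.toScheme := isIntegral_of_irreducibleSpace_of_isReduced _
    change Flat (k ∣_ O)
    infer_instance
  exact Flat.isIso_of_surjective_of_mono k

section Groupoid

variable {U R : Over S} {X : Sp S} {b : (yon S).obj U ⟶ X} {s t : R ⟶ U}
  (sq : IsPullback ((yon S).map t) ((yon S).map s) b b)

include sq

lemma kp_ext {T : Scheme.{u}} {α β : T ⟶ R.left} (h₁ : α ≫ t.left = β ≫ t.left)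
    (h₂ : α ≫ s.left = β ≫ s.left) : α = β := by
  let T' : Over S := Over.mk (α ≫ R.hom)
  let a : T' ⟶ R := Over.homMk α rfl
  let a' : T' ⟶ R := Over.homMk β (by
    change β ≫ R.hom = α ≫ R.hom
    rw [← Over.w s, ← Category.assoc, ← h₂, Category.assoc])
  have et : a ≫ t = a' ≫ t := Over.OverMorphism.ext h₁
  have es : a ≫ s = a' ≫ s := Over.OverMorphism.ext h₂
  have key : a = a' := (yon S).map_injective (sq.hom_ext
    (by rw [← Functor.map_comp, et, Functor.map_comp]) (by rw [← Functor.map_comp, es, Functor.map_comp]))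
  exact congrArg Over.Hom.left key

lemma kp_lift {T : Over S} (x y : T ⟶ U) (h : (yon S).map x ≫ b = (yon S).map y ≫ b) :
    ∃ r : T ⟶ R, r ≫ t = x ∧ r ≫ s = y := by
  obtain ⟨r, hr⟩ := (yon S).map_surjective (sq.lift ((yon S).map x) ((yon S).map y) h)
  exact ⟨r, (yon S).map_injective (by rw [Functor.map_comp, hr, sq.lift_fst]),
    (yon S).map_injective (by rw [Functor.map_comp, hr, sq.lift_snd])⟩

theorem isEqvRel_of_kernelPair : IsEqvRel s t where
  injective T r r' h₁ h₂ := Over.OverMorphism.ext
    (kp_ext sq (congrArg Over.Hom.left h₁) (congrArg Over.Hom.left h₂))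
  equivalence T := by
    have key : (fun x y : T ⟶ U => ∃ r : T ⟶ R, r ≫ t = x ∧ r ≫ s = y) =
        fun x y => (yon S).map x ≫ b = (yon S).map y ≫ b := by
      funext x y
      refine propext ⟨?_, kp_lift sq x y⟩
      rintro ⟨r, rfl, rfl⟩
      rw [Functor.map_comp, Functor.map_comp, Category.assoc, Category.assoc, sq.w]
    rw [key]
    exact ⟨fun _ => rfl, Eq.symm, Eq.trans⟩

/-- The groupoid of a kernel pair. -/
noncomputable def groupoidOfKernelPair : Grpd.GroupoidScheme S :=
  let hrev := kp_lift sq s t (by exact sq.w.symm)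
  let hid := kp_lift sq (𝟙 U) (𝟙 U) rfl
  let P : Over S := Over.mk (pullback.fst s.left t.left ≫ R.hom)
  let p₁ : P ⟶ R := Over.homMk (pullback.fst s.left t.left) rfl
  let p₂ : P ⟶ R := Over.homMk (pullback.snd s.left t.left) (by
    change pullback.snd _ _ ≫ R.hom = pullback.fst _ _ ≫ R.hom
    conv_lhs => rw [← Over.w t, ← Category.assoc, ← pullback.condition, Category.assoc, Over.w s])
  let hc := kp_lift sq (p₁ ≫ t) (p₂ ≫ s) (by
    have e : p₁ ≫ s = p₂ ≫ t := Over.OverMorphism.ext pullback.condition
    have w := sq.w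
    rw [Functor.map_comp, Functor.map_comp, Category.assoc, Category.assoc, w, ← Functor.map_comp_assoc, e,
      Functor.map_comp_assoc, w])
  have c_t : hc.choose.left ≫ t.left = pullback.fst s.left t.left ≫ t.left :=
    congrArg Over.Hom.left hc.choose_spec.1
  have c_s : hc.choose.left ≫ s.left = pullback.snd s.left t.left ≫ s.left :=
    congrArg Over.Hom.left hc.choose_spec.2
  have e_t : hid.choose.left ≫ t.left = 𝟙 _ := congrArg Over.Hom.left hid.choose_spec.1
  have e_s : hid.choose.left ≫ s.left = 𝟙 _ := congrArg Over.Hom.left hid.choose_spec.2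
  have i_t : hrev.choose.left ≫ t.left = s.left := congrArg Over.Hom.left hrev.choose_spec.1
  have i_s : hrev.choose.left ≫ s.left = t.left := congrArg Over.Hom.left hrev.choose_spec.2
  { U := U.left
    R := R.left
    pU := U.hom
    pR := R.hom
    s := s.left
    t := t.left
    e := hid.choose.left
    i := hrev.choose.left
    c := hc.choose.left
    s_over := Over.w s
    t_over := Over.w t
    comp_s := fun α β h => by rw [Category.assoc, c_s, pullback.lift_snd_assoc]
    comp_t := fun α β h => by rw [Category.assoc, c_t, pullback.lift_fst_assoc]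
    assoc := fun α β γ h₁ h₂ => by
      refine kp_ext sq ?_ ?_ <;> simp [c_s, c_t]
    e_s := e_s
    e_t := e_t
    comp_e := fun α => by refine kp_ext sq ?_ ?_ <;> simp [c_s, c_t, e_s]
    e_comp := fun α => by refine kp_ext sq ?_ ?_ <;> simp [c_s, c_t, e_t]
    i_s := i_s
    i_t := i_t
    comp_i := fun α => by refine kp_ext sq ?_ ?_ <;> simp [c_s, c_t, e_s, e_t, i_s]
    i_comp := fun α => by refine kp_ext sq ?_ ?_ <;> simp [c_s, c_t, e_s, e_t, i_t] }

end Groupoid

/-- An etale atlas by a finite reduced scheme mapping to a field is finite locally free. -/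
theorem finLocFree_of_etale_compact {R U : Scheme.{u}} [IsLocallyArtinian U] (g : R ⟶ U) [Etale g] [QuasiCompact g] :
    Mor2.IsFinLocFree g :=
  haveI : LocallyQuasiFinite g := locallyQuasiFinite_of_etale g
  ⟨IsFinite.of_locallyQuasiFinite g, inferInstance, inferInstance⟩

/-- A quasi-compact point has the same image as a quasi-compact monomorphism from a one-point reduced scheme. -/
theorem exists_mono_point {X : Sp S} (hX : IsAlgSpace X) {K : Type u} [Field K]
    {str : Spec (CommRingCat.of K) ⟶ S} (q : (yon S).obj (Over.mk str) ⟶ X) (hq : RepWith @QuasiCompact q) :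
    ∃ (M : Over S) (c : (yon S).obj M ⟶ X) (m₀ : M.left), IsIntegral M.left ∧ Subsingleton M.left ∧ Mono c ∧
      RepWith @QuasiCompact c ∧ Points.ofPt c m₀ = Points.ofPt q (IsLocalRing.closedPoint K) := by
  let TK : Over S := Over.mk str
  haveI : Subsingleton TK.left := inferInstanceAs (Subsingleton (PrimeSpectrum K))
  haveI : IsReduced TK.left := inferInstanceAs (IsReduced (Spec (CommRingCat.of K)))
  let x := Points.ofPt q (IsLocalRing.closedPoint K)
  obtain ⟨ι, Us, as, hUs, has, -, hcov⟩ := exists_affine_charts hX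
  obtain ⟨i, z, hz⟩ := hcov x
  obtain ⟨u, rfl⟩ := (Points.schemeHomeo (Us i)).surjective z
  have hxu : Points.ofPt (as i) u = x := (congrFun (ofPt_comp_ofScheme (as i)) u).trans hz
  haveI := hUs i
  let U := Us i
  let a := as i
  have ha : RepWith @Etale a := has i
  -- the fibre over the point
  obtain ⟨F, fU, fK, sqF⟩ := exists_isPullback_yon a q ha.rep
  haveI : Etale fK.left := etale_left (repWith_of_isPullback sqF ha)
  haveI : QuasiCompact fU.left :=
    (repWith_yon_map_iff (P := (@QuasiCompact : MorphismProperty Scheme.{u})) fU).1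
      (repWith_of_isPullback sqF.flip hq)
  haveI : CompactSpace U.left := inferInstance
  haveI : CompactSpace F.left := QuasiCompact.compactSpace_of_compactSpace fU.left
  -- the residue field
  let U₁ : Over S := Over.mk (U.left.fromSpecResidueField u ≫ U.hom)
  let j : U₁ ⟶ U := Over.homMk (U.left.fromSpecResidueField u) rfl
  haveI : Subsingleton U₁.left := inferInstanceAs (Subsingleton (PrimeSpectrum (U.left.residueField u)))
  haveI : IsReduced U₁.left := inferInstanceAs (IsReduced (Spec (U.left.residueField u)))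
  let u₀ : U₁.left := IsLocalRing.closedPoint (U.left.residueField u)
  have hju : ∀ y, j.left y = u := fun y => U.left.fromSpecResidueField_apply u y
  let b : (yon S).obj U₁ ⟶ X := (yon S).map j ≫ a
  have hbx : ∀ y, Points.ofPt b y = x := fun y => by rw [ofPt_yon_comp, hju, hxu]
  have hbrep := hX.representable_from_yon b
  obtain ⟨E, e₂, e₁, sqE⟩ := exists_isPullback_yon a b ha.rep
  haveI : Etale e₁.left := etale_left (repWith_of_isPullback sqE ha)
  haveI : IsReduced E.left := isReduced_of_smooth e₁.left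
  haveI : LocallyQuasiFinite e₁.left := locallyQuasiFinite_of_etale e₁.left
  haveI : IsLocallyArtinian E.left := .of_locallyQuasiFinite e₁.left
  haveI : DiscreteTopology E.left := inferInstance
  -- a common point
  obtain ⟨P, pK, p₁, sqP⟩ := exists_isPullback_yon q b hq.rep
  obtain ⟨w, -, -⟩ := (ofPt_eq_ofPt_iff sqP (IsLocalRing.closedPoint K) u₀).1 (hbx u₀).symm
  let P' : Over S := Over.mk (P.left.fromSpecResidueField w ≫ P.hom)
  let w' : P' ⟶ P := Over.homMk (P.left.fromSpecResidueField w) rfl
  haveI : Subsingleton P'.left := inferInstanceAs (Subsingleton (PrimeSpectrum (P.left.residueField w)))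
  haveI : Nonempty P'.left := inferInstanceAs (Nonempty (PrimeSpectrum (P.left.residueField w)))
  let πK := w' ≫ pK
  let π₁ := w' ≫ p₁
  have hqb : (yon S).map πK ≫ q = (yon S).map π₁ ≫ b := by
    simp only [πK, π₁, Functor.map_comp, Category.assoc, sqP.w]
  haveI : Surjective π₁.left := ⟨fun y => ⟨Classical.arbitrary _, Subsingleton.elim _ _⟩⟩
  haveI : QuasiCompact πK.left :=
    ⟨fun O _ _ => (Set.subsingleton_of_subsingleton.finite).isCompact⟩
  let Z : Over S := pullback fK πK
  let Z' : Over S := pullback e₁ π₁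
  have sqZ := IsPullback.of_hasPullback fK πK
  obtain ⟨g, hg⟩ := (yon S).map_surjective (sqE.lift ((yon S).map (pullback.fst fK πK ≫ fU))
    ((yon S).map (pullback.snd fK πK ≫ π₁)) (by
      rw [Functor.map_comp, Functor.map_comp, Category.assoc, Category.assoc, ← hqb, sqF.w,
        ← Functor.map_comp_assoc, pullback.condition, Functor.map_comp_assoc]))
  have hZ'w : ((yon S).map (pullback.fst e₁ π₁ ≫ e₂)) ≫ a = (yon S).map (pullback.snd e₁ π₁ ≫ πK) ≫ q := by
    rw [Functor.map_comp, Functor.map_comp, Category.assoc, Category.assoc, hqb, sqE.w,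
      ← Functor.map_comp_assoc, pullback.condition, Functor.map_comp_assoc]
  obtain ⟨g₁, hg₁⟩ := (yon S).map_surjective (sqF.lift _ _ hZ'w)
  have hg₁K : g₁ ≫ fK = pullback.snd e₁ π₁ ≫ πK :=
    (yon S).map_injective (by rw [Functor.map_comp, hg₁, sqF.lift_snd])
  have hg₁U : g₁ ≫ fU = pullback.fst e₁ π₁ ≫ e₂ :=
    (yon S).map_injective (by rw [Functor.map_comp, hg₁, sqF.lift_fst])
  let g₂ : Z' ⟶ Z := sqZ.lift g₁ (pullback.snd e₁ π₁) hg₁K
  have hgg : g₂ ≫ g = pullback.fst e₁ π₁ := by
    refine (yon S).map_injective (sqE.hom_ext ?_ ?_)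
    · rw [Functor.map_comp, Category.assoc, hg, sqE.lift_fst, ← Functor.map_comp, ← Functor.map_comp,
        sqZ.lift_fst_assoc, hg₁U]
    · rw [Functor.map_comp, Category.assoc, hg, sqE.lift_snd, ← Functor.map_comp, ← Functor.map_comp,
        sqZ.lift_snd_assoc, pullback.condition]
  have hpl {A B C : Over S} (f : A ⟶ C) (h : B ⟶ C) :
      IsPullback (pullback.fst f h).left (pullback.snd f h).left f.left h.left :=
    (IsPullback.of_hasPullback f h).map (Over.forget S)
  haveI : Surjective (g₂ ≫ g).left :=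
    hgg ▸ MorphismProperty.of_isPullback (P := @Surjective) (hpl e₁ π₁).flip inferInstance
  haveI : CompactSpace Z.left :=
    haveI : QuasiCompact (pullback.fst fK πK).left :=
      MorphismProperty.of_isPullback (P := @QuasiCompact) (hpl fK πK).flip inferInstance
    QuasiCompact.compactSpace_of_compactSpace (pullback.fst fK πK).left
  haveI : Surjective g.left := by
    refine ⟨fun e => ?_⟩
    obtain ⟨y, hy⟩ := (g₂ ≫ g).left.surjective e
    exact ⟨g₂.left y, (Scheme.Hom.comp_apply g₂.left g.left y).symm.trans hy⟩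
  haveI : CompactSpace E.left := ⟨g.left.surjective.range_eq ▸ isCompact_range g.left.continuous⟩
  haveI : Finite E.left := finite_of_compact_of_discrete
  -- the relation
  obtain ⟨R₀, r₀, s, sqR₀⟩ : ∃ (R₀ : Over S) (r₀ : R₀ ⟶ E) (t₀ : R₀ ⟶ U₁), IsPullback r₀ t₀ e₂ j :=
    ⟨_, _, _, IsPullback.of_hasPullback e₂ j⟩
  let O : E.left.Opens := ⟨e₂.left ⁻¹' {u}, isOpen_discrete _⟩
  have hrange : Set.range r₀.left ⊆ O := by
    rintro _ ⟨y, rfl⟩
    have : (r₀ ≫ e₂).left y = (s ≫ j).left y := by rw [sqR₀.w]
    rw [Over.comp_left, Over.comp_left, Scheme.Hom.comp_apply, Scheme.Hom.comp_apply, hju] at this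
    exact this
  let k : R₀.left ⟶ O.toScheme := IsOpenImmersion.lift O.ι r₀.left (by rwa [Scheme.Opens.range_ι])
  have hk : k ≫ O.ι = r₀.left := IsOpenImmersion.lift_fac _ _ _
  have sqRl : IsPullback r₀.left s.left e₂.left j.left := sqR₀.map (Over.forget S)
  haveI : Mono r₀.left := by
    haveI : Mono j.left := inferInstanceAs (Mono (U.left.fromSpecResidueField u))
    exact MorphismProperty.of_isPullback (P := MorphismProperty.monomorphisms Scheme) sqRl.flip
      (inferInstanceAs (Mono j.left))
  haveI : Mono k := mono_of_mono_fac hk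
  haveI : Surjective k := ⟨fun y => by
    obtain ⟨z, hz, -⟩ := Scheme.exists_preimage_of_isPullback sqRl y.1 u₀ (y.2.trans (hju u₀).symm)
    refine ⟨z, Subtype.ext ?_⟩
    exact ((Scheme.Hom.comp_apply k O.ι z).symm.trans (by rw [hk])).trans hz⟩
  haveI : QuasiCompact r₀.left := MorphismProperty.of_isPullback (P := @QuasiCompact) sqRl.flip
    ⟨fun O _ _ => (Set.subsingleton_of_subsingleton.finite).isCompact⟩
  haveI : IsPreimmersion r₀.left := by
    haveI : IsPreimmersion j.left := inferInstanceAs (IsPreimmersion (U.left.fromSpecResidueField u))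
    exact MorphismProperty.of_isPullback (P := @IsPreimmersion) sqRl.flip (inferInstanceAs (IsPreimmersion j.left))
  haveI : Finite R₀.left := Finite.of_injective _ r₀.left.isEmbedding.injective
  haveI : QuasiCompact k := ⟨fun V hV hc => (Set.toFinite _).isCompact⟩
  haveI : DiscreteTopology ↥O.toScheme := O.ι.isOpenEmbedding.isEmbedding.discreteTopology
  haveI : IsIso k := isIso_of_mono_surjective_discrete k
  haveI : IsOpenImmersion r₀.left := hk ▸ inferInstance
  let t := r₀ ≫ e₁
  have sqRX : IsPullback ((yon S).map s) ((yon S).map t) b b := by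
    rw [Functor.map_comp]
    exact (sqR₀.flip.map (yon S)).paste_vert sqE
  haveI : Etale t.left := inferInstanceAs (Etale (r₀.left ≫ e₁.left))
  haveI : QuasiCompact t.left := ⟨fun V _ _ => (Set.toFinite _).isCompact⟩
  haveI : IsLocallyArtinian U₁.left := inferInstance
  have htf := finLocFree_of_etale_compact t.left
  obtain ⟨σ, hσ₁, hσ₂⟩ : ∃ σ : R₀ ≅ R₀, σ.hom ≫ t = s ∧ True := by
    obtain ⟨φ, hφ⟩ := (yon S).map_surjective (sqRX.isoIsPullback _ _ sqRX.flip).hom
    haveI : IsIso ((yon S).map φ) := hφ ▸ inferInstance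
    haveI : IsIso φ := isIso_of_fully_faithful (yon S) φ
    exact ⟨asIso φ, (yon S).map_injective (by
      rw [Functor.map_comp, asIso_hom, hφ, IsPullback.isoIsPullback_hom_fst]), trivial⟩
  have hsf : Mor2.IsFinLocFree s.left := by
    obtain ⟨h₁, h₂, h₃⟩ := htf
    haveI : IsIso σ.hom.left := inferInstanceAs (IsIso ((Over.forget S).map σ.hom))
    rw [← hσ₁, Over.comp_left]
    exact ⟨(MorphismProperty.cancel_left_of_respectsIso @IsFinite _ _).2 h₁,
      (MorphismProperty.cancel_left_of_respectsIso @Flat _ _).2 h₂,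
      (MorphismProperty.cancel_left_of_respectsIso @LocallyOfFinitePresentation _ _).2 h₃⟩
  obtain ⟨M, m, hm, sqM, hms, -⟩ := Groth.Agent.S10235.exists_surjective_quotient
    (groupoidOfKernelPair sqRX.flip.flip) htf hsf (isEqvRel_of_kernelPair sqRX) fun C _ hCn =>
      ⟨hCn.some, hCn.some_mem, ⊤, isAffineOpen_top U₁.left, fun _ _ => trivial⟩
  obtain ⟨hmf, hmfl, hmp⟩ := hm
  let m' : U₁ ⟶ M := Over.homMk m.left (Over.w m)
  haveI : Flat m'.left := hmfl
  haveI : LocallyOfFinitePresentation m'.left := hmp
  haveI : Surjective m'.left := hms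
  have sqMU : IsPullback s t m' m' := isPullback_over sqM
  haveI : Subsingleton M.left := m'.left.surjective.subsingleton
  haveI : IsReduced M.left := isReduced_of_flat_surjective m'.left
  haveI : Nonempty M.left := ⟨m'.left u₀⟩
  haveI : IrreducibleSpace M.left := ⟨inferInstance⟩
  haveI : IsIntegral M.left := isIntegral_of_irreducibleSpace_of_isReduced _
  haveI := isLocallySurjective_yon_map m'
  obtain ⟨c, hc⟩ := exists_desc ((yon S).map m') b fun T g g' e => by
    obtain ⟨g, rfl⟩ := (yon S).map_surjective g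
    obtain ⟨g', rfl⟩ := (yon S).map_surjective g'
    obtain ⟨r, hr⟩ := (yon S).map_surjective ((sqMU.map (yon S)).lift _ _ e)
    rw [← (sqMU.map (yon S)).lift_fst _ _ e]
    conv_rhs => rw [← (sqMU.map (yon S)).lift_snd _ _ e]
    rw [Category.assoc, Category.assoc, sqRX.w]
  have hcmono : Mono c := by
    refine mono_of_injective fun T g g' e => ?_
    obtain ⟨g, rfl⟩ := (yon S).map_surjective g
    obtain ⟨g', rfl⟩ := (yon S).map_surjective g'
    let T₁ := pullback g m'
    let T₂ := pullback (pullback.fst g m' ≫ g') m'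
    let τ : T₂ ⟶ T := pullback.fst (pullback.fst g m' ≫ g') m' ≫ pullback.fst g m'
    have hF {A B : Over S} (f : A ⟶ M) (P : MorphismProperty Scheme.{u}) [P.IsStableUnderBaseChange]
        (h : P m'.left) : P (pullback.fst f m').left :=
      P.of_isPullback (hpl f m').flip h
    haveI : Flat τ.left := by
      haveI := hF (A := T₁) (B := T₁) (pullback.fst g m' ≫ g') @Flat hmfl
      haveI := hF (A := T) (B := T) g @Flat hmfl
      exact inferInstanceAs (Flat (_ ≫ _))
    haveI : LocallyOfFinitePresentation τ.left := by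
      haveI := hF (A := T₁) (B := T₁) (pullback.fst g m' ≫ g') @LocallyOfFinitePresentation hmp
      haveI := hF (A := T) (B := T) g @LocallyOfFinitePresentation hmp
      exact inferInstanceAs (LocallyOfFinitePresentation (_ ≫ _))
    haveI : Surjective τ.left := by
      haveI := hF (A := T₁) (B := T₁) (pullback.fst g m' ≫ g') @Surjective hms
      haveI := hF (A := T) (B := T) g @Surjective hms
      exact inferInstanceAs (Surjective (_ ≫ _))
    let h₁ := pullback.fst (pullback.fst g m' ≫ g') m' ≫ pullback.snd g m'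
    let h₂ := pullback.snd (pullback.fst g m' ≫ g') m'
    have eh₁ : h₁ ≫ m' = τ ≫ g := by simp [h₁, τ, pullback.condition]
    have eh₂ : h₂ ≫ m' = τ ≫ g' := by simp [h₂, τ, pullback.condition]
    obtain ⟨r, hr₁, hr₂⟩ := kp_lift sqRX h₁ h₂ (by
      rw [← hc, ← Functor.map_comp_assoc, ← Functor.map_comp_assoc, eh₁, eh₂, Functor.map_comp_assoc,
        Functor.map_comp_assoc, e]
      simp only [τ, Functor.map_comp, Category.assoc])
    refine eq_of_comp_eq τ ?_
    rw [← Functor.map_comp, ← Functor.map_comp, ← eh₁, ← eh₂, ← hr₁, ← hr₂, Category.assoc, Category.assoc, sqMU.w]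
  have hcrep := hX.representable_from_yon c
  refine ⟨M, c, m'.left u₀, inferInstance, inferInstance, hcmono, ⟨hcrep, fun T W ξ fst snd sqW => ?_⟩, ?_⟩
  · obtain ⟨fW, rfl⟩ := (yon S).map_surjective fst
    let WP := pullback fW (π₁ ≫ m')
    haveI : Surjective (π₁ ≫ m').left := inferInstanceAs (Surjective (π₁.left ≫ m'.left))
    haveI : Surjective (pullback.fst fW (π₁ ≫ m')).left :=
      MorphismProperty.of_isPullback (P := @Surjective) (hpl fW (π₁ ≫ m')).flip inferInstance
    have ePX : ((yon S).map (π₁ ≫ m')) ≫ c = (yon S).map πK ≫ q := by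
      rw [hqb, Functor.map_comp, Category.assoc, hc]
    have hPqc : RepWith @QuasiCompact ((yon S).map (π₁ ≫ m') ≫ c) := by
      rw [ePX]
      exact repWith_comp ((repWith_yon_map_iff _ πK).2 (inferInstanceAs (QuasiCompact πK.left))) hq
    have sqbig := ((IsPullback.of_hasPullback fW (π₁ ≫ m')).map (yon S)).paste_horiz sqW.flip
    rw [← Functor.map_comp] at sqbig
    haveI : QuasiCompact (pullback.fst fW (π₁ ≫ m') ≫ snd).left := hPqc.property _ _ _ sqbig.flip
    refine ⟨fun V hV hVc => ?_⟩
    have hcomp := QuasiCompact.isCompact_preimage (f := (pullback.fst fW (π₁ ≫ m') ≫ snd).left) V hV hVc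
    rw [Over.comp_left, Scheme.Hom.comp_base, TopCat.coe_comp, Set.preimage_comp] at hcomp
    have := hcomp.image (pullback.fst fW (π₁ ≫ m')).left.continuous
    rwa [Set.image_preimage_eq _ (pullback.fst fW (π₁ ≫ m')).left.surjective] at this
  · rw [← ofPt_yon_comp, hc, hbx]

end AlgSpLib
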