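import Groth.Agent.AlgSpLib.FtPoints
import Groth.Agent.AlgSpLib.Bootstrap
import Groth.Agent.AlgSpLib.PointMono
/-!
# A finite type point is the image of a monomorphism from an etale quotient of a field
-/

set_option autoImplicit false
set_option backward.isDefEq.respectTransparency false
set_option backward.isDefEq.respectTransparency.types false
universe u
open CategoryTheory CategoryTheory.Limits AlgebraicGeometry Opposite AlgSp Topology

namespace AlgSpLib

variable {S : Scheme.{u}}

theorem isPullback_image {F X : Sp S} (ξ : F ⟶ X) {R : Sp S} {p q : R ⟶ F} (sq : IsPullback p q ξ ξ) :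
    IsPullback p q (Sheaf.toImage ξ) (Sheaf.toImage ξ) :=
  isPullback_comp_mono (Sheaf.imageι ξ) (by rw [Sheaf.toImage_ι]; exact sq)

theorem exists_mono_quotient {X : Sp S} (hX : IsAlgSpace X) {x : Points X} (h : IsFtChartPt x) :
    ∃ (Z : Sp S) (f : Z ⟶ X) (k : Type u) (_ : Field k) (str : Spec (CommRingCat.of k) ⟶ S)
      (z : (yon S).obj (Over.mk str) ⟶ Z), IsAlgSpace Z ∧ RepWith @Etale z ∧ RepWith @Surjective z ∧
      LocP @LocallyOfFiniteType f ∧ Mono f ∧ Points.ofPt (z ≫ f) (IsLocalRing.closedPoint k) = x := by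
  obtain ⟨U, φ, u, hφ, hu, hx⟩ := exists_closed_chart h
  let K : Over S := Over.mk (U.left.fromSpecResidueField u ≫ U.hom)
  let j : K ⟶ U := Over.homMk (U.left.fromSpecResidueField u) rfl
  have hjl : LocallyOfFiniteType j.left := lft_fromSpecResidueField_of_isClosed hu
  haveI : Subsingleton K.left := inferInstanceAs (Subsingleton (PrimeSpectrum (U.left.residueField u)))
  haveI : IsReduced K.left := inferInstanceAs (IsReduced (Spec (U.left.residueField u)))
  let ξ : (yon S).obj K ⟶ X := (yon S).map j ≫ φ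
  let z := Sheaf.toImage ξ
  -- `E = U ×_X K` is etale over `K`, hence reduced and discrete
  obtain ⟨E, e₂, e₁, sqE⟩ := exists_isPullback_yon φ ξ hφ.rep
  haveI : Etale e₁.left := etale_left (repWith_of_isPullback sqE hφ)
  haveI : IsReduced E.left := isReduced_of_smooth e₁.left
  haveI : LocallyQuasiFinite e₁.left := locallyQuasiFinite_of_etale e₁.left
  haveI : IsLocallyArtinian E.left := .of_locallyQuasiFinite e₁.left
  haveI : DiscreteTopology E.left := inferInstance
  -- `R = K ×_X K` is an open piece of `E`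
  have sqP := (IsPullback.of_hasPullback j e₂).map (yon S)
  have sqR : IsPullback ((yon S).map (pullback.fst j e₂)) ((yon S).map (pullback.snd j e₂ ≫ e₁)) ξ ξ := by
    rw [Functor.map_comp]
    exact sqP.paste_vert sqE
  let r := (pullback.snd j e₂).left
  have sqr : IsPullback (pullback.fst j e₂).left r j.left e₂.left :=
    (IsPullback.of_hasPullback j e₂).map (Over.forget S)
  have hr : Etale r := by
    haveI : Mono j.left := inferInstanceAs (Mono (U.left.fromSpecResidueField u))
    haveI : Mono r := MorphismProperty.of_isPullback (P := MorphismProperty.monomorphisms Scheme) sqr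
      (inferInstanceAs (Mono j.left))
    haveI : QuasiCompact r := MorphismProperty.of_isPullback (P := @QuasiCompact) sqr
      ⟨fun O _ _ => (Set.subsingleton_of_subsingleton.finite).isCompact⟩
    let O : E.left.Opens := ⟨Set.range r, isOpen_discrete _⟩
    let k : (pullback j e₂).left ⟶ O.toScheme :=
      IsOpenImmersion.lift O.ι r (by rw [Scheme.Opens.range_ι]; exact subset_rfl)
    have hk : k ≫ O.ι = r := IsOpenImmersion.lift_fac _ _ _
    haveI : Mono k := mono_of_mono_fac hk
    haveI : Surjective k := ⟨fun y => by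
      obtain ⟨w, hw⟩ := y.2
      refine ⟨w, Subtype.ext ?_⟩
      exact ((Scheme.Hom.comp_apply k O.ι w).symm.trans (by rw [hk])).trans hw⟩
    haveI : QuasiCompact k :=
      MorphismProperty.of_postcomp (W := @QuasiCompact) (W' := @QuasiSeparated) k O.ι inferInstance
        (by rw [hk]; infer_instance)
    haveI : DiscreteTopology O.toScheme := O.ι.isOpenEmbedding.isEmbedding.discreteTopology
    haveI : IsIso k := isIso_of_mono_surjective_discrete k
    rw [← hk]
    infer_instance
  have hs : Etale (pullback.snd j e₂ ≫ e₁).left := inferInstanceAs (Etale (r ≫ e₁.left))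
  have hsurj : Surjective (pullback.snd j e₂ ≫ e₁).left := by
    obtain ⟨d, hd⟩ := (yon S).map_surjective (sqR.lift (𝟙 _) (𝟙 _) rfl)
    have e : d ≫ pullback.snd j e₂ ≫ e₁ = 𝟙 K :=
      (yon S).map_injective (by rw [Functor.map_comp, hd, sqR.lift_snd, CategoryTheory.Functor.map_id])
    refine ⟨fun y => ⟨d.left y, ?_⟩⟩
    rw [← Scheme.Hom.comp_apply, ← Over.comp_left, e]
    rfl
  have hzrep : Representable z := by
    intro T g
    obtain ⟨W, f, w, sqW⟩ := exists_isPullback_yon ξ (g ≫ Sheaf.imageι ξ) (hX.representable_from_yon ξ)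
    exact ⟨W, w, (yon S).map f, isPullback_comp_mono (Sheaf.imageι ξ) (by rw [Sheaf.toImage_ι]; exact sqW)⟩
  have sqZ := isPullback_image ξ sqR
  haveI : Sheaf.IsLocallySurjective z := inferInstanceAs (Sheaf.IsLocallySurjective (Sheaf.toImage ξ))
  have hze : RepWith @Etale z := repWith_of_cover sqZ hzrep ((repWith_yon_map_iff _ _).2 hs)
  have hzs : RepWith @Surjective z := repWith_of_cover sqZ hzrep ((repWith_yon_map_iff _ _).2 hsurj)
  refine ⟨_, Sheaf.imageι ξ, U.left.residueField u, inferInstance, U.left.fromSpecResidueField u ≫ U.hom, z,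
    isAlgSpace_of_atlas z hze hzs, hze, hzs, locP_of_chart hze hzs hφ (Sheaf.toImage_ι ξ) hjl, inferInstance, ?_⟩
  rw [Sheaf.toImage_ι, ofPt_yon_comp, ← hx]
  exact congrArg (Points.ofPt φ) (Scheme.fromSpecResidueField_apply u _)

theorem isFtChartPt_of_range_singleton {Z X : Sp S} (hZ : IsAlgSpace Z) (hX : IsAlgSpace X) {f : Z ⟶ X}
    (hf : LocP @LocallyOfFiniteType f) {x : Points X} (hr : Set.range (Points.map f) = {x}) :
    IsFtChartPt x := by
  obtain ⟨z₀, hz₀⟩ : x ∈ Set.range (Points.map f) := by rw [hr]; exact rfl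
  obtain ⟨z, -, hz⟩ := exists_ftChartPt_mem hZ isOpen_univ.isLocallyClosed ⟨z₀, trivial⟩
  obtain ⟨k, _, str, ξ, hξ, hξz⟩ := ftPoint_of_chart hZ hz
  refine isFtChartPt_of_ftPoint hX (locP_comp (IsAlgSpace.yon_obj _) hZ hX hξ hf) ?_
  rw [← Points.map_ofPt, hξz]
  exact Set.mem_singleton_iff.1 (hr ▸ ⟨z, rfl⟩ : Points.map f z ∈ ({x} : Set (Points X)))

end AlgSpLib
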