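import Groth.Agent.AlgSpLib.LocP
import Groth.Agent.AlgSpLib.Points
import Groth.Agent.SweepSix.FtPts
/-!
# Points of finite type of algebraic spaces
-/

set_option autoImplicit false
universe u
open CategoryTheory CategoryTheory.Limits AlgebraicGeometry Opposite AlgSp Topology

namespace AlgSpLib

variable {S : Scheme.{u}}

/-- `x` lifts to a point of finite type of an etale chart. -/
def IsFtChartPt {X : Sp S} (x : Points X) : Prop :=
  ∃ (U : Over S) (φ : (yon S).obj U ⟶ X) (u : ↥U.left), RepWith @Etale φ ∧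
    LocallyOfFiniteType (U.left.fromSpecResidueField u) ∧ Points.ofPt φ u = x

theorem lft_fromSpecResidueField_of_isClosed {U : Scheme.{u}} {u : ↥U} (h : IsClosed ({u} : Set U)) :
    LocallyOfFiniteType (U.fromSpecResidueField u) := by
  obtain ⟨O, hO, huO, -⟩ := exists_isAffineOpen_mem_and_subset (U := ⊤) (x := u) trivial
  refine (SweepSix.mem_iff u).2 ⟨O, hO, huO, ?_⟩
  have e : ({⟨u, huO⟩} : Set O) = (Subtype.val : O → U) ⁻¹' {u} := by
    ext z
    exact ⟨fun h => congrArg Subtype.val h, fun h => Subtype.ext h⟩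
  rw [e]
  exact h.preimage continuous_subtype_val

theorem ftPoint_of_chart {X : Sp S} (hX : IsAlgSpace X) {x : Points X} (h : IsFtChartPt x) :
    ∃ (k : Type u) (_ : Field k) (str : Spec (CommRingCat.of k) ⟶ S) (ξ : (yon S).obj (Over.mk str) ⟶ X),
      LocP @LocallyOfFiniteType ξ ∧ Points.ofPt ξ (IsLocalRing.closedPoint k) = x := by
  obtain ⟨U, φ, u, hφ, hu, rfl⟩ := h
  let j : Over.mk (U.left.fromSpecResidueField u ≫ U.hom) ⟶ U := Over.homMk (U.left.fromSpecResidueField u) rfl
  refine ⟨U.left.residueField u, inferInstance, U.left.fromSpecResidueField u ≫ U.hom,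
    (yon S).map j ≫ φ, ?_, ?_⟩
  · refine locP_comp (IsAlgSpace.yon_obj _) (IsAlgSpace.yon_obj _) hX
      ((locP_yon_map_iff (P := (@LocallyOfFiniteType : MorphismProperty Scheme.{u})) j).2 hu)
      (locP_of_repWith (repWith_mono (fun _ _ f (h : Etale f) => (inferInstance : LocallyOfFiniteType f)) hφ))
  · rw [ofPt_yon_comp]
    exact congrArg (Points.ofPt φ) (Scheme.fromSpecResidueField_apply u _)

theorem isFtChartPt_of_ftPoint {X : Sp S} (hX : IsAlgSpace X) {x : Points X} {k : Type u} [Field k]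
    {str : Spec (CommRingCat.of k) ⟶ S} {ξ : (yon S).obj (Over.mk str) ⟶ X}
    (hξ : LocP @LocallyOfFiniteType ξ) (hx : Points.ofPt ξ (IsLocalRing.closedPoint k) = x) :
    IsFtChartPt x := by
  obtain ⟨U, a, ha, has⟩ := hX.atlas
  have hrep := hX.representable_from_yon ξ
  obtain ⟨W, p, q, sq⟩ := exists_isPullback_yon ξ a hrep
  haveI : Etale p.left := etale_left (repWith_of_isPullback sq.flip ha)
  haveI : Surjective p.left := surjective_left (repWith_of_isPullback sq.flip has)
  haveI : LocallyOfFiniteType q.left :=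
    (repWith_yon_map_iff (P := (@LocallyOfFiniteType : MorphismProperty Scheme.{u})) q).1
      (repWith_of_isPullback sq (repWith_of_locP hX hrep hξ))
  haveI : JacobsonSpace ↥W.left := LocallyOfFiniteType.jacobsonSpace (Y := Spec (.of k)) p.left
  obtain ⟨w₀, -⟩ := p.left.surjective (IsLocalRing.closedPoint k)
  obtain ⟨w, -, hw⟩ := nonempty_inter_closedPoints (Z := (Set.univ : Set W.left)) ⟨w₀, trivial⟩
    isOpen_univ.isLocallyClosed
  refine ⟨U, a, q.left w, ha, SweepSix.image_mem q.left (lft_fromSpecResidueField_of_isClosed hw), ?_⟩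
  rw [← hx]
  exact ((ofPt_eq_ofPt_iff sq (IsLocalRing.closedPoint k) (q.left w)).2
    ⟨w, Subsingleton.elim (α := PrimeSpectrum k) _ _, rfl⟩).symm

theorem exists_closed_chart {X : Sp S} {x : Points X} (h : IsFtChartPt x) :
    ∃ (U : Over S) (φ : (yon S).obj U ⟶ X) (u : ↥U.left), RepWith @Etale φ ∧
      IsClosed ({u} : Set ↥U.left) ∧ Points.ofPt φ u = x := by
  obtain ⟨U, φ, u, hφ, hu, rfl⟩ := h
  obtain ⟨O, -, huO, hc⟩ := (SweepSix.mem_iff u).1 hu
  let j : Over.mk (O.ι ≫ U.hom) ⟶ U := Over.homMk O.ι rfl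
  refine ⟨_, (yon S).map j ≫ φ, ⟨u, huO⟩,
    repWith_comp ((repWith_yon_map_iff (P := (@Etale : MorphismProperty Scheme.{u})) j).2
      (inferInstanceAs (Etale O.ι))) hφ, hc, ofPt_yon_comp j φ _⟩

theorem isLocallyClosed_singleton_of_lft {U : Scheme.{u}} {u : ↥U}
    (hu : LocallyOfFiniteType (U.fromSpecResidueField u)) : IsLocallyClosed ({u} : Set U) := by
  obtain ⟨O, -, huO, hc⟩ := (SweepSix.mem_iff u).1 hu
  have h := hc.isLocallyClosed.image (f := (Subtype.val : O → U)) Topology.IsInducing.subtypeVal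
    (Subtype.range_coe.symm ▸ O.2.isLocallyClosed)
  rwa [Set.image_singleton] at h

theorem exists_ftChartPt_map_eq {X Y : Sp S} (hX : IsAlgSpace X) (hY : IsAlgSpace Y) {f : X ⟶ Y}
    (hf : LocP @LocallyOfFiniteType f) (hs : Function.Surjective (Points.map f)) {y : Points Y}
    (hy : IsFtChartPt y) : ∃ x : Points X, Points.map f x = y ∧ IsFtChartPt x := by
  obtain ⟨V, b, v, hb, hv, rfl⟩ := hy
  have sq := IsPullback.of_hasPullback f b
  have hP : IsAlgSpace (pullback f b) := isAlgSpace_pullback hX (IsAlgSpace.yon_obj V) hY f b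
  obtain ⟨U, a, ha, has⟩ := hP.atlas
  obtain ⟨h, hh⟩ := (yon S).map_surjective (a ≫ pullback.snd f b)
  haveI : LocallyOfFiniteType h.left :=
    locP_of_isPullback hX hY (IsAlgSpace.yon_obj V) sq hf a (𝟙 _) h ha
      (repWith_id (@Etale : MorphismProperty Scheme.{u}) V) (by rw [Category.comp_id, hh])
  have hrange : ∃ z : ↥U.left, h.left z = v := by
    obtain ⟨x, hx⟩ := map_surjective_of_isPullback sq hs (Points.schemeHomeo V v)
    obtain ⟨z, rfl⟩ := surjective_ofPt has x
    refine ⟨z, (Points.schemeHomeo V).injective ?_⟩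
    rw [← Points.map_yon_map_apply, hh, Points.map_comp]
    exact (congrArg _ ((congrFun (ofPt_comp_ofScheme a) z).symm.trans rfl)).trans hx
  obtain ⟨z, hz, hzv⟩ := SweepSix.nonempty_inter
    ((isLocallyClosed_singleton_of_lft hv).preimage h.left.continuous) hrange
  let c := a ≫ pullback.fst f b
  refine ⟨Points.ofPt c z, ?_, U, c, z, repWith_comp ha (repWith_of_isPullback sq.flip hb), hzv, rfl⟩
  rw [Points.map_ofPt]
  have e : c ≫ f = (yon S).map h ≫ b := by simp only [c, Category.assoc, pullback.condition, hh]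
  rw [e, ofPt_yon_comp]
  exact congrArg _ hz

theorem exists_ftChartPt_mem {X : Sp S} (hX : IsAlgSpace X) {T : Set (Points X)} (hT : IsLocallyClosed T)
    (hne : T.Nonempty) : ∃ x ∈ T, IsFtChartPt x := by
  obtain ⟨U, a, ha, has⟩ := hX.atlas
  obtain ⟨x, hx⟩ := hne
  obtain ⟨u₀, rfl⟩ := surjective_ofPt has x
  obtain ⟨u, hu, huf⟩ := SweepSix.nonempty_inter (hT.preimage (Points.continuous_ofPt a)) ⟨u₀, hx⟩
  exact ⟨_, hu, U, a, u, ha, huf, rfl⟩

end AlgSpLib
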