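import Groth.Agent.AlgSpLib.LocP
import Groth.Agent.AlgSpLib.Points
import Groth.Prelude.Def_AlgSpDec

/-!
# Chart independence of pointwise conditions on algebraic spaces

`HasAt` and `HasAtMor` are "some chart" predicates. For conditions that are invariant under etale maps they
can be evaluated in any chart.
-/

set_option autoImplicit false
universe u

open CategoryTheory CategoryTheory.Limits AlgebraicGeometry
open AlgSp

namespace AlgSpLib

variable {S : Scheme.{u}}

/-- A condition on a morphism and a point of its source is invariant under etale maps of charts. -/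
def EtInvMor (Q : ∀ (U V : Scheme.{u}), (U ⟶ V) → ↥U → Prop) : Prop :=
  ∀ {U U' V V' : Scheme.{u}} (h : U ⟶ V) (h' : U' ⟶ V') (a : U' ⟶ U) (b : V' ⟶ V) [Etale a] [Etale b],
    h' ≫ b = a ≫ h → ∀ u' : U', (Q U V h (a.base u') ↔ Q U' V' h' u')

/-- A condition on a point of a scheme is invariant under etale maps. -/
def EtInvPt (Q : ∀ U : Scheme.{u}, ↥U → Prop) : Prop :=
  ∀ {U U' : Scheme.{u}} (a : U' ⟶ U) [Etale a], ∀ u' : U', (Q U (a.base u') ↔ Q U' u')

theorem hasAtMor_iff {Q : ∀ (U V : Scheme.{u}), (U ⟶ V) → ↥U → Prop} (hQ : EtInvMor Q) {F G : Sp S}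
    {f : F ⟶ G} {U V : Over S}
    {a : (yon S).obj U ⟶ F} {b : (yon S).obj V ⟶ G} {h : U ⟶ V} (ha : RepWith @Etale a)
    (hb : RepWith @Etale b) (e : a ≫ f = (yon S).map h ≫ b) (u : U.left) :
    HasAtMor Q f (Points.ofPt a u) ↔ Q U.left V.left h.left u := by
  refine ⟨?_, fun hq => ⟨U, V, a, b, h, u, ha, hb, e, rfl, hq⟩⟩
  rintro ⟨U', V', a', b', h', u', ha', hb', e', hu, hq⟩
  obtain ⟨W, p, p', sqW⟩ := exists_isPullback_yon a a' ha.rep
  obtain ⟨V'', q, q', sqV⟩ := exists_isPullback_yon b b' hb.rep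
  obtain ⟨w, hw, hw'⟩ := (ofPt_eq_ofPt_iff sqW u u').1 hu.symm
  obtain ⟨k, hk⟩ := (yon S).map_surjective (sqV.lift ((yon S).map (p ≫ h)) ((yon S).map (p' ≫ h'))
    (by rw [Functor.map_comp, Functor.map_comp, Category.assoc, Category.assoc, ← e, ← e', reassoc_of% sqW.w]))
  have hkq : k ≫ q = p ≫ h := (yon S).map_injective (by rw [Functor.map_comp, hk, sqV.lift_fst])
  have hkq' : k ≫ q' = p' ≫ h' := (yon S).map_injective (by rw [Functor.map_comp, hk, sqV.lift_snd])
  haveI : Etale p'.left := etale_left (repWith_of_isPullback sqW ha)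
  haveI : Etale p.left := etale_left (repWith_of_isPullback sqW.flip ha')
  haveI : Etale q'.left := etale_left (repWith_of_isPullback sqV hb)
  haveI : Etale q.left := etale_left (repWith_of_isPullback sqV.flip hb')
  have h1 := hQ h.left k.left p.left q.left (by rw [← Over.comp_left, hkq, Over.comp_left]) w
  have h2 := hQ h'.left k.left p'.left q'.left (by rw [← Over.comp_left, hkq', Over.comp_left]) w
  subst hw hw'
  exact h1.2 (h2.1 hq)

theorem hasAt_iff {Q : ∀ U : Scheme.{u}, ↥U → Prop} (hQ : EtInvPt Q) {F : Sp S} {U : Over S}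
    {a : (yon S).obj U ⟶ F} (ha : RepWith @Etale a) (u : U.left) :
    HasAt Q F (Points.ofPt a u) ↔ Q U.left u := by
  refine ⟨?_, fun hq => ⟨U, a, u, ha, rfl, hq⟩⟩
  rintro ⟨U', a', u', ha', hu, hq⟩
  obtain ⟨W, p, p', sqW⟩ := exists_isPullback_yon a a' ha.rep
  obtain ⟨w, hw, hw'⟩ := (ofPt_eq_ofPt_iff sqW u u').1 hu.symm
  haveI : Etale p'.left := etale_left (repWith_of_isPullback sqW ha)
  haveI : Etale p.left := etale_left (repWith_of_isPullback sqW.flip ha')
  subst hw hw'
  exact (hQ p.left w).2 ((hQ p'.left w).1 hq)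

/-- A chart of `f` through a given point, together with the image point. -/
theorem exists_chart_at {F G : Sp S} (hF : IsAlgSpace F) (hG : IsAlgSpace G) (f : F ⟶ G) (x : Points F) :
    ∃ (U V : Over S) (a : (yon S).obj U ⟶ F) (b : (yon S).obj V ⟶ G) (h : U ⟶ V) (u : U.left),
      RepWith @Etale a ∧ RepWith @Etale b ∧ a ≫ f = (yon S).map h ≫ b ∧ Points.ofPt a u = x := by
  obtain ⟨U, V, a, b, h, ha, has, hb, -, e⟩ := exists_chart hF hG f
  obtain ⟨u, hu⟩ := surjective_ofPt has x
  exact ⟨U, V, a, b, h, u, ha, hb, e, hu⟩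

theorem map_ofPt_chart {F G : Sp S} {f : F ⟶ G} {U V : Over S}
    {a : (yon S).obj U ⟶ F} {b : (yon S).obj V ⟶ G} {h : U ⟶ V} (e : a ≫ f = (yon S).map h ≫ b) (u : U.left) :
    Points.map f (Points.ofPt a u) = Points.ofPt b (h.left.base u) := by
  rw [Points.map_ofPt, e, ofPt_yon_comp]

/-- Charts for a base change, with a cartesian square of schemes on top. -/
theorem exists_chart_baseChange {F G F' G' : Sp S} (hF : IsAlgSpace F) (hG : IsAlgSpace G)
    (hG' : IsAlgSpace G') {f : F ⟶ G} {g : G' ⟶ G} {fst : F' ⟶ F} {snd : F' ⟶ G'}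
    (sq : IsPullback fst snd f g) (x' : Points F') :
    ∃ (U V U' V' : Over S) (a : (yon S).obj U ⟶ F) (b : (yon S).obj V ⟶ G) (h : U ⟶ V)
      (a' : (yon S).obj U' ⟶ F') (b' : (yon S).obj V' ⟶ G') (h' : U' ⟶ V') (p : U' ⟶ U) (v : V' ⟶ V)
      (u' : U'.left),
      RepWith @Etale a ∧ RepWith @Etale b ∧ RepWith @Etale a' ∧ RepWith @Etale b' ∧
      a ≫ f = (yon S).map h ≫ b ∧ a' ≫ snd = (yon S).map h' ≫ b' ∧
      IsPullback p.left h'.left h.left v.left ∧
      Points.ofPt a' u' = x' ∧ Points.ofPt a (p.left.base u') = Points.map fst x' ∧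
      a' ≫ fst = (yon S).map p ≫ a := by
  obtain ⟨V, b, hb, hbs⟩ := hG.atlas
  obtain ⟨V', b', v, hb', hbs', e'⟩ := exists_chart_over hG' hG g b hb hbs
  obtain ⟨U, r, h, hr, hrs, hrh⟩ := exists_atlas_pullback hF hG f b
  let U' : Over S := pullback h v
  have sqU : IsPullback ((yon S).map (pullback.fst h v)) ((yon S).map (pullback.snd h v))
      ((yon S).map h) ((yon S).map v) := (IsPullback.of_hasPullback h v).map (yon S)
  have hsqF' := IsPullback.of_hasPullback snd b'
  let l : pullback snd b' ⟶ pullback f b := pullback.lift (pullback.fst snd b' ≫ fst)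
    (pullback.snd snd b' ≫ (yon S).map v) (by
      rw [Category.assoc, Category.assoc, sq.w, ← e', reassoc_of% hsqF'.w])
  have sqX : IsPullback l (pullback.snd snd b') (pullback.snd f b) ((yon S).map v) := by
    refine IsPullback.of_right ?_ (pullback.lift_snd _ _ _) (IsPullback.of_hasPullback f b)
    rw [pullback.lift_fst, ← e']
    exact hsqF'.paste_horiz sq
  let m : (yon S).obj U' ⟶ pullback snd b' :=
    sqX.lift ((yon S).map (pullback.fst h v) ≫ r) ((yon S).map (pullback.snd h v)) (by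
      rw [Category.assoc, hrh]; exact sqU.w)
  have hm : IsPullback ((yon S).map (pullback.fst h v)) m r l := by
    refine IsPullback.of_bot ?_ (sqX.lift_fst _ _ _).symm sqX
    rw [hrh, sqX.lift_snd]
    exact sqU
  have ha' : RepWith @Etale (m ≫ pullback.fst snd b') :=
    repWith_comp (repWith_of_isPullback hm hr) (repWith_of_isPullback hsqF'.flip hb')
  have has' : RepWith @Surjective (m ≫ pullback.fst snd b') :=
    repWith_comp (repWith_of_isPullback hm hrs) (repWith_of_isPullback hsqF'.flip hbs')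
  obtain ⟨u', hu'⟩ := surjective_ofPt has' x'
  have hfst : (m ≫ pullback.fst snd b') ≫ fst = (yon S).map (pullback.fst h v) ≫ r ≫ pullback.fst f b := by
    have h1 : l ≫ pullback.fst f b = pullback.fst snd b' ≫ fst := pullback.lift_fst _ _ _
    rw [Category.assoc, ← h1, sqX.lift_fst_assoc, Category.assoc]
  refine ⟨U, V, U', V', r ≫ pullback.fst f b, b, h, m ≫ pullback.fst snd b', b', pullback.snd h v,
    pullback.fst h v, v, u',
    repWith_comp hr (repWith_of_isPullback (IsPullback.of_hasPullback f b).flip hb), hb, ha', hb',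
    by rw [Category.assoc, pullback.condition, reassoc_of% hrh],
    by rw [Category.assoc, hsqF'.w, sqX.lift_snd_assoc], isPullback_left sqU, hu', ?_, hfst⟩
  rw [← hu', Points.map_ofPt, hfst, ofPt_yon_comp]

end AlgSpLib
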