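import Groth.Agent.AlgSpLib.RelDim2
import Groth.Agent.AlgSpLib.Noeth
import Groth.Agent.DimIneqLib.Dim
import Groth.Agent.FibDimLib.Formula
import Groth.Agent.SpectralQuot.DecentDim
import Groth.Agent.AlgSpLib.Qc

/-!
# Isolated points of algebraic spaces over a field and further pointwise facts
-/

set_option autoImplicit false
universe u

open CategoryTheory CategoryTheory.Limits AlgebraicGeometry Topology
open AlgSp

namespace AlgSpLib

variable {S : Scheme.{u}}

theorem stalkDim_eq_zero_of_maximal {U : Scheme.{u}} (ξ : U) (h : ∀ z, z ⤳ ξ → z = ξ) :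
    ringKrullDim (U.presheaf.stalk ξ) = 0 := by
  haveI : Subsingleton (PrimeSpectrum (U.presheaf.stalk ξ)) := by
    refine ⟨fun p q => (U.fromSpecStalk ξ).isEmbedding.injective ?_⟩
    have h1 : ∀ p, (U.fromSpecStalk ξ).base p = ξ := fun p => h _ (by
      have : (U.fromSpecStalk ξ).base p ∈ Set.range (U.fromSpecStalk ξ).base := ⟨p, rfl⟩
      rwa [Scheme.range_fromSpecStalk] at this)
    exact (h1 p).trans (h1 q).symm
  exact Order.krullDim_eq_zero

theorem ringKrullDim_le_of_quasiFinite (A B : Type u) [CommRing A] [CommRing B] [Algebra A B]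
    [Algebra.QuasiFinite A B] : ringKrullDim B ≤ ringKrullDim A := by
  refine Order.krullDim_le_of_strictMono (PrimeSpectrum.comap (algebraMap A B)) ?_
  intro P Q hPQ
  refine lt_of_le_of_ne (Ideal.comap_mono (le_of_lt hPQ)) fun he => (ne_of_lt hPQ) ?_
  exact PrimeSpectrum.ext (Algebra.QuasiFinite.eq_of_le_of_under_eq P.asIdeal Q.asIdeal (le_of_lt hPQ)
    (congrArg PrimeSpectrum.asIdeal he :))

theorem stalkDim_le_of_lqf {U V : Scheme.{u}} (h : U ⟶ V) [LocallyQuasiFinite h] (u : U) :
    ringKrullDim (U.presheaf.stalk u) ≤ ringKrullDim (V.presheaf.stalk (h.base u)) := by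
  letI := (h.stalkMap u).hom.toAlgebra
  haveI : Algebra.QuasiFinite (V.presheaf.stalk (h.base u)) (U.presheaf.stalk u) :=
    RingHom.quasiFinite_algebraMap.mp (h.quasiFiniteAt u)
  exact ringKrullDim_le_of_quasiFinite _ _

theorem isOpen_singleton_iff_localDim {U : Scheme.{u}} [IsLocallyNoetherian U] (u : U) :
    FlatMor.localDim U u = 0 ↔ IsOpen ({u} : Set U) := by
  refine FibDimLib.localDim_eq_zero_iff u fun W hW => ?_
  obtain ⟨_, ⟨V, hV, rfl⟩, hxV, hVU⟩ := U.isBasis_affineOpens.exists_subset_of_mem_open hW W.isOpen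
  refine ⟨V, hxV, hVU, ?_⟩
  have hV : IsAffineOpen V := hV
  have : CompactSpace ↥(V : Scheme.{u}) := isCompact_iff_compactSpace.mp hV.isCompact
  have : IsNoetherian (V : Scheme.{u}) := {}
  exact (inferInstance : TopologicalSpace.NoetherianSpace ↥(V : Scheme.{u}))

/-- An open set of isolated points in a locally Noetherian Jacobson scheme is closed. -/
theorem isClosed_of_isolated {U : Scheme.{u}} [IsLocallyNoetherian U] [JacobsonSpace U] {O : Set U} (hO : IsOpen O)
    (h : ∀ u ∈ O, IsOpen ({u} : Set U)) : IsClosed O := by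
  have hc : ∀ u ∈ O, IsClosed ({u} : Set U) := fun u hu =>
    isClosed_singleton_of_isLocallyClosed_singleton (h u hu).isLocallyClosed
  refine isOpen_compl_iff.1 (isOpen_iff_forall_mem_open.2 fun z hz => ?_)
  obtain ⟨W, hW, hzW, -⟩ := exists_isAffineOpen_mem_and_subset (U := ⊤) (x := z) trivial
  have : CompactSpace ↥(W : Scheme.{u}) := isCompact_iff_compactSpace.mp hW.isCompact
  have : IsNoetherian (W : Scheme.{u}) := {}
  have hk : IsCompact (O ∩ (W : Set U)) := by
    have h1 := (TopologicalSpace.NoetherianSpace.isCompact (W.ι.base ⁻¹' O)).image W.ι.continuous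
    rwa [Set.image_preimage_eq_inter_range, Scheme.Opens.range_ι] at h1
  obtain ⟨t, ht⟩ := hk.elim_finite_subcover (fun u : ↥(O ∩ (W : Set U)) => ({u.1} : Set U))
    (fun u => h _ u.2.1) (fun u hu => Set.mem_iUnion.2 ⟨⟨u, hu⟩, rfl⟩)
  have hfin : (O ∩ (W : Set U)).Finite :=
    Set.Finite.subset (t.finite_toSet.biUnion fun u _ => Set.finite_singleton u.1) ht
  refine ⟨(W : Set U) \ (O ∩ W), fun w hw => fun hwO => hw.2 ⟨hwO, hw.1⟩, ?_, hzW, fun h' => hz h'.1⟩
  have hcl : IsClosed (O ∩ (W : Set U)) := by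
    rw [← Set.biUnion_of_singleton (O ∩ (W : Set U))]
    exact hfin.isClosed_biUnion fun u hu => hc u hu.1
  exact W.isOpen.sdiff hcl

theorem point_conditions_over {k : Type u} [Field k] {str : Spec (CommRingCat.of k) ⟶ S} {X : Space S}
    (p : X.obj ⟶ (yon S).obj (Over.mk str)) (hp : LocP @LocallyOfFiniteType p)
    (x : Points X.obj) :
    (IsOpen ({x} : Set (Points X.obj)) ↔
        (IsClosed ({x} : Set (Points X.obj)) ∧ ∀ x' : Points X.obj, x' ⤳ x → x' = x)) ∧
      (IsOpen ({x} : Set (Points X.obj)) ↔ HasAt (fun U u => FlatMor.localDim ↥U u = 0) X.obj x) ∧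
      (IsDecent X.obj →
        (FlatMor.localDim (Points X.obj) x = 0 ↔ IsOpen ({x} : Set (Points X.obj)))) := by
  obtain ⟨U, a, h, ha, has, e⟩ := exists_chart_over X.property (IsAlgSpace.yon_obj _) p (𝟙 _)
    (AlgSp.repWith_id _ _) (AlgSp.repWith_id _ _)
  haveI : LocallyOfFiniteType h.left := hp a (𝟙 _) h ha (AlgSp.repWith_id _ _) e
  haveI : IsLocallyNoetherian U.left := LocallyOfFiniteType.isLocallyNoetherian (Y := Spec (CommRingCat.of k)) h.left
  haveI : JacobsonSpace U.left := LocallyOfFiniteType.jacobsonSpace (Y := Spec (CommRingCat.of k)) h.left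
  have hcont := Points.continuous_ofPt a
  have hsur := surjective_ofPt has
  -- a closed point whose maximal generisations lie in the fibre
  have key : ∀ C : Set U.left, IsLocallyClosed C → C.Nonempty →
      (∀ v ∈ C, ∀ ξ, ξ ⤳ v → ξ ∈ C) → (∀ u ∈ C, Points.ofPt a u = x) →
      HasAt (fun U u => FlatMor.localDim ↥U u = 0) X.obj x := by
    intro C hC hne hgen hx
    obtain ⟨v, hvC, hv⟩ := nonempty_inter_closedPoints hne hC
    obtain ⟨ξ, hmax, hξv, -⟩ := DimIneqLib.stalk_le (S := Spec (CommRingCat.of k)) h.left v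
    have h0 : HasAt (fun U u => ringKrullDim ↥(U.presheaf.stalk u) = 0) X.obj x :=
      ⟨U, a, ξ, ha, hx ξ (hgen v hvC ξ hξv), stalkDim_eq_zero_of_maximal ξ hmax⟩
    rw [← hx v hvC, hasAt_iff (etInv_stalkDim fun t => t = 0) ha] at h0
    refine ⟨U, a, v, ha, hx v hvC, ?_⟩
    show FlatMor.localDim U.left v = 0
    exact (FibDimLib.localDim_eq_stalk_of_isClosed (k := k) h.left hv).trans h0
  have hiso : IsOpen ({x} : Set (Points X.obj)) → HasAt (fun U u => FlatMor.localDim ↥U u = 0) X.obj x := by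
    intro hx
    obtain ⟨u, rfl⟩ := hsur x
    exact key _ (hx.preimage hcont).isLocallyClosed ⟨u, rfl⟩
      (fun v hv ξ hξ => hξ.mem_open (hx.preimage hcont) hv) (fun w hw => hw)
  have hloc : HasAt (fun U u => FlatMor.localDim ↥U u = 0) X.obj x → IsOpen ({x} : Set (Points X.obj)) := by
    intro h0
    obtain ⟨u, rfl⟩ := hsur x
    rw [hasAt_iff (etInv_localDim fun t => t = 0) ha, isOpen_singleton_iff_localDim] at h0
    simpa [Set.image_singleton] using isOpenMap_ofPt ha _ h0
  refine ⟨⟨fun hx => ⟨?_, fun x' hx' => hx'.mem_open hx rfl⟩, fun ⟨hxc, hgen⟩ => ?_⟩, ⟨hiso, hloc⟩, fun hd => ?_⟩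
  · rw [← (isQuotientMap_ofPt ha has).isClosed_preimage]
    refine isClosed_of_isolated (hx.preimage hcont) fun u hu => ?_
    have h0 := hiso hx
    rw [← show Points.ofPt a u = x from hu, hasAt_iff (etInv_localDim fun t => t = 0) ha,
      isOpen_singleton_iff_localDim] at h0
    exact h0
  · obtain ⟨u, rfl⟩ := hsur x
    exact hloc (key _ (hxc.preimage hcont).isLocallyClosed ⟨u, rfl⟩
      (fun v hv ξ hξ => hgen _ ((hξ.map hcont).trans (specializes_of_eq hv))) (fun w hw => hw))
  · obtain ⟨u, rfl⟩ := hsur x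
    rw [← SpectralQuot.localDim_eq X hd a ha u]
    refine ⟨fun h0 => hloc ⟨U, a, u, ha, rfl, h0⟩, fun hx => ?_⟩
    exact (hasAt_iff (etInv_localDim fun t => t = 0) ha u).1 (hiso hx)

theorem point_conditions_field (k : Type u) [Field k] (X : Space (Spec (CommRingCat.of k)))
    (p : X.obj ⟶ (yon (Spec (CommRingCat.of k))).obj (Over.mk (𝟙 _))) (hp : LocP @LocallyOfFiniteType p)
    (x : Points X.obj) :
    (IsOpen ({x} : Set (Points X.obj)) ↔
        (IsClosed ({x} : Set (Points X.obj)) ∧ ∀ x' : Points X.obj, x' ⤳ x → x' = x)) ∧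
      (IsOpen ({x} : Set (Points X.obj)) ↔ HasAt (fun U u => FlatMor.localDim ↥U u = 0) X.obj x) ∧
      (IsDecent X.obj →
        (FlatMor.localDim (Points X.obj) x = 0 ↔ IsOpen ({x} : Set (Points X.obj)))) :=
  point_conditions_over p hp x

/-- A dense open bound on relative dimension propagates. -/
theorem relDim_le_of_dense {F G V : Sp S} (hF : IsAlgSpace F) (hG : IsAlgSpace G) (hV : IsAlgSpace V)
    {f : F ⟶ G} {j : V ⟶ G} (c : WithBot ℕ∞)
    (hf1 : LocP @Flat f) (hf2 : LocP @LocallyOfFiniteType f) (hj : RepWith @IsOpenImmersion j)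
    (hd : Dense (Set.range (Points.map j))) {P : Sp S} {fst : P ⟶ F} {snd : P ⟶ V}
    (hP : IsPullback fst snd f j)
    (hle : ∀ z, HasAtMor (fun _ _ h u => FlatMor.fibreDimAt h u ≤ c) snd z)
    (h : LocP @LocallyOfFinitePresentation f ∨ IsQuasiCompactMor j) (x : Points F) :
    HasAtMor (fun _ _ h u => FlatMor.fibreDimAt h u ≤ c) f x := by
  obtain ⟨U, W, a, b, k, ha, has, hb, -, e⟩ := exists_chart hF hG f
  obtain ⟨u, rfl⟩ := surjective_ofPt has x
  refine (hasAtMor_iff (Q := fun _ _ h u => FlatMor.fibreDimAt h u ≤ c)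
    (etInv_fibreDim fun t => t ≤ c) ha hb e u).2 ?_
  haveI : Flat k.left := hf1 a b k ha hb e
  haveI : LocallyOfFiniteType k.left := hf2 a b k ha hb e
  let O : W.left.Opens := ⟨Points.ofPt b ⁻¹' Set.range (Points.map j),
    (isOpenMap_map_of_isEtaleMor hV (isEtaleMor_of_openImmersion hj)).isOpen_range.preimage
      (Points.continuous_ofPt b)⟩
  refine FibDimLib.fibreDimAt_le_of_dense k.left O (hd.preimage (isOpenMap_ofPt hb)) c (fun z hz => ?_) ?_ u
  · obtain ⟨v, hv⟩ := hz
    obtain ⟨w, hw, -⟩ := exists_point_isPullback hP (Points.ofPt a z) v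
      (by rw [map_ofPt_chart e, hv])
    refine (hasAtMor_iff (Q := fun _ _ h u => FlatMor.fibreDimAt h u ≤ c)
      (etInv_fibreDim fun t => t ≤ c) ha hb e z).1 ?_
    rw [← hw]
    exact (hasAtMor_fibreDim_baseChange hF hG hV hP hf2 (fun t => t ≤ c) w).1 (hle w)
  · rcases h with h | h
    · exact Or.inl (h a b k ha hb e)
    · refine Or.inr ?_
      let sqW := hj.rep.isPullback b
      let W' := hj.rep.pullback b
      let r : W' ⟶ W := hj.rep.snd b
      have hq : QuasiCompact r.left :=
        (repWith_yon_map_iff (P := (@QuasiCompact : MorphismProperty Scheme.{u})) r).1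
          (repWith_of_isPullback sqW ((repWith_quasiCompact_iff hV hG hj.rep).2 h))
      have hr : (O : Set W.left) = Set.range r.left.base := by
        ext w
        constructor
        · rintro ⟨v, hv⟩
          obtain ⟨w', -, hw'⟩ := exists_point_isPullback sqW v (Points.schemeHomeo W w)
            (by rw [hv, Points.ofPt_eq_map_ofScheme]; rfl)
          obtain ⟨w₀, rfl⟩ := (Points.schemeHomeo W').surjective w'
          rw [Points.map_yon_map_apply] at hw'
          exact ⟨w₀, (Points.schemeHomeo W).injective hw'⟩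
        · rintro ⟨w', rfl⟩
          show Points.ofPt b (r.left w') ∈ Set.range (Points.map j)
          rw [← ofPt_yon_comp, ← sqW.w, ← Points.map_ofPt]
          exact ⟨_, rfl⟩
      intro K hK hKo
      rw [hr, Set.inter_comm, ← Set.image_preimage_eq_inter_range]
      exact (r.left.isCompact_preimage (U := ⟨K, hKo⟩) hK).image r.left.continuous

end AlgSpLib
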