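import Groth.Agent.AlgSpLib.UnivThickBC
/-!
# The first order infinitesimal neighbourhood is the universal first order thickening
-/

set_option autoImplicit false
universe u
open CategoryTheory CategoryTheory.Limits AlgebraicGeometry Opposite AlgSp Topology

namespace AlgSpLib

variable {S : Scheme.{u}}

/-- A represented pullback of a closed immersion to an affine scheme is a quotient. -/
theorem exists_quotient_pullback {F G : Sp S} {j : F ⟶ G} (hj : RepWith @IsClosedImmersion j) {A : Type u}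
    [CommRing A] {str : Spec (CommRingCat.of A) ⟶ S} (m : (yon S).obj (Over.mk str) ⟶ G) :
    ∃ (I : Ideal A) (r : (yon S).obj (ptA str (A ⧸ I)) ⟶ F),
      IsPullback r ((yon S).map (stA str (A ⧸ I))) j m := by
  obtain ⟨W, tW, jW, sqT⟩ : ∃ (W : Over S) (tW : (yon S).obj W ⟶ F) (jW : W ⟶ Over.mk str),
      IsPullback tW ((yon S).map jW) j m := ⟨_, _, _, hj.rep.isPullback m⟩
  have hjc : IsClosedImmersion jW.left :=
    (repWith_yon_map_iff (P := (@IsClosedImmersion : MorphismProperty Scheme.{u})) jW).1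
      (repWith_of_isPullback sqT hj)
  have : IsAffine (Over.mk str).left := inferInstanceAs (IsAffine (Spec (CommRingCat.of A)))
  obtain ⟨_, hsurj⟩ := IsClosedImmersion.isAffine_surjective_of_isAffine jW.left
  let ρ : CommRingCat.of A ⟶ Γ(W.left, ⊤) := (Scheme.ΓSpecIso (CommRingCat.of A)).inv ≫ jW.left.appTop
  have hρ : Function.Surjective ρ.hom := fun y => by
    obtain ⟨x, rfl⟩ := hsurj y
    exact ⟨(Scheme.ΓSpecIso (CommRingCat.of A)).hom.hom x, by
      simp only [ρ, CommRingCat.hom_comp, RingHom.comp_apply]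
      rw [← RingHom.comp_apply (Scheme.ΓSpecIso (CommRingCat.of A)).inv.hom, ← CommRingCat.hom_comp,
        Iso.hom_inv_id]
      rfl⟩
  have hW : W.left.isoSpec.inv ≫ jW.left = Spec.map ρ := by
    rw [Iso.inv_comp_eq, Spec.map_comp]
    exact (Scheme.toSpecΓ_naturality_assoc jW.left _).symm.trans (by simp [Scheme.isoSpec]) |>.symm
  let e := RingHom.quotientKerEquivOfSurjective hρ
  let ι : Spec (CommRingCat.of (A ⧸ RingHom.ker ρ.hom)) ≅ W.left :=
    (asIso (Spec.map e.symm.toCommRingCatIso.hom)) ≪≫ W.left.isoSpec.symm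
  have hι : ι.hom ≫ jW.left = Spec.map (CommRingCat.ofHom (Ideal.Quotient.mk (RingHom.ker ρ.hom))) := by
    simp only [ι, Iso.trans_hom, asIso_hom, Iso.symm_hom, Category.assoc, hW, ← Spec.map_comp]
    congr 1
    refine CommRingCat.hom_ext (RingHom.ext fun x => ?_)
    change e.symm (ρ.hom x) = _
    rw [RingEquiv.symm_apply_eq]
    exact (RingHom.quotientKerEquivOfSurjective_apply_mk hρ x).symm
  let ι' : ptA str (A ⧸ RingHom.ker ρ.hom) ⟶ W := Over.homMk ι.hom (by
    change ι.hom ≫ W.hom = Spec.map _ ≫ str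
    rw [← Over.w jW, ← Category.assoc, hι]
    rfl)
  have : IsIso ((Over.forget S).map ι') := inferInstanceAs (IsIso ι.hom)
  have : IsIso ι' := isIso_of_reflects_iso ι' (Over.forget S)
  exact ⟨_, (yon S).map ι' ≫ tW, sqT.of_iso (asIso ((yon S).map ι')).symm (Iso.refl _) (Iso.refl _) (Iso.refl _)
    (by simp) (by
      rw [Iso.refl_hom, Category.comp_id, Iso.symm_hom, asIso_inv, IsIso.eq_inv_comp, ← Functor.map_comp]
      exact congrArg (yon S).map (Over.OverMorphism.ext hι)) (by simp) (by simp)⟩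

/-- Quotient maps factor when the squares commute. -/
theorem le_comap_of_hom {A D : Type u} [CommRing A] [CommRing D] (ψ : A →+* D) (I : Ideal A) (J : Ideal D)
    (k : Spec (CommRingCat.of (D ⧸ J)) ⟶ Spec (CommRingCat.of (A ⧸ I)))
    (h : k ≫ Spec.map (CommRingCat.ofHom (Ideal.Quotient.mk I)) =
      Spec.map (CommRingCat.ofHom (Ideal.Quotient.mk J)) ≫ Spec.map (CommRingCat.ofHom ψ)) :
    I ≤ J.comap ψ := by
  intro a ha
  rw [← Spec.map_preimage k, ← Spec.map_comp, ← Spec.map_comp] at h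
  have := congrArg (fun f => f.hom a) (Spec.map_injective h)
  simp only [CommRingCat.hom_comp, CommRingCat.hom_ofHom, RingHom.comp_apply] at this
  rw [Ideal.mem_comap, ← Ideal.Quotient.eq_zero_iff_mem, ← this, Ideal.Quotient.eq_zero_iff_mem.2 ha]
  exact map_zero _

theorem appTop_ker_specMap_mk {A : Type u} [CommRing A] (I : Ideal A) :
    RingHom.ker (Spec.map (CommRingCat.ofHom (Ideal.Quotient.mk I))).appTop.hom =
      I.map (Scheme.ΓSpecIso (CommRingCat.of A)).inv.hom := by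
  let σ := Scheme.ΓSpecIso (CommRingCat.of A)
  apply le_antisymm
  · intro z hz
    have h0 := congrArg (fun k => k.hom z) (Scheme.ΓSpecIso_naturality (CommRingCat.ofHom (Ideal.Quotient.mk I)))
    simp only [CommRingCat.hom_comp, RingHom.comp_apply, CommRingCat.hom_ofHom] at h0
    have hm : σ.hom z ∈ I := by
      rw [← Ideal.Quotient.eq_zero_iff_mem, ← h0, RingHom.mem_ker.1 hz, map_zero]
    have hz' : σ.inv.hom (σ.hom.hom z) = z := by
      rw [← RingHom.comp_apply, ← CommRingCat.hom_comp, Iso.hom_inv_id]; rfl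
    rw [← hz']
    exact Ideal.mem_map_of_mem _ hm
  · refine Ideal.map_le_iff_le_comap.2 fun x hx => ?_
    rw [Ideal.mem_comap, RingHom.mem_ker, ← RingHom.comp_apply, ← CommRingCat.hom_comp,
      ← Scheme.ΓSpecIso_inv_naturality, CommRingCat.hom_comp, RingHom.comp_apply, CommRingCat.hom_ofHom,
      Ideal.Quotient.eq_zero_iff_mem.2 hx, map_zero]

variable {Z Z₁ U : Sp S} {c : Z ⟶ U} {j : Z ⟶ Z₁} {k : Z₁ ⟶ U}

theorem infNbhd_isPullback (hN : IsInfNbhd 1 c j k) : IsPullback (𝟙 Z) j c k := by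
  have : Mono k := mono_of_repWith (fun g (_ : IsClosedImmersion g) => inferInstance) hN.2.2.1
  refine ⟨⟨by rw [Category.id_comp, hN.1]⟩, ⟨PullbackCone.IsLimit.mk _ (fun s => s.fst)
    (fun s => Category.comp_id _) (fun s => ?_) (fun s m h1 _ => by rw [← h1, Category.comp_id])⟩⟩
  rw [← cancel_mono k, Category.assoc, hN.1, s.condition]

theorem infNbhd_chart (hN : IsInfNbhd 1 c j k) {A : Type u} [CommRing A] {str : Spec (CommRingCat.of A) ⟶ S}
    (b : (yon S).obj (Over.mk str) ⟶ U) (hb : RepWith @Etale b) :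
    ∃ (I : Ideal A) (r : (yon S).obj (ptA str (A ⧸ I)) ⟶ Z) (r₁ : (yon S).obj (ptA str (A ⧸ I ^ 2)) ⟶ Z₁),
      IsPullback r ((yon S).map (stA str (A ⧸ I))) c b ∧
      IsPullback r₁ ((yon S).map (stA str (A ⧸ I ^ 2))) k b := by
  obtain ⟨I, r, sqI⟩ := exists_quotient_pullback hN.2.1 b
  obtain ⟨K, r₁, sqK⟩ := exists_quotient_pullback hN.2.2.1 b
  have hker := hN.2.2.2 b r (stA str (A ⧸ I)) r₁ (stA str (A ⧸ K))
    (inferInstanceAs (IsAffine (Spec (CommRingCat.of A)))) hb sqI sqK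
  have hc1 : IsClosedImmersion (Spec.map (CommRingCat.ofHom (Ideal.Quotient.mk I))) :=
    IsClosedImmersion.spec_of_surjective _ Ideal.Quotient.mk_surjective
  have hc2 : IsClosedImmersion (Spec.map (CommRingCat.ofHom (Ideal.Quotient.mk K))) :=
    IsClosedImmersion.spec_of_surjective _ Ideal.Quotient.mk_surjective
  have : IsAffine (Over.mk str).left := inferInstanceAs (IsAffine (Spec (CommRingCat.of A)))
  have hK : K = I ^ 2 := by
    have h := congrArg (fun M => Scheme.IdealSheafData.ideal M ⟨⊤, isAffineOpen_top _⟩) hker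
    change (Spec.map (CommRingCat.ofHom (Ideal.Quotient.mk K))).ker.ideal ⟨⊤, _⟩ =
      ((Spec.map (CommRingCat.ofHom (Ideal.Quotient.mk I))).ker ^ (1 + 1)).ideal ⟨⊤, _⟩ at h
    rw [Scheme.IdealSheafData.ideal_pow, Pi.pow_apply, Scheme.Hom.ker_apply, Scheme.Hom.ker_apply] at h
    have hh : K.map (Scheme.ΓSpecIso (CommRingCat.of A)).inv.hom =
        (I.map (Scheme.ΓSpecIso (CommRingCat.of A)).inv.hom) ^ 2 := by
      rw [← appTop_ker_specMap_mk, ← appTop_ker_specMap_mk]
      exact h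
    rw [← Ideal.map_pow] at hh
    have hb : Function.Bijective (Scheme.ΓSpecIso (CommRingCat.of A)).inv.hom :=
      ConcreteCategory.bijective_of_isIso (Scheme.ΓSpecIso (CommRingCat.of A)).inv
    have h3 := congrArg (Ideal.comap (Scheme.ΓSpecIso (CommRingCat.of A)).inv.hom) hh
    rwa [Ideal.comap_map_of_bijective _ hb, Ideal.comap_map_of_bijective _ hb] at h3
  subst hK
  exact ⟨I, r, r₁, sqI, sqK⟩

theorem infNbhd_isFOThickMor (hN : IsInfNbhd 1 c j k) (hU : IsAlgSpace U) : IsFOThickMor j := by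
  have sq := infNbhd_isPullback hN
  have hjc : RepWith @IsClosedImmersion j := repWith_of_isPullback sq hN.2.1
  have hchart : ∀ x : Points Z₁, ∃ (C : CommRingCat.{u}) (strC : Spec C ⟶ S)
      (e : (yon S).obj (Over.mk strC) ⟶ Z₁) (zc : ↥(Spec C)), RepWith @Etale e ∧ Points.ofPt e zc = x ∧
        ∃ I : Ideal C, I ^ 2 = ⊥ ∧ ∃ r : (yon S).obj (ptA strC (C ⧸ I)) ⟶ Z,
          IsPullback r ((yon S).map (stA strC (C ⧸ I))) j e := by
    intro x
    obtain ⟨A, str, b, zb, hb, hzb⟩ := exists_affine_etale_nhd hU (Points.map k x)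
    obtain ⟨I, r, r₁, sqI, sqK⟩ := infNbhd_chart hN b hb
    obtain ⟨w, hw1, -⟩ := exists_point_isPullback sqK x (Points.ofScheme (Over.mk str) zb)
      (by rw [← Points.ofPt_eq_map_ofScheme, hzb])
    obtain ⟨zc, rfl⟩ := (Points.schemeEquiv (ptA str (A ⧸ I ^ 2))).surjective w
    let strC : Spec (CommRingCat.of (A ⧸ I ^ 2)) ⟶ S :=
      Spec.map (CommRingCat.ofHom (Ideal.Quotient.mk (I ^ 2))) ≫ str
    let J := I.map (Ideal.Quotient.mk (I ^ 2))
    let κ : ptA strC ((A ⧸ I ^ 2) ⧸ J) ⟶ ptA str (A ⧸ I) :=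
      Over.homMk (Spec.map (CommRingCat.ofHom
        (Ideal.quotientMap J (Ideal.Quotient.mk (I ^ 2)) Ideal.le_comap_map))) (by
        change _ ≫ Spec.map _ ≫ _ = Spec.map _ ≫ Spec.map _ ≫ _
        rw [← Spec.map_comp_assoc, ← Spec.map_comp_assoc]
        exact congrArg (fun k => Spec.map k ≫ _) (CommRingCat.hom_ext
          (Ideal.quotientMap_comp_mk (J := I) (f := Ideal.Quotient.mk (I ^ 2)) Ideal.le_comap_map)))
    let e' := DoubleQuot.quotQuotEquivQuotOfLE (Ideal.pow_le_self (I := I) two_ne_zero)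
    have hκl : κ.left = Spec.map (CommRingCat.ofHom e'.symm.toRingHom) := by
      refine congrArg Spec.map (CommRingCat.hom_ext (Ideal.Quotient.ringHom_ext (RingHom.ext fun x => ?_)))
      exact (RingEquiv.symm_apply_eq e').2 rfl |>.symm
    have : IsIso ((Over.forget S).map κ) := by
      change IsIso κ.left
      rw [hκl]
      exact inferInstanceAs (IsIso (Spec.map e'.symm.toCommRingCatIso.hom))
    have : IsIso κ := isIso_of_reflects_iso κ (Over.forget S)
    have hκ : κ ≫ stA str (A ⧸ I) = stA strC ((A ⧸ I ^ 2) ⧸ J) ≫ stA str (A ⧸ I ^ 2) :=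
      Over.OverMorphism.ext (by
        change Spec.map _ ≫ Spec.map _ = Spec.map _ ≫ Spec.map _
        rw [← Spec.map_comp, ← Spec.map_comp]
        exact congrArg Spec.map (CommRingCat.hom_ext
          (Ideal.quotientMap_comp_mk (J := I) (f := Ideal.Quotient.mk (I ^ 2)) Ideal.le_comap_map)))
    refine ⟨CommRingCat.of (A ⧸ I ^ 2), strC, r₁, zc, repWith_of_isPullback sqK.flip hb, ?_, J,
      by rw [← Ideal.map_pow, Ideal.map_quotient_self], (yon S).map κ ≫ r, ?_⟩
    · rw [Points.ofPt_eq_map_ofScheme]; exact hw1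
    have hbig : IsPullback ((yon S).map κ ≫ r)
        ((yon S).map (stA strC ((A ⧸ I ^ 2) ⧸ J) ≫ stA str (A ⧸ I ^ 2))) c b :=
      sqI.of_iso (asIso ((yon S).map κ)).symm (Iso.refl _) (Iso.refl _) (Iso.refl _) (by simp) (by
        rw [Iso.refl_hom, Category.comp_id, Iso.symm_hom, asIso_inv, IsIso.eq_inv_comp, ← Functor.map_comp, hκ])
        (by simp) (by simp)
    have hw : ((yon S).map κ ≫ r) ≫ j = (yon S).map (stA strC ((A ⧸ I ^ 2) ⧸ J)) ≫ r₁ := by
      have : Mono k := mono_of_repWith (fun g (_ : IsClosedImmersion g) => inferInstance) hN.2.2.1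
      rw [← cancel_mono k, Category.assoc, Category.assoc, hN.1, sqI.w, Category.assoc, sqK.w,
        ← Functor.map_comp_assoc, ← Functor.map_comp_assoc, hκ]
    refine IsPullback.of_bot ?_ hw sqK
    rw [hN.1, ← Functor.map_comp]
    exact hbig
  have ht : IsThickMor j := by
    have hs : Function.Surjective (Points.map j) := fun x => by
      obtain ⟨C, strC, e, zc, he, hzc, I, hI, r, sqI⟩ := hchart x
      obtain ⟨t, ht⟩ := (thick_quotient C I hI).2.surj zc
      refine ⟨Points.map r (Points.ofScheme _ t), ?_⟩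
      rw [← Points.map_comp, sqI.w, Points.map_comp, ← hzc, Points.ofPt_eq_map_ofScheme]
      refine congrArg (Points.map e) ?_
      let f : ptA strC (C ⧸ I) ⟶ Over.mk strC := stA strC (C ⧸ I)
      have h1 : Points.map ((yon S).map f) (Points.ofScheme _ t) = Points.ofScheme _ (f.left t) :=
        Points.map_yon_map_apply f t
      have h2 : f.left t = zc := ht
      rw [h2] at h1
      exact h1
    have hs' := (repWith_surjective_iff hjc.rep).2 hs
    exact ⟨hjc.rep, fun _ _ g fst snd h => ⟨hjc.property g fst snd h, hs'.property g fst snd h⟩⟩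
  refine isFOThickMor_of_data ht fun {A} _ {str} m => ?_
  exact exists_data_of_charts ht hchart m

theorem isUnivFOThick_infNbhd {X : Sp S} (hU : IsAlgSpace U) {u : U ⟶ X}
    (hu : RepWith @IsOpenImmersion u) (hN : IsInfNbhd 1 c j k) : IsUnivFOThick (c ≫ u) j (k ≫ u) := by
  have : Mono k := mono_of_repWith (fun g (_ : IsClosedImmersion g) => inferInstance) hN.2.2.1
  have : Mono u := mono_of_openImmersion hu
  refine (isUnivFOThick_iff_affine_test (infNbhd_isFOThickMor hN hU) (by rw [← Category.assoc, hN.1])).2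
    fun T T' jT hT' hjT a b e => ?_
  suffices ∃ b₁ : (yon S).obj T' ⟶ Z₁, b₁ ≫ k ≫ u = b by
    obtain ⟨b₁, hb₁⟩ := this
    refine ⟨b₁, ⟨?_, hb₁⟩, fun b₂ hb₂ => (cancel_mono (k ≫ u)).1 (hb₂.2.trans hb₁.symm)⟩
    rw [← cancel_mono (k ≫ u), Category.assoc, Category.assoc, hb₁, e, ← Category.assoc j, hN.1]
  obtain ⟨bU, rfl⟩ := (exists_factor_iff hu b).2 (by
    rintro _ ⟨y, rfl⟩
    obtain ⟨x, rfl⟩ := map_surjective_of_repWith (repWith_mono inf_le_right hjT.1) y
    rw [← Points.map_comp, e, ← Category.assoc, Points.map_comp]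
    exact ⟨_, rfl⟩)
  have e' : (yon S).map jT ≫ bU = a ≫ c := by
    rw [← cancel_mono u, Category.assoc, Category.assoc, e]
  -- replace `T'` by a spectrum
  have : IsAffine T'.left := hT'
  let str : Spec Γ(T'.left, ⊤) ⟶ S := T'.left.isoSpec.inv ≫ T'.hom
  let ε : Over.mk str ⟶ T' := Over.homMk T'.left.isoSpec.inv rfl
  have : IsIso ((Over.forget S).map ε) := inferInstanceAs (IsIso T'.left.isoSpec.inv)
  have : IsIso ε := isIso_of_reflects_iso ε (Over.forget S)
  obtain ⟨J, hJ, rT, sqT⟩ := exists_data_any hjT (IsAlgSpace.yon_obj T') ((yon S).map ε)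
  obtain ⟨K, rK, sqK⟩ := exists_quotient_pullback hN.2.2.1 ((yon S).map ε ≫ bU)
  suffices hK : K = ⊥ by
    subst hK
    have : IsIso (stA str (Γ(T'.left, ⊤) ⧸ (⊥ : Ideal Γ(T'.left, ⊤)))).left :=
      inferInstanceAs (IsIso (Spec.map (RingEquiv.quotientBot Γ(T'.left, ⊤)).symm.toCommRingCatIso.hom))
    have : IsIso ((Over.forget S).map (stA str (Γ(T'.left, ⊤) ⧸ (⊥ : Ideal Γ(T'.left, ⊤))))) := this
    have : IsIso (stA str (Γ(T'.left, ⊤) ⧸ (⊥ : Ideal Γ(T'.left, ⊤)))) :=
      isIso_of_reflects_iso _ (Over.forget S)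
    refine ⟨inv ((yon S).map ε) ≫ inv ((yon S).map (stA str (Γ(T'.left, ⊤) ⧸ (⊥ : Ideal _)))) ≫ rK, ?_⟩
    rw [Category.assoc, Category.assoc, reassoc_of% sqK.w]
    simp
  rw [← le_bot_iff]
  intro z hz
  rw [Ideal.mem_bot]
  let an : Ideal Γ(T'.left, ⊤) := LinearMap.ker (LinearMap.toSpanSingleton _ Γ(T'.left, ⊤) z)
  suffices an = ⊤ by
    have h1 : (1 : Γ(T'.left, ⊤)) ∈ an := by rw [this]; trivial
    simpa [an] using h1
  by_contra hne
  obtain ⟨p, hp, hanp⟩ := Ideal.exists_le_maximal an hne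
  let P : PrimeSpectrum Γ(T'.left, ⊤) := ⟨p, hp.isPrime⟩
  obtain ⟨C, strC, eC, zc, heC, hzc⟩ := exists_affine_etale_nhd hU (Points.ofPt ((yon S).map ε ≫ bU) P)
  obtain ⟨I, rI, r₁, sqI, sq₁⟩ := infNbhd_chart hN eC heC
  obtain ⟨V, pC, pA, sqV⟩ : ∃ (V : Over S) (pC : V ⟶ Over.mk strC) (pA : V ⟶ Over.mk str),
      IsPullback ((yon S).map pC) ((yon S).map pA) eC ((yon S).map ε ≫ bU) :=
    exists_isPullback_yon eC _ heC.rep
  have : Etale pA.left := etale_left (repWith_of_isPullback sqV heC)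
  obtain ⟨w, -, hw⟩ := exists_point_isPullback sqV (Points.ofScheme (Over.mk strC) zc)
    (Points.ofScheme (Over.mk str) P)
    (by rw [← Points.ofPt_eq_map_ofScheme, ← Points.ofPt_eq_map_ofScheme, hzc])
  obtain ⟨v, rfl⟩ := (Points.schemeEquiv V).surjective w
  have hv : pA.left v = P := by
    apply (Points.schemeEquiv (Over.mk str)).injective
    exact (Points.map_yon_map_apply pA v).symm.trans hw
  obtain ⟨O, hO, hvO, -⟩ := exists_isAffineOpen_mem_and_subset (X := V.left) (x := v) (U := ⊤) trivial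
  let φ : Γ(T'.left, ⊤) →+* Γ(V.left, O) := (Spec.preimage (hO.fromSpec ≫ pA.left)).hom
  let ψ : C →+* Γ(V.left, O) := (Spec.preimage (hO.fromSpec ≫ pC.left)).hom
  have hφ : Spec.map (CommRingCat.ofHom φ) = hO.fromSpec ≫ pA.left := Spec.map_preimage _
  have hψ : Spec.map (CommRingCat.ofHom ψ) = hO.fromSpec ≫ pC.left := Spec.map_preimage _
  let strD : Spec Γ(V.left, O) ⟶ S := hO.fromSpec ≫ V.hom
  let o : Over.mk strD ⟶ V := Over.homMk hO.fromSpec rfl
  -- the ideal of `Z` becomes part of `J`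
  let JD := J.map φ
  let DJ : Over S := Over.mk (Spec.map (CommRingCat.ofHom (Ideal.Quotient.mk JD)) ≫ strD)
  let jD : DJ ⟶ Over.mk strD := Over.homMk (Spec.map (CommRingCat.ofHom (Ideal.Quotient.mk JD))) rfl
  let kJ : DJ ⟶ ptA str (Γ(T'.left, ⊤) ⧸ J) :=
    Over.homMk (Spec.map (CommRingCat.ofHom (Ideal.quotientMap JD φ Ideal.le_comap_map))) (by
      change _ ≫ Spec.map _ ≫ _ = Spec.map _ ≫ strD
      rw [show strD = (o ≫ pA).left ≫ str from (Over.w (o ≫ pA)).symm,
        show (o ≫ pA).left = Spec.map (CommRingCat.ofHom φ) from hφ.symm,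
        ← Spec.map_comp_assoc, ← Spec.map_comp_assoc]
      exact congrArg (fun k => Spec.map k ≫ _) (CommRingCat.hom_ext
        (Ideal.quotientMap_comp_mk (J := J) (f := φ) Ideal.le_comap_map)))
  have hkJ : kJ ≫ stA str (Γ(T'.left, ⊤) ⧸ J) = jD ≫ o ≫ pA := Over.OverMorphism.ext (by
    change Spec.map _ ≫ Spec.map _ = Spec.map _ ≫ hO.fromSpec ≫ pA.left
    rw [← hφ, ← Spec.map_comp, ← Spec.map_comp]
    exact congrArg Spec.map (CommRingCat.hom_ext
      (Ideal.quotientMap_comp_mk (J := J) (f := φ) Ideal.le_comap_map)))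
  obtain ⟨k', hk'⟩ := (yon S).map_surjective (sqI.lift ((yon S).map kJ ≫ rT ≫ a) ((yon S).map (jD ≫ o ≫ pC)) (by
    rw [Category.assoc, Category.assoc, ← e', ← Category.assoc rT, sqT.w, Category.assoc,
      ← Functor.map_comp_assoc, hkJ]
    simp only [Functor.map_comp, Category.assoc]
    rw [sqV.w]))
  have hIJ : I ≤ JD.comap ψ := by
    have h := congrArg CommaMorphism.left ((yon S).map_injective
      (show (yon S).map (k' ≫ stA strC (C ⧸ I)) = (yon S).map (jD ≫ o ≫ pC) by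
        rw [Functor.map_comp, hk', sqI.lift_snd]))
    change k'.left ≫ Spec.map _ = Spec.map _ ≫ hO.fromSpec ≫ pC.left at h
    rw [← hψ] at h
    exact le_comap_of_hom ψ I JD k'.left h
  have hI2 : I ^ 2 ≤ RingHom.ker ψ := by
    refine (Ideal.pow_right_mono hIJ 2).trans fun x hx => ?_
    have := Ideal.le_comap_pow ψ 2 hx
    rw [Ideal.mem_comap, ← Ideal.map_pow, hJ, Ideal.map_bot, Ideal.mem_bot] at this
    exact this
  let ψ₁ : C ⧸ I ^ 2 →+* Γ(V.left, O) := Ideal.Quotient.lift _ ψ fun x hx => hI2 hx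
  let k₁ : Over.mk strD ⟶ ptA strC (C ⧸ I ^ 2) := Over.homMk (Spec.map (CommRingCat.ofHom ψ₁)) (by
    change _ ≫ Spec.map _ ≫ _ = strD
    rw [show strD = (o ≫ pC).left ≫ strC from (Over.w (o ≫ pC)).symm,
      show (o ≫ pC).left = Spec.map (CommRingCat.ofHom ψ) from hψ.symm, ← Spec.map_comp_assoc]
    exact congrArg (fun k => Spec.map k ≫ _) (CommRingCat.hom_ext (Ideal.Quotient.lift_comp_mk _ _ _)))
  have hk₁ : k₁ ≫ stA strC (C ⧸ I ^ 2) = o ≫ pC := Over.OverMorphism.ext (by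
    change Spec.map _ ≫ Spec.map _ = hO.fromSpec ≫ pC.left
    rw [← hψ, ← Spec.map_comp]
    exact congrArg Spec.map (CommRingCat.hom_ext (Ideal.Quotient.lift_comp_mk _ _ _)))
  obtain ⟨k₂, hk₂⟩ := (yon S).map_surjective (sqK.lift ((yon S).map k₁ ≫ r₁) ((yon S).map (o ≫ pA)) (by
    rw [Category.assoc, sq₁.w, ← Functor.map_comp_assoc, hk₁]
    simp only [Functor.map_comp, Category.assoc]
    rw [sqV.w]))
  have hzφ : φ z = 0 := by
    have h := congrArg CommaMorphism.left ((yon S).map_injective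
      (show (yon S).map (k₂ ≫ stA str (Γ(T'.left, ⊤) ⧸ K)) = (yon S).map (o ≫ pA) by
        rw [Functor.map_comp, hk₂, sqK.lift_snd]))
    change k₂.left ≫ Spec.map _ = hO.fromSpec ≫ pA.left at h
    rw [← hφ, ← Spec.map_preimage k₂.left, ← Spec.map_comp] at h
    have := congrArg (fun f => f.hom z) (Spec.map_injective h)
    simp only [CommRingCat.hom_comp, CommRingCat.hom_ofHom, RingHom.comp_apply] at this
    rw [← this, Ideal.Quotient.algebraMap_eq, Ideal.Quotient.eq_zero_iff_mem.2 hz]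
    exact map_zero _
  let : Algebra Γ(T'.left, ⊤) Γ(V.left, O) := φ.toAlgebra
  have : Module.Flat Γ(T'.left, ⊤) Γ(V.left, O) := by
    refine RingHom.flat_algebraMap_iff.1 ((HasRingHomProperty.Spec_iff (P := @Flat)).1 ?_)
    exact (show Flat (Spec.map (Spec.preimage (hO.fromSpec ≫ pA.left))) from by
      rw [Spec.map_preimage]; exact inferInstanceAs (Flat (hO.fromSpec ≫ pA.left)))
  obtain ⟨s, hs, hs0⟩ := exists_notMem_mul_eq_zero z hzφ (hO.isoSpec.hom ⟨v, hvO⟩)
  refine hs ?_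
  have : PrimeSpectrum.comap φ (hO.isoSpec.hom ⟨v, hvO⟩) = P := by
    change (Spec.map (CommRingCat.ofHom φ)) (hO.isoSpec.hom ⟨v, hvO⟩) = P
    rw [hφ, ← hv]
    change (hO.isoSpec.hom ≫ hO.fromSpec ≫ pA.left) ⟨v, hvO⟩ = _
    rw [IsAffineOpen.isoSpec_hom_fromSpec_assoc]
    rfl
  change s ∈ (PrimeSpectrum.comap φ (hO.isoSpec.hom ⟨v, hvO⟩)).asIdeal
  rw [this]
  exact hanp (by simpa [an] using hs0)

end AlgSpLib
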