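import Groth.Agent.AlgSpLib.FpqcMore
/-!
# The largest open over which a local property holds
-/

set_option autoImplicit false
universe u
open CategoryTheory CategoryTheory.Limits AlgebraicGeometry Opposite AlgSp Topology

namespace AlgSpLib

variable {S : Scheme.{u}}

/-- The axioms on a class `Q` of covering maps. -/
structure OpenClass (Q : MorphismProperty (Sp S)) : Prop where
  openImm : ∀ {F G : Sp S} {j : F ⟶ G}, IsAlgSpace G → RepWith @IsOpenImmersion j → Q j
  comp : ∀ {F G H : Sp S} {f : F ⟶ G} {g : G ⟶ H}, IsAlgSpace F → IsAlgSpace G → IsAlgSpace H →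
    Q f → Q g → Q (f ≫ g)
  baseChange : ∀ {F G F' G' : Sp S} {f : F ⟶ G} {g : G' ⟶ G} {fst : F' ⟶ F} {snd : F' ⟶ G'},
    IsAlgSpace F → IsAlgSpace G → IsAlgSpace G' → IsPullback fst snd f g → Q f → Q snd
  isOpenMap : ∀ {F G : Sp S} {f : F ⟶ G}, IsAlgSpace F → IsAlgSpace G → Q f → IsOpenMap (Points.map f)

theorem openClass_isEtaleMor : OpenClass (S := S) IsEtaleMor where
  openImm _ h := isEtaleMor_of_openImmersion h
  comp _ _ _ hf hg := isEtaleMor_comp hg hf
  baseChange hF hG hG' sq h := isEtaleMor_of_isPullback hF hG hG' sq h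
  isOpenMap hF _ h := isOpenMap_map_of_isEtaleMor hF h

theorem openClass_flat_lfp : OpenClass (S := S)
    (fun _ _ f => LocP @Flat f ∧ LocP @LocallyOfFinitePresentation f) where
  openImm _ h :=
    ⟨locP_of_repWith (repWith_mono (fun _ _ g (_ : IsOpenImmersion g) => (inferInstance : Flat g)) h),
      locP_of_repWith (repWith_mono
        (fun _ _ g (_ : IsOpenImmersion g) => (inferInstance : LocallyOfFinitePresentation g)) h)⟩
  comp hF hG hH hf hg := ⟨locP_comp hF hG hH hf.1 hg.1, locP_comp hF hG hH hf.2 hg.2⟩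
  baseChange hF hG hG' sq h := ⟨locP_of_isPullback hF hG hG' sq h.1, locP_of_isPullback hF hG hG' sq h.2⟩
  isOpenMap hF hG h :=
    (isUnivOpenMor_of_flat_lfp hF hG h.1 h.2) hG (𝟙 _) (𝟙 _) _ (IsPullback.id_horiz _)

theorem openClass_smooth : OpenClass (S := S) (LocP @Smooth) where
  openImm _ h := locP_of_repWith (repWith_mono (fun _ _ g (_ : IsOpenImmersion g) => (inferInstance : Smooth g)) h)
  comp hF hG hH hf hg := locP_comp hF hG hH hf hg
  baseChange hF hG hG' sq h := locP_of_isPullback hF hG hG' sq h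
  isOpenMap hF hG h :=
    openClass_flat_lfp.isOpenMap hF hG
      ⟨locP_mono (fun _ _ g (_ : Smooth g) => (inferInstance : Flat g)) h,
        locP_mono (fun _ _ g (_ : Smooth g) => (inferInstance : LocallyOfFinitePresentation g)) h⟩

theorem exists_largest_open {P : MorphismProperty (Sp S)} {τ : CovNotion S} {Q : MorphismProperty (Sp S)}
    (hQ : OpenClass Q)
    (hτ : ∀ {ι : Type u} {Y : Sp S} (Yi : ι → Sp S) (g : ∀ i, Yi i ⟶ Y), (∀ i, Q (g i)) →
      (∀ y : Points Y, ∃ i, y ∈ Set.range (Points.map (g i))) → τ Yi g)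
    (hP : IsLocalOnBase τ P) {X Y : Space S} (f : X ⟶ Y) :
    ∃ W : TopologicalSpace.Opens (Points Y.obj),
      (∀ (W₀ X₀ : Space S) (j₀ : W₀ ⟶ Y) (j₀' : X₀ ⟶ X) (f₀ : X₀ ⟶ W₀),
        RepWith @IsOpenImmersion j₀.hom → Set.range (Points.map j₀.hom) = (W : Set (Points Y.obj)) →
        IsPullback j₀'.hom f₀.hom f.hom j₀.hom → P f₀.hom) ∧
      (∀ V : TopologicalSpace.Opens (Points Y.obj),
        (∀ (W₁ X₁ : Space S) (j₁ : W₁ ⟶ Y) (j₁' : X₁ ⟶ X) (f₁ : X₁ ⟶ W₁),
        RepWith @IsOpenImmersion j₁.hom → Set.range (Points.map j₁.hom) = (V : Set (Points Y.obj)) →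
        IsPullback j₁'.hom f₁.hom f.hom j₁.hom → P f₁.hom) → V ≤ W) ∧
      (∀ (Y' X' : Space S) (g : Y' ⟶ Y) (g' : X' ⟶ X) (f' : X' ⟶ Y'),
        Q g.hom → IsPullback g'.hom f'.hom f.hom g.hom → P f'.hom →
        Set.range (Points.map g.hom) ⊆ (W : Set (Points Y.obj))) ∧
      (∀ (Y' X' : Space S) (g : Y' ⟶ Y) (g' : X' ⟶ X) (f' : X' ⟶ Y'),
        Q g.hom → IsPullback g'.hom f'.hom f.hom g.hom →
        ∀ W' : TopologicalSpace.Opens (Points Y'.obj),
          (∀ (W₂ X₂ : Space S) (j₂ : W₂ ⟶ Y') (j₂' : X₂ ⟶ X') (f₂ : X₂ ⟶ W₂),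
        RepWith @IsOpenImmersion j₂.hom → Set.range (Points.map j₂.hom) = (W' : Set (Points Y'.obj)) →
        IsPullback j₂'.hom f₂.hom f'.hom j₂.hom → P f₂.hom) →
          (∀ V' : TopologicalSpace.Opens (Points Y'.obj),
            (∀ (W₃ X₃ : Space S) (j₃ : W₃ ⟶ Y') (j₃' : X₃ ⟶ X') (f₃ : X₃ ⟶ W₃),
        RepWith @IsOpenImmersion j₃.hom → Set.range (Points.map j₃.hom) = (V' : Set (Points Y'.obj)) →
        IsPullback j₃'.hom f₃.hom f'.hom j₃.hom → P f₃.hom) → V' ≤ W') →
          (W' : Set (Points Y'.obj)) = Points.map g.hom ⁻¹' (W : Set (Points Y.obj))) := by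
  -- `P` over an open
  let POver (V : TopologicalSpace.Opens (Points Y.obj)) : Prop :=
    ∀ (W₁ X₁ : Space S) (j₁ : W₁ ⟶ Y) (j₁' : X₁ ⟶ X) (f₁ : X₁ ⟶ W₁),
      RepWith @IsOpenImmersion j₁.hom → Set.range (Points.map j₁.hom) = (V : Set (Points Y.obj)) →
      IsPullback j₁'.hom f₁.hom f.hom j₁.hom → P f₁.hom
  let O (V : TopologicalSpace.Opens (Points Y.obj)) : Space S :=
    ⟨openSub Y.obj (V : Set (Points Y.obj)), isAlgSpace_openSub Y.property V.2⟩
  -- a factorisation through an open subspace of a map with `Q` has `Q`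
  have hlift : ∀ {A B : Sp S} (_ : IsAlgSpace A) (_ : IsAlgSpace B) {j : B ⟶ Y.obj} (_ : RepWith @IsOpenImmersion j)
      {l : A ⟶ B} (_ : Q (l ≫ j)), Q l := by
    intro A B hA hB j hj l hl
    have := mono_of_openImmersion hj
    have sq : IsPullback (𝟙 A) l (l ≫ j) j := ⟨⟨Category.id_comp _⟩, ⟨PullbackCone.IsLimit.mk _ (fun c => c.fst)
      (fun c => Category.comp_id _) (fun c => (cancel_mono j).1 (by rw [Category.assoc]; exact c.condition))
      (fun c m h1 _ => (Category.comp_id m).symm.trans h1)⟩⟩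
    exact hQ.baseChange hA Y.property hB sq hl
  -- moving `P` between pullbacks over a cover of a base
  have hdesc : ∀ {ι : Type u} {B : Space S} {XB : Space S} (b : B ⟶ Y) (b' : XB ⟶ X) (fB : XB ⟶ B)
      (_ : IsPullback b'.hom fB.hom f.hom b.hom) (Bi : ι → Space S) (bi : ∀ i, Bi i ⟶ Y)
      (li : ∀ i, (Bi i).obj ⟶ B.obj) (_ : ∀ i, li i ≫ b.hom = (bi i).hom) (_ : ∀ i, Q (li i))
      (_ : ∀ y : Points B.obj, ∃ i, y ∈ Set.range (Points.map (li i)))
      (Xi : ι → Space S) (bi' : ∀ i, Xi i ⟶ X) (fi : ∀ i, Xi i ⟶ Bi i)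
      (_ : ∀ i, IsPullback (bi' i).hom (fi i).hom f.hom (bi i).hom), P fB.hom ↔ ∀ i, P (fi i).hom := by
    intro ι B XB b b' fB sq Bi bi li hli hQl hjs Xi bi' fi sqi
    refine hP (fun i => (Bi i).obj) li B.property (fun i => (Bi i).property) (hτ _ _ hQl hjs) fB.hom XB.property
      (fun i => (Xi i).obj) (fun i => (fi i).hom)
      (fun i => sq.lift (bi' i).hom ((fi i).hom ≫ li i) (by rw [(sqi i).w, Category.assoc, hli]))
      (fun i => (Xi i).property) fun i => IsPullback.of_right ?_ (sq.lift_snd _ _ _) sq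
    rw [sq.lift_fst, hli]
    exact sqi i
  let W : TopologicalSpace.Opens (Points Y.obj) := sSup {V | POver V}
  let PB (B : Space S) (b : B ⟶ Y) : Space S :=
    ⟨pullback f.hom b.hom, isAlgSpace_pullback X.property B.property Y.property _ _⟩
  have hW : POver W := by
    intro W₁ X₁ j₁ j₁' f₁ hj hr sq
    have hfac : ∀ V : {V // POver V}, ∃ l : (O V.1).obj ⟶ W₁.obj, l ≫ j₁.hom = openSubι Y.obj _ := fun V =>
      (exists_factor_iff hj _).2 (by
        rw [range_openSubι, hr]
        exact fun y hy => TopologicalSpace.Opens.mem_sSup.2 ⟨V.1, V.2, hy⟩)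
    let κ := {t : Σ' _ : Points W₁.obj, {V // POver V} // Points.map j₁.hom t.1 ∈ t.2.1}
    obtain ⟨U, a, ha, has⟩ := W₁.property.atlas
    choose VV hVV hmem using fun u : U.left => (TopologicalSpace.Opens.mem_sSup.1
      (show Points.map j₁.hom (Points.ofPt a u) ∈ W from (Set.ext_iff.1 hr _).1 ⟨_, rfl⟩))
    choose l hl using fun u : U.left => hfac ⟨VV u, hVV u⟩
    let bi : ∀ u, O (VV u) ⟶ Y := fun u => ObjectProperty.homMk (openSubι Y.obj _)
    refine (hdesc j₁ j₁' f₁ sq (fun u => O (VV u)) bi l hl (fun u => ?_) (fun y => ?_)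
      (fun u => PB _ (bi u)) (fun u => ObjectProperty.homMk (pullback.fst f.hom (bi u).hom))
      (fun u => ObjectProperty.homMk (pullback.snd f.hom (bi u).hom))
      (fun u => IsPullback.of_hasPullback f.hom (bi u).hom)).2 fun u => ?_
    · refine hlift (O (VV u)).property W₁.property hj ?_
      rw [hl]
      exact hQ.openImm Y.property (repWith_openSubι Y.obj (VV u).2)
    · obtain ⟨u, rfl⟩ := surjective_ofPt has y
      obtain ⟨z, hz⟩ : Points.map j₁.hom (Points.ofPt a u) ∈ Set.range (Points.map (openSubι Y.obj (VV u : Set _))) := by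
        rw [range_openSubι]; exact hmem u
      refine ⟨u, z, ?_⟩
      have := mono_of_openImmersion hj
      obtain ⟨w, h1, h2⟩ := exists_point_isPullback (IsKernelPair.id_of_mono j₁.hom) (Points.map (l u) z)
        (Points.ofPt a u) (by rw [← Points.map_comp, hl]; exact hz)
      exact h1.symm.trans h2
    · exact hVV u _ _ (bi u) _ _ (repWith_openSubι Y.obj (VV u).2) (range_openSubι _)
        (IsPullback.of_hasPullback f.hom (bi u).hom)
  have himg : ∀ (Y' X' : Space S) (g : Y' ⟶ Y) (g' : X' ⟶ X) (f' : X' ⟶ Y'),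
      Q g.hom → IsPullback g'.hom f'.hom f.hom g.hom → P f'.hom →
      Set.range (Points.map g.hom) ⊆ (W : Set (Points Y.obj)) := by
    intro Y' X' g g' f' hg sq hf'
    refine fun y hy => TopologicalSpace.Opens.mem_sSup.2
      ⟨⟨_, (hQ.isOpenMap Y'.property Y.property hg).isOpen_range⟩, ?_, hy⟩
    intro W₁ X₁ j₁ j₁' f₁ hj hr sq₁
    obtain ⟨l, hl⟩ := (exists_factor_iff hj g.hom).2 (by rw [hr]; exact subset_rfl)
    have := mono_of_openImmersion hj
    refine (hdesc j₁ j₁' f₁ sq₁ (fun _ : PUnit.{u + 1} => Y') (fun _ => g) (fun _ => l) (fun _ => hl)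
      (fun _ => hlift Y'.property W₁.property hj (by rw [hl]; exact hg)) (fun w => ?_) (fun _ => X') (fun _ => g')
      (fun _ => f') (fun _ => sq)).2 fun _ => hf'
    obtain ⟨z, hz⟩ := (Set.ext_iff.1 hr (Points.map j₁.hom w)).1 ⟨w, rfl⟩
    obtain ⟨w', h1, h2⟩ := exists_point_isPullback (IsKernelPair.id_of_mono j₁.hom) (Points.map l z) w
      (by rw [← Points.map_comp, hl]; exact hz)
    exact ⟨⟨⟩, z, h1.symm.trans h2⟩
  refine ⟨W, hW, fun V hV => le_sSup hV, himg, fun Y' X' g g' f' hg sq W' hW' hmax => ?_⟩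
  refine subset_antisymm ?_ ?_
  · intro y hy
    let O' : Space S := ⟨openSub Y'.obj (W' : Set (Points Y'.obj)), isAlgSpace_openSub Y'.property W'.2⟩
    let j₂ : O' ⟶ Y' := ObjectProperty.homMk (openSubι Y'.obj _)
    let X₂ : Space S := ⟨pullback f'.hom j₂.hom, isAlgSpace_pullback X'.property O'.property Y'.property _ _⟩
    have h2 := hW' O' X₂ j₂ (ObjectProperty.homMk (pullback.fst f'.hom j₂.hom))
      (ObjectProperty.homMk (pullback.snd f'.hom j₂.hom)) (repWith_openSubι Y'.obj W'.2) (range_openSubι _)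
      (IsPullback.of_hasPullback f'.hom j₂.hom)
    refine himg O' X₂ (j₂ ≫ g) (ObjectProperty.homMk (pullback.fst f'.hom j₂.hom ≫ g'.hom))
      (ObjectProperty.homMk (pullback.snd f'.hom j₂.hom))
      (hQ.comp O'.property Y'.property Y.property (hQ.openImm Y'.property (repWith_openSubι Y'.obj W'.2)) hg)
      ((IsPullback.of_hasPullback f'.hom j₂.hom).paste_horiz sq) h2 ?_
    obtain ⟨z, rfl⟩ := (Set.ext_iff.1 (range_openSubι Y'.obj (W := (W' : Set (Points Y'.obj)))) y).2 hy
    exact ⟨z, Points.map_comp (openSubι Y'.obj _) g.hom z⟩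
  · let V' : TopologicalSpace.Opens (Points Y'.obj) :=
      ⟨Points.map g.hom ⁻¹' (W : Set (Points Y.obj)), W.2.preimage (Points.continuous_map g.hom)⟩
    refine SetLike.coe_subset_coe.2 (hmax V' fun W₃ X₃ j₃ j₃' f₃ hj hr sq₃ => ?_)
    let j₀ : O W ⟶ Y := ObjectProperty.homMk (openSubι Y.obj _)
    obtain ⟨l, hl⟩ := (exists_factor_iff (repWith_openSubι Y.obj W.2) (j₃ ≫ g).hom).2 (by
      rw [range_openSubι]
      rintro _ ⟨z, rfl⟩
      have : Points.map j₃.hom z ∈ Points.map g.hom ⁻¹' (W : Set (Points Y.obj)) := (Set.ext_iff.1 hr _).1 ⟨z, rfl⟩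
      rw [Set.mem_preimage, ← Points.map_comp] at this
      exact this)
    let X₀ := PB (O W) j₀
    have h0 : P (pullback.snd f.hom j₀.hom) :=
      hW (O W) X₀ j₀ (ObjectProperty.homMk (pullback.fst f.hom j₀.hom))
        (ObjectProperty.homMk (pullback.snd f.hom j₀.hom)) (repWith_openSubι Y.obj W.2) (range_openSubι _)
        (IsPullback.of_hasPullback f.hom j₀.hom)
    have hQg : Q (j₃ ≫ g).hom := hQ.comp W₃.property Y'.property Y.property (hQ.openImm Y'.property hj) hg
    have key := (hdesc (B := O W) (XB := X₀) j₀ (ObjectProperty.homMk (pullback.fst f.hom j₀.hom))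
      (ObjectProperty.homMk (pullback.snd f.hom j₀.hom)) (IsPullback.of_hasPullback f.hom j₀.hom)
      (fun i : ULift.{u} Bool => bif i.down then W₃ else O W)
      (fun i => match i with | ⟨true⟩ => j₃ ≫ g | ⟨false⟩ => j₀)
      (fun i => match i with | ⟨true⟩ => l | ⟨false⟩ => 𝟙 _)
      (fun i => match i with | ⟨true⟩ => hl | ⟨false⟩ => Category.id_comp _)
      (fun i => match i with
        | ⟨true⟩ => hlift W₃.property (O W).property (repWith_openSubι Y.obj W.2) (l := l) (hl.symm ▸ hQg)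
        | ⟨false⟩ => hQ.openImm (O W).property (repWith_of_isIso _))
      (fun y => ⟨⟨false⟩, y, Points.map_id _⟩)
      (fun i => bif i.down then X₃ else X₀)
      (fun i => match i with | ⟨true⟩ => j₃' ≫ g' | ⟨false⟩ => ObjectProperty.homMk (pullback.fst f.hom j₀.hom))
      (fun i => match i with | ⟨true⟩ => f₃ | ⟨false⟩ => ObjectProperty.homMk (pullback.snd f.hom j₀.hom))
      (fun i => match i with
        | ⟨true⟩ => sq₃.paste_horiz sq
        | ⟨false⟩ => IsPullback.of_hasPullback f.hom j₀.hom)).1 h0 ⟨true⟩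
    exact key

end AlgSpLib
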