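import Groth.Agent.AlgSpLib.Points
import Mathlib.AlgebraicGeometry.Morphisms.FinitePresentation
import Mathlib.AlgebraicGeometry.Morphisms.UniversallyOpen
/-!
# Etale locally constructible subsets of algebraic spaces
-/

set_option autoImplicit false
universe u
open CategoryTheory CategoryTheory.Limits AlgebraicGeometry Opposite AlgSp Topology

namespace AlgSpLib

variable {S : Scheme.{u}}

theorem isLocallyConstructible_preimage_hom {X Y : Scheme.{u}} (g : X ⟶ Y) {E : Set Y}
    (hE : IsLocallyConstructible E) : IsLocallyConstructible (g ⁻¹' E) := by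
  intro x
  obtain ⟨V, hV, hxV, -⟩ := exists_isAffineOpen_mem_and_subset (U := ⊤) (x := g x) trivial
  obtain ⟨U, hU, hxU, hUV⟩ := exists_isAffineOpen_mem_and_subset (U := g ⁻¹ᵁ V) (x := x) hxV
  haveI : IsAffine V.toScheme := hV
  refine ⟨U, U.2.mem_nhds hxU, U.2, ?_⟩
  have h1 : IsConstructible (V.ι ⁻¹' E) :=
    (hE.preimage_of_isOpenEmbedding V.ι.isOpenEmbedding).isConstructible
  have e : ((Subtype.val : U → X) ⁻¹' (g ⁻¹' E)) = (g.resLE V U hUV) ⁻¹' (V.ι ⁻¹' E) := by
    ext z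
    change g z.1 ∈ E ↔ V.ι (g.resLE V U hUV z) ∈ E
    rw [← Scheme.Hom.comp_apply, Scheme.Hom.resLE_comp_ι]
    rfl
  exact (congrArg IsConstructible e).mpr ((g.resLE V U hUV).isConstructible_preimage h1)

theorem isLocallyConstructible_descend {X Y : Scheme.{u}} (g : X ⟶ Y) [LocallyOfFinitePresentation g]
    [UniversallyOpen g] [Surjective g] {E : Set Y} (hE : IsLocallyConstructible (g ⁻¹' E)) :
    IsLocallyConstructible E := by
  intro y
  obtain ⟨x, rfl⟩ := g.surjective y
  obtain ⟨V, hV, hxV, -⟩ := exists_isAffineOpen_mem_and_subset (U := ⊤) (x := g x) trivial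
  obtain ⟨U, hU, hxU, hUV⟩ := exists_isAffineOpen_mem_and_subset (U := g ⁻¹ᵁ V) (x := x) hxV
  haveI : IsAffine V.toScheme := hV
  haveI : IsAffine U.toScheme := hU
  let h := g.resLE V U hUV
  have hh : ∀ z, (h z).1 = g z.1 := fun z => by
    change V.ι (g.resLE V U hUV z) = _
    rw [← Scheme.Hom.comp_apply, Scheme.Hom.resLE_comp_ι]
    rfl
  have h1 : IsConstructible (h '' (U.ι ⁻¹' (g ⁻¹' E))) :=
    h.isConstructible_image (hE.preimage_of_isOpenEmbedding U.ι.isOpenEmbedding).isConstructible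
  have hO : IsOpen (g '' (U : Set X)) := g.isOpenMap _ U.2
  refine ⟨g '' (U : Set X), hO.mem_nhds ⟨x, hxU, rfl⟩, hO, ?_⟩
  have hOV : g '' (U : Set X) ⊆ (V : Set Y) := Set.image_subset_iff.2 hUV
  convert h1.preimage_of_isOpenEmbedding ((IsOpenEmbedding.id).restrict (s := g '' (U : Set X))
    (t := (V : Set Y)) hOV hO) using 1
  ext z
  obtain ⟨z, w, hw, rfl⟩ := z
  constructor
  · intro hz
    exact ⟨⟨w, hw⟩, hz, Subtype.ext (hh ⟨w, hw⟩)⟩
  · rintro ⟨w', hw', e⟩
    have e' : g w'.1 = g w := (hh w').symm.trans (congrArg Subtype.val e)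
    change g w ∈ E
    rw [← e']
    exact hw'

theorem etaleLocallyConstructible_preimage {X Y : Sp S} (hY : IsAlgSpace Y) (f : X ⟶ Y) {E : Set (Points Y)}
    (hE : ∀ (U : Over S) (φ : (yon S).obj U ⟶ Y), RepWith @Etale φ →
      IsLocallyConstructible (Points.ofPt φ ⁻¹' E))
    (U : Over S) (φ : (yon S).obj U ⟶ X) :
    IsLocallyConstructible (Points.ofPt φ ⁻¹' (Points.map f ⁻¹' E)) := by
  obtain ⟨V, b, hb, hbs⟩ := hY.atlas
  obtain ⟨W, r, q, sq⟩ := exists_isPullback_yon b (φ ≫ f) hb.rep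
  haveI : Etale q.left := etale_left (repWith_of_isPullback sq hb)
  haveI : Surjective q.left := surjective_left (repWith_of_isPullback sq hbs)
  refine isLocallyConstructible_descend q.left ?_
  have e : q.left ⁻¹' (Points.ofPt φ ⁻¹' (Points.map f ⁻¹' E)) = r.left ⁻¹' (Points.ofPt b ⁻¹' E) := by
    ext w
    change Points.map f (Points.ofPt φ (q.left w)) ∈ E ↔ Points.ofPt b (r.left w) ∈ E
    rw [Points.map_ofPt, ← ofPt_yon_comp q, ← sq.w, ofPt_yon_comp]
  rw [e]
  exact isLocallyConstructible_preimage_hom r.left (hE V b hb)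

end AlgSpLib
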