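import Groth.Agent.AlgSpLib.DecentTop
import Mathlib.AlgebraicGeometry.Morphisms.UniversallyOpen

/-!
# Locally separated spaces are decent
-/

set_option autoImplicit false
set_option backward.isDefEq.respectTransparency false
set_option backward.isDefEq.respectTransparency.types false

universe u

open CategoryTheory CategoryTheory.Limits AlgebraicGeometry Opposite AlgSp Topology

namespace AlgSpLib

variable {S : Scheme.{u}}

/-- Two maps into a locally separated space agree on an immersed subscheme. -/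
theorem exists_immersion_equalizer {X : Sp S} (hX : IsLocallySeparatedSp X) {E : Over S}
    (u₁ u₂ : (yon S).obj E ⟶ X) :
    ∃ (R : Over S) (r : R ⟶ E), IsImmersion r.left ∧ (yon S).map r ≫ u₁ = (yon S).map r ≫ u₂ ∧
      ∀ (T : Over S) (h : T ⟶ E), (yon S).map h ≫ u₁ = (yon S).map h ≫ u₂ → ∃ l : T ⟶ R, l ≫ r = h := by
  have sq := hX.rep.isPullback (Limits.prod.lift u₁ u₂)
  refine ⟨_, hX.rep.snd (Limits.prod.lift u₁ u₂), hX.2 _ _ _ sq, ?_, fun T h hh => ?_⟩
  · have h1 := congrArg (· ≫ prod.fst) sq.w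
    have h2 := congrArg (· ≫ prod.snd) sq.w
    simp only [Category.assoc, Limits.prod.lift_fst, Limits.prod.lift_snd, Category.comp_id] at h1 h2
    exact h1.symm.trans h2
  · obtain ⟨l, hl⟩ := (yon S).map_surjective (sq.lift ((yon S).map h ≫ u₁) ((yon S).map h) (by
      apply Limits.prod.hom_ext
      · simp only [Category.assoc, Limits.prod.lift_fst, Category.comp_id]
      · simp only [Category.assoc, Limits.prod.lift_snd, Category.comp_id, hh]))
    exact ⟨l, (yon S).map_injective (by rw [Functor.map_comp, hl, sq.lift_snd])⟩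

/-- In the self-product of a scheme over a field, one coordinate can be moved with the other fixed. -/
theorem exists_slice {E E₁ P : Scheme.{u}} [IsIntegral P] [Subsingleton P] {c₁ c₂ : E₁ ⟶ E} {a : E ⟶ P}
    (sq : IsPullback c₁ c₂ a a) {w : E₁} {O : Set E₁} (hO : IsOpen O) (hw : w ∈ O) {A : Set E}
    (hA : c₂ w ∈ closure A) : ∃ w' ∈ O, c₁ w' = c₁ w ∧ c₂ w' ∈ A := by
  let j := E.fromSpecResidueField (c₁ w)
  have sqs : IsPullback (pullback.snd j c₁ ≫ c₂) (pullback.fst j c₁) a (j ≫ a) :=
    (IsPullback.of_hasPullback j c₁).flip.paste_horiz sq.flip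
  haveI : UniversallyOpen (pullback.snd j c₁ ≫ c₂) :=
    MorphismProperty.of_isPullback (P := @UniversallyOpen) sqs.flip inferInstance
  obtain ⟨t, -, ht⟩ := Scheme.exists_preimage_of_isPullback (IsPullback.of_hasPullback j c₁)
    (IsLocalRing.closedPoint _) w (Scheme.fromSpecResidueField_apply _ _)
  have hopen : IsOpen ((pullback.snd j c₁ ≫ c₂) '' (pullback.snd j c₁ ⁻¹' O)) :=
    (pullback.snd j c₁ ≫ c₂).isOpenMap _ (hO.preimage (pullback.snd j c₁).continuous)
  obtain ⟨_, ⟨t', ht', rfl⟩, hA'⟩ := mem_closure_iff.1 hA _ hopen ⟨t, (by rw [Set.mem_preimage, ht]; exact hw), by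
    rw [Scheme.Hom.comp_apply, ht]⟩
  refine ⟨pullback.snd j c₁ t', ht', ?_, hA'⟩
  rw [← Scheme.Hom.comp_apply, ← pullback.condition, Scheme.Hom.comp_apply]
  exact Scheme.fromSpecResidueField_apply _ _

/-- The coincidence locus of a point and a chart is closed. -/
theorem isClosed_range_coincidence {X : Sp S} (hX : IsLocallySeparatedSp X) {P V E : Over S}
    [IsIntegral P.left] [Subsingleton P.left] (q : (yon S).obj P ⟶ X) (φ : (yon S).obj V ⟶ X)
    (a : E ⟶ P) (b : E ⟶ V) {R : Over S} (r : R ⟶ E)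
    (hr : (yon S).map r ≫ (yon S).map a ≫ q = (yon S).map r ≫ (yon S).map b ≫ φ)
    (huniv : ∀ (T : Over S) (h : T ⟶ E), (yon S).map h ≫ (yon S).map a ≫ q = (yon S).map h ≫ (yon S).map b ≫ φ →
      ∃ l : T ⟶ R, l ≫ r = h) : IsClosed (Set.range r.left) := by
  refine isClosed_of_closure_subset fun v hv => ?_
  let c₁ := pullback.fst a a
  let c₂ := pullback.snd a a
  let u₁ := (yon S).map (c₁ ≫ b) ≫ φ
  let u₂ := (yon S).map (c₂ ≫ b) ≫ φ
  have sq : IsPullback c₁.left c₂.left a.left a.left := left_isPullback a a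
  obtain ⟨R₂, r₂, hr₂, hr₂w, huniv₂⟩ := exists_immersion_equalizer hX u₁ u₂
  haveI := hr₂
  -- both coordinates in the locus
  have hA : ∀ w : (pullback a a).left, c₁.left w ∈ Set.range r.left → c₂.left w ∈ Set.range r.left →
      w ∈ Set.range r₂.left := by
    rintro w ⟨y, hy⟩ ⟨y', hy'⟩
    obtain ⟨z, -, hz⟩ := Scheme.exists_preimage_of_isPullback (left_isPullback r c₁) y w hy
    obtain ⟨z', -, hz'⟩ := Scheme.exists_preimage_of_isPullback (left_isPullback r (pullback.snd r c₁ ≫ c₂))
      y' z (by rw [Over.comp_left, Scheme.Hom.comp_apply, hz, hy'])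
    let h := pullback.snd r (pullback.snd r c₁ ≫ c₂) ≫ pullback.snd r c₁
    have e₁ : h ≫ c₁ = (pullback.snd r (pullback.snd r c₁ ≫ c₂) ≫ pullback.fst r c₁) ≫ r := by
      simp only [h, Category.assoc, pullback.condition]
    have e₂ : h ≫ c₂ = pullback.fst r (pullback.snd r c₁ ≫ c₂) ≫ r := by
      simp only [h, Category.assoc, pullback.condition]
    have hc : (yon S).map (h ≫ c₁) ≫ (yon S).map a = (yon S).map (h ≫ c₂) ≫ (yon S).map a := by
      rw [← Functor.map_comp, ← Functor.map_comp]
      congr 1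
      simp only [c₁, c₂, Category.assoc, pullback.condition]
    obtain ⟨l, hl⟩ := huniv₂ _ h (by
      have h1 : (yon S).map (h ≫ c₁) ≫ (yon S).map b ≫ φ = (yon S).map (h ≫ c₁) ≫ (yon S).map a ≫ q := by
        rw [e₁, Functor.map_comp, Category.assoc, Category.assoc, hr]
      have h2 : (yon S).map (h ≫ c₂) ≫ (yon S).map b ≫ φ = (yon S).map (h ≫ c₂) ≫ (yon S).map a ≫ q := by
        rw [e₂, Functor.map_comp, Category.assoc, Category.assoc, hr]
      simp only [u₁, u₂, Functor.map_comp, Category.assoc] at h1 h2 hc ⊢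
      rw [h1, h2, reassoc_of% hc])
    refine ⟨l.left z', ?_⟩
    rw [← Scheme.Hom.comp_apply, ← Over.comp_left, hl, Over.comp_left, Scheme.Hom.comp_apply, hz', hz]
  -- the equalizer transports the locus
  have hB : ∀ w ∈ Set.range r₂.left, c₁.left w ∈ Set.range r.left → c₂.left w ∈ Set.range r.left := by
    rintro _ ⟨y, rfl⟩ ⟨y', hy'⟩
    obtain ⟨z, -, hz⟩ := Scheme.exists_preimage_of_isPullback (left_isPullback r (r₂ ≫ c₁)) y' y
      (by rw [Over.comp_left, Scheme.Hom.comp_apply, hy'])
    let h := pullback.snd r (r₂ ≫ c₁) ≫ r₂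
    have e₁ : h ≫ c₁ = pullback.fst r (r₂ ≫ c₁) ≫ r := by simp only [h, Category.assoc, pullback.condition]
    have hc : (yon S).map (h ≫ c₁) ≫ (yon S).map a = (yon S).map (h ≫ c₂) ≫ (yon S).map a := by
      rw [← Functor.map_comp, ← Functor.map_comp]
      congr 1
      simp only [c₁, c₂, Category.assoc, pullback.condition]
    obtain ⟨l, hl⟩ := huniv _ (h ≫ c₂) (by
      have h1 : (yon S).map (h ≫ c₁) ≫ (yon S).map b ≫ φ = (yon S).map (h ≫ c₁) ≫ (yon S).map a ≫ q := by
        rw [e₁, Functor.map_comp, Category.assoc, Category.assoc, hr]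
      have h3 : (yon S).map h ≫ u₁ = (yon S).map h ≫ u₂ := by
        simp only [h, Functor.map_comp, Category.assoc, hr₂w]
      simp only [u₁, u₂, Functor.map_comp, Category.assoc] at h1 h3 hc ⊢
      rw [← reassoc_of% hc, ← h1, h3])
    refine ⟨l.left z, ?_⟩
    rw [← Scheme.Hom.comp_apply, ← Over.comp_left, hl]
    simp only [h, Over.comp_left, Scheme.Hom.comp_apply, hz]
  -- the diagonal
  let δ : E ⟶ pullback a a := pullback.lift (𝟙 E) (𝟙 E) rfl
  have hδ₁ : c₁.left (δ.left v) = v := by
    rw [← Scheme.Hom.comp_apply, ← Over.comp_left, pullback.lift_fst]; rfl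
  have hδ₂ : c₂.left (δ.left v) = v := by
    rw [← Scheme.Hom.comp_apply, ← Over.comp_left, pullback.lift_snd]; rfl
  obtain ⟨d, hd⟩ := huniv₂ _ δ (by
    simp only [u₁, u₂, δ, c₁, c₂, ← Functor.map_comp_assoc, pullback.lift_fst_assoc, pullback.lift_snd_assoc])
  let Ω : Set (pullback a a).left := coborder (Set.range r₂.left)
  have hΩ : IsOpen Ω := r₂.left.isLocallyClosed_range.isOpen_coborder
  have hδΩ : δ.left v ∈ Ω := subset_coborder ⟨d.left v, by
    rw [← Scheme.Hom.comp_apply, ← Over.comp_left, hd]⟩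
  obtain ⟨w, hwΩ, hw₂, hw₁⟩ := exists_slice sq.flip hΩ hδΩ (by rw [hδ₁]; exact hv)
  rw [hδ₂] at hw₂
  have hwc : w ∈ closure (Set.range r₂.left) := mem_closure_iff.2 fun O hO hwO => by
    obtain ⟨w', hw', h1, h2⟩ := exists_slice sq hO hwO (A := Set.range r.left) (by rw [hw₂]; exact hv)
    exact ⟨w', hw', hA w' (h1 ▸ hw₁) h2⟩
  have hwR : w ∈ Set.range r₂.left := by
    have := closure_inter_coborder (s := Set.range r₂.left)
    rw [← this]
    exact ⟨hwc, hwΩ⟩
  exact hw₂ ▸ hB w hwR hw₁

theorem isDecent_of_isLocallySeparatedSp {X : Sp S} (hX : IsAlgSpace X) (h : IsLocallySeparatedSp X) :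
    IsDecent X := fun x => by
  induction x using Points.ind with
  | h p =>
    refine exists_decentPt_of_qc hX p (repWith_qc_of_finite hX _ fun V φ hV hφ W fP fV sq => ?_)
    let q := p.toHom
    let E : Over S := Over.mk (pullback.fst p.pt.hom V.hom ≫ p.pt.hom)
    let a : E ⟶ p.pt := Over.homMk (pullback.fst p.pt.hom V.hom) rfl
    let b : E ⟶ V := Over.homMk (pullback.snd p.pt.hom V.hom) pullback.condition.symm
    haveI : IsIntegral p.pt.left := inferInstanceAs (IsIntegral (Spec (CommRingCat.of p.K)))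
    haveI : Subsingleton p.pt.left := inferInstanceAs (Subsingleton (PrimeSpectrum p.K))
    haveI : CompactSpace E.left := by
      haveI : QuasiCompact p.pt.hom := quasiCompact_of_finite _
      haveI : QuasiCompact (pullback.snd p.pt.hom V.hom) := inferInstance
      exact QuasiCompact.compactSpace_of_compactSpace (pullback.snd p.pt.hom V.hom)
    obtain ⟨R, r, hr, hrw, huniv⟩ := exists_immersion_equalizer h ((yon S).map a ≫ q) ((yon S).map b ≫ φ)
    haveI := hr
    haveI : CompactSpace R.left :=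
      (IsClosedEmbedding.mk r.left.isEmbedding
        (isClosed_range_coincidence h q φ a b r hrw huniv)).compactSpace
    obtain ⟨l, hl⟩ := (yon S).map_surjective (sq.lift ((yon S).map (r ≫ a)) ((yon S).map (r ≫ b))
      (by rw [Functor.map_comp, Functor.map_comp, Category.assoc, Category.assoc, hrw]))
    let m : W ⟶ E := Over.homMk (pullback.lift fP.left fV.left (by rw [Over.w fP, Over.w fV])) (by
      change pullback.lift _ _ _ ≫ pullback.fst _ _ ≫ p.pt.hom = W.hom
      rw [pullback.lift_fst_assoc, Over.w fP])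
    have hma : m ≫ a = fP := Over.OverMorphism.ext (pullback.lift_fst _ _ _)
    have hmb : m ≫ b = fV := Over.OverMorphism.ext (pullback.lift_snd _ _ _)
    obtain ⟨n, hn⟩ := huniv W m (by
      rw [← Functor.map_comp_assoc, ← Functor.map_comp_assoc, hma, hmb, sq.w])
    have hnl : n ≫ l = 𝟙 W := (yon S).map_injective (sq.hom_ext
      (by rw [Functor.map_comp, Category.assoc, hl, sq.lift_fst, ← Functor.map_comp, ← Category.assoc, hn, hma,
        CategoryTheory.Functor.map_id, Category.id_comp])
      (by rw [Functor.map_comp, Category.assoc, hl, sq.lift_snd, ← Functor.map_comp, ← Category.assoc, hn, hmb,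
        CategoryTheory.Functor.map_id, Category.id_comp]))
    haveI : CompactSpace W.left := Function.Surjective.compactSpace
      (f := l.left) l.left.continuous
      (fun y => ⟨n.left y, by rw [← Scheme.Hom.comp_apply, ← Over.comp_left, hnl]; rfl⟩)
    haveI : Etale fP.left := etale_left (repWith_of_isPullback sq.flip hφ)
    haveI : LocallyQuasiFinite fP.left := locallyQuasiFinite_of_etale fP.left
    haveI : IsLocallyArtinian p.pt.left := inferInstanceAs (IsLocallyArtinian (Spec (CommRingCat.of p.K)))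
    haveI : IsLocallyArtinian W.left := .of_locallyQuasiFinite fP.left
    exact finite_of_compact_of_discrete

end AlgSpLib
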