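import Groth.Agent.AlgSpLib.Qc
import Groth.Agent.AlgSpLib.LocalST
/-!
# Locally quasi-finite morphisms and discrete fibres
-/

set_option autoImplicit false
universe u
open CategoryTheory CategoryTheory.Limits AlgebraicGeometry Opposite AlgSp Topology

namespace AlgSpLib

variable {S : Scheme.{u}}

/-- A locally Noetherian scheme all whose points are closed is discrete. -/
theorem discreteTopology_of_forall_isClosed {X : Scheme.{u}} [IsLocallyNoetherian X]
    (h : ∀ x : X, IsClosed ({x} : Set X)) : DiscreteTopology X := by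
  haveI : T1Space X := ⟨h⟩
  rw [discreteTopology_iff_isOpen_singleton]
  intro x
  obtain ⟨O, hO, hxO, -⟩ := exists_isAffineOpen_mem_and_subset (U := ⊤) (x := x) trivial
  haveI : IsAffine O.toScheme := hO
  haveI : IsNoetherian O.toScheme := ⟨⟩
  haveI : T1Space O.toScheme := O.ι.isOpenEmbedding.isEmbedding.t1Space
  haveI : Finite O.toScheme := by
    obtain ⟨T, hT, hTc, hTi, hcov⟩ :=
      TopologicalSpace.NoetherianSpace.exists_finite_set_isClosed_irreducible (α := O.toScheme) isClosed_univ
    rw [← Set.finite_univ_iff, hcov, Set.sUnion_eq_biUnion]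
    refine hT.biUnion fun t ht => ?_
    obtain ⟨g, hg⟩ := QuasiSober.sober (hTi t ht) (hTc t ht)
    rw [← hg.def, closure_singleton]
    exact Set.finite_singleton g
  have ho : IsOpen ({(⟨x, hxO⟩ : O.toScheme)} : Set O.toScheme) := isOpen_discrete _
  have := O.ι.isOpenEmbedding.isOpenMap _ ho
  rwa [show O.ι '' {(⟨x, hxO⟩ : O.toScheme)} = {x} from Set.image_singleton] at this

theorem discreteTopology_points_of_lqf {P : Sp S} (hP : IsAlgSpace P) {k : Type u} [Field k]
    {str : Spec (CommRingCat.of k) ⟶ S} {p : P ⟶ (yon S).obj (Over.mk str)}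
    (hp : LocP (@LocallyQuasiFinite ⊓ @LocallyOfFiniteType) p) : DiscreteTopology (Points P) := by
  obtain ⟨U, a, ha, has⟩ := hP.atlas
  obtain ⟨φ, hφ⟩ := (yon S).map_surjective (a ≫ p)
  obtain ⟨hq, -⟩ : LocallyQuasiFinite φ.left ∧ LocallyOfFiniteType φ.left :=
    hp a (𝟙 _) φ ha (repWith_id (@Etale : MorphismProperty Scheme.{u}) _) (by rw [Category.comp_id, hφ])
  haveI : Subsingleton ↥(Over.mk str).left := inferInstanceAs (Subsingleton (PrimeSpectrum k))
  haveI : DiscreteTopology ↥U.left := by
    have e : φ.left ⁻¹' {(IsLocalRing.closedPoint k : ↥(Over.mk str).left)} = Set.univ :=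
      Set.eq_univ_of_forall fun x => Subsingleton.elim _ _
    haveI := isDiscrete_iff_discreteTopology.1 (e ▸ φ.left.isDiscrete_preimage_singleton _)
    exact (Homeomorph.Set.univ _).symm.isEmbedding.discreteTopology
  refine discreteTopology_iff_forall_isOpen.2 fun s => ?_
  rw [← Set.image_preimage_eq s (surjective_ofPt has)]
  exact isOpenMap_ofPt ha _ (isOpen_discrete _)

theorem locP_lqf_of_discrete_fibres {X Y : Sp S} (hX : IsAlgSpace X) (hY : IsAlgSpace Y) {f : X ⟶ Y}
    (hf : LocP @LocallyOfFiniteType f)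
    (H : ∀ (k : Type u) [Field k] (str : Spec (CommRingCat.of k) ⟶ S) (y : (yon S).obj (Over.mk str) ⟶ Y)
      (P : Sp S) (fst : P ⟶ X) (snd : P ⟶ (yon S).obj (Over.mk str)),
      IsPullback fst snd f y → DiscreteTopology (Points P)) :
    LocP ((@LocallyQuasiFinite : MorphismProperty Scheme.{u}) ⊓ @LocallyOfFiniteType) f := by
  intro U V a b h ha hb e
  haveI : LocallyOfFiniteType h.left := hf a b h ha hb e
  refine ⟨locallyQuasiFinite_iff_isDiscrete_preimage_singleton.2 fun v => ?_, ‹_›⟩
  -- `U ⟶ X ×_Y V` is etale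
  have sqQ := IsPullback.of_hasPullback f b
  have hQ := isAlgSpace_pullback hX (IsAlgSpace.yon_obj V) hY f b
  let c : (yon S).obj U ⟶ pullback f b := pullback.lift a ((yon S).map h) e
  have hc : RepWith @Etale c := by
    have hm : IsEtaleMor c := isEtaleMor_cancel hQ hX
      (isEtaleMor_of_repWith (repWith_of_isPullback sqQ.flip hb))
      (by rw [pullback.lift_fst]; exact isEtaleMor_of_repWith ha)
    exact repWith_of_locP hQ (hQ.representable_from_yon _) (locP_etale_of_isEtaleMor hm)
  -- the fibre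
  let K : Over S := Over.mk (V.left.fromSpecResidueField v ≫ V.hom)
  let j : K ⟶ V := Over.homMk (V.left.fromSpecResidueField v) rfl
  have sqP := IsPullback.of_hasPullback (pullback.snd f b) ((yon S).map j)
  have hP := isAlgSpace_pullback hQ (IsAlgSpace.yon_obj K) (IsAlgSpace.yon_obj V) (pullback.snd f b) ((yon S).map j)
  haveI := H (V.left.residueField v) (V.left.fromSpecResidueField v ≫ V.hom) ((yon S).map j ≫ b) _ _ _
    (sqP.paste_horiz sqQ)
  have sqF := (IsPullback.of_hasPullback h j).map (yon S)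
  have hcs : c ≫ pullback.snd f b = (yon S).map h := pullback.lift_snd _ _ _
  let g : (yon S).obj (pullback h j) ⟶ pullback (pullback.snd f b) ((yon S).map j) :=
    pullback.lift ((yon S).map (pullback.fst h j) ≫ c) ((yon S).map (pullback.snd h j))
      (by rw [Category.assoc, hcs]; exact sqF.w)
  have sqg : IsPullback ((yon S).map (pullback.fst h j)) g c (pullback.fst _ _) :=
    IsPullback.of_bot (by rw [hcs, pullback.lift_snd]; exact sqF) (pullback.lift_fst _ _ _).symm sqP
  have hg : RepWith @Etale g := repWith_of_isPullback sqg hc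
  have sqS : IsPullback (pullback.fst h j).left (pullback.snd h j).left h.left j.left :=
    (IsPullback.of_hasPullback h j).map (Over.forget S)
  haveI : LocallyOfFiniteType (pullback.snd h j).left :=
    MorphismProperty.of_isPullback (P := @LocallyOfFiniteType) sqS ‹_›
  haveI : JacobsonSpace ↥(pullback h j).left :=
    LocallyOfFiniteType.jacobsonSpace (Y := Spec (V.left.residueField v)) (pullback.snd h j).left
  haveI : IsLocallyNoetherian (pullback h j).left :=
    haveI : IsLocallyNoetherian K.left := inferInstanceAs (IsLocallyNoetherian (Spec (V.left.residueField v)))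
    LocallyOfFiniteType.isLocallyNoetherian (pullback.snd h j).left
  -- all points of the fibre are closed
  haveI : DiscreteTopology ↥(pullback h j).left := discreteTopology_of_forall_isClosed fun u => by
    obtain ⟨u₀, hu₀, hu₀c⟩ := nonempty_inter_closedPoints (Z := Points.ofPt g ⁻¹' {Points.ofPt g u}) ⟨u, rfl⟩
      ((isOpen_discrete _).preimage (Points.continuous_ofPt g)).isLocallyClosed
    obtain ⟨R, p₁, p₂, sqR⟩ := exists_isPullback_yon g g hg.rep
    obtain ⟨r, hr₁, hr₂⟩ := (ofPt_eq_ofPt_iff sqR u u₀).1 (Eq.symm hu₀)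
    haveI : Etale p₂.left := etale_left (repWith_of_isPullback sqR hg)
    haveI : Etale p₁.left := etale_left (repWith_of_isPullback sqR.flip hg)
    haveI : JacobsonSpace ↥R.left := LocallyOfFiniteType.jacobsonSpace p₂.left
    haveI : LocallyQuasiFinite p₂.left := locallyQuasiFinite_of_etale _
    haveI := isDiscrete_iff_discreteTopology.1 (p₂.left.isDiscrete_preimage_singleton u₀)
    obtain ⟨O, hO, hO'⟩ := isOpen_induced_iff.1 (isOpen_discrete ({⟨r, hr₂⟩} : Set ↥(p₂.left ⁻¹' {u₀})))
    have hr : IsClosed ({r} : Set R.left) := by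
      refine isClosed_singleton_of_isLocallyClosed_singleton ?_
      have e : O ∩ p₂.left ⁻¹' {u₀} = {r} := by
        ext z
        refine ⟨fun ⟨h1, h2⟩ => congrArg Subtype.val
          ((Set.ext_iff.1 hO' ⟨z, h2⟩).1 h1 : (⟨z, h2⟩ : ↥(p₂.left ⁻¹' {u₀})) = ⟨r, hr₂⟩), ?_⟩
        rintro rfl
        exact ⟨(Set.ext_iff.1 hO' ⟨z, hr₂⟩).2 rfl, hr₂⟩
      rw [← e]
      exact hO.isLocallyClosed.inter ((mem_closedPoints_iff.1 hu₀c).preimage p₂.left.continuous).isLocallyClosed
    rw [← hr₁]
    exact p₁.left.closePoints_subset_preimage_closedPoints hr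
  haveI : DiscreteTopology ↥(h.left.fiber v) := sqS.isoPullback.inv.homeomorph.isEmbedding.discreteTopology
  exact isDiscrete_iff_discreteTopology.2 (h.left.fiberHomeo v).symm.isEmbedding.discreteTopology

theorem locP_lqf_iff_discrete_fibres {X Y : Sp S} (hX : IsAlgSpace X) (hY : IsAlgSpace Y) {f : X ⟶ Y}
    (hf : LocP @LocallyOfFiniteType f) :
    LocP ((@LocallyQuasiFinite : MorphismProperty Scheme.{u}) ⊓ @LocallyOfFiniteType) f ↔
      ∀ (k : Type u) [Field k] (str : Spec (CommRingCat.of k) ⟶ S) (y : (yon S).obj (Over.mk str) ⟶ Y)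
        (P : Sp S) (fst : P ⟶ X) (snd : P ⟶ (yon S).obj (Over.mk str)),
        IsPullback fst snd f y → DiscreteTopology (Points P) :=
  ⟨fun hq _ _ str _ _ _ snd sq => discreteTopology_points_of_lqf
      (isAlgSpace_of_isPullback hX (IsAlgSpace.yon_obj _) hY sq) (p := snd)
      (locP_of_isPullback hX hY (IsAlgSpace.yon_obj _) sq hq),
    locP_lqf_of_discrete_fibres hX hY hf⟩

end AlgSpLib
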