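import Groth.Agent.AlgSpLib.HasAt
import Groth.Agent.AlgSpLib.EtLocProp

/-!
# "Near a point" conditions are invariant under etale maps of charts
-/

set_option autoImplicit false
universe u

open CategoryTheory CategoryTheory.Limits AlgebraicGeometry
open AlgSp

namespace AlgSpLib

variable {P : MorphismProperty Scheme.{u}}

theorem cancel_etale_right [EtLocProp P] {A B C : Scheme.{u}} (h : A ⟶ B) (b : B ⟶ C) [Etale b]
    (hp : P (h ≫ b)) : P h := by
  let Γ : A ⟶ pullback (h ≫ b) b := pullback.lift (𝟙 A) h (by simp)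
  have h1 : Γ ≫ pullback.fst (h ≫ b) b = 𝟙 A := pullback.lift_fst _ _ _
  haveI : Etale (Γ ≫ pullback.fst (h ≫ b) b) := by rw [h1]; infer_instance
  haveI : Etale Γ := Etale.of_comp Γ (pullback.fst (h ≫ b) b)
  haveI : P.IsStableUnderBaseChange := EtLocProp.isStableUnderBaseChange
  have h2 : P (Γ ≫ pullback.snd (h ≫ b) b) :=
    EtLocProp.etale_comp Γ _ (MorphismProperty.pullback_snd _ _ hp)
  rwa [pullback.lift_snd] at h2

theorem near_etInv [EtLocProp P] :
    EtInvMor.{u} (fun U _ h u => ∃ W : U.Opens, u ∈ W ∧ P (W.ι ≫ h)) := by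
  intro U U' V V' h h' a b _ _ e u'
  constructor
  · rintro ⟨W, hu, hW⟩
    refine ⟨a ⁻¹ᵁ W, hu, cancel_etale_right _ b ?_⟩
    rw [Category.assoc, e, ← Category.assoc, ← morphismRestrict_ι, Category.assoc]
    exact EtLocProp.etale_comp _ _ hW
  · rintro ⟨W', hu', hW'⟩
    let O : U.Opens := ⟨(W'.ι ≫ a).base '' Set.univ, (W'.ι ≫ a).isOpenMap _ isOpen_univ⟩
    have hsub : Set.range (W'.ι ≫ a).base ⊆ Set.range O.ι.base := by
      rw [Scheme.Opens.range_ι]; exact fun x ⟨w, hw⟩ => ⟨w, trivial, hw⟩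
    let g : (W' : Scheme.{u}) ⟶ O := IsOpenImmersion.lift O.ι (W'.ι ≫ a) hsub
    have hg : g ≫ O.ι = W'.ι ≫ a := IsOpenImmersion.lift_fac _ _ _
    haveI : Etale (g ≫ O.ι) := by rw [hg]; infer_instance
    haveI : Etale g := Etale.of_comp g O.ι
    haveI : Surjective g := ⟨fun o => by
      obtain ⟨w, -, hw⟩ := o.2
      refine ⟨w, O.ι.isOpenEmbedding.injective ?_⟩
      rw [← Scheme.Hom.comp_apply, hg]; exact hw⟩
    refine ⟨O, ⟨⟨u', hu'⟩, trivial, rfl⟩, EtLocProp.srcDescent g _ ?_⟩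
    rw [reassoc_of% hg, ← e, ← Category.assoc]
    exact EtLocProp.comp_etale _ _ hW'

end AlgSpLib
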