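import Mathlib
/-!
# Lifting standard etale algebras and smooth algebra maps along arbitrary / nil ideals
-/

set_option autoImplicit false
universe u
open Polynomial

namespace AlgSpLib

theorem exists_standardEtalePair_near {A : Type u} [CommRing A] (I : Ideal A) (P : StandardEtalePair (A ⧸ I)) :
    ∃ Q : StandardEtalePair A, Q.f.map (Ideal.Quotient.mk I) = P.f ∧
      Q.g.map (Ideal.Quotient.mk I) = P.g * derivative P.f := by
  have hs := Polynomial.map_surjective (Ideal.Quotient.mk I) Ideal.Quotient.mk_surjective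
  obtain ⟨f, hf, hfm⟩ : ∃ f : A[X], f.map (Ideal.Quotient.mk I) = P.f ∧ f.Monic := by
    rcases subsingleton_or_nontrivial (A ⧸ I) with h | h
    · exact ⟨1, Subsingleton.elim _ _, monic_one⟩
    · obtain ⟨f, hf, -, hfm⟩ := Polynomial.lifts_and_degree_eq_and_monic
        (show P.f ∈ Polynomial.lifts (Ideal.Quotient.mk I) from hs P.f) P.monic_f
      exact ⟨f, hf, hfm⟩
  obtain ⟨g, hg⟩ := hs P.g
  refine ⟨⟨f, hfm, g * derivative f, g, 0, 1, by ring⟩, hf, ?_⟩
  rw [Polynomial.map_mul, hg, ← Polynomial.derivative_map, hf]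

theorem isUnit_aeval_derivative {A R : Type u} [CommRing A] [CommRing R] [Algebra A R]
    (P : StandardEtalePair A) {x : R} (h : P.HasMap x) : IsUnit (aeval x (derivative P.f)) := by
  obtain ⟨p₁, p₂, n, e⟩ := P.cond
  have := congrArg (aeval x) e
  rw [map_add, map_mul, map_mul, h.1, zero_mul, add_zero, map_pow] at this
  exact isUnit_of_mul_isUnit_left (this ▸ h.2.pow n)

/-- An etale algebra over `A ⧸ I` lifts, near each prime, to an etale algebra over `A`. -/
theorem exists_etale_lift_near_any {A : Type u} [CommRing A] (I : Ideal A)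
    {C : Type u} [CommRing C] [Algebra (A ⧸ I) C] [Algebra.Etale (A ⧸ I) C] (q : PrimeSpectrum C) :
    ∃ (B : Type u) (_ : CommRing B) (φ : A →+* B) (ψ : C →+* B ⧸ I.map φ),
      φ.Etale ∧ ψ.comp (algebraMap (A ⧸ I) C) = Ideal.quotientMap (I.map φ) φ Ideal.le_comap_map ∧
      ∃ Q : PrimeSpectrum B, (PrimeSpectrum.comap φ Q) =
        PrimeSpectrum.comap ((algebraMap (A ⧸ I) C).comp (Ideal.Quotient.mk I)) q := by
  obtain ⟨r, hr, hstd⟩ := Algebra.IsEtaleAt.exists_isStandardEtale (R := A ⧸ I) q.asIdeal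
  obtain ⟨Pp⟩ := hstd.nonempty_standardEtalePresentation
  obtain ⟨Q, hQf, hQg⟩ := exists_standardEtalePair_near I Pp.P
  let φ := algebraMap A Q.Ring
  let := (Ideal.quotientMap (I.map φ) φ Ideal.le_comap_map).toAlgebra
  have : IsScalarTower A (A ⧸ I) (Q.Ring ⧸ I.map φ) := IsScalarTower.of_algebraMap_eq fun x =>
    (Ideal.quotientMap_mk).symm
  let y : Q.Ring ⧸ I.map φ := Ideal.Quotient.mk _ Q.X
  have hy : Pp.P.HasMap y := by
    have h := Q.hasMap_X.map (Ideal.Quotient.mkₐ A (I.map φ))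
    have e : ∀ p : A[X], aeval y (p.map (Ideal.Quotient.mk I)) = aeval y p := fun p => by
      rw [← Ideal.Quotient.algebraMap_eq, Polynomial.aeval_map_algebraMap]
    refine ⟨?_, ?_⟩
    · rw [← hQf, e]; exact h.1
    · have h2 : IsUnit (aeval y Q.g) := h.2
      rw [← e, hQg, map_mul] at h2
      exact isUnit_of_mul_isUnit_left h2
  let ψ : C →ₐ[A ⧸ I] Q.Ring ⧸ I.map φ :=
    (Pp.P.lift y hy).comp ((Pp.equivRing : _ →ₐ[A ⧸ I] Pp.P.Ring).comp
      (IsScalarTower.toAlgHom (A ⧸ I) C (Localization.Away r)))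
  refine ⟨Q.Ring, inferInstance, φ, ψ, RingHom.etale_algebraMap.2 inferInstance, ψ.comp_algebraMap, ?_⟩
  -- the prime over `q`
  let := ((algebraMap (A ⧸ I) (Localization.Away r)).comp (Ideal.Quotient.mk I)).toAlgebra
  have : IsScalarTower A (A ⧸ I) (Localization.Away r) := IsScalarTower.of_algebraMap_eq fun _ => rfl
  have hx : Q.HasMap Pp.x := by
    have e : ∀ p : A[X], aeval Pp.x (p.map (Ideal.Quotient.mk I)) = aeval Pp.x p := fun p => by
      rw [← Ideal.Quotient.algebraMap_eq, Polynomial.aeval_map_algebraMap]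
    refine ⟨?_, ?_⟩
    · rw [← e, hQf]; exact Pp.hasMap.1
    · rw [← e, hQg, map_mul]
      exact Pp.hasMap.2.mul (isUnit_aeval_derivative Pp.P Pp.hasMap)
  obtain ⟨qr, hqr⟩ : q ∈ Set.range (PrimeSpectrum.comap (algebraMap C (Localization.Away r))) := by
    rw [PrimeSpectrum.localization_away_comap_range (Localization.Away r) r]
    exact hr
  refine ⟨PrimeSpectrum.comap (Q.lift Pp.x hx).toRingHom qr, ?_⟩
  rw [← hqr, ← PrimeSpectrum.comap_comp_apply, ← PrimeSpectrum.comap_comp_apply]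
  congr 1
  exact RingHom.ext fun a => ((Q.lift Pp.x hx).commutes a).trans (by
    change algebraMap (A ⧸ I) (Localization.Away r) _ = _
    rw [IsScalarTower.algebraMap_apply (A ⧸ I) C (Localization.Away r)]
    rfl)

/-- Smooth algebras lift maps along nil ideals. -/
theorem exists_lift_of_nil {A C B : Type u} [CommRing A] [CommRing C] [CommRing B] [Algebra A C]
    [Algebra A B] [Algebra.Smooth A C] (J : Ideal B) (hJ : ∀ x ∈ J, IsNilpotent x)
    (g : C →ₐ[A] B ⧸ J) : ∃ f : C →ₐ[A] B, (Ideal.Quotient.mkₐ A J).comp f = g := by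
  classical
  obtain ⟨n, π, hπ, hfg⟩ := (Algebra.FinitePresentation.out (R := A) (A := C))
  obtain ⟨s, hs⟩ := hfg
  choose x hx using fun i => Ideal.Quotient.mk_surjective (g (π (MvPolynomial.X i)))
  let F : MvPolynomial (Fin n) A →ₐ[A] B := MvPolynomial.aeval x
  have hF : (Ideal.Quotient.mkₐ A J).comp F = g.comp π := MvPolynomial.algHom_ext fun i => by
    simp [F, hx]
  let K : Ideal B := Ideal.span ((s.image F : Finset B) : Set B)
  have hmem : ∀ p ∈ RingHom.ker π, F p ∈ J := fun p hp => by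
    rw [← Ideal.Quotient.eq_zero_iff_mem]
    exact (DFunLike.congr_fun hF p).trans (by rw [AlgHom.comp_apply, RingHom.mem_ker.1 hp, map_zero])
  have hKJ : K ≤ J := Ideal.span_le.2 fun y hy => by
    rw [SetLike.mem_coe, Finset.mem_image] at hy
    obtain ⟨p, hp, rfl⟩ := hy
    exact hmem p (hs ▸ Ideal.subset_span hp)
  have hK : IsNilpotent K := Ideal.FG.isNilpotent_iff_le_nilradical ⟨_, rfl⟩ |>.2 fun y hy =>
    hJ y (hKJ hy)
  have hker : RingHom.ker π ≤ RingHom.ker ((Ideal.Quotient.mkₐ A K).comp F) := by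
    change RingHom.ker π.toRingHom ≤ _
    rw [← hs, Ideal.span_le]
    intro p hp
    exact Ideal.Quotient.eq_zero_iff_mem.2 (Ideal.subset_span (Finset.mem_image_of_mem F hp))
  let e := Ideal.quotientKerAlgEquivOfSurjective (f := π) hπ
  let g₀ : C →ₐ[A] B ⧸ K :=
    (Ideal.Quotient.liftₐ (RingHom.ker π) ((Ideal.Quotient.mkₐ A K).comp F) fun a ha => hker ha).comp
      e.symm.toAlgHom
  have hg₀ : ∀ p, g₀ (π p) = Ideal.Quotient.mk K (F p) := fun p => by
    have : e (Ideal.Quotient.mk (RingHom.ker π) p) = π p :=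
      Ideal.quotientKerAlgEquivOfSurjective_mk hπ p
    change Ideal.Quotient.liftₐ (RingHom.ker π) _ (fun a ha => hker ha) (e.symm (π p)) = _
    rw [← this, e.symm_apply_apply]
    rfl
  obtain ⟨f, hf⟩ := Algebra.FormallySmooth.exists_lift K hK g₀
  refine ⟨f, AlgHom.ext fun c => ?_⟩
  obtain ⟨p, rfl⟩ := hπ c
  have h1 : f (π p) - F p ∈ K := Ideal.Quotient.eq.1 ((DFunLike.congr_fun hf (π p)).trans (hg₀ p))
  exact (Ideal.Quotient.eq.2 (hKJ h1)).trans (DFunLike.congr_fun hF p)

end AlgSpLib
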