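import Groth.Agent.AlgSpLib.Fppf
/-!
# Descent of open subsets along fpqc coverings
-/

set_option autoImplicit false
universe u
open CategoryTheory CategoryTheory.Limits AlgebraicGeometry AlgSp Topology

namespace AlgSpLib

variable {S : Scheme.{u}}

theorem ofPt_map {F G : Sp S} {T : Over S} (a : (yon S).obj T ⟶ F) (f : F ⟶ G) (t : T.left) :
    Points.map f (Points.ofPt a t) = Points.ofPt (a ≫ f) t := by
  rw [Points.ofPt_eq_map_ofScheme, Points.ofPt_eq_map_ofScheme, Points.map_comp]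

theorem existsUnique_open_descend {ι : Type u} {T : Sp S} (hT : IsAlgSpace T) {Ti : ι → Sp S}
    {g : ∀ i, Ti i ⟶ T} (hg : IsFpqcCover Ti g) (Wi : ∀ i, Set (Points (Ti i)))
    (hW : ∀ i, IsOpen (Wi i))
    (hc : ∀ i j, Points.map (pullback.fst (g i) (g j)) ⁻¹' Wi i =
      Points.map (pullback.snd (g i) (g j)) ⁻¹' Wi j) :
    ∃! W : TopologicalSpace.Opens (Points T),
      ∀ i, Points.map (g i) ⁻¹' (W : Set (Points T)) = Wi i := by
  let W : Set (Points T) := {x | ∃ i, x ∈ Points.map (g i) '' Wi i}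
  have hpre : ∀ i, Points.map (g i) ⁻¹' W = Wi i := fun i => by
    ext y
    refine ⟨?_, fun hy => ⟨i, y, hy, rfl⟩⟩
    rintro ⟨j, y', hy', e⟩
    obtain ⟨w, hw1, hw2⟩ :=
      exists_point_isPullback (IsPullback.of_hasPullback (g i) (g j)) y y' e.symm
    have : w ∈ Points.map (pullback.snd (g i) (g j)) ⁻¹' Wi j := by
      change Points.map _ w ∈ Wi j
      rw [hw2]
      exact hy'
    rw [← hc i j] at this
    rw [← hw1]
    exact this
  have hopen : IsOpen W := by
    obtain ⟨U, a, ha, has⟩ := hT.atlas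
    rw [← (isQuotientMap_ofPt ha has).isOpen_preimage]
    refine isOpen_iff_forall_mem_open.2 fun u hu => ?_
    obtain ⟨Z, hZ, hu', -⟩ := exists_isAffineOpen_mem_and_subset (X := U.left) (x := u) (U := ⊤) trivial
    let Z' : Over S := Over.mk (Z.ι ≫ U.hom)
    let s : Z' ⟶ U := Over.homMk Z.ι rfl
    have : IsAffine Z'.left := hZ
    obtain ⟨V, c, J, Vj, t, hV, hcf, hcs, ht, htc, hl⟩ :=
      exists_affine_refinement hg Z' ((yon S).map s ≫ a)
    let h : (yon S).obj Z' ⟶ T := (yon S).map s ≫ a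
    have hVopen : IsOpen {v : V.left | Points.ofPt h (c.left v) ∈ W} := by
      refine isOpen_iff_forall_mem_open.2 fun v hv => ?_
      obtain ⟨j, w, rfl⟩ := htc v
      obtain ⟨i, l, hl⟩ := hl j
      have key : ∀ w', Points.ofPt l w' ∈ Wi i ↔ Points.ofPt h (c.left ((t j).left w')) ∈ W := by
        intro w'
        rw [← hpre i, Set.mem_preimage, ofPt_map, hl, ofPt_yon_comp]
        rfl
      refine ⟨(t j).left '' (Points.ofPt l ⁻¹' Wi i), ?_, (t j).left.isOpenEmbedding.isOpenMap _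
        ((hW i).preimage (Points.continuous_ofPt l)), w, (key w).2 hv, rfl⟩
      rintro _ ⟨w', hw', rfl⟩
      exact (key w').1 hw'
    have hZopen : IsOpen (Points.ofPt h ⁻¹' W) :=
      (Flat.isQuotientMap_of_surjective c.left).isOpen_preimage.1 hVopen
    refine ⟨s.left '' (Points.ofPt h ⁻¹' W), ?_, Z.ι.isOpenEmbedding.isOpenMap _ hZopen,
      ⟨u, hu'⟩, ?_, rfl⟩
    · rintro _ ⟨z, hz, rfl⟩
      change Points.ofPt a (s.left z) ∈ W
      rw [← ofPt_yon_comp]
      exact hz
    · change Points.ofPt h _ ∈ W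
      rw [ofPt_yon_comp]
      exact hu
  refine ⟨⟨W, hopen⟩, hpre, fun W' hW' => TopologicalSpace.Opens.ext (Set.ext fun x => ?_)⟩
  obtain ⟨i, y, rfl⟩ := exists_mem_range_of_fpqc hT hg x
  exact (Set.ext_iff.1 (hW' i) y).trans (Set.ext_iff.1 (hpre i) y).symm

end AlgSpLib
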