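import Groth.Agent.AlgSpLib.FlatEq
import Mathlib.AlgebraicGeometry.QuasiAffine
import Mathlib.AlgebraicGeometry.Morphisms.Flat
import Mathlib.AlgebraicGeometry.Morphisms.Affine
/-!
# Descent of quasi-affine schemes along flat morphisms of affine schemes

A descent datum on a quasi-affine `W'` over `T'` comes from an affine `W̄` over `T` with an open
immersion `W' ⟶ W̄ ×_T T'`.
-/

set_option autoImplicit false
set_option backward.isDefEq.respectTransparency false
universe u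
open CategoryTheory CategoryTheory.Limits AlgebraicGeometry TensorProduct

namespace AlgSpLib

theorem isPushout_appTop_of_flat {X Y Z P : Scheme.{u}} [CompactSpace X] [QuasiSeparatedSpace X]
    [IsAffine Y] [IsAffine Z] {fst : P ⟶ X} {snd : P ⟶ Y} {f : X ⟶ Z} {g : Y ⟶ Z} [Flat g]
    (h : IsPullback fst snd f g) : IsPushout f.appTop g.appTop fst.appTop snd.appTop := by
  have hUST : (⊤ : Y.Opens) ≤ g ⁻¹ᵁ ⊤ := by simp
  have hUSX : (⊤ : X.Opens) ≤ f ⁻¹ᵁ ⊤ := by simp
  have hUY : (⊤ : P.Opens) = fst ⁻¹ᵁ ⊤ ⊓ snd ⁻¹ᵁ ⊤ := by simp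
  have := (isIso_pushoutSection_iff h hUST hUSX hUY).mp
    (isIso_pushoutSection_of_isQuasiSeparated_of_flat_right h hUST hUSX hUY (isAffineOpen_top Z)
      (isAffineOpen_top Y) (by simpa using CompactSpace.isCompact_univ) (by simpa using isQuasiSeparated_univ))
  simpa [Scheme.Hom.appLE, Scheme.Hom.appTop] using this

/-- The tensor product of global sections is the global sections of a flat fibre product. -/
theorem exists_tensor_equiv {R S R' : Type u} [CommRing R] [CommRing S] [CommRing R'] [Algebra R S] [Algebra R R']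
    {D : CommRingCat.{u}} {a : CommRingCat.of R ⟶ CommRingCat.of S} {b : CommRingCat.of R ⟶ CommRingCat.of R'}
    {c : CommRingCat.of S ⟶ D} {d : CommRingCat.of R' ⟶ D} (H : IsPushout a b c d)
    (ha : a.hom = algebraMap R S) (hb : b.hom = algebraMap R R') :
    ∃ e : S ⊗[R] R' ≃+* D, ∀ s r, e (s ⊗ₜ r) = c.hom s * d.hom r := by
  have ha' : a = CommRingCat.ofHom (algebraMap R S) := CommRingCat.hom_ext ha
  have hb' : b = CommRingCat.ofHom (algebraMap R R') := CommRingCat.hom_ext hb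
  subst ha' hb'
  let i := (CommRingCat.isPushout_tensorProduct R S R').isoIsPushout _ _ H
  refine ⟨i.commRingCatIsoToRingEquiv, fun s r => ?_⟩
  have h1 : i.hom (s ⊗ₜ[R] 1) = c s :=
    congr($(IsPushout.inl_isoIsPushout_hom _ _ (CommRingCat.isPushout_tensorProduct R S R') H) s)
  have h2 : i.hom (1 ⊗ₜ[R] r) = d r :=
    congr($(IsPushout.inr_isoIsPushout_hom _ _ (CommRingCat.isPushout_tensorProduct R S R') H) r)
  change i.hom (s ⊗ₜ[R] r) = c s * d r
  rw [← h1, ← h2, ← map_mul, Algebra.TensorProduct.tmul_mul_tmul, mul_one, one_mul]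

variable {T T' W' : Scheme.{u}} [IsAffine T] [IsAffine T'] (q : T' ⟶ T) [Flat q] (pW : W' ⟶ T')

/-- The affine descent of a quasi-affine scheme with a descent datum. -/
theorem exists_affine_descent [W'.IsQuasiAffine] (d₀ : pullback (pW ≫ q) q ⟶ W')
    (hd₀ : d₀ ≫ pW = pullback.snd (pW ≫ q) q)
    (hsec : pullback.lift (𝟙 W') pW (Category.id_comp _) ≫ d₀ = 𝟙 W')
    (hco : ∀ (Z : Scheme.{u}) (y : Z ⟶ pullback (pW ≫ q) q) (t : Z ⟶ T')
      (w₁ : (y ≫ d₀) ≫ pW ≫ q = t ≫ q) (w₂ : (y ≫ pullback.fst _ _) ≫ pW ≫ q = t ≫ q),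
      pullback.lift (y ≫ d₀) t w₁ ≫ d₀ = pullback.lift (y ≫ pullback.fst _ _) t w₂ ≫ d₀) :
    ∃ (Wb : Scheme.{u}) (β : Wb ⟶ T) (h : W' ⟶ Wb) (w : h ≫ β = pW ≫ q),
      IsAffine Wb ∧ d₀ ≫ h = pullback.fst _ _ ≫ h ∧ IsOpenImmersion (pullback.lift h pW w) ∧
        (IsAffine W' → IsIso (pullback.lift h pW w)) := by
  letI algA : Algebra Γ(T, ⊤) Γ(T', ⊤) := q.appTop.hom.toAlgebra
  letI algB : Algebra Γ(T, ⊤) Γ(W', ⊤) := (pW ≫ q).appTop.hom.toAlgebra
  haveI : Module.Flat Γ(T, ⊤) Γ(T', ⊤) := q.flat_appTop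
  have sq := IsPullback.of_hasPullback (pW ≫ q) q
  haveI : QuasiCompact q := inferInstance
  haveI : QuasiSeparatedSpace W' := inferInstance
  obtain ⟨e, he⟩ := exists_tensor_equiv (isPushout_appTop_of_flat sq) rfl rfl
  let p : Γ(T', ⊤) →ₐ[Γ(T, ⊤)] Γ(W', ⊤) :=
    ⟨pW.appTop.hom, fun a => by
      change pW.appTop (q.appTop a) = (pW ≫ q).appTop a
      rw [Scheme.Hom.comp_appTop]; rfl⟩
  let φ : Γ(W', ⊤) →ₐ[Γ(T, ⊤)] Γ(W', ⊤) ⊗[Γ(T, ⊤)] Γ(T', ⊤) :=
    ⟨e.symm.toRingHom.comp d₀.appTop.hom, fun a => by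
      apply e.injective
      change e (e.symm (d₀.appTop ((pW ≫ q).appTop a))) = e ((pW ≫ q).appTop a ⊗ₜ 1)
      rw [e.apply_symm_apply, he, map_one, mul_one, ← CommRingCat.comp_apply, ← CommRingCat.comp_apply,
        ← Scheme.Hom.comp_appTop, ← Scheme.Hom.comp_appTop, reassoc_of% hd₀, ← pullback.condition]⟩
  have hφ : ∀ b, e (φ b) = d₀.appTop b := fun b => e.apply_symm_apply _
  have hφp : ∀ a, φ (p a) = 1 ⊗ₜ a := fun a => by
    apply e.injective
    rw [hφ, he, map_one, one_mul]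
    change d₀.appTop (pW.appTop a) = _
    rw [← CommRingCat.comp_apply, ← Scheme.Hom.comp_appTop, hd₀]
  let s := pullback.lift (f := pW ≫ q) (g := q) (𝟙 W') pW (Category.id_comp _)
  have hs : ∀ z, s.appTop (e z) = FlatEq.mulMap p z := fun z => by
    induction z using TensorProduct.induction_on with
    | zero => simp
    | tmul b a =>
      rw [he, map_mul]
      simp only [FlatEq.mulMap, Algebra.TensorProduct.lift_tmul, AlgHom.coe_id, id_eq]
      refine congrArg₂ (· * ·) ?_ ?_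
      · rw [← CommRingCat.comp_apply, ← Scheme.Hom.comp_appTop, pullback.lift_fst, Scheme.Hom.id_appTop]; rfl
      · change s.appTop ((pullback.snd (pW ≫ q) q).appTop a) = pW.appTop a
        rw [← CommRingCat.comp_apply, ← Scheme.Hom.comp_appTop, pullback.lift_snd]
    | add x y hx hy => simp [hx, hy]
  have hμ : ∀ b, FlatEq.mulMap p (φ b) = b := fun b => by
    rw [← hs, hφ, ← CommRingCat.comp_apply, ← Scheme.Hom.comp_appTop, hsec, Scheme.Hom.id_appTop]
    rfl
  -- the triple product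
  letI algC : Algebra Γ(T, ⊤) Γ(pullback (pW ≫ q) q, ⊤) :=
    (pullback.fst (pW ≫ q) q ≫ pW ≫ q).appTop.hom.toAlgebra
  haveI : CompactSpace ↥(pullback (pW ≫ q) q) :=
    QuasiCompact.compactSpace_of_compactSpace (pullback.fst (pW ≫ q) q)
  haveI : QuasiSeparatedSpace ↥(pullback (pW ≫ q) q) :=
    quasiSeparatedSpace_of_quasiSeparated (pullback.fst (pW ≫ q) q)
  have sq₃ := IsPullback.of_hasPullback (pullback.fst (pW ≫ q) q ≫ pW ≫ q) q
  obtain ⟨e₃, he₃⟩ := exists_tensor_equiv (isPushout_appTop_of_flat sq₃) rfl rfl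
  let eA : Γ(W', ⊤) ⊗[Γ(T, ⊤)] Γ(T', ⊤) ≃ₐ[Γ(T, ⊤)] Γ(pullback (pW ≫ q) q, ⊤) :=
    AlgEquiv.ofRingEquiv (f := e) fun a => by
      change e ((pW ≫ q).appTop a ⊗ₜ 1) = (pullback.fst (pW ≫ q) q ≫ pW ≫ q).appTop a
      rw [he, map_one, mul_one]; rfl
  let pr := pullback.fst (pullback.fst (pW ≫ q) q ≫ pW ≫ q) q
  let pt := pullback.snd (pullback.fst (pW ≫ q) q ≫ pW ≫ q) q
  have w₁ : (pr ≫ d₀) ≫ pW ≫ q = pt ≫ q := by
    simp only [Category.assoc, reassoc_of% hd₀, ← pullback.condition, pr, pt]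
  have w₂ : (pr ≫ pullback.fst _ _) ≫ pW ≫ q = pt ≫ q := by
    simp only [Category.assoc, ← pullback.condition, pr, pt]
  let Θ := e₃.toRingHom.comp (Algebra.TensorProduct.map eA.toAlgHom (AlgHom.id Γ(T, ⊤) Γ(T', ⊤))).toRingHom
  have hΘ : Function.Injective Θ :=
    e₃.injective.comp (Algebra.TensorProduct.congr eA AlgEquiv.refl).injective
  have h₁ : ∀ z, Θ (Algebra.TensorProduct.map φ (AlgHom.id _ _) z) =
      (pullback.lift (f := pW ≫ q) (g := q) (pr ≫ d₀) pt w₁).appTop (e z) := fun z => by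
    induction z using TensorProduct.induction_on with
    | zero => simp
    | tmul b a =>
      change e₃ (e (φ b) ⊗ₜ[Γ(T, ⊤)] a) = _
      rw [he₃, hφ, he, map_mul]
      simp only [← CommRingCat.comp_apply, ← Scheme.Hom.comp_appTop, pullback.lift_fst, pullback.lift_snd]
      rfl
    | add x y hx hy => simp only [map_add, hx, hy]
  have h₂ : ∀ z, Θ (Algebra.TensorProduct.map (Algebra.TensorProduct.includeLeft :
      Γ(W', ⊤) →ₐ[Γ(T, ⊤)] Γ(W', ⊤) ⊗[Γ(T, ⊤)] Γ(T', ⊤)) (AlgHom.id _ _) z) =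
      (pullback.lift (f := pW ≫ q) (g := q) (pr ≫ pullback.fst _ _) pt w₂).appTop (e z) := fun z => by
    induction z using TensorProduct.induction_on with
    | zero => simp
    | tmul b a =>
      change e₃ (e (b ⊗ₜ 1) ⊗ₜ[Γ(T, ⊤)] a) = _
      rw [he₃, he, map_one, mul_one, he, map_mul]
      simp only [← CommRingCat.comp_apply, ← Scheme.Hom.comp_appTop, pullback.lift_fst, pullback.lift_snd]
      rfl
    | add x y hx hy => simp only [map_add, hx, hy]
  have hcoalg : ∀ b, Algebra.TensorProduct.map φ (AlgHom.id _ _) (φ b) =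
      Algebra.TensorProduct.map (Algebra.TensorProduct.includeLeft :
        Γ(W', ⊤) →ₐ[Γ(T, ⊤)] Γ(W', ⊤) ⊗[Γ(T, ⊤)] Γ(T', ⊤)) (AlgHom.id _ _) (φ b) := fun b => by
    apply hΘ
    rw [h₁, h₂, hφ, ← CommRingCat.comp_apply, ← CommRingCat.comp_apply, ← Scheme.Hom.comp_appTop,
      ← Scheme.Hom.comp_appTop, hco _ pr pt w₁ w₂]
  -- the descended scheme
  let B := FlatEq.fixed φ
  let ι : CommRingCat.of B ⟶ Γ(W', ⊤) := CommRingCat.ofHom B.val.toRingHom
  let st : Γ(T, ⊤) ⟶ CommRingCat.of B := CommRingCat.ofHom (algebraMap Γ(T, ⊤) B)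
  let β : Spec (CommRingCat.of B) ⟶ T := Spec.map st ≫ T.isoSpec.inv
  let h : W' ⟶ Spec (CommRingCat.of B) := W'.toSpecΓ ≫ Spec.map ι
  have hh : h.appTop = (Scheme.ΓSpecIso (CommRingCat.of B)).hom ≫ ι := by
    simp only [h, Scheme.Hom.comp_appTop, Scheme.toSpecΓ_appTop, Scheme.ΓSpecIso_naturality]
  have w : h ≫ β = pW ≫ q := by
    have : st ≫ ι = (pW ≫ q).appTop := CommRingCat.hom_ext (RingHom.ext fun a => rfl)
    simp only [h, β, Category.assoc, ← Spec.map_comp_assoc, this, ← Scheme.toSpecΓ_naturality_assoc]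
    simp
  have hd : d₀ ≫ h = pullback.fst _ _ ≫ h := by
    refine ext_of_isAffine ?_
    simp only [Scheme.Hom.comp_appTop, hh, Category.assoc]
    congr 1
    ext b
    change d₀.appTop (b : Γ(W', ⊤)) = (pullback.fst (pW ≫ q) q).appTop (b : Γ(W', ⊤))
    rw [← hφ, show φ (b : Γ(W', ⊤)) = (b : Γ(W', ⊤)) ⊗ₜ 1 from b.2, he, map_one, mul_one]
  refine ⟨Spec (CommRingCat.of B), β, h, w, inferInstance, hd, ?_⟩
  let P := pullback β q
  have hP : IsPushout β.appTop q.appTop (pullback.fst β q).appTop (pullback.snd β q).appTop :=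
    isPushout_appTop_of_isPullback (IsPullback.of_hasPullback β q)
  have hβ : β.appTop ≫ (Scheme.ΓSpecIso (CommRingCat.of B)).hom = st := by
    simp [β, Scheme.Hom.comp_appTop, Scheme.isoSpec, Scheme.toSpecΓ_appTop]
  have hP' : IsPushout (C := CommRingCat) st q.appTop
      ((Scheme.ΓSpecIso (CommRingCat.of B)).inv ≫ (pullback.fst β q).appTop) (pullback.snd β q).appTop :=
    hP.of_iso (Iso.refl _) (Scheme.ΓSpecIso (CommRingCat.of B)) (Iso.refl _) (Iso.refl _)
      (by simp [hβ]) (by simp) (by simp) (by simp)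
  obtain ⟨eP, heP⟩ := exists_tensor_equiv hP' rfl rfl
  let k := pullback.lift h pW w
  have hk : ∀ z, k.appTop (eP z) = FlatEq.comparison p φ z := fun z => by
    induction z using TensorProduct.induction_on with
    | zero => simp
    | tmul b a =>
      rw [heP, FlatEq.comparison_tmul, map_mul]
      refine congrArg₂ (· * ·) ?_ ?_
      · change k.appTop ((pullback.fst β q).appTop ((Scheme.ΓSpecIso (CommRingCat.of B)).inv b)) = _
        rw [← CommRingCat.comp_apply, ← Scheme.Hom.comp_appTop, pullback.lift_fst, hh,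
          ← CommRingCat.comp_apply, Iso.inv_hom_id_assoc]
        rfl
      · rw [← CommRingCat.comp_apply, ← Scheme.Hom.comp_appTop, pullback.lift_snd]; rfl
    | add x y hx hy => simp [hx, hy]
  haveI : IsIso k.appTop := by
    rw [ConcreteCategory.isIso_iff_bijective]
    refine (Function.Bijective.of_comp_iff k.appTop eP.bijective).mp ?_
    rw [show (⇑k.appTop ∘ ⇑eP) = ⇑(FlatEq.comparison p φ) from funext hk]
    exact FlatEq.bijective_comparison p φ hφp hμ hcoalg
  have hkk : k = W'.toSpecΓ ≫ Spec.map k.appTop ≫ P.isoSpec.inv := by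
    rw [← Scheme.toSpecΓ_naturality_assoc]; simp [Scheme.isoSpec, P, k]
  refine ⟨?_, fun _ => ?_⟩
  · change IsOpenImmersion k
    rw [hkk]; infer_instance
  · change IsIso k
    rw [hkk]; infer_instance

end AlgSpLib
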