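import Groth.Agent.AlgSpLib.SheafDesc
import Groth.Agent.AlgSpLib.FormalLocal
import Groth.Prelude.Def_AlgSpGpd
import Mathlib.CategoryTheory.Sites.LocallyInjective
/-!
# Effectivity of pre-equivalence relations of fppf sheaves
-/

set_option autoImplicit false
set_option backward.isDefEq.respectTransparency false
set_option backward.isDefEq.respectTransparency.types false
universe u
open CategoryTheory CategoryTheory.Limits AlgebraicGeometry Opposite AlgSp

namespace AlgSpLib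

variable {S : Scheme.{u}} {R U : Sp S} (s t : R ⟶ U)

/-- The presheaf quotient by a relation. -/
noncomputable def quotRelPsh : (Over S)ᵒᵖ ⥤ Type (u + 1) where
  obj T := Quot fun x y : U.obj.obj T => ∃ r : R.obj.obj T, t.hom.app T r = x ∧ s.hom.app T r = y
  map {T T'} g := TypeCat.ofHom (Quot.map (U.obj.map g) fun x y ⟨r, h1, h2⟩ => ⟨R.obj.map g r,
    by rw [← h1]; exact ConcreteCategory.congr_hom (t.hom.naturality g) r,
    by rw [← h2]; exact ConcreteCategory.congr_hom (s.hom.naturality g) r⟩)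
  map_id T := by
    refine ConcreteCategory.hom_ext _ _ fun x => ?_
    induction x using Quot.ind with
    | _ x => exact congrArg (Quot.mk _) (by simp)
  map_comp f g := by
    refine ConcreteCategory.hom_ext _ _ fun x => ?_
    induction x using Quot.ind with
    | _ x => exact congrArg (Quot.mk _) (by simp)

noncomputable def quotPshπ : U.obj ⟶ quotRelPsh s t where
  app T := TypeCat.ofHom (Quot.mk _)

/-- Points with equal image in the quotient sheaf are locally related. -/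
theorem exists_rel_of_quotSp_eq (h : IsPreEqvRelSp s t) {T : Over S} (a b : (yon S).obj T ⟶ U)
    (e : a ≫ quotSpπ s t = b ≫ quotSpπ s t) :
    ∃ (V : T.left → Over S) (g : ∀ x, V x ⟶ T), (∀ x, Flat (g x).left) ∧
      (∀ x, LocallyOfFinitePresentation (g x).left) ∧ (∀ x, x ∈ Set.range (g x).left) ∧
      ∀ x, ∃ r : (yon S).obj (V x) ⟶ R, r ≫ t = (yon S).map (g x) ≫ a ∧ r ≫ s = (yon S).map (g x) ≫ b := by
  let Q : Sp S := (presheafToSheaf (AlgSp.J S) (Type (u + 1))).obj (quotRelPsh s t)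
  let π : U ⟶ Q := ⟨quotPshπ s t ≫ toSheafify (AlgSp.J S) (quotRelPsh s t)⟩
  have w : s ≫ π = t ≫ π := by
    ext T r
    exact congrArg ((toSheafify (AlgSp.J S) (quotRelPsh s t)).app T) (Quot.sound ⟨r, rfl, rfl⟩).symm
  have e' : a ≫ π = b ≫ π := by
    rw [← quotSpπ_desc s t π w, ← Category.assoc, e, Category.assoc]
  have e'' : (toSheafify (AlgSp.J S) (quotRelPsh s t)).app (op T) ((quotPshπ s t).app (op T) (yEq a)) =
      (toSheafify (AlgSp.J S) (quotRelPsh s t)).app (op T) ((quotPshπ s t).app (op T) (yEq b)) := by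
    have := congrArg yEq e'
    rw [yEq_comp, yEq_comp] at this
    exact this
  obtain ⟨V, g, hR, h₁, h₂, h₃⟩ := exists_family_of_mem (U := T)
    (Presheaf.equalizerSieve_mem (AlgSp.J S) (toSheafify (AlgSp.J S) (quotRelPsh s t)) _ _ e'')
  refine ⟨V, g, h₁, h₂, h₃, fun x => ?_⟩
  have hx := hR x
  change Quot.mk _ (U.obj.map (g x).op (yEq a)) = Quot.mk _ (U.obj.map (g x).op (yEq b)) at hx
  have heqv : _root_.Equivalence fun p q : U.obj.obj (op (V x)) =>
      ∃ r : R.obj.obj (op (V x)), t.hom.app (op (V x)) r = p ∧ s.hom.app (op (V x)) r = q := by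
    refine ⟨fun p => ?_, fun {p q} ⟨r, h1, h2⟩ => ?_, fun {p q l} ⟨r, h1, h2⟩ ⟨r', h1', h2'⟩ => ?_⟩
    · obtain ⟨r, h1, h2⟩ := (h (V x)).refl (yEq.symm p)
      exact ⟨yEq r, by rw [← yEq_comp, h1, Equiv.apply_symm_apply], by rw [← yEq_comp, h2, Equiv.apply_symm_apply]⟩
    · obtain ⟨r', h1', h2'⟩ := (h (V x)).symm (x := yEq.symm p) (y := yEq.symm q) ⟨yEq.symm r,
        yEq.injective (by rw [yEq_comp, Equiv.apply_symm_apply, Equiv.apply_symm_apply, h1]),
        yEq.injective (by rw [yEq_comp, Equiv.apply_symm_apply, Equiv.apply_symm_apply, h2])⟩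
      exact ⟨yEq r', by rw [← yEq_comp, h1', Equiv.apply_symm_apply], by rw [← yEq_comp, h2', Equiv.apply_symm_apply]⟩
    · obtain ⟨r'', h1'', h2''⟩ := (h (V x)).trans (x := yEq.symm p) (y := yEq.symm q) (z := yEq.symm l) ⟨yEq.symm r,
          yEq.injective (by rw [yEq_comp, Equiv.apply_symm_apply, Equiv.apply_symm_apply, h1]),
          yEq.injective (by rw [yEq_comp, Equiv.apply_symm_apply, Equiv.apply_symm_apply, h2])⟩ ⟨yEq.symm r',
          yEq.injective (by rw [yEq_comp, Equiv.apply_symm_apply, Equiv.apply_symm_apply, h1']),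
          yEq.injective (by rw [yEq_comp, Equiv.apply_symm_apply, Equiv.apply_symm_apply, h2'])⟩
      exact ⟨yEq r'', by rw [← yEq_comp, h1'', Equiv.apply_symm_apply], by rw [← yEq_comp, h2'', Equiv.apply_symm_apply]⟩
  obtain ⟨r, h1, h2⟩ := heqv.eqvGen_iff.1 (Quot.eqvGen_exact hx)
  exact ⟨yEq.symm r, yEq.injective (by rw [yEq_comp, yEq_map, Equiv.apply_symm_apply, h1]),
    yEq.injective (by rw [yEq_comp, yEq_map, Equiv.apply_symm_apply, h2])⟩

/-- Morphisms agreeing on an fppf family of a scheme agree. -/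
theorem eq_of_family {F : Sp S} {T : Over S} {V : T.left → Over S} (g : ∀ x, V x ⟶ T) (h₁ : ∀ x, Flat (g x).left)
    (h₂ : ∀ x, LocallyOfFinitePresentation (g x).left) (h₃ : ∀ x, x ∈ Set.range (g x).left)
    {a b : (yon S).obj T ⟶ F} (h : ∀ x, (yon S).map (g x) ≫ a = (yon S).map (g x) ≫ b) : a = b :=
  hom_ext_of_cover g h₁ h₂ (fun x => ⟨x, h₃ x⟩) h

/-- Related points have equal images in the quotient. -/
theorem quotSp_eq_of_rel {X : Sp S} (r : X ⟶ R) : (r ≫ t) ≫ quotSpπ s t = (r ≫ s) ≫ quotSpπ s t := by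
  rw [Category.assoc, Category.assoc, quotSp_condition]

instance epi_quotSpπ : Epi (quotSpπ s t) := inferInstanceAs (Epi (coequalizer.π s t))

/-- Points of the quotient lift locally. -/
theorem exists_lift_quotSp {T : Over S} (a : (yon S).obj T ⟶ quotSp s t) :
    ∃ (V : T.left → Over S) (g : ∀ x, V x ⟶ T), (∀ x, Flat (g x).left) ∧
      (∀ x, LocallyOfFinitePresentation (g x).left) ∧ (∀ x, x ∈ Set.range (g x).left) ∧
      ∀ x, ∃ l : (yon S).obj (V x) ⟶ U, l ≫ quotSpπ s t = (yon S).map (g x) ≫ a :=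
  haveI : Sheaf.IsLocallySurjective (quotSpπ s t) := (Sheaf.isLocallySurjective_iff_epi' (φ := quotSpπ s t)).2 inferInstance
  exists_lift_of_isLocallySurjective _ a

/-- A map of quotients is injective as soon as it reflects the relations. -/
theorem mono_of_rel {R' U' : Sp S} {s' t' : R' ⟶ U'} (hpre : IsPreEqvRelSp s t) (g : U' ⟶ U)
    (ψ : quotSp s' t' ⟶ quotSp s t) (hψ : quotSpπ s' t' ≫ ψ = g ≫ quotSpπ s t)
    (hlift : ∀ (T : Over S) (a b : (yon S).obj T ⟶ U') (r : (yon S).obj T ⟶ R), r ≫ t = a ≫ g → r ≫ s = b ≫ g →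
      a ≫ quotSpπ s' t' = b ≫ quotSpπ s' t') : Mono ψ := by
  refine mono_of_injective fun T a b e => ?_
  obtain ⟨V, c, h₁, h₂, h₃, hl⟩ := exists_lift_quotSp s' t' a
  refine eq_of_family c h₁ h₂ h₃ fun x => ?_
  obtain ⟨a₁, ha₁⟩ := hl x
  obtain ⟨V', c', k₁, k₂, k₃, kl⟩ := exists_lift_quotSp s' t' ((yon S).map (c x) ≫ b)
  refine eq_of_family c' k₁ k₂ k₃ fun y => ?_
  obtain ⟨b₁, hb₁⟩ := kl y
  have hab : ((yon S).map (c' y) ≫ a₁ ≫ g) ≫ quotSpπ s t = (b₁ ≫ g) ≫ quotSpπ s t := by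
    simp only [Category.assoc, ← hψ, reassoc_of% ha₁, reassoc_of% hb₁, e]
  obtain ⟨V'', c'', m₁, m₂, m₃, ml⟩ := exists_rel_of_quotSp_eq s t hpre _ _ hab
  refine eq_of_family c'' m₁ m₂ m₃ fun z => ?_
  obtain ⟨r, hr1, hr2⟩ := ml z
  have := hlift _ ((yon S).map (c'' z) ≫ (yon S).map (c' y) ≫ a₁) ((yon S).map (c'' z) ≫ b₁) r
    (by rw [hr1]; simp only [Category.assoc]) (by rw [hr2]; simp only [Category.assoc])
  simp only [Category.assoc] at this
  rwa [ha₁, hb₁] at this

end AlgSpLib
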