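import Groth.Agent.AlgSpLib.RepSpBase
import Mathlib.CategoryTheory.Limits.FunctorCategory.Basic
/-!
# Formal properties of maps of presheaves representable by algebraic spaces
-/

set_option autoImplicit false
set_option backward.isDefEq.respectTransparency false
set_option backward.isDefEq.respectTransparency.types false
universe u
open CategoryTheory CategoryTheory.Limits AlgebraicGeometry Opposite AlgSp

namespace AlgSpLib

variable {S : Scheme.{u}}

/-- Fibre products of presheaves which are spaces. -/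
theorem isAlgSpaceP_of_isPullback {A B C W : PSp S} (hA : IsAlgSpaceP A) (hB : IsAlgSpaceP B)
    (hC : IsAlgSpaceP C) {f : A ⟶ C} {g : B ⟶ C} {p : W ⟶ A} {q : W ⟶ B} (sq : IsPullback p q f g) :
    IsAlgSpaceP W := by
  obtain ⟨hA₁, hA₂⟩ := hA
  obtain ⟨hB₁, hB₂⟩ := hB
  obtain ⟨hC₁, hC₂⟩ := hC
  have hW : Presheaf.IsSheaf (J S) W :=
    isSheaf_of_isPullback (F := ⟨A, hA₁⟩) (G := ⟨C, hC₁⟩) (H := ⟨B, hB₁⟩) sq
  refine ⟨hW, isAlgSpace_of_isPullback hA₂ hB₂ hC₂ (W := ⟨W, hW⟩)
    (fst := ObjectProperty.homMk p) (snd := ObjectProperty.homMk q) (f := ObjectProperty.homMk f)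
    (g := ObjectProperty.homMk g) ?_⟩
  exact IsPullback.of_map_of_faithful (sheafToPresheaf (J S) (Type (u + 1))) sq

lemma isAlgSpaceP_pyon (U : Over S) : IsAlgSpaceP ((pyon S).obj U) :=
  (isAlgSpaceP_obj_iff _).2 (IsAlgSpace.yon_obj U)

instance repBySp_isStableUnderBaseChange : (RepBySp (S := S)).IsStableUnderBaseChange where
  of_isPullback {X Y Y' P f g f' g'} sq h := fun U ξ F' fst snd sq' =>
    h (ξ ≫ f) (fst ≫ f') snd ((sq'.flip.paste_vert sq.flip).flip)

theorem isAlgSpaceP_of_repBySp_pullback {A B F' X : PSp S} {a : A ⟶ B} (ha : RepBySp a) (hX : IsAlgSpaceP X)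
    {ξ : X ⟶ B} {fst : F' ⟶ A} {snd : F' ⟶ X} (sq : IsPullback fst snd a ξ) : IsAlgSpaceP F' :=
  isAlgSpaceP_of_repBySp (MorphismProperty.of_isPullback (P := RepBySp (S := S)) sq ha) hX

theorem repBySp_comp {F G H : PSp S} {a : F ⟶ G} {b : G ⟶ H} (ha : RepBySp a) (hb : RepBySp b) :
    RepBySp (a ≫ b) := by
  intro U ξ F' fst snd sq
  have hP := IsPullback.of_hasPullback b ξ
  have hX := hb ξ _ _ hP
  exact isAlgSpaceP_of_repBySp_pullback ha hX (IsPullback.of_right
    (h₁₁ := hP.lift (fst ≫ a) snd (by rw [Category.assoc]; exact sq.w))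
    (by rw [IsPullback.lift_snd]; exact sq.flip) (by rw [IsPullback.lift_fst]) hP.flip).flip

theorem repBySp_prodMap_id {A B : PSp S} {a : A ⟶ B} (ha : RepBySp a) (C : PSp S) :
    RepBySp (prod.map a (𝟙 C)) :=
  MorphismProperty.of_isPullback (IsPullback.of_prod_fst_with_id a C) ha

theorem repBySp_prodMap {F₁ G₁ F₂ G₂ : PSp S} {a₁ : F₁ ⟶ G₁} {a₂ : F₂ ⟶ G₂} (h₁ : RepBySp a₁)
    (h₂ : RepBySp a₂) : RepBySp (prod.map a₁ a₂) := by
  have h : RepBySp (prod.map (𝟙 G₁) a₂) := by
    have e : prod.map (𝟙 G₁) a₂ = (prod.braiding G₁ F₂).hom ≫ prod.map a₂ (𝟙 G₁) ≫ (prod.braiding G₂ G₁).hom := by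
      apply prod.hom_ext <;> simp only [prod.braiding_hom, Category.assoc, prod.lift_fst, prod.lift_snd,
        prod.map_fst, prod.map_snd, Category.comp_id, prod.lift_fst_assoc, prod.lift_snd_assoc]
    rw [e]
    exact (MorphismProperty.cancel_left_of_respectsIso RepBySp _ _).2
      ((MorphismProperty.cancel_right_of_respectsIso RepBySp _ _).2 (repBySp_prodMap_id h₂ G₁))
  have e : prod.map a₁ a₂ = prod.map a₁ (𝟙 F₂) ≫ prod.map (𝟙 G₁) a₂ := by
    apply prod.hom_ext <;> simp only [Category.assoc, prod.map_fst, prod.map_snd, prod.map_fst_assoc,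
      prod.map_snd_assoc, Category.comp_id, Category.id_comp]
  rw [e]
  exact repBySp_comp (repBySp_prodMap_id h₁ F₂) h

theorem repBySp_diagonal {F G : PSp S} {a : F ⟶ G} (ha : RepBySp a) : RepBySp (pullback.diagonal a) := by
  intro U g F' fst snd sq
  let x := g ≫ pullback.fst a a
  let y := g ≫ pullback.snd a a
  have hV := IsPullback.of_hasPullback a (x ≫ a)
  let σ := hV.lift x (𝟙 _) (by simp)
  let τ := hV.lift y (𝟙 _) (by simp [x, y, pullback.condition])
  have hx : fst = snd ≫ x := by simpa [x] using congrArg (· ≫ pullback.fst a a) sq.w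
  have hy : fst = snd ≫ y := by simpa [y] using congrArg (· ≫ pullback.snd a a) sq.w
  have w : snd ≫ σ = snd ≫ τ := by
    apply hV.hom_ext <;> simp [σ, τ, ← hx, ← hy]
  refine isAlgSpaceP_of_isPullback (isAlgSpaceP_pyon U) (isAlgSpaceP_pyon U) (ha (x ≫ a) _ _ hV)
    (f := σ) (g := τ) (p := snd) (q := snd) ⟨⟨w⟩, ⟨PullbackCone.IsLimit.mk w
      (fun c => sq.lift (c.fst ≫ x) c.fst ?_) (fun c => sq.lift_snd _ _ _) (fun c => ?_) (fun c m h₁ _ => ?_)⟩⟩
  · have h₁ := congrArg (· ≫ pullback.fst a (x ≫ a)) c.condition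
    have h₂ := congrArg (· ≫ pullback.snd a (x ≫ a)) c.condition
    simp [σ, τ] at h₁ h₂
    apply pullback.hom_ext
    · simp [x]
    · simp [h₂, ← h₁, y, h₁]
  · have h₂ := congrArg (· ≫ pullback.snd a (x ≫ a)) c.condition
    simp [σ, τ] at h₂
    simp [h₂]
  · apply sq.hom_ext
    · rw [sq.lift_fst, hx, ← Category.assoc, h₁]
    · rw [sq.lift_snd, h₁]

theorem repBySp_of_postcomp {F G H : PSp S} {a : F ⟶ G} {b : G ⟶ H} (hΔ : RepBySp (pullback.diagonal b))
    (hab : RepBySp (a ≫ b)) : RepBySp a := by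
  let Γ : F ⟶ pullback (a ≫ b) b := pullback.lift (𝟙 F) a (by simp)
  have e : a = Γ ≫ pullback.snd (a ≫ b) b := (pullback.lift_snd _ _ _).symm
  rw [e]
  refine repBySp_comp ?_ (MorphismProperty.of_isPullback (IsPullback.of_hasPullback (a ≫ b) b) hab)
  let m : pullback (a ≫ b) b ⟶ pullback b b :=
    pullback.lift (pullback.fst _ _ ≫ a) (pullback.snd _ _) (by rw [Category.assoc]; exact pullback.condition)
  have w : a ≫ pullback.diagonal b = Γ ≫ m := by
    apply pullback.hom_ext
    · simp only [Category.assoc, pullback.diagonal_fst, Category.comp_id, Γ, m, pullback.lift_fst,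
        pullback.lift_fst_assoc]
      exact (Category.id_comp a).symm
    · simp only [Category.assoc, pullback.diagonal_snd, Category.comp_id, Γ, m, pullback.lift_snd]
  refine MorphismProperty.of_isPullback (f' := a) (g' := Γ) (f := m) ⟨⟨w⟩, ⟨PullbackCone.IsLimit.mk w
    (fun c => c.snd ≫ pullback.fst _ _) (fun c => ?_) (fun c => ?_) (fun c l _ h₂ => ?_)⟩⟩ hΔ
  · have h₁ := congrArg (· ≫ pullback.fst b b) c.condition
    simp [m] at h₁
    simp [h₁]
  · have h₁ := congrArg (· ≫ pullback.fst b b) c.condition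
    have h₂ := congrArg (· ≫ pullback.snd b b) c.condition
    simp [m] at h₁ h₂
    apply pullback.hom_ext <;> simp [Γ, ← h₁, ← h₂]
  · rw [← h₂]; simp [Γ]

/-- The diagonal is representable by spaces iff all maps from schemes are. -/
theorem repBySp_diag_iff {F : PSp S} :
    RepBySp (Limits.diag F) ↔ ∀ (T : Over S) (ξ : (pyon S).obj T ⟶ F), RepBySp ξ := by
  constructor
  · intro h T ξ U η F' fst snd sq
    have w : (fst ≫ ξ) ≫ Limits.diag F =
        (prod.lift fst snd ≫ inv (prodComparison (pyon S) T U)) ≫ prodComparison (pyon S) T U ≫ prod.map ξ η := by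
      apply prod.hom_ext <;> simp [sq.w]
    refine h (prodComparison (pyon S) T U ≫ prod.map ξ η) _ _ ⟨⟨w⟩, ⟨PullbackCone.IsLimit.mk w
      (fun c => sq.lift (c.snd ≫ (pyon S).map prod.fst) (c.snd ≫ (pyon S).map prod.snd) ?_)
      (fun c => ?_) (fun c => ?_) (fun c m _ h₂ => ?_)⟩⟩
    · have h₁ := congrArg (· ≫ prod.fst) c.condition
      have h₂ := congrArg (· ≫ prod.snd) c.condition
      simp [prodComparison] at h₁ h₂
      simp [← h₁, ← h₂]
    · have h₁ := congrArg (· ≫ prod.fst) c.condition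
      simp [prodComparison] at h₁
      simp [← h₁]
    · rw [← cancel_mono (prodComparison (pyon S) T U)]
      simp only [Category.assoc, IsIso.inv_hom_id, Category.comp_id]
      apply prod.hom_ext <;> simp [prodComparison]
    · apply sq.hom_ext
      · simpa [inv_prodComparison_map_fst] using congrArg (· ≫ (pyon S).map prod.fst) h₂
      · simpa [inv_prodComparison_map_snd] using congrArg (· ≫ (pyon S).map prod.snd) h₂
  · intro h T g F' fst snd sq
    let x := g ≫ prod.fst
    let y := g ≫ prod.snd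
    have hP := IsPullback.of_hasPullback x y
    have hx : fst = snd ≫ x := by simpa [x] using congrArg (· ≫ prod.fst) sq.w
    have hy : fst = snd ≫ y := by simpa [y] using congrArg (· ≫ prod.snd) sq.w
    let l : F' ⟶ pullback x y := hP.lift snd snd (by rw [← hx, ← hy])
    let j : pullback x y ⟶ (pyon S).obj (T ⨯ T) :=
      prod.lift (pullback.fst x y) (pullback.snd x y) ≫ inv (prodComparison (pyon S) T T)
    have hj₁ : j ≫ (pyon S).map prod.fst = pullback.fst x y := by simp [j, inv_prodComparison_map_fst]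
    have hj₂ : j ≫ (pyon S).map prod.snd = pullback.snd x y := by simp [j, inv_prodComparison_map_snd]
    have w : l ≫ j = snd ≫ (pyon S).map (prod.lift (𝟙 T) (𝟙 T)) := by
      rw [← cancel_mono (prodComparison (pyon S) T T)]
      apply prod.hom_ext <;>
        simp only [prodComparison, Category.assoc, prod.lift_fst, prod.lift_snd, hj₁, hj₂, ← Functor.map_comp,
          CategoryTheory.Functor.map_id, Category.comp_id, l, IsPullback.lift_fst, IsPullback.lift_snd]
    refine isAlgSpaceP_of_isPullback (h T x y (pullback.fst x y) (pullback.snd x y) hP) (isAlgSpaceP_pyon T)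
      (isAlgSpaceP_pyon (T ⨯ T)) (f := j) (g := (pyon S).map (prod.lift (𝟙 T) (𝟙 T))) (p := l) (q := snd)
      ⟨⟨w⟩, ⟨PullbackCone.IsLimit.mk w (fun c => sq.lift (c.snd ≫ x) c.snd ?_) (fun c => ?_)
        (fun c => sq.lift_snd _ _ _) (fun c m _ h₂ => ?_)⟩⟩
    · have h₁ := congrArg (· ≫ (pyon S).map prod.fst) c.condition
      have h₂ := congrArg (· ≫ (pyon S).map prod.snd) c.condition
      simp only [Category.assoc, hj₁, hj₂, ← Functor.map_comp, prod.lift_fst, prod.lift_snd,
        CategoryTheory.Functor.map_id, Category.comp_id] at h₁ h₂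
      apply prod.hom_ext
      · simp [x]
      · have := hP.w
        simp [x, y] at this ⊢
        rw [← h₁, Category.assoc, this, ← Category.assoc, h₂, h₁]
    · have h₁ := congrArg (· ≫ (pyon S).map prod.fst) c.condition
      have h₂ := congrArg (· ≫ (pyon S).map prod.snd) c.condition
      simp only [Category.assoc, hj₁, hj₂, ← Functor.map_comp, prod.lift_fst, prod.lift_snd,
        CategoryTheory.Functor.map_id, Category.comp_id] at h₁ h₂
      apply pullback.hom_ext <;> simp only [l, Category.assoc, IsPullback.lift_fst, IsPullback.lift_snd, sq.lift_snd]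
      · exact h₁.symm
      · exact h₂.symm
    · apply sq.hom_ext
      · rw [sq.lift_fst, hx, ← Category.assoc, h₂]
      · rw [sq.lift_snd, h₂]

end AlgSpLib
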