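import Groth.Agent.AlgSpLib.Sep
import Mathlib.AlgebraicGeometry.Morphisms.QuasiSeparated
/-!
# Separation criteria for algebraic spaces in terms of fibre products of affine charts
-/

set_option autoImplicit false
universe u
open CategoryTheory CategoryTheory.Limits AlgebraicGeometry Opposite AlgSp
open scoped TensorProduct

namespace AlgSpLib

variable {S : Scheme.{u}}

/-- A pullback of the diagonal over a test scheme sits in the fibre product of the two test maps,
as a pullback of the diagonal of the test scheme. -/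
theorem exists_isPullback_diag {F : Sp S} {Z W P : Over S} {g : (yon S).obj Z ⟶ F ⨯ F}
    {fst : (yon S).obj W ⟶ F} {snd : W ⟶ Z}
    (sq : IsPullback fst ((yon S).map snd) (Limits.diag F) g) {p q : P ⟶ Z}
    (sqP : IsPullback ((yon S).map p) ((yon S).map q) (g ≫ prod.fst) (g ≫ prod.snd)) :
    ∃ l : W ⟶ P, l ≫ p = snd ∧ l ≫ q = snd ∧
      IsPullback ((yon S).map snd) ((yon S).map l) (Limits.diag ((yon S).obj Z))
        (prod.lift ((yon S).map p) ((yon S).map q)) := by
  have h1 : fst = (yon S).map snd ≫ g ≫ prod.fst := by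
    have := congrArg (· ≫ prod.fst) sq.w
    simp only [Category.assoc] at this
    rwa [prod.lift_fst, Category.comp_id] at this
  have h2 : fst = (yon S).map snd ≫ g ≫ prod.snd := by
    have := congrArg (· ≫ prod.snd) sq.w
    simp only [Category.assoc] at this
    rwa [prod.lift_snd, Category.comp_id] at this
  have hc : (yon S).map snd ≫ g ≫ prod.fst = (yon S).map snd ≫ g ≫ prod.snd := h1.symm.trans h2
  obtain ⟨l, hl⟩ := (yon S).map_surjective (sqP.lift ((yon S).map snd) ((yon S).map snd) hc)
  have hlp : (yon S).map l ≫ (yon S).map p = (yon S).map snd := by rw [hl, sqP.lift_fst]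
  have hlq : (yon S).map l ≫ (yon S).map q = (yon S).map snd := by rw [hl, sqP.lift_snd]
  refine ⟨l, (yon S).map_injective (by rw [Functor.map_comp, hlp]),
    (yon S).map_injective (by rw [Functor.map_comp, hlq]),
    isPullback_of_forall_existsUnique ?_ fun T a b e => ?_⟩
  · apply prod.hom_ext
    · rw [Category.assoc, Category.assoc, prod.lift_fst, prod.lift_fst, Category.comp_id, hlp]
    · rw [Category.assoc, Category.assoc, prod.lift_snd, prod.lift_snd, Category.comp_id, hlq]
  · have ea : b ≫ (yon S).map p = a := by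
      have := congrArg (· ≫ prod.fst) e
      simp only [Category.assoc, prod.lift_fst, Category.comp_id] at this
      exact this.symm
    have eb : b ≫ (yon S).map q = a := by
      have := congrArg (· ≫ prod.snd) e
      simp only [Category.assoc, prod.lift_snd, Category.comp_id] at this
      exact this.symm
    have key : a ≫ g ≫ prod.fst = a ≫ g ≫ prod.snd := by
      calc a ≫ g ≫ prod.fst = b ≫ (yon S).map p ≫ g ≫ prod.fst := by rw [← Category.assoc b, ea]
        _ = b ≫ (yon S).map q ≫ g ≫ prod.snd := by rw [sqP.w]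
        _ = a ≫ g ≫ prod.snd := by rw [← Category.assoc b, eb]
    have hw : (a ≫ g ≫ prod.fst) ≫ Limits.diag F = a ≫ g := by
      apply prod.hom_ext
      · rw [Category.assoc, prod.lift_fst, Category.comp_id, Category.assoc]
      · rw [Category.assoc, prod.lift_snd, Category.comp_id, Category.assoc, key]
    refine ⟨sq.lift (a ≫ g ≫ prod.fst) a hw, ⟨sq.lift_snd _ _ _, sqP.hom_ext ?_ ?_⟩, fun m hm => sq.hom_ext ?_ ?_⟩
    · rw [Category.assoc, hlp, sq.lift_snd, ea]
    · rw [Category.assoc, hlq, sq.lift_snd, eb]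
    · rw [sq.lift_fst, h1, ← Category.assoc, hm.1]
    · rw [sq.lift_snd, hm.1]

/-- Representable diagonal properties, tested on the fibre products of affine charts. -/
theorem repWith_diag_of_affine {P : MorphismProperty Scheme.{u}} [IsZariskiLocalAtTarget P]
    {F : Sp S} (hF : IsAlgSpace F)
    (h : ∀ (Z W Pz : Over S) (snd : W ⟶ Z) (l : W ⟶ Pz) (p q : Pz ⟶ Z) (a b : (yon S).obj Z ⟶ F),
      IsAffine Z.left → IsPullback ((yon S).map p) ((yon S).map q) a b → l ≫ p = snd → l ≫ q = snd →
      IsClosedImmersion l.left → P snd.left) : RepWith P (Limits.diag F) := by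
  refine repWith_of_forall_affine hF.diag fun Z W hZ g fst snd sq => ?_
  obtain ⟨Pz, p, q, sqP⟩ := exists_isPullback_yon (g ≫ prod.fst) (g ≫ prod.snd)
    (hF.representable_from_yon _)
  obtain ⟨l, hlp, hlq, sql⟩ := exists_isPullback_diag sq sqP
  have : IsSeparated Z.hom := inferInstance
  have hd : RepWith @IsClosedImmersion (Limits.diag ((yon S).obj Z)) :=
    (repWith_diag_yon_iff _ Z).2 this.isClosedImmersion_diagonal
  exact h Z W Pz snd l p q _ _ hZ sqP hlp hlq
    ((repWith_yon_map_iff _ _).1 (repWith_of_isPullback sql hd))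

/-- The map to the product of two charts is a base change of the diagonal. -/
theorem left_lift_of_isPullback {P : MorphismProperty Scheme.{u}} [P.IsStableUnderBaseChange]
    {F : Sp S} (hF : RepWith P (Limits.diag F)) {U V W : Over S} {a : (yon S).obj U ⟶ F}
    {b : (yon S).obj V ⟶ F} {p : W ⟶ U} {q : W ⟶ V}
    (sq : IsPullback ((yon S).map p) ((yon S).map q) a b) :
    P (pullback.lift p.left q.left ((Over.w p).trans (Over.w q).symm)) := by
  haveI : P.RespectsIso := MorphismProperty.IsStableUnderBaseChange.respectsIso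
  have h := repWith_of_isPullback (isPullback_diag_prod sq) hF
  have e : prod.lift ((yon S).map p) ((yon S).map q) =
      (yon S).map (prod.lift p q) ≫ prodComparison (yon S) U V := by
    apply prod.hom_ext
    · rw [Category.assoc, prodComparison_fst, ← Functor.map_comp, prod.lift_fst, prod.lift_fst]
    · rw [Category.assoc, prodComparison_snd, ← Functor.map_comp, prod.lift_snd, prod.lift_snd]
  rw [e, MorphismProperty.cancel_right_of_respectsIso (RepWith P), repWith_yon_map_iff] at h
  have e2 : (prod.lift p q).left ≫ (Over.prodLeftIsoPullback U V).hom =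
      pullback.lift p.left q.left ((Over.w p).trans (Over.w q).symm) := by
    apply pullback.hom_ext
    · rw [Category.assoc, Over.prodLeftIsoPullback_hom_fst, pullback.lift_fst, ← Over.comp_left, prod.lift_fst]
    · rw [Category.assoc, Over.prodLeftIsoPullback_hom_snd, pullback.lift_snd, ← Over.comp_left, prod.lift_snd]
  rw [← e2]
  exact (P.cancel_right_of_respectsIso _ _).2 h

/-- For affine `U`, `V`, `W` and a separated base, `W ⟶ U ×_S V` is a closed immersion as soon as
the product map on global sections is surjective, and conversely. -/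
theorem productMap_surjective_aux {U V W : Over S} [IsAffine U.left] [IsAffine V.left]
    [IsAffine W.left] (p : W ⟶ U) (q : W ⟶ V) :
    (Function.Surjective (Algebra.TensorProduct.productMap p.left.appTop.hom.toIntAlgHom
        q.left.appTop.hom.toIntAlgHom) →
      IsClosedImmersion (pullback.lift p.left q.left ((Over.w p).trans (Over.w q).symm))) ∧
    (S.IsSeparated → IsClosedImmersion (pullback.lift p.left q.left ((Over.w p).trans (Over.w q).symm)) →
      Function.Surjective (Algebra.TensorProduct.productMap p.left.appTop.hom.toIntAlgHom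
        q.left.appTop.hom.toIntAlgHom)) := by
  letI : Algebra (ULift.{u} ℤ) Γ(U.left, ⊤) := ULift.algebra' ℤ _
  letI : Algebra (ULift.{u} ℤ) Γ(V.left, ⊤) := ULift.algebra' ℤ _
  letI : Algebra (ULift.{u} ℤ) Γ(W.left, ⊤) := ULift.algebra' ℤ _
  have hcast : ∀ (C : Type u) [CommRing C] (f : (ULift.{u} ℤ) →+* C) (g : (ULift.{u} ℤ) →+* C), f = g := fun C _ f g => by
    have e : f.comp ULift.ringEquiv.symm.toRingHom = g.comp ULift.ringEquiv.symm.toRingHom := RingHom.ext_int _ _
    exact RingHom.ext fun r => RingHom.congr_fun e r.down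
  let fA : Γ(U.left, ⊤) →ₐ[(ULift.{u} ℤ)] Γ(W.left, ⊤) := ⟨p.left.appTop.hom, RingHom.congr_fun (hcast _ (p.left.appTop.hom.comp (algebraMap (ULift.{u} ℤ) Γ(U.left, ⊤))) _)⟩
  let fB : Γ(V.left, ⊤) →ₐ[(ULift.{u} ℤ)] Γ(W.left, ⊤) := ⟨q.left.appTop.hom, RingHom.congr_fun (hcast _ (q.left.appTop.hom.comp (algebraMap (ULift.{u} ℤ) Γ(V.left, ⊤))) _)⟩
  let φ := Algebra.TensorProduct.productMap fA fB
  let ψ := Algebra.TensorProduct.productMap
    ((Algebra.TensorProduct.includeLeft : Γ(U.left, ⊤) →ₐ[(ULift.{u} ℤ)] TensorProduct (ULift.{u} ℤ) Γ(U.left, ⊤) Γ(V.left, ⊤)).toRingHom.toIntAlgHom)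
    ((Algebra.TensorProduct.includeRight : Γ(V.left, ⊤) →ₐ[(ULift.{u} ℤ)] TensorProduct (ULift.{u} ℤ) Γ(U.left, ⊤) Γ(V.left, ⊤)).toRingHom.toIntAlgHom)
  have hψ : Function.Surjective ψ := fun x => by
    induction x with
    | zero => exact ⟨0, map_zero _⟩
    | tmul a b => exact ⟨a ⊗ₜ b, by simp [ψ]⟩
    | add x y hx hy =>
      obtain ⟨x', rfl⟩ := hx
      obtain ⟨y', rfl⟩ := hy
      exact ⟨x' + y', map_add _ _ _⟩
  have hφψ : (φ ∘ ψ) = Algebra.TensorProduct.productMap p.left.appTop.hom.toIntAlgHom
      q.left.appTop.hom.toIntAlgHom := funext fun x => by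
    induction x with
    | zero => simp
    | tmul a b => simp [φ, ψ, fA, fB]
    | add x y hx hy => simp only [Function.comp_apply, map_add] at hx hy ⊢; rw [hx, hy]
  rw [← hφψ]
  suffices h : (Function.Surjective φ →
      IsClosedImmersion (pullback.lift p.left q.left ((Over.w p).trans (Over.w q).symm))) ∧
      (S.IsSeparated → IsClosedImmersion (pullback.lift p.left q.left ((Over.w p).trans (Over.w q).symm)) →
        Function.Surjective φ) from
    ⟨fun hs => h.1 hs.of_comp, fun hS hc => (h.2 hS hc).comp hψ⟩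
  let Z₀ := Spec (CommRingCat.of (ULift.{u} ℤ))
  let σA : Spec Γ(U.left, ⊤) ⟶ Z₀ := Spec.map (CommRingCat.ofHom (algebraMap (ULift.{u} ℤ) Γ(U.left, ⊤)))
  let σB : Spec Γ(V.left, ⊤) ⟶ Z₀ := Spec.map (CommRingCat.ofHom (algebraMap (ULift.{u} ℤ) Γ(V.left, ⊤)))
  let s : S ⟶ Z₀ := specULiftZIsTerminal.from S
  let m : pullback (U.hom ≫ s) (V.hom ≫ s) ⟶ pullback σA σB :=
    pullback.map _ _ _ _ U.left.isoSpec.hom V.left.isoSpec.hom (𝟙 _) (specULiftZIsTerminal.hom_ext _ _)
      (specULiftZIsTerminal.hom_ext _ _)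
  let κ := pullback.mapDesc U.hom V.hom s ≫ m ≫ (pullbackSpecIso (ULift.{u} ℤ) Γ(U.left, ⊤) Γ(V.left, ⊤)).hom
  have hκ : S.IsSeparated → IsClosedImmersion κ := fun _ => by
    haveI : IsSeparated s := by
      rw [show s = terminal.from S ≫ specULiftZIsTerminal.from _ from specULiftZIsTerminal.hom_ext _ _]
      infer_instance
    haveI : IsIso m := inferInstance
    infer_instance
  have hm₁ : ∀ {X : Scheme.{u}} (l : X ⟶ pullback U.hom V.hom),
      (l ≫ κ) ≫ (pullbackSpecIso (ULift.{u} ℤ) Γ(U.left, ⊤) Γ(V.left, ⊤)).inv ≫ pullback.fst σA σB = (l ≫ pullback.fst _ _) ≫ U.left.isoSpec.hom := by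
    intro X l
    simp only [κ, m, Category.assoc, Iso.hom_inv_id_assoc, pullback.lift_fst, pullback.lift_fst_assoc, Category.id_comp]
  have hm₂ : ∀ {X : Scheme.{u}} (l : X ⟶ pullback U.hom V.hom),
      (l ≫ κ) ≫ (pullbackSpecIso (ULift.{u} ℤ) Γ(U.left, ⊤) Γ(V.left, ⊤)).inv ≫ pullback.snd σA σB = (l ≫ pullback.snd _ _) ≫ V.left.isoSpec.hom := by
    intro X l
    simp only [κ, m, Category.assoc, Iso.hom_inv_id_assoc, pullback.lift_snd, pullback.lift_snd_assoc, Category.id_comp]
  have key : pullback.lift p.left q.left ((Over.w p).trans (Over.w q).symm) ≫ κ =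
      W.left.isoSpec.hom ≫ Spec.map (CommRingCat.ofHom φ.toRingHom) := by
    rw [← cancel_mono (pullbackSpecIso (ULift.{u} ℤ) Γ(U.left, ⊤) Γ(V.left, ⊤)).inv]
    apply pullback.hom_ext
    · rw [Category.assoc, Category.assoc]
      refine (hm₁ _).trans ?_
      simp only [pullback.lift_fst, Category.assoc]
      rw [pullbackSpecIso_inv_fst, ← Spec.map_comp, ← CommRingCat.ofHom_comp]
      have : φ.toRingHom.comp Algebra.TensorProduct.includeLeftRingHom = p.left.appTop.hom :=
        RingHom.ext fun x => by simp [φ, fA, fB]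
      rw [this, CommRingCat.ofHom_hom, Scheme.isoSpec_hom_naturality]
    · rw [Category.assoc, Category.assoc]
      refine (hm₂ _).trans ?_
      simp only [pullback.lift_snd, Category.assoc]
      rw [pullbackSpecIso_inv_snd, ← Spec.map_comp, ← CommRingCat.ofHom_comp]
      have : φ.toRingHom.comp ((Algebra.TensorProduct.includeRight (R := (ULift.{u} ℤ)) (A := Γ(U.left, ⊤)) (B := Γ(V.left, ⊤))) : Γ(V.left, ⊤) →+* _) =
          q.left.appTop.hom :=
        RingHom.ext fun x => by simp [φ, fA, fB]
      erw [this]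
      rw [CommRingCat.ofHom_hom, Scheme.isoSpec_hom_naturality]
  constructor
  · intro h
    haveI := IsClosedImmersion.spec_of_surjective (CommRingCat.ofHom φ.toRingHom) h
    haveI : IsClosedImmersion (pullback.lift p.left q.left ((Over.w p).trans (Over.w q).symm) ≫ κ) := by
      rw [key]; infer_instance
    haveI : IsSeparated κ := by
      haveI : IsSeparated (pullback.fst U.hom V.hom ≫ U.left.isoSpec.hom) := by
        haveI : IsSeparated V.hom := inferInstance
        infer_instance
      have e : κ ≫ (pullbackSpecIso (ULift.{u} ℤ) Γ(U.left, ⊤) Γ(V.left, ⊤)).inv ≫ pullback.fst σA σB =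
          pullback.fst U.hom V.hom ≫ U.left.isoSpec.hom := by
        have := hm₁ (𝟙 _)
        simpa only [Category.id_comp] using this
      haveI : IsSeparated (κ ≫ (pullbackSpecIso (ULift.{u} ℤ) Γ(U.left, ⊤) Γ(V.left, ⊤)).inv ≫ pullback.fst σA σB) := by
        rw [e]; infer_instance
      exact IsSeparated.of_comp κ ((pullbackSpecIso (ULift.{u} ℤ) Γ(U.left, ⊤) Γ(V.left, ⊤)).inv ≫ pullback.fst σA σB)
    exact IsClosedImmersion.of_comp _ κ
  · intro hS h
    haveI := hκ hS
    haveI : IsClosedImmersion (W.left.isoSpec.inv ≫ pullback.lift p.left q.left ((Over.w p).trans (Over.w q).symm) ≫ κ) :=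
      inferInstance
    rw [key, Iso.inv_hom_id_assoc] at this
    obtain ⟨-, h2⟩ := IsClosedImmersion.isAffine_surjective_of_isAffine (Spec.map (CommRingCat.ofHom φ.toRingHom))
    have h3 := Scheme.ΓSpecIso_naturality (CommRingCat.ofHom φ.toRingHom)
    intro y
    obtain ⟨x, hx⟩ := h2 ((Scheme.ΓSpecIso Γ(W.left, ⊤)).inv y)
    refine ⟨(Scheme.ΓSpecIso _).hom x, ?_⟩
    have := congr($h3 x)
    simp only [CommRingCat.comp_apply] at this
    refine this.symm.trans ?_
    rw [hx]
    exact congr($((Scheme.ΓSpecIso Γ(W.left, ⊤)).inv_hom_id) y)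

end AlgSpLib
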