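import Groth.Agent.AlgSpLib.OnePoint
import Groth.Agent.AlgSpLib.PureMono
import Groth.Agent.AlgSpLib.QAffDescent
import Mathlib.RingTheory.Flat.Equalizer
import Mathlib.RingTheory.Smooth.IntegralClosure

/-!
# Quotients by etale relations inside a separated quasi-finite space: algebra and scheme lemmas
-/

set_option autoImplicit false
set_option backward.isDefEq.respectTransparency false
set_option backward.isDefEq.respectTransparency.types false

universe u

open CategoryTheory CategoryTheory.Limits AlgebraicGeometry Opposite AlgSp Topology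
open scoped TensorProduct

namespace AlgSpLib

/-- An invariant element integral over a smooth base change comes from the integral closure of the invariants. -/
theorem exists_integralClosure_preimage {A AU AR B : Type u} [CommRing A] [CommRing AU] [CommRing AR] [CommRing B]
    [Algebra A AU] [Algebra A AR] [Algebra A B] [Algebra.Smooth A B] (s t : AU →ₐ[A] AR) (z : B ⊗[A] AU)
    (h : Algebra.TensorProduct.map (AlgHom.id B B) s z = Algebra.TensorProduct.map (AlgHom.id B B) t z)
    (hz : IsIntegral B z) :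
    ∃ z' : B ⊗[A] integralClosure A (AlgHom.equalizer s t),
      Algebra.TensorProduct.map (AlgHom.id B B)
        ((AlgHom.equalizer s t).val.comp (integralClosure A (AlgHom.equalizer s t)).val) z' = z := by
  let e := AlgHom.tensorEqualizerEquiv B B s t
  let z₁ := e.symm ⟨z, h⟩
  have hz₁ : Algebra.TensorProduct.map (AlgHom.id B B) (AlgHom.equalizer s t).val z₁ = z := by
    rw [← AlgHom.coe_tensorEqualizer B B s t z₁, ← AlgHom.tensorEqualizerEquiv_apply,
      AlgEquiv.apply_symm_apply]
  have hinj : Function.Injective (Algebra.TensorProduct.map (AlgHom.id B B) (AlgHom.equalizer s t).val) :=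
    Module.Flat.lTensor_preserves_injective_linearMap (M := B) (AlgHom.equalizer s t).val.toLinearMap
      Subtype.val_injective
  have hi : IsIntegral B z₁ := (isIntegral_algHom_iff _ hinj).1 (hz₁.symm ▸ hz)
  obtain ⟨z₂, hz₂⟩ := (TensorProduct.toIntegralClosure_bijective_of_smooth
    (R := A) (S := B) (B := AlgHom.equalizer s t)).2 ⟨z₁, hi⟩
  refine ⟨z₂, ?_⟩
  have hz₂' : Algebra.TensorProduct.map (AlgHom.id B B) (integralClosure A (AlgHom.equalizer s t)).val z₂ = z₁ :=
    congrArg Subtype.val hz₂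
  conv_rhs => rw [← hz₁, ← hz₂']
  rw [← AlgHom.comp_apply, ← Algebra.TensorProduct.map_comp]
  rfl

/-! ## Sections on schemes -/

/-- A scheme with an idempotent section: a section vanishing where the idempotent is one is killed by it. -/
lemma mul_eq_zero_of_restrict {X : Scheme.{u}} {e x : Γ(X, ⊤)} (he : IsIdempotentElem e)
    (h : ∀ y, (hy : y ∈ X.basicOpen e) → X.presheaf.germ ⊤ y trivial x = 0) : e * x = 0 := by
  refine TopCat.Presheaf.section_ext X.sheaf ⊤ _ _ fun y _ => ?_
  change X.presheaf.germ ⊤ y trivial (e * x) = X.presheaf.germ ⊤ y trivial 0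
  rw [map_zero, map_mul]
  by_cases hy : y ∈ X.basicOpen e
  · rw [h y hy, mul_zero]
  · rw [Scheme.mem_basicOpen (X := X) _ y (TopologicalSpace.Opens.mem_top y)] at hy
    rcases (IsLocalRing.isUnit_or_isUnit_one_sub_self (X.presheaf.germ ⊤ y trivial e)) with hu | hu
    · exact absurd hu hy
    · have h0 : (1 - X.presheaf.germ ⊤ y trivial e) * X.presheaf.germ ⊤ y trivial e = 0 := by
        rw [sub_mul, one_mul, ← map_mul, he.eq, sub_self]
      rw [(hu.mul_right_eq_zero).1 h0, zero_mul]

/-- Idempotent sections are determined by where they are invertible. -/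
lemma idempotent_eq_of_basicOpen {X : Scheme.{u}} {e f : Γ(X, ⊤)} (he : IsIdempotentElem e)
    (hf : IsIdempotentElem f) (h : X.basicOpen e = X.basicOpen f) : e = f := by
  refine TopCat.Presheaf.section_ext X.sheaf ⊤ _ _ fun y _ => ?_
  change X.presheaf.germ ⊤ y trivial e = X.presheaf.germ ⊤ y trivial f
  have key : ∀ g : Γ(X, ⊤), IsIdempotentElem g →
      (y ∈ X.basicOpen g → X.presheaf.germ ⊤ y trivial g = 1) ∧
        (y ∉ X.basicOpen g → X.presheaf.germ ⊤ y trivial g = 0) := fun g hg => by
    refine ⟨fun hy => ?_, fun hy => ?_⟩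
    · rw [Scheme.mem_basicOpen (X := X) _ y (TopologicalSpace.Opens.mem_top y)] at hy
      exact hy.mul_left_cancel (by rw [← map_mul, hg.eq, mul_one])
    · rw [Scheme.mem_basicOpen (X := X) _ y (TopologicalSpace.Opens.mem_top y)] at hy
      rcases (IsLocalRing.isUnit_or_isUnit_one_sub_self (X.presheaf.germ ⊤ y trivial g)) with hu | hu
      · exact absurd hu hy
      · refine (hu.mul_right_eq_zero).1 ?_
        rw [sub_mul, one_mul, ← map_mul, hg.eq, sub_self]
  by_cases hy : y ∈ X.basicOpen e
  · rw [(key e he).1 hy, (key f hf).1 (h ▸ hy)]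
  · rw [(key e he).2 hy, (key f hf).2 (h ▸ hy)]

/-- A clopen subset of an affine scheme is cut out by an idempotent. -/
lemma exists_idempotent_of_isClopen {X : Scheme.{u}} [IsAffine X] {s : Set X} (hs : IsClopen s) :
    ∃ e : Γ(X, ⊤), IsIdempotentElem e ∧ (X.basicOpen e : Set X) = s := by
  obtain ⟨e, he, h⟩ := PrimeSpectrum.exists_idempotent_basicOpen_eq_of_isClopen
    (hs.preimage X.isoSpec.inv.continuous)
  refine ⟨e, he, ?_⟩
  have h' : (X.isoSpec.inv ⁻¹ᵁ X.basicOpen e : Set _) = X.isoSpec.inv ⁻¹' s := by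
    rw [← IsAffineOpen.fromSpec_top, IsAffineOpen.fromSpec_preimage_basicOpen]
    rw [← IsAffineOpen.fromSpec_top] at h
    exact h.symm
  exact Set.preimage_injective.2 X.isoSpec.inv.surjective h'

/-- Sections supported on the open of an idempotent. -/
lemma exists_lift_idempotent {X : Scheme.{u}} [IsAffine X] {e : Γ(X, ⊤)} (he : IsIdempotentElem e)
    (f : Γ((X.basicOpen e).toScheme, ⊤)) :
    ∃ r : Γ(X, ⊤), (X.basicOpen e).ι.appTop r = f := by
  have hloc := (isAffineOpen_top X).isLocalization_basicOpen e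
  letI : Algebra Γ(X, ⊤) Γ(X, X.basicOpen e) :=
    (X.presheaf.map (homOfLE (X.basicOpen_le e)).op).hom.toAlgebra
  haveI : IsLocalization.Away e Γ(X, X.basicOpen e) := hloc
  obtain ⟨⟨r, ⟨_, n, rfl⟩⟩, hr⟩ := IsLocalization.surj (Submonoid.powers e) ((X.basicOpen e).topIso.hom f)
  refine ⟨r, ?_⟩
  have hu : algebraMap Γ(X, ⊤) Γ(X, X.basicOpen e) e = 1 :=
    (IsLocalization.Away.algebraMap_isUnit e).mul_left_cancel (by rw [← map_mul, he.eq, mul_one])
  simp only [map_pow, hu, one_pow, mul_one] at hr
  rw [Scheme.Opens.ι_appTop]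
  apply ((X.basicOpen e).topIso.commRingCatIsoToRingEquiv).injective
  change (X.basicOpen e).topIso.hom _ = (X.basicOpen e).topIso.hom f
  rw [hr, ← CommRingCat.comp_apply]
  congr 1
  simp [Scheme.Opens.topIso, ← Functor.map_comp]
  rfl

/-- An affine atlas with finite relation has an affine quotient. -/
theorem exists_affine_quotient {S : Scheme.{u}} {X : Sp S} {U R : Over S} [IsAffine U.left]
    {b : (yon S).obj U ⟶ X} [Sheaf.IsLocallySurjective b] {s t : R ⟶ U}
    (sq : IsPullback ((yon S).map t) ((yon S).map s) b b)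
    (hs : Mor2.IsFinLocFree s.left) (ht : Mor2.IsFinLocFree t.left) :
    ∃ (M : Over S) (m : U ⟶ M) (c : (yon S).obj M ≅ X), IsAffine M.left ∧ Flat m.left ∧ Surjective m.left ∧
      (yon S).map m ≫ c.hom = b := by
  let G := groupoidOfKernelPair sq
  obtain ⟨hs₁, hs₂, hs₃⟩ := hs
  obtain ⟨ht₁, ht₂, ht₃⟩ := ht
  haveI : IsAffine G.U := ‹IsAffine U.left›
  haveI : IsFinite G.s := hs₁
  haveI : Flat G.s := hs₂
  haveI : LocallyOfFinitePresentation G.s := hs₃
  haveI : IsFinite G.t := ht₁
  haveI : Flat G.t := ht₂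
  haveI : LocallyOfFinitePresentation G.t := ht₃
  haveI : IsAffine G.R := isAffine_of_isAffineHom G.s
  have heq := isEqvRel_of_kernelPair sq
  haveI : Mono G.j := by
    refine ⟨fun {T} x y hxy => kp_ext sq ?_ ?_⟩
    · change x ≫ G.t = y ≫ G.t
      have := congrArg (· ≫ pullback.fst G.pU G.pU) hxy
      simpa only [Grpd.GroupoidScheme.j, Category.assoc, pullback.lift_fst] using this
    · change x ≫ G.s = y ≫ G.s
      have := congrArg (· ≫ pullback.snd G.pU G.pU) hxy
      simpa only [Grpd.GroupoidScheme.j, Category.assoc, pullback.lift_snd] using this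
  obtain ⟨⟨hm₁, hm₂, hm₃⟩, φ, hφ₁, hφ₂⟩ := Groth.Agent.S1877.result S G
  have hw := (GrpdLib.isQuot_toQuot G).w
  have sqM : IsPullback G.t G.s G.toQuot G.toQuot := IsPullback.of_iso_pullback ⟨hw⟩ φ hφ₁ hφ₂
  obtain ⟨π, hπ, -⟩ := (GrpdLib.isQuot_toQuot G).existsUnique_desc G G.pU (G.t_over.trans G.s_over.symm)
  let M : Over S := Over.mk π
  let m' : U ⟶ M := Over.homMk G.toQuot hπ
  haveI : Flat m'.left := hm₂
  haveI : LocallyOfFinitePresentation m'.left := hm₃
  haveI : Surjective m'.left := ⟨(GrpdLib.isQuot_toQuot G).surj⟩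
  haveI := isLocallySurjective_yon_map m'
  have sqMU : IsPullback t s m' m' := isPullback_over sqM
  have sqY := sqMU.map (yon S)
  obtain ⟨c, hc⟩ := exists_desc ((yon S).map m') b fun T g g' e => by
    rw [← sqY.lift_fst _ _ e]
    conv_rhs => rw [← sqY.lift_snd _ _ e]
    rw [Category.assoc, Category.assoc, sq.w]
  obtain ⟨d, hd⟩ := exists_desc b ((yon S).map m') fun T g g' e => by
    rw [← sq.lift_fst _ _ e]
    conv_rhs => rw [← sq.lift_snd _ _ e]
    rw [Category.assoc, Category.assoc, sqY.w]
  refine ⟨M, m', ⟨c, d, (cancel_epi ((yon S).map m')).1 ?_, (cancel_epi b).1 ?_⟩,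
    inferInstanceAs (IsAffine (Spec _)), inferInstance, inferInstance, hc⟩
  · rw [← Category.assoc, hc, hd, Category.comp_id]
  · rw [← Category.assoc, hd, hc, Category.comp_id]

end AlgSpLib
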