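import Groth.Agent.AlgSpLib.Basic
import Mathlib.AlgebraicGeometry.Sites.Fpqc
import Mathlib.CategoryTheory.Sites.LocallySurjective
/-!
# Sheaf-level tools on the big fppf site: local equality, monomorphisms, isomorphisms
-/

set_option autoImplicit false
universe u
open CategoryTheory CategoryTheory.Limits AlgebraicGeometry Opposite AlgSp

namespace AlgSpLib

variable {S : Scheme.{u}}

theorem exists_mem_range_of_saturate {X : Scheme.{u}} {R : Sieve X}
    (h : Precoverage.Saturate Scheme.fppfPrecoverage X R) :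
    ∀ x : X, ∃ (Y : Scheme.{u}) (f : Y ⟶ X), R f ∧ x ∈ Set.range f := by
  induction h with
  | of X R hR =>
    intro x
    rw [Precoverage.mem_iff_exists_zeroHypercover] at hR
    obtain ⟨(𝒰 : Scheme.Cover _ _), rfl⟩ := hR
    obtain ⟨i, hx⟩ := ((Scheme.ofArrows_mem_precoverage_iff (@Flat ⊓ @LocallyOfFinitePresentation)).1 𝒰.mem₀).1 x
    obtain ⟨Y, f, hf, hx⟩ : ∃ Y f, Presieve.ofArrows 𝒰.X 𝒰.f f ∧ x ∈ Set.range (f : Y ⟶ X) :=
      ⟨_, 𝒰.f i, ⟨i⟩, hx⟩
    exact ⟨Y, f, Sieve.le_generate _ _ _ hf, hx⟩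
  | top X => intro x; exact ⟨X, 𝟙 X, trivial, x, rfl⟩
  | pullback X R _ Z g ih =>
    intro z
    obtain ⟨Y, f, hf, y, hy⟩ := ih (g z)
    obtain ⟨w, hw₁, hw₂⟩ := Scheme.Pullback.exists_preimage_pullback z y (f := g) (g := f) hy.symm
    exact ⟨_, pullback.fst g f, by simpa [pullback.condition] using R.downward_closed hf (pullback.snd g f),
      w, hw₁⟩
  | transitive X R R' _ _ ih ih' =>
    intro x
    obtain ⟨Y, f, hf, y, hy⟩ := ih x
    obtain ⟨Z, g, hg, z, hz⟩ := ih' hf y
    exact ⟨Z, g ≫ f, hg, z, by rw [Scheme.Hom.comp_apply, hz, hy]⟩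

/-- Coverings of the big fppf site are jointly surjective. -/
theorem exists_mem_range_of_mem_J {T : Over S} {R : Sieve T} (h : R ∈ AlgSp.J S T) (t : ↥T.left) :
    ∃ (T' : Over S) (f : T' ⟶ T), R f ∧ t ∈ Set.range f.left := by
  rw [GrothendieckTopology.mem_over_iff] at h
  obtain ⟨Y, f, hf, ht⟩ := exists_mem_range_of_saturate h t
  exact ⟨Over.mk (f ≫ T.hom), Over.homMk f rfl, (Sieve.overEquiv_iff _ _).1 hf, ht⟩

/-- A flat, locally finitely presented, surjective morphism generates a covering. -/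
theorem generate_singleton_mem_J {T T' : Over S} (t : T' ⟶ T) [Flat t.left]
    [LocallyOfFinitePresentation t.left] [Surjective t.left] :
    Sieve.generate (Presieve.singleton t) ∈ AlgSp.J S T := by
  rw [GrothendieckTopology.mem_over_iff, Sieve.overEquiv_generate]
  refine GrothendieckTopology.superset_covering _ ?_
    (Precoverage.generate_mem_toGrothendieck (Scheme.Hom.singleton_mem_fppfPrecoverage t.left))
  refine (Sieve.generate_le_iff _ _).2 ?_
  rintro _ _ ⟨⟩
  exact Sieve.le_generate _ _ _ ⟨T', t, 𝟙 _, ⟨⟩, (Category.id_comp _).symm⟩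

/-- Morphisms out of a scheme agree if they agree on an fppf cover. -/
theorem eq_of_comp_eq {F : Sp S} {T T' : Over S} (t : T' ⟶ T) [Flat t.left]
    [LocallyOfFinitePresentation t.left] [Surjective t.left] {a b : (yon S).obj T ⟶ F}
    (h : (yon S).map t ≫ a = (yon S).map t ≫ b) : a = b := by
  apply (AlgSp.J S).uliftYonedaEquiv.injective
  refine ((isSheaf_iff_isSheaf_of_type _ _).1 F.property _ (generate_singleton_mem_J t)).isSeparatedFor.ext ?_
  rintro Z f ⟨W, g, _, ⟨⟩, rfl⟩
  rw [GrothendieckTopology.uliftYonedaEquiv_naturality, GrothendieckTopology.uliftYonedaEquiv_naturality,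
    Functor.map_comp, Category.assoc, Category.assoc, h]

/-- A morphism of sheaves is a monomorphism if it is injective on morphisms from schemes. -/
theorem mono_of_injective {F G : Sp S} {f : F ⟶ G}
    (h : ∀ (T : Over S) (a b : (yon S).obj T ⟶ F), a ≫ f = b ≫ f → a = b) : Mono f := by
  refine ⟨fun {H} g₁ g₂ e => ?_⟩
  ext T x
  have := h T.unop ((AlgSp.J S).uliftYonedaEquiv.symm x ≫ g₁) ((AlgSp.J S).uliftYonedaEquiv.symm x ≫ g₂)
    (by rw [Category.assoc, Category.assoc, e])
  have := congrArg (AlgSp.J S).uliftYonedaEquiv this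
  rw [GrothendieckTopology.uliftYonedaEquiv_comp, GrothendieckTopology.uliftYonedaEquiv_comp,
    Equiv.apply_symm_apply] at this
  exact this

/-- A morphism of sheaves is an isomorphism if it is bijective on morphisms from schemes. -/
theorem isIso_of_bijective {F G : Sp S} {f : F ⟶ G}
    (h : ∀ (T : Over S), Function.Bijective fun a : (yon S).obj T ⟶ F => a ≫ f) : IsIso f := by
  have : IsIso ((sheafToPresheaf _ _).map f) := by
    rw [NatTrans.isIso_iff_isIso_app]
    intro T
    rw [isIso_iff_bijective]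
    have := ((AlgSp.J S).uliftYonedaEquiv (F := G) (X := T.unop)).bijective.comp
      ((h T.unop).comp ((AlgSp.J S).uliftYonedaEquiv (F := F) (X := T.unop)).symm.bijective)
    refine (congrArg Function.Bijective (funext fun x => ?_)).mp this
    simp only [Function.comp_apply]
    rw [GrothendieckTopology.uliftYonedaEquiv_comp, Equiv.apply_symm_apply]
    rfl
  exact isIso_of_reflects_iso f (sheafToPresheaf _ _)

/-- Cartesian squares of sheaves can be tested on morphisms from schemes. -/
theorem isPullback_of_forall_existsUnique {W F H G : Sp S} {fst : W ⟶ F} {snd : W ⟶ H} {f : F ⟶ G}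
    {g : H ⟶ G} (w : fst ≫ f = snd ≫ g)
    (h : ∀ (T : Over S) (a : (yon S).obj T ⟶ F) (b : (yon S).obj T ⟶ H), a ≫ f = b ≫ g →
      ∃! l : (yon S).obj T ⟶ W, l ≫ fst = a ∧ l ≫ snd = b) : IsPullback fst snd f g := by
  have : IsIso (pullback.lift fst snd w) := by
    refine isIso_of_bijective fun T => ⟨fun a b e => ?_, fun c => ?_⟩
    · have h1 := congrArg (· ≫ pullback.fst f g) e
      have h2 := congrArg (· ≫ pullback.snd f g) e
      simp only [Category.assoc, pullback.lift_fst, pullback.lift_snd] at h1 h2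
      exact (h T (a ≫ fst) (a ≫ snd) (by rw [Category.assoc, Category.assoc, w])).unique
        ⟨rfl, rfl⟩ ⟨h1.symm, h2.symm⟩
    · obtain ⟨l, hl, -⟩ := h T (c ≫ pullback.fst f g) (c ≫ pullback.snd f g)
        (by rw [Category.assoc, Category.assoc, pullback.condition])
      refine ⟨l, ?_⟩
      apply pullback.hom_ext
      · simp only [Category.assoc, pullback.lift_fst]; exact hl.1
      · simp only [Category.assoc, pullback.lift_snd]; exact hl.2
  exact IsPullback.of_iso_pullback ⟨w⟩ (asIso (pullback.lift fst snd w))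
    (pullback.lift_fst _ _ _) (pullback.lift_snd _ _ _)

variable {P : MorphismProperty Scheme.{u}}

theorem isIso_of_repWith (hP : ∀ {A B : Scheme.{u}} (g : A ⟶ B), P g → IsIso g) {F G : Sp S}
    {f : F ⟶ G} (hf : RepWith P f) : IsIso f := by
  refine isIso_of_bijective fun T => ?_
  have hi : ∀ b : (yon S).obj T ⟶ G, IsIso (hf.rep.snd b) := fun b => by
    have : IsIso ((Over.forget S).map (hf.rep.snd b)) := hP _ (hf.property_snd b)
    exact isIso_of_reflects_iso _ (Over.forget S)
  refine ⟨fun a a' e => ?_, fun b => ?_⟩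
  · have := hi (a ≫ f)
    have key : ∀ c : (yon S).obj T ⟶ F, ∀ he : c ≫ f = a ≫ f,
        c = (yon S).map (inv (hf.rep.snd (a ≫ f))) ≫ hf.rep.fst (a ≫ f) := by
      intro c he
      have h1 := hf.rep.lift_fst c (𝟙 T) (by simpa using he)
      have h2 : hf.rep.lift c (𝟙 T) (by simpa using he) = inv (hf.rep.snd (a ≫ f)) :=
        IsIso.eq_inv_of_inv_hom_id (hf.rep.lift_snd c (𝟙 T) (by simpa using he))
      rw [← h1, h2]
    exact (key a rfl).trans (key a' e.symm).symm
  · have := hi b
    refine ⟨(yon S).map (inv (hf.rep.snd b)) ≫ hf.rep.fst b, ?_⟩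
    simp only [Category.assoc, hf.rep.w, ← Functor.map_comp_assoc, IsIso.inv_hom_id]
    erw [(yon S).map_id]
    exact Category.id_comp _

theorem mono_of_repWith (hP : ∀ {A B : Scheme.{u}} (g : A ⟶ B), P g → Mono g) {F G : Sp S}
    {f : F ⟶ G} (hf : RepWith P f) : Mono f := by
  refine mono_of_injective fun T a b e => ?_
  have : Mono ((Over.forget S).map (hf.rep.snd (a ≫ f))) := hP _ (hf.property_snd _)
  have : Mono (hf.rep.snd (a ≫ f)) := (Over.forget S).mono_of_mono_map this
  have hb : b ≫ f = (yon S).map (𝟙 T) ≫ a ≫ f := by simpa using e.symm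
  have ha : a ≫ f = (yon S).map (𝟙 T) ≫ a ≫ f := by simp
  have h1 := hf.rep.lift_fst a (𝟙 T) ha
  have h2 := hf.rep.lift_fst b (𝟙 T) hb
  have : hf.rep.lift a (𝟙 T) ha = hf.rep.lift b (𝟙 T) hb := by
    rw [← cancel_mono (hf.rep.snd (a ≫ f))]
    rw [hf.rep.lift_snd, hf.rep.lift_snd]
  rw [← h1, ← h2, this]

/-- Representable, flat, locally finitely presented and surjective implies locally surjective. -/
theorem isLocallySurjective_of_repWith {F G : Sp S} {f : F ⟶ G} (h₁ : RepWith @Flat f)
    (h₂ : RepWith @LocallyOfFinitePresentation f) (h₃ : RepWith @Surjective f) :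
    Sheaf.IsLocallySurjective f := by
  refine ⟨fun {T} s => ?_⟩
  let b : (yon S).obj T ⟶ G := (AlgSp.J S).uliftYonedaEquiv.symm s
  have : Flat (h₁.rep.snd b).left := h₁.property_snd b
  have : LocallyOfFinitePresentation (h₁.rep.snd b).left := h₂.property b _ _ (h₁.rep.isPullback b)
  have : Surjective (h₁.rep.snd b).left := h₃.property b _ _ (h₁.rep.isPullback b)
  refine GrothendieckTopology.superset_covering _ ?_ (generate_singleton_mem_J (h₁.rep.snd b))
  refine (Sieve.generate_le_iff _ _).2 ?_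
  rintro _ _ ⟨⟩
  refine ⟨(AlgSp.J S).uliftYonedaEquiv (h₁.rep.fst b), ?_⟩
  have := congrArg (AlgSp.J S).uliftYonedaEquiv (h₁.rep.w b)
  rw [GrothendieckTopology.uliftYonedaEquiv_comp, ← GrothendieckTopology.uliftYonedaEquiv_naturality,
    Equiv.apply_symm_apply] at this
  exact this

end AlgSpLib
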