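import Groth.Prelude.Def_AlgSp
import Mathlib
/-!
# Extension of sheaves from `S` to `S'` along `g : S ⟶ S'`

The sheaf `shr g F` has sections over `T' : Over S'` the pairs of an `S`-structure `h` on `T'.left` lifting the
`S'`-structure and a section of `F` over `(T'.left, h)`.  It is the left adjoint of restriction, and identifies
sheaves over `S` with sheaves over `h_S`.
-/

set_option autoImplicit false
set_option backward.isDefEq.respectTransparency false
set_option backward.isDefEq.respectTransparency.types false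
universe u
open CategoryTheory CategoryTheory.Limits AlgebraicGeometry Opposite AlgSp

namespace AlgSpLib.Shriek

variable {S S' : Scheme.{u}} (g : S ⟶ S')

/-- A section of the extension. -/
structure El (F : Sp S) (T : Over S') : Type (u + 1) where
  h : T.left ⟶ S
  w : h ≫ g = T.hom
  x : F.obj.obj (op (Over.mk h))

variable {g}

/-- Base change of a section along a morphism of schemes. -/
abbrev re {X Y : Scheme.{u}} (φ : X ⟶ Y) (h : Y ⟶ S) (h' : X ⟶ S) (e : φ ≫ h = h') : Over.mk h' ⟶ Over.mk h :=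
  Over.homMk φ e

theorem map_map_apply {C : Type*} [Category C] (P : Cᵒᵖ ⥤ Type (u + 1)) {a b c : C} (f : b ⟶ a) (k : c ⟶ b)
    (x : P.obj (op a)) : P.map k.op (P.map f.op x) = P.map (k ≫ f).op x := by
  rw [op_comp, Functor.map_comp_apply]

theorem map_congr (F : Sp S) {a c : Over S} (p q : c ⟶ a) (h : p.left = q.left) (x : F.obj.obj (op a)) :
    F.obj.map p.op x = F.obj.map q.op x := by rw [Over.OverMorphism.ext h]

theorem map_eq_self (F : Sp S) {a : Over S} (p : a ⟶ a) (h : p.left = 𝟙 _) (x : F.obj.obj (op a)) :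
    F.obj.map p.op x = x := by
  rw [show p = 𝟙 a from Over.OverMorphism.ext h, op_id, Functor.map_id_apply]

theorem map_map_congr (F : Sp S) {a b c : Over S} (f : b ⟶ a) (k : c ⟶ b) (q : c ⟶ a)
    (h : k.left ≫ f.left = q.left) (x : F.obj.obj (op a)) :
    F.obj.map k.op (F.obj.map f.op x) = F.obj.map q.op x := by
  rw [map_map_apply]; exact map_congr F _ _ h x

theorem El.ext' {F : Sp S} {T : Over S'} {a b : El g F T} (hh : a.h = b.h)
    (hx : ∀ e, F.obj.map (re (𝟙 T.left) a.h b.h e).op a.x = b.x) : a = b := by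
  obtain ⟨h, w, x⟩ := a
  obtain ⟨h', w', x'⟩ := b
  obtain rfl : h = h' := hh
  have := hx (Category.id_comp h)
  have e : re (𝟙 T.left) h h (Category.id_comp h) = 𝟙 (Over.mk h) := Over.OverMorphism.ext rfl
  rw [e, op_id, Functor.map_id_apply] at this
  change x = x' at this
  rw [this]

theorem El.map_congr {F : Sp S} {T : Over S'} {a b : El g F T} (hab : a = b) {W : Over S}
    (p : W ⟶ Over.mk a.h) (q : W ⟶ Over.mk b.h) (hpq : p.left = q.left) :
    F.obj.map p.op a.x = F.obj.map q.op b.x := by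
  cases hab
  exact Shriek.map_congr F p q hpq _

/-- Restriction of a section. -/
def El.res {F : Sp S} {T₁ T₂ : Over S'} (φ : T₂ ⟶ T₁) (s : El g F T₁) : El g F T₂ :=
  ⟨φ.left ≫ s.h, by rw [Category.assoc, s.w, Over.w φ], F.obj.map (re φ.left s.h _ rfl).op s.x⟩

theorem El.res_id {F : Sp S} {T : Over S'} (s : El g F T) : s.res (𝟙 T) = s := by
  refine El.ext' (Category.id_comp _) fun e => ?_
  exact (map_map_congr F _ _ (𝟙 _) (by simp) s.x).trans (map_eq_self F _ rfl _)

theorem El.res_res {F : Sp S} {T₁ T₂ T₃ : Over S'} (φ : T₂ ⟶ T₁) (ψ : T₃ ⟶ T₂) (s : El g F T₁) :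
    (s.res φ).res ψ = s.res (ψ ≫ φ) := by
  refine El.ext' (Category.assoc _ _ _).symm fun e => ?_
  exact (congrArg _ (map_map_congr F (re φ.left s.h _ rfl) (re ψ.left (φ.left ≫ s.h) _ rfl)
    (re (ψ.left ≫ φ.left) s.h (ψ.left ≫ φ.left ≫ s.h) (Category.assoc _ _ _)) rfl s.x)).trans
    (map_map_congr F _ _ (re (ψ.left ≫ φ.left) s.h _ rfl) (Category.id_comp _) s.x)

variable (g)

/-- The presheaf of sections. -/
def shrPre (F : Sp S) : (Over S')ᵒᵖ ⥤ Type (u + 1) where
  obj T := El g F T.unop
  map φ := ↾fun s => s.res φ.unop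
  map_id T := by ext s; exact s.res_id
  map_comp φ ψ := by ext s; exact (s.res_res φ.unop ψ.unop).symm

theorem eq_of_forall_homMk {F : Sp S} {T : Over S} {R : Sieve T} (hR : R ∈ AlgSp.J S T)
    {x y : F.obj.obj (op T)} (h : ∀ ⦃Y : Over S⦄ (f : Y ⟶ T), R f → F.obj.map f.op x = F.obj.map f.op y) :
    x = y :=
  (((isSheaf_iff_isSheaf_of_type _ _).1 F.property) R hR).isSeparatedFor.ext h

theorem scheme_hom_ext {X Y : Scheme.{u}} {R : Sieve X} (hR : R ∈ Scheme.fppfTopology X) {a b : X ⟶ Y}
    (h : ∀ ⦃Z : Scheme.{u}⦄ (f : Z ⟶ X), R f → f ≫ a = f ≫ b) : a = b :=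
  ((GrothendieckTopology.Subcanonical.isSheaf_of_isRepresentable (J := Scheme.fppfTopology) (yoneda.obj Y)) R hR).isSeparatedFor.ext h

theorem isSheaf_shrPre (F : Sp S) : Presheaf.IsSheaf (AlgSp.J S') (shrPre g F) := by
  rw [isSheaf_iff_isSheaf_of_type]
  intro T R hR
  rw [← Presieve.isSeparatedFor_and_exists_isAmalgamation_iff_isSheafFor]
  have hR' : Sieve.overEquiv T R ∈ Scheme.fppfTopology T.left := by
    rw [← GrothendieckTopology.mem_over_iff]; exact hR
  -- membership of a morphism of schemes in the sieve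
  have mem : ∀ {Z : Scheme.{u}} (f : Z ⟶ T.left), Sieve.overEquiv T R f →
      R (Over.homMk f rfl : Over.mk (f ≫ T.hom) ⟶ T) := fun f hf => (Sieve.overEquiv_iff R f).1 hf
  refine ⟨?_, ?_⟩
  · intro x t₁ t₂ h₁ h₂
    have hh : t₁.h = t₂.h := scheme_hom_ext hR' fun Z f hf => by
      have := (h₁ _ (mem f hf)).trans (h₂ _ (mem f hf)).symm
      exact congrArg El.h this
    refine El.ext' hh fun e => ?_
    refine eq_of_forall_homMk ((Scheme.fppfTopology).overEquiv_symm_mem_over (Over.mk t₂.h) _ hR') fun Y f hf => ?_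
    have hf' : Sieve.overEquiv T R f.left := (Sieve.overEquiv_symm_iff _ f).1 hf
    have h12 : El.res (Over.homMk f.left rfl : Over.mk (f.left ≫ T.hom) ⟶ T) (show El g F T from t₁) =
        El.res (Over.homMk f.left rfl : Over.mk (f.left ≫ T.hom) ⟶ T) (show El g F T from t₂) :=
      (h₁ _ (mem f.left hf')).trans (h₂ _ (mem f.left hf')).symm
    let p : Y ⟶ Over.mk (f.left ≫ t₁.h) := Over.homMk (𝟙 _) (by rw [Category.id_comp, hh]; exact Over.w f)
    let q : Y ⟶ Over.mk (f.left ≫ t₂.h) := Over.homMk (𝟙 _) (by rw [Category.id_comp]; exact Over.w f)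
    have k : F.obj.map p.op (F.obj.map (re f.left t₁.h _ rfl).op t₁.x) =
        F.obj.map q.op (F.obj.map (re f.left t₂.h _ rfl).op t₂.x) := El.map_congr h12 p q rfl
    exact (map_map_congr F _ _ (p ≫ re f.left t₁.h _ rfl) (by simp [p]) _).trans
      ((map_map_apply F.obj _ _ _).symm.trans (k.trans
        (map_map_congr F _ _ f (Category.id_comp _) _)))
  · intro x hx
    -- glue the structure morphism
    let fam : Presieve.FamilyOfElements (yoneda.obj S) (Sieve.overEquiv T R).arrows := fun Z f hf =>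
      (x (Over.homMk f rfl : Over.mk (f ≫ T.hom) ⟶ T) (mem f hf)).h
    have hfam : fam.Compatible := by
      intro Y₁ Y₂ Z g₁ g₂ f₁ f₂ h₁ h₂ w
      let k₁ : Over.mk (g₁ ≫ f₁ ≫ T.hom) ⟶ Over.mk (f₁ ≫ T.hom) := Over.homMk g₁ rfl
      let k₂ : Over.mk (g₁ ≫ f₁ ≫ T.hom) ⟶ Over.mk (f₂ ≫ T.hom) := Over.homMk g₂ (by
        change g₂ ≫ f₂ ≫ T.hom = g₁ ≫ f₁ ≫ T.hom
        rw [← Category.assoc, ← w, Category.assoc])
      exact congrArg El.h (hx k₁ k₂ (mem f₁ h₁) (mem f₂ h₂) (Over.OverMorphism.ext w))
    obtain ⟨h, hh, -⟩ := (GrothendieckTopology.Subcanonical.isSheaf_of_isRepresentable (J := Scheme.fppfTopology) (yoneda.obj S)) _ hR' fam hfam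
    have hw : h ≫ g = T.hom := scheme_hom_ext hR' fun Z f hf => by
      have e : f ≫ h = (x _ (mem f hf)).h := hh f hf
      rw [← Category.assoc, e, (x _ (mem f hf)).w]
      rfl
    have hcan : ∀ ⦃Y : Over S'⦄ (f : Y ⟶ T) (hf : R f) (hf' : Sieve.overEquiv T R f.left),
        El.res (Over.homMk (𝟙 Y.left) ((Category.id_comp _).trans (Over.w f).symm) :
          Over.mk (f.left ≫ T.hom) ⟶ Y) (x f hf) =
        El.res (𝟙 (Over.mk (f.left ≫ T.hom))) (x (Over.homMk f.left rfl : Over.mk (f.left ≫ T.hom) ⟶ T) (mem f.left hf')) :=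
      fun Y f hf hf' => hx (Over.homMk (𝟙 Y.left) ((Category.id_comp _).trans (Over.w f).symm) :
          Over.mk (f.left ≫ T.hom) ⟶ Y) (𝟙 (Over.mk (f.left ≫ T.hom))) hf (mem f.left hf')
        (Over.OverMorphism.ext ((Category.id_comp f.left).trans (Category.id_comp f.left).symm))
    have hmor : ∀ ⦃Y : Over S'⦄ (f : Y ⟶ T) (hf : R f), (x f hf).h = f.left ≫ h := fun Y f hf => by
      have hf' : Sieve.overEquiv T R f.left := (Sieve.overEquiv_iff R f.left).2
        (by
          have := R.downward_closed hf (Over.homMk (𝟙 Y.left) ((Category.id_comp _).trans (Over.w f).symm) :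
            Over.mk (f.left ≫ T.hom) ⟶ Y)
          convert this using 1
          exact Over.OverMorphism.ext (Category.id_comp _).symm)
      have e : 𝟙 Y.left ≫ (x f hf).h = 𝟙 Y.left ≫ (x _ (mem f.left hf')).h := congrArg El.h (hcan f hf hf')
      rw [Category.id_comp, Category.id_comp] at e
      exact e.trans (hh f.left hf').symm
    -- glue the section
    let R'' : Sieve (Over.mk h) := (Sieve.overEquiv (Over.mk h)).symm (Sieve.overEquiv T R)
    have hR'' : R'' ∈ AlgSp.J S (Over.mk h) := (Scheme.fppfTopology).overEquiv_symm_mem_over (Over.mk h) _ hR'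
    let famx : Presieve.FamilyOfElements F.obj R''.arrows := fun Y f hf =>
      F.obj.map (Over.homMk (𝟙 Y.left) (by
        rw [Category.id_comp]
        exact (hmor _ (mem f.left ((Sieve.overEquiv_symm_iff _ f).1 hf))).trans (Over.w f)) :
          Y ⟶ Over.mk (x _ (mem f.left ((Sieve.overEquiv_symm_iff _ f).1 hf))).h).op
        (x _ (mem f.left ((Sieve.overEquiv_symm_iff _ f).1 hf))).x
    have hcx : famx.Compatible := by
      intro Y₁ Y₂ Z g₁ g₂ f₁ f₂ h₁ h₂ w
      have h₁' := mem f₁.left ((Sieve.overEquiv_symm_iff _ f₁).1 h₁)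
      have h₂' := mem f₂.left ((Sieve.overEquiv_symm_iff _ f₂).1 h₂)
      have wl : g₁.left ≫ f₁.left = g₂.left ≫ f₂.left := congrArg Over.Hom.left w
      let k₁ : Over.mk (g₁.left ≫ f₁.left ≫ T.hom) ⟶ Over.mk (f₁.left ≫ T.hom) := Over.homMk g₁.left rfl
      let k₂ : Over.mk (g₁.left ≫ f₁.left ≫ T.hom) ⟶ Over.mk (f₂.left ≫ T.hom) := Over.homMk g₂.left (by
        change g₂.left ≫ f₂.left ≫ T.hom = g₁.left ≫ f₁.left ≫ T.hom
        rw [← Category.assoc, ← wl, Category.assoc])
      have e := hx k₁ k₂ h₁' h₂' (Over.OverMorphism.ext wl)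
      have p' : g₁.left ≫ (x _ h₁').h = Z.hom := by
        rw [hmor _ h₁', ← Over.w g₁]; exact congrArg (g₁.left ≫ ·) (Over.w f₁)
      have q' : g₂.left ≫ (x _ h₂').h = Z.hom := by
        rw [hmor _ h₂', ← Over.w g₂]; exact congrArg (g₂.left ≫ ·) (Over.w f₂)
      let p : Z ⟶ Over.mk (g₁.left ≫ (x _ h₁').h) := Over.homMk (𝟙 _) ((Category.id_comp _).trans p')
      let q : Z ⟶ Over.mk (g₂.left ≫ (x _ h₂').h) := Over.homMk (𝟙 _) ((Category.id_comp _).trans q')
      have k : F.obj.map p.op (F.obj.map (re g₁.left _ _ rfl).op (x _ h₁').x) =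
          F.obj.map q.op (F.obj.map (re g₂.left _ _ rfl).op (x _ h₂').x) := El.map_congr e p q rfl
      rw [map_map_apply, map_map_apply] at k
      exact (map_map_congr F _ _ _ (by simp [p]) _).trans (k.trans
        (map_map_congr F _ _ _ (by simp [q]) _).symm)
    obtain ⟨y, hy, -⟩ := ((isSheaf_iff_isSheaf_of_type _ _).1 F.property) R'' hR'' famx hcx
    refine ⟨⟨h, hw, y⟩, fun Y f hf => El.ext' (hmor f hf).symm fun e => ?_⟩
    have hR0 : Sieve.overEquiv T R f.left := (Sieve.overEquiv_iff R f.left).2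
      (by
        have := R.downward_closed hf (Over.homMk (𝟙 Y.left) ((Category.id_comp _).trans (Over.w f).symm) :
          Over.mk (f.left ≫ T.hom) ⟶ Y)
        convert this using 1
        exact Over.OverMorphism.ext (Category.id_comp _).symm)
    let f' : Over.mk (x f hf).h ⟶ Over.mk h := Over.homMk f.left (hmor f hf).symm
    have hy' : F.obj.map f'.op y = famx f' ((Sieve.overEquiv_symm_iff _ f').2 hR0) :=
      hy f' ((Sieve.overEquiv_symm_iff _ f').2 hR0)
    let p : Over.mk (x f hf).h ⟶ Over.mk (𝟙 Y.left ≫ (x f hf).h) := Over.homMk (𝟙 _) (by simp)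
    let q : Over.mk (x f hf).h ⟶ Over.mk (𝟙 Y.left ≫ (x _ (mem f.left hR0)).h) := Over.homMk (𝟙 _) (by
      rw [Category.id_comp, Category.id_comp, hmor _ (mem f.left hR0)]; exact (hmor f hf).symm)
    have k : F.obj.map p.op (F.obj.map (re (𝟙 Y.left) _ _ rfl).op (x f hf).x) =
        F.obj.map q.op (F.obj.map (re (𝟙 Y.left) _ _ rfl).op (x _ (mem f.left hR0)).x) :=
      El.map_congr (hcan f hf hR0) p q rfl
    exact (map_map_congr F _ _ f' (Category.id_comp _) _).trans (hy'.trans
      ((map_map_congr F _ _ _ (by simp [q]) _).symm.trans (k.symm.trans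
        ((map_map_congr F _ _ (𝟙 _) (by simp [p]) _).trans (map_eq_self F _ rfl _)))))

/-- The extension functor. -/
def shr : Sp S ⥤ Sp S' where
  obj F := ⟨shrPre g F, isSheaf_shrPre g F⟩
  map {F G} β := ⟨{
    app := fun T => ↾fun s : El g F T.unop => (⟨s.h, s.w, β.hom.app _ s.x⟩ : El g G T.unop)
    naturality := fun T T' φ => by
      ext s
      exact congrArg (El.mk (φ.unop.left ≫ El.h (show El g F T.unop from s)) _)
        (NatTrans.naturality_apply β.hom _ _) }⟩
  map_id F := by ext T s; rfl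
  map_comp β γ := by ext T s; rfl

/-- The projection to `h_S`. -/
def π (F : Sp S) : (shr g).obj F ⟶ (yon S').obj (Over.mk g) :=
  ⟨{ app := fun T => ↾fun s : El g F T.unop => ULift.up (Over.homMk s.h s.w : T.unop ⟶ Over.mk g)
     naturality := fun T T' φ => by
      ext s
      exact congrArg ULift.up (Over.OverMorphism.ext rfl) }⟩

variable {g}

theorem π_natural {F G : Sp S} (β : F ⟶ G) : (shr g).map β ≫ π g G = π g F := by
  ext T s; rfl

/-- A section of `F` as a section of its extension. -/
def el {F : Sp S} {T : Over S} (x : F.obj.obj (op T)) : El g F ((Over.map g).obj T) :=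
  ⟨T.hom, rfl, F.obj.map (Over.homMk (𝟙 T.left) : Over.mk T.hom ⟶ T).op x⟩

theorem h_app {F G : Sp S} {α : (shr g).obj F ⟶ (shr g).obj G} (hα : α ≫ π g G = π g F) {T : Over S'}
    (s : El g F T) : (show El g G T from α.hom.app (op T) s).h = s.h := by
  have := congrArg (fun k => k.hom.app (op T) s) hα
  exact congrArg (fun v : ULift.{u + 1} (T ⟶ Over.mk g) => v.down.left) this

/-- The underlying map of a morphism over `h_S`. -/
def unshr {F G : Sp S} (α : (shr g).obj F ⟶ (shr g).obj G) (hα : α ≫ π g G = π g F) : F ⟶ G :=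
  ⟨{ app := fun T => ↾fun x =>
      G.obj.map (Over.homMk (𝟙 T.unop.left) (by
        rw [Category.id_comp]; exact h_app hα (el x)) :
          T.unop ⟶ Over.mk (show El g G ((Over.map g).obj T.unop) from α.hom.app (op _) (el x)).h).op
        (show El g G ((Over.map g).obj T.unop) from α.hom.app (op _) (el x)).x
     naturality := fun T T' φ => by
      ext x
      let φ' := (Over.map g).map φ.unop
      have nat : (show El g G ((Over.map g).obj T'.unop) from
          α.hom.app (op _) ((el (g := g) x).res φ')) =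
          El.res φ' (show El g G ((Over.map g).obj T.unop) from α.hom.app (op _) (el x)) :=
        NatTrans.naturality_apply α.hom φ'.op _
      have hel : (el (g := g) x).res φ' = el (g := g) (F.obj.map φ x) := by
        refine El.ext' (Over.w φ.unop) fun e => ?_
        exact (congrArg _ (map_map_congr F _ _ (Over.homMk φ.unop.left (by simp [φ']) :
            Over.mk (φ'.left ≫ T.unop.hom) ⟶ T.unop) (by simp [φ']) x)).trans
          ((map_map_congr F _ _ (Over.homMk φ.unop.left (Over.w φ.unop) : Over.mk T'.unop.hom ⟶ T.unop)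
            (Category.id_comp _) x).trans (map_map_congr F φ.unop _ _ (Category.id_comp _) x).symm)
      rw [hel] at nat
      have key : ∀ {Z₀ : Over S'} {a b : El g G Z₀} (hab : a = b) {W : Over S} (p : W ⟶ Over.mk a.h)
          (q : W ⟶ Over.mk b.h), p.left = q.left → G.obj.map p.op a.x = G.obj.map q.op b.x := by
        rintro Z₀ a b rfl W p q hpq
        rw [Over.OverMorphism.ext hpq]
      refine (key nat (W := T'.unop) _ (Over.homMk (𝟙 _) (by
        rw [Category.id_comp]
        exact (congrArg (φ.unop.left ≫ ·) (h_app hα (el x))).trans (Over.w φ.unop))) rfl).trans ?_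
      exact (map_map_congr G _ _ _ (by simp [φ']) _).trans (map_map_apply G.obj _ φ.unop _).symm }⟩

variable (g)

/-- Sheaves over `S` as sheaves over `h_S`. -/
def toOver : Sp S ⥤ Over ((yon S').obj (Over.mk g)) where
  obj F := Over.mk (π g F)
  map β := Over.homMk ((shr g).map β) (π_natural β)
  map_id F := by ext1; exact (shr g).map_id F
  map_comp β γ := by ext1; exact (shr g).map_comp β γ

instance : (toOver g).Faithful where
  map_injective {F G} β γ h := by
    ext T x
    have e : (show El g G ((Over.map g).obj T.unop) from ((shr g).map β).hom.app (op _) (el x)) =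
        (show El g G ((Over.map g).obj T.unop) from ((shr g).map γ).hom.app (op _) (el x)) :=
      congrArg (fun k => k.left.hom.app (op _) (el x)) h
    have e' : β.hom.app _ (F.obj.map (Over.homMk (𝟙 T.unop.left) : Over.mk T.unop.hom ⟶ T.unop).op x) =
        γ.hom.app _ (F.obj.map (Over.homMk (𝟙 T.unop.left) : Over.mk T.unop.hom ⟶ T.unop).op x) := by
      injection e
    rw [NatTrans.naturality_apply, NatTrans.naturality_apply] at e'
    let i : Over.mk T.unop.hom ≅ T.unop := Over.isoMk (Iso.refl _)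
    have hi : (Over.homMk (𝟙 T.unop.left) : Over.mk T.unop.hom ⟶ T.unop) = i.hom := rfl
    rw [hi] at e'
    exact ((isIso_iff_bijective (G.obj.map i.hom.op)).1 inferInstance).1 e'

instance : (toOver g).Full where
  map_surjective {F G} α := by
    have hα : α.left ≫ π g G = π g F := Over.w α
    refine ⟨unshr α.left hα, Over.OverMorphism.ext ?_⟩
    ext T s
    let s' : El g F T.unop := s
    let φ : T.unop ⟶ (Over.map g).obj (Over.mk s'.h) := Over.homMk (𝟙 _) (by
      change 𝟙 _ ≫ s'.h ≫ g = _; rw [Category.id_comp, s'.w])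
    have nat : (show El g G T.unop from α.left.hom.app T ((el (g := g) s'.x).res φ)) =
        El.res φ (show El g G ((Over.map g).obj (Over.mk s'.h)) from α.left.hom.app (op _) (el s'.x)) :=
      NatTrans.naturality_apply α.left.hom φ.op _
    have hel : (el (g := g) s'.x).res φ = s' := by
      refine El.ext' (Category.id_comp _) fun e => ?_
      exact (congrArg _ (map_map_congr F _ _ (Over.homMk (𝟙 _) (by simp [φ]) :
          Over.mk (φ.left ≫ s'.h) ⟶ Over.mk s'.h) (by simp [φ]) s'.x)).trans
        ((map_map_congr F _ _ (𝟙 _) (by simp) s'.x).trans (map_eq_self F _ rfl _))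
    rw [hel] at nat
    refine (El.ext' ?_ fun e => ?_).symm.trans rfl
    · exact h_app hα s'
    · have key : ∀ {Z₀ : Over S'} {a b : El g G Z₀} (hab : a = b) {W : Over S} (p : W ⟶ Over.mk a.h)
          (q : W ⟶ Over.mk b.h), p.left = q.left → G.obj.map p.op a.x = G.obj.map q.op b.x := by
        rintro Z₀ a b rfl W p q hpq
        rw [Over.OverMorphism.ext hpq]
      refine (key nat (W := Over.mk s'.h) _ (Over.homMk (𝟙 _) (by
        rw [Category.id_comp]
        exact (Category.id_comp _).trans (h_app hα (el s'.x)))) rfl).trans ?_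
      exact map_map_congr G _ _ _ (by simp [φ]) _

end AlgSpLib.Shriek
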