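import Groth.Agent.AlgSpLib.Shriek
/-!
# The adjunction between extension and restriction, and sheaves over `h_S`
-/

set_option autoImplicit false
set_option backward.isDefEq.respectTransparency false
set_option backward.isDefEq.respectTransparency.types false
universe u
open CategoryTheory CategoryTheory.Limits AlgebraicGeometry Opposite AlgSp

namespace AlgSpLib.Shriek

noncomputable section

variable {S S' : Scheme.{u}} (g : S ⟶ S')

/-- Restriction of sheaves over `S'` to `S`. -/
noncomputable abbrev res : Sp S' ⥤ Sp S := Scheme.fppfTopology.overMapPullback (Type (u + 1)) g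

variable {g}

/-- The morphism `(T', h) ⟶ T'`. -/
abbrev down {F : Sp S} {T : Over S'} (s : El g F T) : T ⟶ (Over.map g).obj (Over.mk s.h) :=
  Over.homMk (𝟙 T.left) ((Category.id_comp _).trans s.w)

theorem el_res_down {F : Sp S} {T : Over S'} (s : El g F T) : (el (g := g) s.x).res (down s) = s := by
  refine El.ext' (Category.id_comp _) fun e => ?_
  exact (congrArg _ (map_map_congr F _ _ (Over.homMk (𝟙 _) (by simp) :
      Over.mk ((down s).left ≫ s.h) ⟶ Over.mk s.h) (by simp) s.x)).trans
    ((map_map_congr F _ _ (𝟙 _) (by simp) s.x).trans (map_eq_self F _ rfl _))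

theorem el_natural {F : Sp S} {T T' : Over S} (φ : T' ⟶ T) (x : F.obj.obj (op T)) :
    el (g := g) (F.obj.map φ.op x) = (el (g := g) x).res ((Over.map g).map φ) := by
  refine (El.ext' (Over.w φ) fun e => ?_).symm
  exact (congrArg _ (map_map_congr F _ _ (Over.homMk φ.left (by simp) :
      Over.mk (((Over.map g).map φ).left ≫ T.hom) ⟶ T) (by simp) x)).trans
    ((map_map_congr F _ _ (Over.homMk φ.left (Over.w φ) : Over.mk T'.hom ⟶ T)
      (Category.id_comp _) x).trans (map_map_congr F φ _ _ (Category.id_comp _) x).symm)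

theorem map_congr' (P : Sp S') {a c : Over S'} (p q : c ⟶ a) (h : p.left = q.left) (y : P.obj.obj (op a)) :
    P.obj.map p.op y = P.obj.map q.op y := Shriek.map_congr P p q h y

/-- The counit at a section. -/
def down' {P : Sp S'} {T : Over S'} (s : El g ((res g).obj P) T) : P.obj.obj (op T) :=
  P.obj.map (down s).op (show P.obj.obj (op ((Over.map g).obj (Over.mk s.h))) from s.x)

theorem down'_res {P : Sp S'} {T T' : Over S'} (φ : T' ⟶ T) (s : El g ((res g).obj P) T) :
    down' (s.res φ) = P.obj.map φ.op (down' s) :=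
  (map_map_congr P ((Over.map g).map (re φ.left s.h _ rfl)) (down (s.res φ)) (φ ≫ down s) (by simp) _).trans
    (map_map_apply P.obj _ φ _).symm

/-- The counit. -/
def ε (P : Sp S') : (shr g).obj ((res g).obj P) ⟶ P :=
  ⟨{ app := fun T => ↾fun s : El g ((res g).obj P) T.unop => down' s
     naturality := fun T T' φ => by
      ext s
      exact down'_res φ.unop s }⟩

/-- The unit. -/
def η (F : Sp S) : F ⟶ (res g).obj ((shr g).obj F) :=
  ⟨{ app := fun T => ↾fun x : F.obj.obj T => el (g := g) x
     naturality := fun T T' φ => by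
      ext x
      exact el_natural φ.unop x }⟩

variable (g)

/-- Extension is left adjoint to restriction. -/
noncomputable def adj : shr g ⊣ res g :=
  Adjunction.mkOfUnitCounit
    { unit :=
        { app := fun F => η F
          naturality := fun F G β => by
            ext T x
            exact congrArg (El.mk _ _) (NatTrans.naturality_apply β.hom _ x).symm }
      counit :=
        { app := fun P => ε P
          naturality := fun P Q α => by
            ext T s
            exact (NatTrans.naturality_apply α.hom (down (show El g ((res g).obj P) T.unop from s)).op _).symm }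
      left_triangle := by
        ext F T s
        exact el_res_down (show El g F T.unop from s)
      right_triangle := by
        ext P T y
        exact (map_map_congr P ((Over.map g).map (Over.homMk (𝟙 T.unop.left) : Over.mk T.unop.hom ⟶ T.unop))
          (down (el (g := g) (F := (res g).obj P) (show ((res g).obj P).obj.obj (op T.unop) from y))) (𝟙 _)
          (by simp) _).trans (map_eq_self P _ rfl _) }

/-- Comparison with Mathlib's pullback of sheaves. -/
noncomputable def shrIso [((Over.map g).sheafPushforwardContinuous (Type (u + 1)) (AlgSp.J S) (AlgSp.J S')).IsRightAdjoint] :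
    shr g ≅ (Over.map g).sheafPullback (Type (u + 1)) (AlgSp.J S) (AlgSp.J S') :=
  (adj g).leftAdjointUniq ((Over.map g).sheafAdjunctionContinuous (Type (u + 1)) (AlgSp.J S) (AlgSp.J S'))

theorem bijective_yonApp (X : Over S) (T : Over S') :
    Function.Bijective (fun s : El g ((yon S).obj X) T =>
      (Over.homMk (show Over.mk s.h ⟶ X from s.x.down).left (by
        change _ ≫ X.hom ≫ g = T.hom
        rw [← Category.assoc, Over.w (show Over.mk s.h ⟶ X from s.x.down)]
        exact s.w) : T ⟶ (Over.map g).obj X)) := by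
  refine ⟨fun a b hab => ?_, fun φ => ?_⟩
  · have hl : (show Over.mk a.h ⟶ X from a.x.down).left = (show Over.mk b.h ⟶ X from b.x.down).left :=
      congrArg Over.Hom.left hab
    refine El.ext' ?_ fun e => ULift.ext _ _ (Over.OverMorphism.ext ?_)
    · have ha := Over.w (show Over.mk a.h ⟶ X from a.x.down)
      have hb := Over.w (show Over.mk b.h ⟶ X from b.x.down)
      rw [hl] at ha
      exact ha.symm.trans hb
    · exact (Category.id_comp _).trans hl
  · exact ⟨⟨φ.left ≫ X.hom, (Category.assoc _ _ _).trans (Over.w φ),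
      ULift.up (Over.homMk φ.left : Over.mk (φ.left ≫ X.hom) ⟶ X)⟩, rfl⟩

/-- The extension of a representable sheaf is representable. -/
def yonMap (X : Over S) : (shr g).obj ((yon S).obj X) ⟶ (yon S').obj ((Over.map g).obj X) :=
  ⟨{ app := fun T => ↾fun s : El g ((yon S).obj X) T.unop => ULift.up.{u + 1}
        (Over.homMk (show Over.mk s.h ⟶ X from s.x.down).left (by
          change _ ≫ X.hom ≫ g = T.unop.hom
          rw [← Category.assoc, Over.w (show Over.mk s.h ⟶ X from s.x.down)]
          exact s.w) : T.unop ⟶ (Over.map g).obj X)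
     naturality := fun T T' φ => by
      ext s
      exact congrArg ULift.up (Over.OverMorphism.ext rfl) }⟩

theorem isIso_of_bijective {F G : Sp S'} (f : F ⟶ G) (h : ∀ T, Function.Bijective (f.hom.app T)) : IsIso f := by
  have : ∀ T, IsIso (f.hom.app T) := fun T => (isIso_iff_bijective _).2 (h T)
  have : IsIso f.hom := NatIso.isIso_of_isIso_app _
  haveI : IsIso ((sheafToPresheaf (AlgSp.J S') (Type (u + 1))).map f) := this
  exact isIso_of_reflects_iso f (sheafToPresheaf (AlgSp.J S') (Type (u + 1)))

instance isIso_yonMap (X : Over S) : IsIso (yonMap g X) :=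
  isIso_of_bijective _ fun T =>
    (Equiv.ulift.symm : (T.unop ⟶ (Over.map g).obj X) ≃ ULift.{u + 1} _).bijective.comp
      (bijective_yonApp g X T.unop)

theorem yonMap_natural {X Y : Over S} (φ : X ⟶ Y) :
    (shr g).map ((yon S).map φ) ≫ yonMap g Y = yonMap g X ≫ (yon S').map ((Over.map g).map φ) := by
  ext T s
  exact congrArg ULift.up (Over.OverMorphism.ext rfl)

theorem yonMap_π (X : Over S) :
    yonMap g X ≫ (yon S').map (Over.homMk X.hom rfl : (Over.map g).obj X ⟶ Over.mk g) = π g ((yon S).obj X) := by
  ext T s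
  exact congrArg ULift.up (Over.OverMorphism.ext (Over.w (show Over.mk _ ⟶ X from (show El g ((yon S).obj X) T.unop from s).x.down)))

/-- The fibre of a sheaf over `h_S`, as a presheaf. -/
def fibPre {P : Sp S'} (p : P ⟶ (yon S').obj (Over.mk g)) : (Over S)ᵒᵖ ⥤ Type (u + 1) where
  obj T := {y : P.obj.obj (op ((Over.map g).obj T.unop)) //
    p.hom.app _ y = ULift.up.{u + 1} (Over.homMk T.unop.hom : (Over.map g).obj T.unop ⟶ Over.mk g)}
  map {T T'} φ := ↾fun y => ⟨P.obj.map ((Over.map g).map φ.unop).op y.1, by
    rw [NatTrans.naturality_apply, y.2]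
    exact congrArg ULift.up (Over.OverMorphism.ext (Over.w φ.unop))⟩
  map_id T := by ext y; exact map_eq_self P _ (by simp) y.1
  map_comp φ ψ := by ext y; exact (map_map_congr P _ _ _ (by simp) y.1).symm

theorem isSheaf_fibPre {P : Sp S'} (p : P ⟶ (yon S').obj (Over.mk g)) :
    Presheaf.IsSheaf (AlgSp.J S) (fibPre g p) := by
  rw [isSheaf_iff_isSheaf_of_type]
  intro T R hR
  rw [← Presieve.isSeparatedFor_and_exists_isAmalgamation_iff_isSheafFor]
  have hP := ((isSheaf_iff_isSheaf_of_type _ _).1 ((res g).obj P).property) R hR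
  refine ⟨fun x t₁ t₂ h₁ h₂ => Subtype.ext (hP.isSeparatedFor.ext fun Y f hf =>
    congrArg Subtype.val ((h₁ f hf).trans (h₂ f hf).symm)), fun x hx => ?_⟩
  let x' : Presieve.FamilyOfElements ((res g).obj P).obj R.arrows := fun Y f hf => (x f hf).1
  have hx' : x'.Compatible := fun Y₁ Y₂ Z g₁ g₂ f₁ f₂ h₁ h₂ w => congrArg Subtype.val (hx g₁ g₂ h₁ h₂ w)
  obtain ⟨y, hy, -⟩ := hP x' hx'
  refine ⟨⟨y, ?_⟩, fun Y f hf => Subtype.ext (hy f hf)⟩
  have hY := ((isSheaf_iff_isSheaf_of_type _ _).1 ((res g).obj ((yon S').obj (Over.mk g))).property) R hR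
  refine hY.isSeparatedFor.ext fun Y f hf => ?_
  change ((yon S').obj (Over.mk g)).obj.map ((Over.map g).map f).op (p.hom.app _ y) =
    ((yon S').obj (Over.mk g)).obj.map ((Over.map g).map f).op (ULift.up (Over.homMk T.hom))
  rw [← NatTrans.naturality_apply]
  have e : P.obj.map ((Over.map g).map f).op y = (x f hf).1 := hy f hf
  rw [e, (x f hf).2]
  exact congrArg ULift.up (Over.OverMorphism.ext (Over.w f).symm)

/-- The fibre of a sheaf over `h_S`. -/
def fib {P : Sp S'} (p : P ⟶ (yon S').obj (Over.mk g)) : Sp S := ⟨fibPre g p, isSheaf_fibPre g p⟩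

/-- The fibre includes into the restriction. -/
def fibι {P : Sp S'} (p : P ⟶ (yon S').obj (Over.mk g)) : fib g p ⟶ (res g).obj P :=
  ⟨{ app := fun T => ↾fun y => y.1
     naturality := fun T T' φ => rfl }⟩

variable {g}

theorem fibApp_h {P : Sp S'} {p : P ⟶ (yon S').obj (Over.mk g)} {T : Over S'} (s : El g (fib g p) T) :
    p.hom.app (op T) (P.obj.map (down s).op s.x.1) = ULift.up.{u + 1} (Over.homMk s.h s.w : T ⟶ Over.mk g) := by
  rw [NatTrans.naturality_apply, s.x.2]
  exact congrArg ULift.up (Over.OverMorphism.ext (Category.id_comp _))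

variable (g)

theorem exists_iso_of_over {P : Sp S'} (p : P ⟶ (yon S').obj (Over.mk g)) :
    ∃ e : (shr g).obj (fib g p) ≅ P, e.hom ≫ p = π g (fib g p) := by
  let c : (shr g).obj (fib g p) ⟶ P := (shr g).map (fibι g p) ≫ ε P
  have hc : ∀ (T : (Over S')ᵒᵖ) (s : El g (fib g p) T.unop), c.hom.app T s = P.obj.map (down s).op s.x.1 :=
    fun T s => rfl
  have : IsIso c := isIso_of_bijective c fun T => by
    refine ⟨fun a b hab => ?_, fun z => ?_⟩
    · let a' : El g (fib g p) T.unop := a
      let b' : El g (fib g p) T.unop := b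
      have hh : a'.h = b'.h := by
        have := congrArg (fun z => p.hom.app T z) hab
        exact congrArg (fun v : ULift.{u + 1} (T.unop ⟶ Over.mk g) => v.down.left)
          ((fibApp_h a').symm.trans (this.trans (fibApp_h b')))
      refine El.ext' hh fun e => Subtype.ext ?_
      let i : (Over.map g).obj (Over.mk b'.h) ⟶ T.unop := Over.homMk (𝟙 _) (by
        change 𝟙 _ ≫ T.unop.hom = b'.h ≫ g; rw [Category.id_comp, b'.w])
      have := congrArg (fun z => P.obj.map i.op z) hab
      change P.obj.map i.op (P.obj.map (down a').op a'.x.1) = P.obj.map i.op (P.obj.map (down b').op b'.x.1) at this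
      exact (map_map_congr P (down a') i ((Over.map g).map (re (𝟙 T.unop.left) a'.h b'.h e)) (by simp [i]) _).symm.trans
        (this.trans ((map_map_congr P (down b') i (𝟙 _) (by simp [i]) _).trans (map_eq_self P _ rfl _)))
    · let v : T.unop ⟶ Over.mk g := (show ULift.{u + 1} (T.unop ⟶ Over.mk g) from p.hom.app T z).down
      let i : (Over.map g).obj (Over.mk v.left) ⟶ T.unop := Over.homMk (𝟙 _)
        ((Category.id_comp _).trans (Over.w v).symm)
      refine ⟨⟨v.left, Over.w v, P.obj.map i.op z, ?_⟩, ?_⟩
      · rw [NatTrans.naturality_apply]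
        exact congrArg ULift.up (Over.OverMorphism.ext (Category.id_comp _))
      · exact (map_map_congr P i _ (𝟙 _) (by simp [i]) z).trans (map_eq_self P _ rfl _)
  refine ⟨asIso c, ?_⟩
  ext T s
  exact fibApp_h (show El g (fib g p) T.unop from s)

instance : (toOver g).EssSurj where
  mem_essImage Y := by
    obtain ⟨e, he⟩ := exists_iso_of_over g Y.hom
    exact ⟨fib g Y.hom, ⟨Over.isoMk e he⟩⟩

instance : (toOver g).IsEquivalence := Functor.IsEquivalence.mk inferInstance inferInstance inferInstance

/-- Extension, via sheaves over `h_S`. -/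
def shrFactor : toOver g ⋙ Over.forget _ ≅ shr g := NatIso.ofComponents (fun _ => Iso.refl _) fun f => by simp [toOver]

instance : (shr g).Faithful := Functor.Faithful.of_iso (shrFactor g)

theorem isPullback_map {A B C D : Sp S} {a : A ⟶ B} {b : A ⟶ C} {c : B ⟶ D} {d : C ⟶ D}
    (sq : IsPullback a b c d) : IsPullback ((shr g).map a) ((shr g).map b) ((shr g).map c) ((shr g).map d) :=
  (sq.map (toOver g)).map (Over.forget _)

theorem isPullback_of_map {A B C D : Sp S} {a : A ⟶ B} {b : A ⟶ C} {c : B ⟶ D} {d : C ⟶ D}
    (w : a ≫ c = b ≫ d)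
    (sq : IsPullback ((shr g).map a) ((shr g).map b) ((shr g).map c) ((shr g).map d)) : IsPullback a b c d :=
  IsPullback.of_map (toOver g) w (IsPullback.of_map (Over.forget _)
    (by rw [← Functor.map_comp, w, Functor.map_comp]) sq)

end

end AlgSpLib.Shriek
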