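import Mathlib.RingTheory.EssentialFiniteness
import Mathlib.RingTheory.Filtration
import Mathlib.RingTheory.Smooth.Local
import Mathlib.RingTheory.Smooth.Locus
import Mathlib.RingTheory.HopkinsLevitzki
import Mathlib.RingTheory.Kaehler.TensorProduct
import Mathlib.RingTheory.Kaehler.Polynomial
import Mathlib.LinearAlgebra.TensorProduct.Quotient

/-! Smoothness at a prime via liftings along small extensions of Artinian local algebras. -/

set_option autoImplicit false

universe u

open IsLocalRing TensorProduct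

namespace AlgSpLib

/-- A formally smooth local algebra lifts along square-zero surjections of local algebras. -/
theorem exists_lift_of_isSmoothAt {R S : Type u} [CommRing R] [CommRing S] [Algebra R S] {q : Ideal S}
    [q.IsPrime] (hq : Algebra.IsSmoothAt R q) {B' B : Type u} [CommRing B'] [CommRing B] [IsLocalRing B]
    [Algebra R B'] [Algebra R B] (π : B' →ₐ[R] B) (hπ : Function.Surjective π)
    (hsq : RingHom.ker π.toRingHom ^ 2 = ⊥)
    (g : S →ₐ[R] B) (hg : (maximalIdeal B).comap g = q) :
    ∃ g' : S →ₐ[R] B', π.comp g' = g := by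
  haveI : Algebra.FormallySmooth R (Localization.AtPrime q) := hq
  have hu : ∀ y : q.primeCompl, IsUnit (g y) := fun y => by
    by_contra h
    exact y.2 (hg ▸ h)
  let gq : Localization.AtPrime q →ₐ[R] B :=
    IsLocalization.liftAlgHom (M := q.primeCompl) (S := Localization.AtPrime q) (f := g) hu
  refine ⟨(Algebra.FormallySmooth.liftOfSurjective gq π hπ ⟨2, hsq⟩).comp
    (IsScalarTower.toAlgHom R S (Localization.AtPrime q)), ?_⟩
  rw [← AlgHom.comp_assoc, Algebra.FormallySmooth.comp_liftOfSurjective]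
  ext x
  exact IsLocalization.lift_eq _ x

/-- Liftings along small extensions of Artinian local quotients of `P`, for local maps. -/
def LiftsSmall (R A P : Type u) [CommRing R] [CommRing A] [IsLocalRing A] [Algebra R A] [CommRing P]
    [Algebra R P] : Prop :=
  ∀ (B' B : Type u) [CommRing B'] [CommRing B] [IsLocalRing B'] [IsLocalRing B]
    [IsArtinianRing B'] [IsArtinianRing B] [Algebra R B'] [Algebra R B] (π : B' →ₐ[R] B)
    (ψ : P →ₐ[R] B'), Function.Surjective ψ →
    Function.Surjective π →
    (∃ t : B', RingHom.ker π.toRingHom = Ideal.span {t} ∧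
      ∀ a ∈ maximalIdeal B', a * t = 0) →
    ∀ g : A →ₐ[R] B, IsLocalHom g.toRingHom → ∃ g' : A →ₐ[R] B', π.comp g' = g

theorem isArtinianRing_quotient_of_pow_le {P : Type u} [CommRing P] [IsLocalRing P] [IsNoetherianRing P]
    {K : Ideal P} {n : ℕ} (h : maximalIdeal P ^ n ≤ K) : IsArtinianRing (P ⧸ K) := by
  rw [isArtinianRing_iff_krullDimLE_zero]
  refine Ring.krullDimLE_zero_iff.2 fun J hJ => ?_
  have h1 : (J.comap (Ideal.Quotient.mk K)).IsPrime := hJ.comap _
  have h2 : maximalIdeal P ≤ J.comap (Ideal.Quotient.mk K) :=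
    h1.le_of_pow_le (h.trans fun x hx => by
      show Ideal.Quotient.mk K x ∈ J
      rw [Ideal.Quotient.eq_zero_iff_mem.2 hx]
      exact J.zero_mem)
  rw [← Ideal.map_comap_of_surjective _ Ideal.Quotient.mk_surjective J,
    ← (maximalIdeal.isMaximal P).eq_of_le h1.ne_top h2]
  refine (Ideal.map_eq_top_or_isMaximal_of_surjective _ Ideal.Quotient.mk_surjective
    (maximalIdeal.isMaximal P)).resolve_left fun h3 => ?_
  apply hJ.ne_top
  rwa [← Ideal.map_comap_of_surjective _ Ideal.Quotient.mk_surjective J,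
    ← (maximalIdeal.isMaximal P).eq_of_le h1.ne_top h2]

theorem injective_of_liftsSmall {R A P : Type u} [CommRing R] [CommRing A] [IsLocalRing A]
    [Algebra R A] [CommRing P] [IsLocalRing P] [IsNoetherianRing P] [Algebra R P] [Algebra P A]
    [IsScalarTower R P A]
    (hs : Function.Surjective (algebraMap P A)) (h : LiftsSmall R A P) :
    Function.Injective (KaehlerDifferential.cotangentComplexBaseChange R A P (ResidueField A)) := by
  let I := RingHom.ker (algebraMap P A)
  let m := maximalIdeal P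
  have hIm : I ≤ m := le_maximalIdeal (RingHom.ker_ne_top _)
  have hmA : (maximalIdeal A).comap (algebraMap P A) = m :=
    eq_maximalIdeal (Ideal.comap_isMaximal_of_surjective _ hs)
  obtain ⟨c, hc⟩ := Ideal.exists_pow_inf_eq_pow_smul m I
  have hAR : m ^ (c + 1) ⊓ I ≤ m * I := by
    have h1 := hc (c + 1) (Nat.le_succ c)
    simp only [smul_eq_mul, Ideal.mul_top, add_tsub_cancel_left, pow_one] at h1
    rw [h1]
    exact mul_le_mul' le_rfl inf_le_right
  have hres : Function.Surjective (algebraMap P (ResidueField A)) := by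
    rw [IsScalarTower.algebraMap_eq P A (ResidueField A)]
    exact residue_surjective.comp hs
  have hker : ∀ x : P, algebraMap P (ResidueField A) x = 0 ↔ x ∈ m := fun x => by
    rw [IsScalarTower.algebraMap_apply P A (ResidueField A), ← hmA]
    exact residue_eq_zero_iff _
  rw [injective_iff_map_eq_zero]
  intro z hz
  obtain ⟨i, rfl⟩ := TensorProduct.mk_surjective P I (ResidueField A) hres z
  rw [TensorProduct.mk_apply] at hz ⊢
  rw [KaehlerDifferential.cotangentComplexBaseChange_tmul, KaehlerDifferential.kerToTensor_apply,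
    one_smul] at hz
  have hm0 : LinearMap.ker (Algebra.linearMap P (ResidueField A)) = m := Submodule.ext hker
  let e : ResidueField A ≃ₗ[P] P ⧸ m :=
    (LinearMap.quotKerEquivOfSurjective (Algebra.linearMap P (ResidueField A)) hres).symm ≪≫ₗ
      Submodule.quotEquivOfEq _ _ hm0
  have he : e 1 = Submodule.Quotient.mk 1 := by
    refine e.symm.injective ?_
    rw [LinearEquiv.symm_apply_apply]
    exact (map_one (algebraMap P (ResidueField A))).symm
  have hDi : KaehlerDifferential.D R P (i : P) ∈ m • (⊤ : Submodule P Ω[P⁄R]) := by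
    rw [← Submodule.Quotient.mk_eq_zero]
    have h1 := congrArg (fun t => TensorProduct.quotTensorEquivQuotSMul Ω[P⁄R] m
      (TensorProduct.congr e (LinearEquiv.refl P _) t)) hz
    simpa [TensorProduct.congr_tmul, he, TensorProduct.quotTensorEquivQuotSMul_mk_tmul] using h1
  have hiK : (i : P) ∈ m * I ⊔ m ^ (c + 1) := by
    by_contra hcon
    obtain ⟨K, ⟨hK1, hK2, hK3⟩, hmax⟩ := set_has_maximal_iff_noetherian.2 (inferInstance : IsNoetherian P P)
      {K : Ideal P | m * I ⊔ m ^ (c + 1) ≤ K ∧ K ≤ I ⊔ m ^ (c + 1) ∧ (i : P) ∉ K}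
      ⟨_, le_rfl, sup_le_sup_right Ideal.mul_le_right _, hcon⟩
    let J : Ideal P := I ⊔ m ^ (c + 1)
    have hJm : J ≤ m := sup_le hIm (Ideal.pow_le_self (Nat.succ_ne_zero c))
    have hmJ : m * J ≤ K := by
      rw [Ideal.mul_sup]
      exact sup_le (le_sup_left.trans hK1) (Ideal.mul_le_right.trans (le_sup_right.trans hK1))
    have hspan : J ≤ K ⊔ Ideal.span {(i : P)} := by
      intro y hy
      by_cases hyK : y ∈ K
      · exact Ideal.mem_sup_left hyK
      have h1 : (i : P) ∈ K ⊔ Ideal.span {y} := by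
        by_contra h2
        exact hmax (K ⊔ Ideal.span {y})
          ⟨hK1.trans le_sup_left, sup_le hK2 ((Ideal.span_singleton_le_iff_mem _).2 hy), h2⟩
          (lt_of_le_of_ne le_sup_left fun h3 => hyK (h3 ▸ Ideal.mem_sup_right (Ideal.mem_span_singleton_self y)))
      obtain ⟨k, hk, w, hw, hkw⟩ := Submodule.mem_sup.1 h1
      obtain ⟨a, rfl⟩ := Ideal.mem_span_singleton'.1 hw
      have ha : IsUnit a := by
        by_contra h2
        exact hK3 (hkw ▸ K.add_mem hk (hmJ (Ideal.mul_mem_mul h2 hy)))
      have h2 : y = (↑ha.unit⁻¹ : P) * (i : P) - (↑ha.unit⁻¹ : P) * k := by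
        rw [← hkw, mul_add, add_sub_cancel_left, ← mul_assoc, IsUnit.val_inv_mul, one_mul]
      rw [h2]
      exact Ideal.sub_mem _ (Ideal.mem_sup_right (Ideal.mul_mem_left _ _ (Ideal.mem_span_singleton_self _)))
        (Ideal.mem_sup_left (Ideal.mul_mem_left _ _ hk))
    have hKtop : K ≠ ⊤ := fun h1 => hK3 (h1 ▸ trivial)
    haveI : Nontrivial (P ⧸ K) := Ideal.Quotient.nontrivial_iff.2 hKtop
    haveI : Nontrivial (P ⧸ J) :=
      Ideal.Quotient.nontrivial_iff.2 fun h1 => Ideal.IsPrime.ne_top' (eq_top_iff.2 (h1 ▸ hJm))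
    haveI : IsLocalRing (P ⧸ K) :=
      .of_surjective' (Ideal.Quotient.mk K) Ideal.Quotient.mk_surjective
    haveI : IsLocalRing (P ⧸ J) :=
      .of_surjective' (Ideal.Quotient.mk J) Ideal.Quotient.mk_surjective
    haveI := isArtinianRing_quotient_of_pow_le (le_sup_right.trans hK1 : m ^ (c + 1) ≤ K)
    haveI := isArtinianRing_quotient_of_pow_le (le_sup_right : m ^ (c + 1) ≤ J)
    let π : P ⧸ K →ₐ[R] P ⧸ J := Ideal.Quotient.factorₐ R hK2
    have hπ : Function.Surjective π := Ideal.Quotient.factor_surjective hK2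
    have hπker : RingHom.ker π.toRingHom = J.map (Ideal.Quotient.mk K) :=
      Ideal.ext fun y => by
        obtain ⟨y, rfl⟩ := Ideal.Quotient.mk_surjective y
        show Ideal.Quotient.mk J y = 0 ↔ _
        rw [Ideal.Quotient.eq_zero_iff_mem, Ideal.mem_quotient_iff_mem_sup, sup_eq_left.2 hK2]
    have hker1 : RingHom.ker π.toRingHom = Ideal.span {Ideal.Quotient.mk K (i : P)} := by
      rw [hπker]
      refine le_antisymm ?_ ?_
      · refine (Ideal.map_mono hspan).trans ?_
        rw [Ideal.map_sup, Ideal.map_quotient_self, bot_sup_eq, Ideal.map_span, Set.image_singleton]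
      · exact (Ideal.span_singleton_le_iff_mem _).2 (Ideal.mem_map_of_mem _ (Ideal.mem_sup_left i.2))
    have hkm : ∀ a ∈ maximalIdeal (P ⧸ K), a * Ideal.Quotient.mk K (i : P) = 0 := by
      intro a ha
      obtain ⟨a, rfl⟩ := Ideal.Quotient.mk_surjective a
      rw [← map_mul, Ideal.Quotient.eq_zero_iff_mem]
      exact hmJ (Ideal.mul_mem_mul (fun hu => ha (hu.map _)) (Ideal.mem_sup_left i.2))
    obtain ⟨g, hg⟩ : ∃ g : A →ₐ[R] P ⧸ J,
        ∀ x, g (algebraMap P A x) = Ideal.Quotient.mk J x := by
      refine ⟨{ (algebraMap P A).liftOfSurjective hs ⟨Ideal.Quotient.mk J, fun x hx =>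
          Ideal.Quotient.eq_zero_iff_mem.2 (Ideal.mem_sup_left hx)⟩ with commutes' := fun x => ?_ }, ?_⟩
      · show RingHom.liftOfSurjective _ hs _ _ = _
        rw [IsScalarTower.algebraMap_apply R P A]
        exact RingHom.liftOfRightInverse_comp_apply _ _ _ _ _
      · exact fun x => RingHom.liftOfRightInverse_comp_apply _ _ _ _ _
    have hgloc : IsLocalHom g.toRingHom :=
      IsLocalHom.of_surjective _ fun y => by
        obtain ⟨y, rfl⟩ := Ideal.Quotient.mk_surjective y
        exact ⟨_, hg y⟩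
    obtain ⟨χ, hχ⟩ := h _ _ π (Ideal.Quotient.mkₐ R K) Ideal.Quotient.mk_surjective hπ ⟨_, hker1, hkm⟩ g hgloc
    let J' : Ideal (P ⧸ K) := RingHom.ker π.toRingHom
    have hJ'max : J' ≤ maximalIdeal (P ⧸ K) := le_maximalIdeal (RingHom.ker_ne_top _)
    have hmJ' : ∀ a ∈ maximalIdeal (P ⧸ K), ∀ b ∈ J', a * b = 0 := fun a ha b hb => by
      obtain ⟨r, rfl⟩ := Ideal.mem_span_singleton'.1 (hker1.le hb)
      rw [mul_left_comm, hkm a ha, mul_zero]
    have hδ : ∀ x, Ideal.Quotient.mk K x - χ (algebraMap P A x) ∈ J' := fun x => by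
      show π _ = 0
      rw [map_sub, sub_eq_zero, show π (χ _) = g _ from AlgHom.congr_fun hχ _, hg]
      rfl
    let δ' : P →ₗ[R] J' :=
      { toFun := fun x => ⟨_, hδ x⟩
        map_add' := fun x y => Subtype.ext (by simp [map_add, add_sub_add_comm])
        map_smul' := fun a x => Subtype.ext (by
          show Ideal.Quotient.mk K (a • x) - χ (algebraMap P A (a • x)) =
            a • (Ideal.Quotient.mk K x - χ (algebraMap P A x))
          rw [← Ideal.Quotient.mkₐ_eq_mk R, ← IsScalarTower.coe_toAlgHom' R P A, map_smul, map_smul,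
            map_smul, smul_sub]) }
    let δ : Derivation R P J' := Derivation.mk' δ' fun x y => Subtype.ext (by
      show Ideal.Quotient.mk K (x * y) - χ (algebraMap P A (x * y)) =
        x • (Ideal.Quotient.mk K y - χ (algebraMap P A y)) + y • (Ideal.Quotient.mk K x - χ (algebraMap P A x))
      rw [Algebra.smul_def, Algebra.smul_def, Ideal.Quotient.algebraMap_eq, map_mul, map_mul, map_mul]
      have h1 := hmJ' _ (hJ'max (hδ x)) _ (hδ y)
      linear_combination -h1)
    have hδI : (δ.liftKaehlerDifferential (KaehlerDifferential.D R P i) : P ⧸ K) =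
        Ideal.Quotient.mk K i := by
      rw [Derivation.liftKaehlerDifferential_comp_D]
      show Ideal.Quotient.mk K (i : P) - χ (algebraMap P A i) = _
      rw [show algebraMap P A (i : P) = 0 from i.2, map_zero, sub_zero]
    have hmem : δ.liftKaehlerDifferential (KaehlerDifferential.D R P (i : P)) ∈ m • (⊤ : Submodule P J') :=
      (Submodule.map_smul'' m ⊤ δ.liftKaehlerDifferential).le.trans
        (Submodule.smul_mono le_rfl le_top) (Submodule.mem_map_of_mem hDi)
    have hzero : ∀ y ∈ m • (⊤ : Submodule P J'), (y : P ⧸ K) = 0 := by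
      intro y hy
      refine Submodule.smul_induction_on hy (fun a ha y _ => ?_) fun a b ha hb => by
        rw [Submodule.coe_add, ha, hb, add_zero]
      show a • (y : P ⧸ K) = 0
      rw [Algebra.smul_def, Ideal.Quotient.algebraMap_eq]
      exact hmJ' _ ((IsLocalHom.of_surjective (Ideal.Quotient.mk K) Ideal.Quotient.mk_surjective).map_nonunit a |> mt <| ha) _ y.2
    exact hK3 (Ideal.Quotient.eq_zero_iff_mem.1 (hδI ▸ hzero _ hmem))
  obtain ⟨a, ha, b, hb, hab⟩ := Submodule.mem_sup.1 hiK
  have hi : (i : P) ∈ m * I := by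
    rw [← hab]
    refine add_mem ha (hAR ⟨hb, ?_⟩)
    rw [show b = (i : P) - a from (eq_sub_iff_add_eq'.2 hab)]
    exact sub_mem i.2 (Ideal.mul_le_right ha)
  have hmI : i ∈ m • (⊤ : Submodule P I) := by
    have h1 : (i : P) ∈ Submodule.map I.subtype (m • ⊤) := by
      rw [Submodule.map_smul'', Submodule.map_top, Submodule.range_subtype]
      exact hi
    obtain ⟨j, hj, hji⟩ := h1
    rwa [Subtype.ext hji] at hj
  refine Submodule.smul_induction_on hmI (fun a ha y _ => ?_) fun a b ha hb => by
    rw [TensorProduct.tmul_add, ha, hb, add_zero]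
  rw [TensorProduct.tmul_smul, TensorProduct.smul_tmul', Algebra.smul_def, (hker a).2 ha,
    mul_one, TensorProduct.zero_tmul]

theorem finiteType_of_surjective_localization {R : Type u} [CommRing R] {n : ℕ}
    (p : Ideal (MvPolynomial (Fin n) R)) [p.IsMaximal] {B' : Type u} [CommRing B'] [IsLocalRing B']
    [IsArtinianRing B'] [Algebra R B'] (ψ : Localization.AtPrime p →ₐ[R] B') (hψ : Function.Surjective ψ) :
    Algebra.FiniteType R B' := by
  let φ : MvPolynomial (Fin n) R →ₐ[R] B' :=
    ψ.comp (IsScalarTower.toAlgHom R (MvPolynomial (Fin n) R) (Localization.AtPrime p))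
  refine Algebra.FiniteType.of_surjective φ ?_
  intro x
  obtain ⟨x, rfl⟩ := hψ x
  obtain ⟨a, ⟨s, hs⟩, rfl⟩ := IsLocalization.exists_mk'_eq p.primeCompl x
  obtain ⟨t, r, hr, htr⟩ := Ideal.IsMaximal.exists_inv ‹p.IsMaximal› hs
  haveI : IsLocalHom ψ.toRingHom := IsLocalHom.of_surjective _ hψ
  have hrm : φ r ∈ maximalIdeal B' := by
    intro h1
    exact (IsLocalization.AtPrime.to_map_mem_maximal_iff (Localization.AtPrime p) p r).2 hr
      (IsUnit.of_map ψ.toRingHom _ h1)
  obtain ⟨N, hN⟩ := IsArtinianRing.isNilpotent_jacobson_bot (R := B')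
  rw [jacobson_eq_maximalIdeal ⊥ bot_ne_top] at hN
  have hrN : (φ r) ^ N = 0 := by
    have h1 : (φ r) ^ N ∈ maximalIdeal B' ^ N := Ideal.pow_mem_pow hrm N
    rwa [hN] at h1
  let S' := ∑ j ∈ Finset.range N, r ^ j
  have h2 : φ s * φ (t * S') = 1 := by
    rw [← map_mul, show s * (t * S') = 1 - r ^ N from by
      rw [← mul_neg_geom_sum r N]
      show s * (t * S') = (1 - r) * S'
      linear_combination S' * htr, map_sub, map_one, map_pow, hrN, sub_zero]
  refine ⟨a * (t * S'), ?_⟩
  have h3 : ψ (IsLocalization.mk' _ a (⟨s, hs⟩ : p.primeCompl)) * φ s = φ a := by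
    show ψ _ * ψ (algebraMap _ (Localization.AtPrime p) s) = ψ (algebraMap _ _ a)
    rw [← map_mul]
    congr 1
    exact IsLocalization.mk'_spec _ a (⟨s, hs⟩ : p.primeCompl)
  rw [map_mul, ← h3, mul_assoc, h2, mul_one]

theorem isSmoothAt_of_lifts {R S : Type u} [CommRing R] [IsNoetherianRing R]
    [CommRing S] [Algebra R S] [Algebra.FiniteType R S] (q : Ideal S) [q.IsPrime]
    (h : ∀ (B' B : Type u) [CommRing B'] [CommRing B] [IsLocalRing B'] [IsLocalRing B]
        [IsArtinianRing B'] [IsArtinianRing B] [Algebra R B'] [Algebra R B] (π : B' →ₐ[R] B),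
        (q.IsMaximal → Algebra.FiniteType R B') →
        Function.Surjective π →
        (∃ t : B', RingHom.ker π.toRingHom = Ideal.span {t} ∧
          ∀ a ∈ maximalIdeal B', a * t = 0) →
        ∀ g : S →ₐ[R] B, (maximalIdeal B).comap g = q →
          ∃ g' : S →ₐ[R] B', π.comp g' = g) : Algebra.IsSmoothAt R q := by
  obtain ⟨n, f₀, hf₀⟩ := Algebra.FiniteType.iff_quotient_mvPolynomial''.mp
    (inferInstance : Algebra.FiniteType R S)
  let p : Ideal (MvPolynomial (Fin n) R) := q.comap f₀.toRingHom
  let P := Localization.AtPrime p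
  let A := Localization.AtPrime q
  let fP : P →ₐ[R] A := IsLocalization.liftAlgHom (M := p.primeCompl) (S := P)
    (f := (IsScalarTower.toAlgHom R S A).comp f₀) fun x =>
      IsLocalization.map_units (M := q.primeCompl) A ⟨f₀ x.1, x.2⟩
  have hs : Function.Surjective fP := by
    intro x
    obtain ⟨x, ⟨s, hs⟩, rfl⟩ := IsLocalization.exists_mk'_eq q.primeCompl x
    obtain ⟨x, rfl⟩ := hf₀ x
    obtain ⟨s, rfl⟩ := hf₀ s
    refine ⟨IsLocalization.mk' P x (⟨s, hs⟩ : p.primeCompl), ?_⟩
    simp [fP, IsLocalization.lift_mk', Units.mul_inv_eq_iff_eq_mul, IsUnit.liftRight]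
  algebraize [fP.toRingHom]
  have : IsScalarTower R P A := IsScalarTower.of_algebraMap_eq fun x => (fP.commutes x).symm
  have : IsNoetherianRing P := IsLocalization.isNoetherianRing p.primeCompl P inferInstance
  have : Algebra.FormallyEtale (MvPolynomial (Fin n) R) P := .of_isLocalization p.primeCompl
  have : Algebra.FormallySmooth R P := .comp R (MvPolynomial (Fin n) R) P
  have : Module.Free P Ω[P⁄R] :=
    .of_equiv (KaehlerDifferential.tensorKaehlerEquivOfFormallyEtale R (MvPolynomial (Fin n) R) P)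
  have : Module.Finite P Ω[P⁄R] :=
    .equiv (KaehlerDifferential.tensorKaehlerEquivOfFormallyEtale R (MvPolynomial (Fin n) R) P)
  refine (Algebra.FormallySmooth.iff_injective_cotangentComplexBaseChange_residueField P hs
    (IsNoetherian.noetherian _)).2 (injective_of_liftsSmall hs ?_)
  intro B' B _ _ _ _ _ _ _ _ π ψ hψ hπ hker g hgl
  have hft : q.IsMaximal → Algebra.FiniteType R B' := fun hq =>
    haveI : p.IsMaximal := Ideal.comap_isMaximal_of_surjective _ hf₀
    finiteType_of_surjective_localization p ψ hψ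
  let i₀ := IsScalarTower.toAlgHom R S (Localization.AtPrime q)
  obtain ⟨g', hg'⟩ := h B' B π hft hπ hker (g.comp i₀) (by
    ext x
    show g (algebraMap S (Localization.AtPrime q) x) ∈ maximalIdeal B ↔ x ∈ q
    rw [← IsLocalization.AtPrime.to_map_mem_maximal_iff (Localization.AtPrime q) q x,
      mem_maximalIdeal, mem_maximalIdeal, mem_nonunits_iff, mem_nonunits_iff, not_iff_not]
    exact ⟨fun h1 => hgl.map_nonunit _ h1, fun h1 => h1.map _⟩)
  haveI : IsLocalHom π.toRingHom := IsLocalHom.of_surjective _ hπ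
  have hu : ∀ y : q.primeCompl, IsUnit (g' y) := fun y => by
    refine IsUnit.of_map π.toRingHom _ ?_
    rw [show π.toRingHom (g' y) = g (i₀ y) from AlgHom.congr_fun hg' y]
    exact (IsLocalization.map_units (Localization.AtPrime q) y).map _
  refine ⟨IsLocalization.liftAlgHom (M := q.primeCompl) (S := Localization.AtPrime q) (f := g') hu, ?_⟩
  refine IsLocalization.algHom_ext q.primeCompl ?_
  ext x
  show π (IsLocalization.lift _ (algebraMap S (Localization.AtPrime q) x)) = _
  rw [IsLocalization.lift_eq]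
  exact AlgHom.congr_fun hg' x

/-- Smoothness at a prime is detected by small extensions. -/
theorem isSmoothAt_iff_lift_small {R S : Type u} [CommRing R] [IsNoetherianRing R]
    [CommRing S] [Algebra R S] [Algebra.FiniteType R S] (q : Ideal S) [q.IsPrime] :
    Algebra.IsSmoothAt R q ↔
      ∀ (B' B : Type u) [CommRing B'] [CommRing B] [IsLocalRing B'] [IsLocalRing B]
        [IsArtinianRing B'] [IsArtinianRing B] [Algebra R B'] [Algebra R B] (π : B' →ₐ[R] B),
        Function.Surjective π →
        (∃ t : B', RingHom.ker π.toRingHom = Ideal.span {t} ∧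
          ∀ a ∈ maximalIdeal B', a * t = 0) →
        ∀ g : S →ₐ[R] B, (maximalIdeal B).comap g = q →
          ∃ g' : S →ₐ[R] B', π.comp g' = g := by
  constructor
  · intro hq B' B _ _ _ _ _ _ _ _ π hπ ⟨t, ht, htm⟩ g hg
    refine exists_lift_of_isSmoothAt hq π hπ ?_ g hg
    have htt : t * t = 0 :=
      htm t (le_maximalIdeal (RingHom.ker_ne_top π.toRingHom) (ht ▸ Ideal.mem_span_singleton_self t))
    rw [ht, pow_two, Ideal.span_singleton_mul_span_singleton, htt, Ideal.span_singleton_eq_bot]
  · intro h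
    exact isSmoothAt_of_lifts q fun B' B _ _ _ _ _ _ _ _ π _ => h B' B π

end AlgSpLib
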