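import Groth.Agent.AlgSpLib.SmoothSection
import Groth.Agent.AlgSpLib.FormalRows
/-!
# Smooth morphisms are formally smooth; formally smooth lfp morphisms are smooth
-/

set_option autoImplicit false
universe u
open CategoryTheory CategoryTheory.Limits AlgebraicGeometry Opposite AlgSp Topology

namespace AlgSpLib

variable {S : Scheme.{u}}

/-- Lifts exist for a square whose pullback to the test scheme is a smooth algebraic space. -/
theorem hasLift_of_smooth_pullback {F G : Sp S} {f : F ⟶ G} (sq : InfSq f) {P : Sp S} (hP : IsAlgSpace P)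
    {p : P ⟶ F} {q : P ⟶ (yon S).obj sq.ptT'} (hpq : IsPullback p q f sq.bot) (hq : LocP @Smooth q) :
    sq.HasLift := by
  obtain ⟨L, hL, hLT⟩ := exists_section_lift (str := sq.str) sq.I sq.sq_zero hP hq
    (hpq.lift sq.top ((yon S).map sq.j) sq.comm)
    ((hpq.lift_snd _ _ _).trans (congrArg (yon S).map (Over.OverMorphism.ext rfl)))
  refine ⟨L ≫ p, ?_, ?_⟩
  · have hj : stA sq.str (sq.A ⧸ sq.I) = sq.j := Over.OverMorphism.ext rfl
    rw [← Category.assoc, ← hj]
    exact (congrArg (· ≫ p) hLT).trans (hpq.lift_fst _ _ _)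
  · rw [Category.assoc, hpq.w, ← Category.assoc, hL, Category.id_comp]

/-- Representable smooth morphisms of sheaves are formally smooth. -/
theorem isFormallySmoothMor_of_repWith_smooth {F G : Sp S} {f : F ⟶ G} (hf : RepWith @Smooth f) :
    IsFormallySmoothMor f := fun sq => by
  obtain ⟨W, p, c, sqW⟩ : ∃ (W : Over S) (p : (yon S).obj W ⟶ F) (c : W ⟶ sq.ptT'),
      IsPullback p ((yon S).map c) f sq.bot := ⟨_, _, _, hf.rep.isPullback sq.bot⟩
  have : Smooth c.left :=
    (repWith_yon_map_iff (P := (@Smooth : MorphismProperty Scheme.{u})) c).1 (repWith_of_isPullback sqW hf)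
  exact hasLift_of_smooth_pullback sq (IsAlgSpace.yon_obj W) sqW (locP_smooth_yon_map c)

/-- Smooth morphisms of algebraic spaces are formally smooth. -/
theorem isFormallySmoothMor_of_locP_smooth {F G : Sp S} (hF : IsAlgSpace F) (hG : IsAlgSpace G) {f : F ⟶ G}
    (hf : LocP @Smooth f) : IsFormallySmoothMor f := fun sq =>
  hasLift_of_smooth_pullback sq (isAlgSpace_pullback hF (IsAlgSpace.yon_obj _) hG f sq.bot)
    (IsPullback.of_hasPullback f sq.bot)
    (locP_of_isPullback hF hG (IsAlgSpace.yon_obj _) (IsPullback.of_hasPullback f sq.bot) hf)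

theorem isFormallySmoothMor_yon_iff {U V : Over S} (h : U ⟶ V) :
    IsFormallySmoothMor ((yon S).map h) ↔ MoreMor.IsFormallySmoothHom h.left := by
  constructor
  · intro hh A _ I hI a b w
    obtain ⟨L, hL1, hL2⟩ := hh (sqOfScheme h I hI a b w)
    obtain ⟨L, rfl⟩ := (yon S).map_surjective L
    rw [← Functor.map_comp] at hL1 hL2
    exact ⟨L.left, congrArg CommaMorphism.left ((yon S).map_injective hL1),
      congrArg CommaMorphism.left ((yon S).map_injective hL2)⟩
  · intro hh sq
    obtain ⟨a, ha⟩ := (yon S).map_surjective sq.top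
    obtain ⟨b, hb⟩ := (yon S).map_surjective sq.bot
    have w : sq.j ≫ b = a ≫ h := (yon S).map_injective (by
      rw [Functor.map_comp, Functor.map_comp, ha, hb]; exact sq.comm.symm)
    obtain ⟨L, hL1, hL2⟩ := hh sq.A sq.I sq.sq_zero a.left b.left (congrArg CommaMorphism.left w)
    refine ⟨(yon S).map (Over.homMk L (by
        change L ≫ U.hom = sq.str
        rw [← Over.w h, ← Category.assoc, hL2, Over.w b]
        rfl) : sq.ptT' ⟶ U), ?_, ?_⟩
    · rw [← Functor.map_comp, ← ha]
      exact congrArg (yon S).map (Over.OverMorphism.ext hL1)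
    · rw [← Functor.map_comp, ← hb]
      exact congrArg (yon S).map (Over.OverMorphism.ext hL2)

/-- Formally smooth morphisms of schemes are formally smooth on affine opens. -/
theorem formallySmooth_appLE {X Y : Scheme.{u}} (f : X ⟶ Y) (hf : MoreMor.IsFormallySmoothHom f)
    {V : Y.Opens} (hV : IsAffineOpen V) {U : X.Opens} (hU : IsAffineOpen U) (e : U ≤ f ⁻¹ᵁ V) :
    (f.appLE V U e).hom.FormallySmooth := by
  let := (f.appLE V U e).hom.toAlgebra
  change Algebra.FormallySmooth Γ(Y, V) Γ(X, U)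
  refine Algebra.FormallySmooth.iff_comp_surjective.2 fun R _ _ I hI g => ?_
  obtain ⟨L, hL1, hL2⟩ := hf R I hI (Spec.map (CommRingCat.ofHom g.toRingHom) ≫ hU.fromSpec)
    (Spec.map (CommRingCat.ofHom (algebraMap Γ(Y, V) R)) ≫ hV.fromSpec) (by
      rw [Category.assoc, ← hV.SpecMap_appLE_fromSpec f hU e, ← Spec.map_comp_assoc,
        ← Spec.map_comp_assoc, ← CommRingCat.ofHom_comp]
      congr 2
      exact CommRingCat.hom_ext g.comp_algebraMap.symm)
  have hsub : Set.range L ⊆ Set.range hU.fromSpec := by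
    rintro _ ⟨p, rfl⟩
    obtain ⟨t, rfl⟩ := (thick_quotient R I hI).2.surj p
    exact ⟨Spec.map (CommRingCat.ofHom g.toRingHom) t, by
      rw [← Scheme.Hom.comp_apply, ← Scheme.Hom.comp_apply, hL1]⟩
  let L' := IsOpenImmersion.lift hU.fromSpec L hsub
  have hL' : L' ≫ hU.fromSpec = L := IsOpenImmersion.lift_fac _ _ hsub
  have hcomm : f.appLE V U e ≫ Spec.preimage L' = CommRingCat.ofHom (algebraMap Γ(Y, V) R) :=
    Spec.map_injective (by
      rw [← cancel_mono hV.fromSpec, Spec.map_comp, Category.assoc, hV.SpecMap_appLE_fromSpec f hU e,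
        ← Category.assoc, Spec.map_preimage, hL', hL2])
  refine ⟨⟨(Spec.preimage L').hom, fun x => congrArg (fun k => k.hom x) hcomm⟩, AlgHom.ext fun x => ?_⟩
  have h' : Spec.preimage L' ≫ CommRingCat.ofHom (Ideal.Quotient.mk I) = CommRingCat.ofHom g.toRingHom :=
    Spec.map_injective (by
      rw [← cancel_mono hU.fromSpec, Spec.map_comp, Category.assoc, Spec.map_preimage, hL', hL1])
  exact congrArg (fun k => k.hom x) h'

theorem smooth_of_lfp_formallySmoothHom {X Y : Scheme.{u}} (f : X ⟶ Y) [LocallyOfFinitePresentation f]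
    (hf : MoreMor.IsFormallySmoothHom f) : Smooth f := by
  refine ⟨fun {V} hV {U} hU e => ?_⟩
  have h1 := formallySmooth_appLE f hf hV hU e
  have h2 := HasRingHomProperty.appLE (P := @LocallyOfFinitePresentation) f ‹_› ⟨V, hV⟩ ⟨U, hU⟩ e
  algebraize [(f.appLE V U e).hom]
  exact Algebra.Smooth.mk

theorem isFormallySmoothHom_of_smooth {X Y : Scheme.{u}} (f : X ⟶ Y) [Smooth f] :
    MoreMor.IsFormallySmoothHom f := by
  let h : (Over.mk f : Over Y) ⟶ Over.mk (𝟙 Y) := Over.homMk f (by simp)
  have : Smooth h.left := ‹Smooth f›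
  exact (isFormallySmoothMor_yon_iff h).1
    (isFormallySmoothMor_of_repWith_smooth ((repWith_yon_map_iff (P := (@Smooth : MorphismProperty Scheme.{u})) h).2 this))

/-- Formal smoothness on charts. -/
theorem isFormallySmoothMor_chart {X Y : Sp S} (hX : IsAlgSpace X) (hY : IsAlgSpace Y) {f : X ⟶ Y}
    (hf : IsFormallySmoothMor f) {U V : Over S} {a : (yon S).obj U ⟶ X} {b : (yon S).obj V ⟶ Y} {h : U ⟶ V}
    (ha : RepWith @Etale a) (hb : RepWith @Etale b) (e : a ≫ f = (yon S).map h ≫ b) :
    MoreMor.IsFormallySmoothHom h.left :=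
  (isFormallySmoothMor_yon_iff h).1 (smooth_of_etale_charts (IsAlgSpace.yon_obj U) hX (IsAlgSpace.yon_obj V) hY hf
    (isEtaleMor_of_repWith ha) (isEtaleMor_of_repWith hb) e.symm)

theorem smooth_iff_lfp_and_formallySmooth {X Y : Sp S} (hX : IsAlgSpace X) (hY : IsAlgSpace Y) (f : X ⟶ Y) :
    LocP @Smooth f ↔ LocP @LocallyOfFinitePresentation f ∧ IsFormallySmoothMor f := by
  refine ⟨fun h => ⟨locP_mono (fun _ _ g (_ : Smooth g) => (inferInstance : LocallyOfFinitePresentation g)) h,
    isFormallySmoothMor_of_locP_smooth hX hY h⟩, fun ⟨h1, h2⟩ U V a b h ha hb e => ?_⟩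
  have : LocallyOfFinitePresentation h.left := h1 a b h ha hb e
  exact smooth_of_lfp_formallySmoothHom h.left (isFormallySmoothMor_chart hX hY h2 ha hb e)

end AlgSpLib

namespace AlgSpLib

variable {S : Scheme.{u}}

theorem isFormallyUnramifiedMor_of_repWith_unramified {F G : Sp S} {f : F ⟶ G}
    (hf : RepWith (@LocallyOfFiniteType ⊓ @FormallyUnramified) f) : IsFormallyUnramifiedMor f := by
  intro sq l l' h1 h2 h1' h2'
  obtain ⟨W, p, c, sqW⟩ : ∃ (W : Over S) (p : (yon S).obj W ⟶ F) (c : W ⟶ sq.ptT'),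
      IsPullback p ((yon S).map c) f sq.bot := ⟨_, _, _, hf.rep.isPullback sq.bot⟩
  have : FormallyUnramified c.left := by
    have h := (repWith_yon_map_iff (P := (@LocallyOfFiniteType ⊓ @FormallyUnramified : MorphismProperty Scheme.{u})) c).1 (repWith_of_isPullback sqW hf)
    exact h.2
  let m := sqW.lift l (𝟙 _) (by rw [Category.id_comp]; exact h2)
  let m' := sqW.lift l' (𝟙 _) (by rw [Category.id_comp]; exact h2')
  let s' : InfSq ((yon S).map c) :=
  { A := sq.A, I := sq.I, sq_zero := sq.sq_zero, str := sq.str,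
    top := (yon S).map sq.j ≫ m, bot := 𝟙 _,
    comm := by rw [Category.assoc, sqW.lift_snd] }
  have := isFormallyUnramifiedMor_yon (h := c) s' m m' rfl (sqW.lift_snd _ _ _)
    (sqW.hom_ext (by rw [Category.assoc, Category.assoc, sqW.lift_fst, sqW.lift_fst]; exact h1'.trans h1.symm)
      (by rw [Category.assoc, Category.assoc, sqW.lift_snd, sqW.lift_snd])) (sqW.lift_snd _ _ _)
  rw [← sqW.lift_fst l (𝟙 _) (by rw [Category.id_comp]; exact h2),
    ← sqW.lift_fst l' (𝟙 _) (by rw [Category.id_comp]; exact h2')]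
  exact congrArg (· ≫ _) this

end AlgSpLib
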