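import Groth.Agent.AlgSpLib.SmallExtCrit
import Groth.Agent.AlgSpLib.SmoothFormal

/-! Smoothness of scheme morphisms at a point via small extensions. -/

set_option autoImplicit false
universe u
open CategoryTheory CategoryTheory.Limits AlgebraicGeometry IsLocalRing

namespace AlgSpLib

/-- Smooth morphisms lift along square-zero surjections of affine schemes. -/
theorem exists_lift_sq_zero_of_smooth {X Y : Scheme.{u}} (f : X ⟶ Y) [Smooth f] {B' B : Type u}
    [CommRing B'] [CommRing B] (π : B' →+* B) (hπ : Function.Surjective π) (hsq : RingHom.ker π ^ 2 = ⊥)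
    (α : Spec (CommRingCat.of B) ⟶ X) (β : Spec (CommRingCat.of B') ⟶ Y)
    (w : Spec.map (CommRingCat.ofHom π) ≫ β = α ≫ f) :
    ∃ γ : Spec (CommRingCat.of B') ⟶ X, Spec.map (CommRingCat.ofHom π) ≫ γ = α ∧ γ ≫ f = β := by
  let e := RingHom.quotientKerEquivOfSurjective hπ
  have hπe : CommRingCat.ofHom π = CommRingCat.ofHom (Ideal.Quotient.mk _) ≫ e.toCommRingCatIso.hom :=
    CommRingCat.hom_ext (RingHom.ext fun x => rfl)
  haveI : IsIso (Spec.map e.toCommRingCatIso.hom) := inferInstance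
  obtain ⟨γ, h1, h2⟩ := isFormallySmoothHom_of_smooth f B' _ hsq (inv (Spec.map e.toCommRingCatIso.hom) ≫ α) β (by
    rw [Category.assoc, IsIso.eq_inv_comp, ← w, hπe, Spec.map_comp, Category.assoc])
  refine ⟨γ, ?_, h2⟩
  rw [hπe, Spec.map_comp, Category.assoc, h1, IsIso.hom_inv_id_assoc]

theorem isSmoothAt_appLE_of_lifts {X Y : Scheme.{u}} (f : X ⟶ Y) [IsLocallyNoetherian Y]
    [LocallyOfFiniteType f] {V : Y.Opens} (hV : IsAffineOpen V) {U : X.Opens} (hU : IsAffineOpen U)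
    (e : U ≤ f ⁻¹ᵁ V) (q : PrimeSpectrum Γ(X, U))
    (h : ∀ (B' B : Type u) [CommRing B'] [CommRing B] [IsLocalRing B'] [IsLocalRing B]
      [IsArtinianRing B'] [IsArtinianRing B] (π : B' →+* B), Function.Surjective π →
      (∃ t : B', RingHom.ker π = Ideal.span {t} ∧ ∀ a ∈ maximalIdeal B', a * t = 0) →
      ∀ (α : Spec (CommRingCat.of B) ⟶ X) (β : Spec (CommRingCat.of B') ⟶ Y),
      α (closedPoint B) = hU.fromSpec q → (q.asIdeal.IsMaximal → LocallyOfFiniteType β) →
      Spec.map (CommRingCat.ofHom π) ≫ β = α ≫ f →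
      ∃ γ : Spec (CommRingCat.of B') ⟶ X, Spec.map (CommRingCat.ofHom π) ≫ γ = α ∧ γ ≫ f = β) :
    letI := (f.appLE V U e).hom.toAlgebra
    Algebra.IsSmoothAt Γ(Y, V) q.asIdeal := by
  letI := (f.appLE V U e).hom.toAlgebra
  haveI : Algebra.FiniteType Γ(Y, V) Γ(X, U) :=
    HasRingHomProperty.appLE (P := @LocallyOfFiniteType) f ‹_› ⟨V, hV⟩ ⟨U, hU⟩ e
  haveI : IsNoetherianRing Γ(Y, V) := IsLocallyNoetherian.component_noetherian ⟨V, hV⟩
  refine isSmoothAt_of_lifts q.asIdeal fun B' B _ _ _ _ _ _ _ _ π hft hπ hker g hg => ?_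
  let i := CommRingCat.ofHom π.toRingHom
  let α := Spec.map (CommRingCat.ofHom g.toRingHom) ≫ hU.fromSpec
  let β := Spec.map (CommRingCat.ofHom (algebraMap Γ(Y, V) B')) ≫ hV.fromSpec
  have hcl : α (closedPoint B) = hU.fromSpec q := by
    rw [Scheme.Hom.comp_apply]
    exact congrArg _ (PrimeSpectrum.ext hg)
  have hlft : q.asIdeal.IsMaximal → LocallyOfFiniteType β := fun hq => by
    haveI := hft hq
    haveI : LocallyOfFiniteType (Spec.map (CommRingCat.ofHom (algebraMap Γ(Y, V) B'))) :=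
      (HasRingHomProperty.Spec_iff (P := @LocallyOfFiniteType)).2
        (RingHom.finiteType_algebraMap.2 ‹_›)
    exact MorphismProperty.comp_mem _ _ _ ‹_› inferInstance
  have w : Spec.map i ≫ β = α ≫ f := by
    rw [Category.assoc, ← hV.SpecMap_appLE_fromSpec f hU e, ← Spec.map_comp_assoc, ← Spec.map_comp_assoc,
      ← CommRingCat.ofHom_comp]
    congr 2
    exact CommRingCat.hom_ext ((π.comp_algebraMap).trans g.comp_algebraMap.symm)
  obtain ⟨γ, hγ1, hγ2⟩ := h B' B π.toRingHom hπ hker α β hcl hlft w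
  have hγU : γ (closedPoint B') ∈ Set.range hU.fromSpec := by
    haveI : IsLocalHom π.toRingHom := IsLocalHom.of_surjective _ hπ
    have h1 : Spec.map i (closedPoint B) = closedPoint B' := comap_closedPoint π.toRingHom
    have h2 : γ (Spec.map i (closedPoint B)) = α (closedPoint B) := by
      rw [← Scheme.Hom.comp_apply, hγ1]
    rw [h1, hcl] at h2
    exact ⟨q, h2.symm⟩
  have hsub : Set.range γ ⊆ Set.range hU.fromSpec := by
    rintro _ ⟨p, rfl⟩
    rw [hU.range_fromSpec] at hγU ⊢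
    exact ((specializes_closedPoint p).map γ.continuous).mem_open U.2 hγU
  let L := IsOpenImmersion.lift hU.fromSpec γ hsub
  have hL : L ≫ hU.fromSpec = γ := IsOpenImmersion.lift_fac _ _ hsub
  have hcomm : f.appLE V U e ≫ Spec.preimage L = CommRingCat.ofHom (algebraMap Γ(Y, V) B') :=
    Spec.map_injective (by
      rw [← cancel_mono hV.fromSpec, Spec.map_comp, Category.assoc, hV.SpecMap_appLE_fromSpec f hU e,
        ← Category.assoc, Spec.map_preimage, hL, hγ2])
  refine ⟨⟨(Spec.preimage L).hom, fun x => congrArg (fun k => k.hom x) hcomm⟩, AlgHom.ext fun x => ?_⟩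
  have h' : Spec.preimage L ≫ i = CommRingCat.ofHom g.toRingHom :=
    Spec.map_injective (by
      rw [← cancel_mono hU.fromSpec, Spec.map_comp, Category.assoc, Spec.map_preimage, hL, hγ1])
  exact congrArg (fun k => k.hom x) h'

/-- Small extensions at finite type points detect smoothness. -/
theorem smooth_of_lifts_small {X Y : Scheme.{u}} (f : X ⟶ Y) [IsLocallyNoetherian Y] [LocallyOfFiniteType f]
    (h : ∀ (B' B : Type u) [CommRing B'] [CommRing B] [IsLocalRing B'] [IsLocalRing B]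
      [IsArtinianRing B'] [IsArtinianRing B] (π : B' →+* B), Function.Surjective π →
      (∃ t : B', RingHom.ker π = Ideal.span {t} ∧ ∀ a ∈ maximalIdeal B', a * t = 0) →
      ∀ (α : Spec (CommRingCat.of B) ⟶ X) (β : Spec (CommRingCat.of B') ⟶ Y),
      LocallyOfFiniteType β → Spec.map (CommRingCat.ofHom π) ≫ β = α ≫ f →
      ∃ γ : Spec (CommRingCat.of B') ⟶ X, Spec.map (CommRingCat.ofHom π) ≫ γ = α ∧ γ ≫ f = β) :
    Smooth f := by
  refine ⟨fun {V} hV {U} hU e => ?_⟩
  letI := (f.appLE V U e).hom.toAlgebra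
  haveI : Algebra.FiniteType Γ(Y, V) Γ(X, U) :=
    HasRingHomProperty.appLE (P := @LocallyOfFiniteType) f ‹_› ⟨V, hV⟩ ⟨U, hU⟩ e
  haveI : IsNoetherianRing Γ(Y, V) := IsLocallyNoetherian.component_noetherian ⟨V, hV⟩
  haveI : Algebra.FinitePresentation Γ(Y, V) Γ(X, U) := Algebra.FinitePresentation.of_finiteType.1 ‹_›
  change Algebra.Smooth Γ(Y, V) Γ(X, U)
  refine ⟨Algebra.smoothLocus_eq_univ_iff.1 (Set.eq_univ_of_forall fun p => ?_), ‹_›⟩
  obtain ⟨m, hm, hpm⟩ := p.asIdeal.exists_le_maximal p.2.ne_top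
  refine (Algebra.isOpen_smoothLocus).stableUnderGeneralization
    ((PrimeSpectrum.le_iff_specializes p ⟨m, hm.isPrime⟩).1 hpm) ?_
  exact isSmoothAt_appLE_of_lifts f hV hU e ⟨m, hm.isPrime⟩ fun B' B _ _ _ _ _ _ π hπ hk α β _ hl =>
    h B' B π hπ hk α β (hl hm)

/-- Small extensions at a point detect smoothness near that point. -/
theorem exists_smooth_nhd_of_lifts {X Y : Scheme.{u}} (f : X ⟶ Y) [IsLocallyNoetherian Y] [LocallyOfFiniteType f]
    (x : X)
    (h : ∀ (B' B : Type u) [CommRing B'] [CommRing B] [IsLocalRing B'] [IsLocalRing B]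
      [IsArtinianRing B'] [IsArtinianRing B] (π : B' →+* B), Function.Surjective π →
      (∃ t : B', RingHom.ker π = Ideal.span {t} ∧ ∀ a ∈ maximalIdeal B', a * t = 0) →
      ∀ (α : Spec (CommRingCat.of B) ⟶ X) (β : Spec (CommRingCat.of B') ⟶ Y),
      α (closedPoint B) = x → Spec.map (CommRingCat.ofHom π) ≫ β = α ≫ f →
      ∃ γ : Spec (CommRingCat.of B') ⟶ X, Spec.map (CommRingCat.ofHom π) ≫ γ = α ∧ γ ≫ f = β) :
    ∃ W : X.Opens, x ∈ W ∧ Smooth (W.ι ≫ f) := by
  obtain ⟨V, hV, hxV, -⟩ := exists_isAffineOpen_mem_and_subset (x := f x) (U := ⊤) trivial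
  obtain ⟨U, hU, hxU, e⟩ := exists_isAffineOpen_mem_and_subset (x := x) (U := f ⁻¹ᵁ V) hxV
  obtain ⟨q, rfl⟩ : x ∈ Set.range hU.fromSpec := by rw [hU.range_fromSpec]; exact hxU
  letI := (f.appLE V U e).hom.toAlgebra
  haveI : Algebra.FiniteType Γ(Y, V) Γ(X, U) :=
    HasRingHomProperty.appLE (P := @LocallyOfFiniteType) f ‹_› ⟨V, hV⟩ ⟨U, hU⟩ e
  haveI : IsNoetherianRing Γ(Y, V) := IsLocallyNoetherian.component_noetherian ⟨V, hV⟩
  haveI : Algebra.FinitePresentation Γ(Y, V) Γ(X, U) := Algebra.FinitePresentation.of_finiteType.1 ‹_›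
  haveI : Algebra.IsSmoothAt Γ(Y, V) q.asIdeal :=
    isSmoothAt_appLE_of_lifts f hV hU e q fun B' B _ _ _ _ _ _ π hπ hk α β hc _ => h B' B π hπ hk α β hc
  obtain ⟨s, hs, hsm⟩ := Algebra.IsSmoothAt.exists_notMem_smooth (R := Γ(Y, V)) q.asIdeal
  have hW : IsAffineOpen (X.basicOpen s) := hU.basicOpen s
  have e' : X.basicOpen s ≤ f ⁻¹ᵁ V := (X.basicOpen_le s).trans e
  refine ⟨X.basicOpen s, ?_, ?_⟩
  · have h1 : q ∈ hU.fromSpec ⁻¹ᵁ X.basicOpen s := by
      rw [hU.fromSpec_preimage_basicOpen]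
      exact hs
    exact h1
  haveI : IsAffine V.toScheme := hV
  haveI : IsAffine (X.basicOpen s).toScheme := hW
  haveI : Smooth (f.resLE V (X.basicOpen s) e') := by
    rw [HasRingHomProperty.iff_of_isAffine (P := @Smooth),
      RingHom.Smooth.respectsIso.arrow_mk_iso_iff (arrowResLEAppIso f V _ e'),
      ← f.appLE_map e (homOfLE (X.basicOpen_le s)).op]
    haveI := hU.isLocalization_basicOpen s
    let e₀ := IsLocalization.algEquiv (Submonoid.powers s) (Localization.Away s) Γ(X, X.basicOpen s)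
    letI : Algebra Γ(Y, V) Γ(X, X.basicOpen s) :=
      ((f.appLE V U e ≫ X.presheaf.map (homOfLE (X.basicOpen_le s)).op).hom).toAlgebra
    haveI : IsScalarTower Γ(Y, V) Γ(X, U) Γ(X, X.basicOpen s) := IsScalarTower.of_algebraMap_eq' rfl
    change Algebra.Smooth Γ(Y, V) Γ(X, X.basicOpen s)
    exact Algebra.Smooth.of_equiv (e₀.restrictScalars Γ(Y, V))
  rw [show (X.basicOpen s).ι ≫ f = f.resLE V (X.basicOpen s) e' ≫ V.ι from (f.resLE_comp_ι e').symm]
  infer_instance

end AlgSpLib
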