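import Groth.Agent.AlgSpLib.SmallExtScheme
import Groth.Agent.AlgSpLib.FormalEtale
import Groth.Agent.AlgSpLib.Noeth
import Groth.Agent.AlgSpLib.Points

/-! Smoothness of algebraic spaces via small extensions. -/

set_option autoImplicit false
universe u
open CategoryTheory CategoryTheory.Limits AlgebraicGeometry Opposite AlgSp Topology IsLocalRing

namespace AlgSpLib

variable {S : Scheme.{u}}

theorem isThickening_specMap_of_sq {B' B : Type u} [CommRing B'] [CommRing B] (π : B' →+* B)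
    (hπ : Function.Surjective π) (hsq : RingHom.ker π ^ 2 = ⊥) :
    MoreMor.IsThickening (Spec.map (CommRingCat.ofHom π)) := by
  refine ⟨IsClosedImmersion.spec_of_surjective _ hπ, ⟨fun p => ?_⟩⟩
  have : p ∈ Set.range (PrimeSpectrum.comap π) := by
    rw [range_comap_of_surjective _ _ hπ]
    intro a ha
    have : a ^ 2 ∈ RingHom.ker π ^ 2 := Ideal.pow_mem_pow ha 2
    rw [hsq, Ideal.mem_bot] at this
    exact p.2.mem_of_pow_mem 2 (by rw [this]; exact p.asIdeal.zero_mem)
  exact this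

theorem ker_sq_eq_bot_of_small {B' B : Type u} [CommRing B'] [CommRing B] [IsLocalRing B'] [IsLocalRing B]
    {π : B' →+* B} (hk : ∃ t : B', RingHom.ker π = Ideal.span {t} ∧ ∀ a ∈ maximalIdeal B', a * t = 0) :
    RingHom.ker π ^ 2 = ⊥ := by
  obtain ⟨t, ht, htm⟩ := hk
  rw [ht, pow_two, Ideal.span_singleton_mul_span_singleton,
    htm t (le_maximalIdeal (RingHom.ker_ne_top π) (ht ▸ Ideal.mem_span_singleton_self t)),
    Ideal.span_singleton_eq_bot]

/-- Formally smooth morphisms lift along square-zero surjections. -/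
theorem exists_lift_sq_zero {F G : Sp S} {f : F ⟶ G} (hf : IsFormallySmoothMor f) {B' B : Type u}
    [CommRing B'] [CommRing B] (π : B' →+* B) (hπ : Function.Surjective π) (hsq : RingHom.ker π ^ 2 = ⊥)
    (s : Spec (CommRingCat.of B') ⟶ S)
    (α : (yon S).obj (Over.mk (Spec.map (CommRingCat.ofHom π) ≫ s)) ⟶ F)
    (β : (yon S).obj (Over.mk s) ⟶ G)
    (w : α ≫ f = (yon S).map (Over.homMk (Spec.map (CommRingCat.ofHom π)) :
        Over.mk (Spec.map (CommRingCat.ofHom π) ≫ s) ⟶ Over.mk s) ≫ β) :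
    ∃ γ : (yon S).obj (Over.mk s) ⟶ F,
      (yon S).map (Over.homMk (Spec.map (CommRingCat.ofHom π)) :
        Over.mk (Spec.map (CommRingCat.ofHom π) ≫ s) ⟶ Over.mk s) ≫ γ = α ∧ γ ≫ f = β := by
  let e := RingHom.quotientKerEquivOfSurjective hπ
  let ei := e.toCommRingCatIso
  have hπe : CommRingCat.ofHom π = CommRingCat.ofHom (Ideal.Quotient.mk _) ≫ ei.hom :=
    CommRingCat.hom_ext (RingHom.ext fun x => rfl)
  have hme : CommRingCat.ofHom (Ideal.Quotient.mk (RingHom.ker π)) = CommRingCat.ofHom π ≫ ei.inv := by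
    rw [hπe, Category.assoc, Iso.hom_inv_id, Category.comp_id]
  let i : Over.mk (Spec.map (CommRingCat.ofHom (Ideal.Quotient.mk (RingHom.ker π))) ≫ s) ⟶
      Over.mk (Spec.map (CommRingCat.ofHom π) ≫ s) := Over.homMk (Spec.map ei.inv) (by
    show Spec.map ei.inv ≫ Spec.map (CommRingCat.ofHom π) ≫ s = _ ≫ s
    rw [← Spec.map_comp_assoc, ← hme])
  let i' : Over.mk (Spec.map (CommRingCat.ofHom π) ≫ s) ⟶
      Over.mk (Spec.map (CommRingCat.ofHom (Ideal.Quotient.mk (RingHom.ker π))) ≫ s) :=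
    Over.homMk (Spec.map ei.hom) (by
      show Spec.map ei.hom ≫ Spec.map _ ≫ s = _ ≫ s
      rw [← Spec.map_comp_assoc, ← hπe])
  have hi : i' ≫ i = 𝟙 _ := Over.OverMorphism.ext (by
    show Spec.map ei.hom ≫ Spec.map ei.inv = 𝟙 _
    rw [← Spec.map_comp, Iso.inv_hom_id, Spec.map_id])
  let sq : InfSq f :=
  { A := B', I := RingHom.ker π, sq_zero := hsq, str := s, top := (yon S).map i ≫ α, bot := β,
    comm := by
      rw [Category.assoc, w, ← Category.assoc, ← Functor.map_comp]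
      congr 2
      exact Over.OverMorphism.ext (by
        show Spec.map ei.inv ≫ Spec.map (CommRingCat.ofHom π) = Spec.map _
        rw [← Spec.map_comp, ← hme]) }
  obtain ⟨γ, h1, h2⟩ := hf sq
  refine ⟨γ, ?_, h2⟩
  rw [← Category.id_comp α, ← CategoryTheory.Functor.map_id, ← hi, Functor.map_comp, Category.assoc]
  have h1' : (yon S).map sq.j ≫ γ = (yon S).map i ≫ α := h1
  rw [← h1', ← Category.assoc, ← Functor.map_comp]
  congr 2
  exact Over.OverMorphism.ext (by
    show Spec.map (CommRingCat.ofHom π) = Spec.map ei.hom ≫ Spec.map _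
    rw [← Spec.map_comp, ← hπe])

/-- A lift of a test square composed with charts gives a lift of the test square. -/
theorem exists_lift_chart {X Y : Sp S} (hX : IsAlgSpace X) (hY : IsAlgSpace Y) {f : X ⟶ Y}
    {U V : Over S} {a : (yon S).obj U ⟶ X} {b : (yon S).obj V ⟶ Y} {h : U ⟶ V}
    (ha : RepWith @Etale a) (hb : RepWith @Etale b) (e : a ≫ f = (yon S).map h ≫ b)
    {B' B : Type u} [CommRing B'] [CommRing B] (π : B' →+* B) (hπ : Function.Surjective π)
    (hsq : RingHom.ker π ^ 2 = ⊥)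
    (α₀ : Spec (CommRingCat.of B) ⟶ U.left) (β₀ : Spec (CommRingCat.of B') ⟶ V.left)
    (w : Spec.map (CommRingCat.ofHom π) ≫ β₀ = α₀ ≫ h.left)
    (H : ∀ (s : Spec (CommRingCat.of B') ⟶ S) (α' : Over.mk (Spec.map (CommRingCat.ofHom π) ≫ s) ⟶ U)
      (β' : Over.mk s ⟶ V), α'.left = α₀ → β'.left = β₀ →
      ((yon S).map α' ≫ a) ≫ f = (yon S).map (Over.homMk (Spec.map (CommRingCat.ofHom π)) :
        Over.mk (Spec.map (CommRingCat.ofHom π) ≫ s) ⟶ Over.mk s) ≫ (yon S).map β' ≫ b →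
      ∃ γ : (yon S).obj (Over.mk s) ⟶ X,
        (yon S).map (Over.homMk (Spec.map (CommRingCat.ofHom π)) :
        Over.mk (Spec.map (CommRingCat.ofHom π) ≫ s) ⟶ Over.mk s) ≫ γ = (yon S).map α' ≫ a ∧
        γ ≫ f = (yon S).map β' ≫ b) :
    ∃ L : Spec (CommRingCat.of B') ⟶ U.left, Spec.map (CommRingCat.ofHom π) ≫ L = α₀ ∧ L ≫ h.left = β₀ := by
  let s := β₀ ≫ V.hom
  let j : Over.mk (Spec.map (CommRingCat.ofHom π) ≫ s) ⟶ Over.mk s :=
    Over.homMk (Spec.map (CommRingCat.ofHom π))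
  let α' : Over.mk (Spec.map (CommRingCat.ofHom π) ≫ s) ⟶ U := Over.homMk α₀ (by
    show α₀ ≫ U.hom = Spec.map _ ≫ β₀ ≫ V.hom
    rw [← Over.w h, ← Category.assoc, ← w, Category.assoc])
  let β' : Over.mk s ⟶ V := Over.homMk β₀ rfl
  have hαh : α' ≫ h = j ≫ β' := Over.OverMorphism.ext w.symm
  obtain ⟨γ, h1, h2⟩ := H s α' β' rfl rfl (by
    rw [Category.assoc, e, ← (yon S).map_comp_assoc, hαh, (yon S).map_comp_assoc])
  have ht : IsThickMor ((yon S).map j) := (isThickMor_yon_map_iff _).2 (isThickening_specMap_of_sq π hπ hsq)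
  obtain ⟨l, ⟨hl1, hl2⟩, -⟩ := existsUnique_lift_of_isEtaleMor (IsAlgSpace.yon_obj _) (IsAlgSpace.yon_obj _)
    (IsAlgSpace.yon_obj U) hX ht (isEtaleMor_of_repWith ha) ((yon S).map α') γ h1.symm
  obtain ⟨L, rfl⟩ := (yon S).map_surjective l
  rw [← Functor.map_comp] at hl1
  refine ⟨L.left, congrArg CommaMorphism.left ((yon S).map_injective hl1), ?_⟩
  have := (existsUnique_lift_of_isEtaleMor (IsAlgSpace.yon_obj _) (IsAlgSpace.yon_obj _)
    (IsAlgSpace.yon_obj V) hY ht (isEtaleMor_of_repWith hb) ((yon S).map (α' ≫ h)) ((yon S).map β' ≫ b)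
    (by rw [hαh, (yon S).map_comp_assoc])).unique
    (y₁ := (yon S).map (L ≫ h)) (y₂ := (yon S).map β')
    ⟨by rw [← Functor.map_comp, ← Category.assoc j L h, (yon S).map_injective hl1],
      by rw [← h2, ← hl2, Functor.map_comp, Category.assoc, Category.assoc, e]⟩
    ⟨by rw [← Functor.map_comp, hαh], rfl⟩
  exact congrArg CommaMorphism.left ((yon S).map_injective this)

/-- Small extensions detect smoothness. -/
theorem locP_smooth_of_small {X Y : Sp S} (hX : IsAlgSpace X) (hY : IsAlgSpace Y) (hYn : IsLocNoethSp Y)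
    {f : X ⟶ Y} (hft : LocP @LocallyOfFiniteType f)
    (H : ∀ (B' B : Type u) [CommRing B'] [CommRing B] [IsLocalRing B'] [IsLocalRing B]
        [IsArtinianRing B'] [IsArtinianRing B] (π : B' →+* B), Function.Surjective π →
        (∃ t : B', RingHom.ker π = Ideal.span {t} ∧ ∀ a ∈ maximalIdeal B', a * t = 0) →
        ∀ (s : Spec (CommRingCat.of B') ⟶ S)
          (α : (yon S).obj (Over.mk (Spec.map (CommRingCat.ofHom π) ≫ s)) ⟶ X)
          (β : (yon S).obj (Over.mk s) ⟶ Y),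
          LocP @LocallyOfFiniteType β →
          α ≫ f = (yon S).map (Over.homMk (Spec.map (CommRingCat.ofHom π)) :
              Over.mk (Spec.map (CommRingCat.ofHom π) ≫ s) ⟶ Over.mk s) ≫ β →
          ∃ γ : (yon S).obj (Over.mk s) ⟶ X,
            (yon S).map (Over.homMk (Spec.map (CommRingCat.ofHom π)) :
              Over.mk (Spec.map (CommRingCat.ofHom π) ≫ s) ⟶ Over.mk s) ≫ γ = α ∧ γ ≫ f = β) :
    LocP @Smooth f := by
  intro U V a b h ha hb e
  haveI : IsLocallyNoetherian V.left := isLocallyNoetherian_of_chart hYn hb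
  haveI : LocallyOfFiniteType h.left := hft a b h ha hb e
  refine smooth_of_lifts_small h.left fun B' B _ _ _ _ _ _ π hπ hk α₀ β₀ hβ w => ?_
  refine exists_lift_chart hX hY ha hb e π hπ (ker_sq_eq_bot_of_small hk) α₀ β₀ w ?_
  intro s α' β' _ hβ' w'
  haveI : LocallyOfFiniteType β'.left := hβ'.symm ▸ hβ
  exact H B' B π hπ hk s _ _ (locP_comp_etale (IsAlgSpace.yon_obj _) (IsAlgSpace.yon_obj _)
    ((locP_yon_map_iff (P := (@LocallyOfFiniteType : MorphismProperty Scheme.{u})) β').2 ‹_›)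
    (isEtaleMor_of_repWith hb)) w'

/-- Small extensions at a point detect smoothness at that point. -/
theorem hasAtMor_smooth_of_small {X Y : Sp S} (hX : IsAlgSpace X) (hY : IsAlgSpace Y) (hYn : IsLocNoethSp Y)
    {f : X ⟶ Y} (hft : LocP @LocallyOfFiniteType f) (x : Points X)
    (H : ∀ (B' B : Type u) [CommRing B'] [CommRing B] [IsLocalRing B'] [IsLocalRing B]
        [IsArtinianRing B'] [IsArtinianRing B] (π : B' →+* B), Function.Surjective π →
        (∃ t : B', RingHom.ker π = Ideal.span {t} ∧ ∀ a ∈ maximalIdeal B', a * t = 0) →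
        ∀ (s : Spec (CommRingCat.of B') ⟶ S)
          (α : (yon S).obj (Over.mk (Spec.map (CommRingCat.ofHom π) ≫ s)) ⟶ X)
          (β : (yon S).obj (Over.mk s) ⟶ Y),
          Points.ofPt α (closedPoint B) = x →
          α ≫ f = (yon S).map (Over.homMk (Spec.map (CommRingCat.ofHom π)) :
              Over.mk (Spec.map (CommRingCat.ofHom π) ≫ s) ⟶ Over.mk s) ≫ β →
          ∃ γ : (yon S).obj (Over.mk s) ⟶ X,
            (yon S).map (Over.homMk (Spec.map (CommRingCat.ofHom π)) :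
              Over.mk (Spec.map (CommRingCat.ofHom π) ≫ s) ⟶ Over.mk s) ≫ γ = α ∧ γ ≫ f = β) :
    HasAtMor (fun U _ h u => ∃ W : U.Opens, u ∈ W ∧ Smooth (W.ι ≫ h)) f x := by
  obtain ⟨U, V, a, b, h, ha, has, hb, -, e⟩ := exists_chart hX hY f
  obtain ⟨u, rfl⟩ := surjective_ofPt has x
  haveI : IsLocallyNoetherian V.left := isLocallyNoetherian_of_chart hYn hb
  haveI : LocallyOfFiniteType h.left := hft a b h ha hb e
  refine ⟨U, V, a, b, h, u, ha, hb, e, rfl,
    exists_smooth_nhd_of_lifts h.left u fun B' B _ _ _ _ _ _ π hπ hk α₀ β₀ hc w => ?_⟩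
  refine exists_lift_chart hX hY ha hb e π hπ (ker_sq_eq_bot_of_small hk) α₀ β₀ w ?_
  intro s α' β' hα' _ w'
  refine H B' B π hπ hk s _ _ ?_ w'
  rw [ofPt_yon_comp]
  exact congrArg _ ((congrArg (fun k : Spec (CommRingCat.of B) ⟶ U.left => k (closedPoint B)) hα').trans hc)

/-- Smoothness at a point gives lifts along square-zero surjections of local rings. -/
theorem exists_lift_of_hasAtMor_smooth {X Y : Sp S} (hX : IsAlgSpace X) (hY : IsAlgSpace Y)
    {f : X ⟶ Y} (x : Points X)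
    (hx : HasAtMor (fun U _ h u => ∃ W : U.Opens, u ∈ W ∧ Smooth (W.ι ≫ h)) f x)
    {B' B : Type u} [CommRing B'] [CommRing B] [IsLocalRing B] (π : B' →+* B) (hπ : Function.Surjective π)
    (hsq : RingHom.ker π ^ 2 = ⊥) (s : Spec (CommRingCat.of B') ⟶ S)
    (α : (yon S).obj (Over.mk (Spec.map (CommRingCat.ofHom π) ≫ s)) ⟶ X)
    (β : (yon S).obj (Over.mk s) ⟶ Y) (hα : Points.ofPt α (closedPoint B) = x)
    (w : α ≫ f = (yon S).map (Over.homMk (Spec.map (CommRingCat.ofHom π)) :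
        Over.mk (Spec.map (CommRingCat.ofHom π) ≫ s) ⟶ Over.mk s) ≫ β) :
    ∃ γ : (yon S).obj (Over.mk s) ⟶ X,
      (yon S).map (Over.homMk (Spec.map (CommRingCat.ofHom π)) :
        Over.mk (Spec.map (CommRingCat.ofHom π) ≫ s) ⟶ Over.mk s) ≫ γ = α ∧ γ ≫ f = β := by
  obtain ⟨U, V, a, b, h, u, ha, hb, e, hu, W, huW, hW⟩ := hx
  let O : Set (Points X) := Points.ofPt a '' (W : Set U.left)
  have hO : IsOpen O := isOpenMap_ofPt ha _ W.2
  let U₀ : Over S := Over.mk (W.ι ≫ U.hom)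
  let j : U₀ ⟶ U := Over.homMk W.ι rfl
  have hj : RepWith @Etale ((yon S).map j ≫ a) :=
    repWith_comp ((repWith_yon_map_iff (P := (@Etale : MorphismProperty Scheme.{u})) j).2
      (inferInstanceAs (Etale W.ι))) ha
  obtain ⟨l, hl⟩ := (exists_lift_openSub (W := O) ((yon S).map j ≫ a)).2 fun t => by
    rw [ofPt_yon_comp]; exact ⟨_, t.2, rfl⟩
  have hO' := isAlgSpace_openSub hX hO
  have hls : ∀ y : Points (openSub X O), ∃ t, Points.ofPt l t = y := by
    intro y
    obtain ⟨t, ht, hty⟩ := (Set.ext_iff.1 (range_openSubι X (W := O)) (Points.map (openSubι X O) y)).1 ⟨y, rfl⟩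
    refine ⟨⟨t, ht⟩, ?_⟩
    have hm : Points.map (openSubι X O) (Points.ofPt l (⟨t, ht⟩ : W.toScheme)) = Points.map (openSubι X O) y := by
      rw [Points.map_ofPt, hl, ofPt_yon_comp]; exact hty
    obtain ⟨z, h1, h2⟩ := exists_point_isPullback (IsKernelPair.id_of_mono (openSubι X O)) _ _ hm
    exact h1.symm.trans h2
  have hle : IsEtaleMor l := by
    haveI := mono_of_openImmersion (repWith_openSubι X hO)
    have sq : IsPullback (𝟙 _) l (l ≫ openSubι X O) (openSubι X O) :=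
      ⟨⟨Category.id_comp _⟩, ⟨PullbackCone.IsLimit.mk _ (fun c => c.fst)
        (fun c => Category.comp_id _) (fun c => (cancel_mono (openSubι X O)).1 (by
          rw [Category.assoc]; exact c.condition))
        (fun c m h1 _ => (Category.comp_id m).symm.trans h1)⟩⟩
    exact isEtaleMor_of_isPullback (IsAlgSpace.yon_obj U₀) hX hO' sq (hl.symm ▸ isEtaleMor_of_repWith hj)
  have hsm : LocP @Smooth (openSubι X O ≫ f) := by
    refine locP_of_cover hO' (fun _ : PUnit.{u + 1} => IsAlgSpace.yon_obj U₀) (fun _ => l) (fun _ => hle)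
      (fun y => ?_) fun _ => ?_
    · obtain ⟨t, ht⟩ := hls y
      exact ⟨⟨⟩, Points.ofScheme U₀ t, (Points.ofPt_eq_map_ofScheme l t).symm.trans ht⟩
    · have : l ≫ openSubι X O ≫ f = (yon S).map (j ≫ h) ≫ b := by
        rw [← Category.assoc, hl, Category.assoc, e, Functor.map_comp, Category.assoc]
      rw [this]
      exact locP_comp_etale (IsAlgSpace.yon_obj _) (IsAlgSpace.yon_obj _)
        ((locP_yon_map_iff _).2 hW) (isEtaleMor_of_repWith hb)
  obtain ⟨α', rfl⟩ := (exists_lift_openSub (W := O) α).2 fun t => by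
    have ht : Points.ofPt α t ⤳ Points.ofPt α (closedPoint B) :=
      (specializes_closedPoint t).map (Points.continuous_ofPt α)
    refine ht.mem_open hO ?_
    rw [hα, ← hu]
    exact ⟨u, huW, rfl⟩
  obtain ⟨γ, h1, h2⟩ := exists_lift_sq_zero (isFormallySmoothMor_of_locP_smooth hO' hY hsm) π hπ hsq s α' β
    (by rw [← Category.assoc]; exact w)
  exact ⟨γ ≫ openSubι X O, by rw [← Category.assoc, h1], by rw [Category.assoc, h2]⟩

end AlgSpLib
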