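import Groth.Agent.AlgSpLib.SmoothLiftAlg
import Groth.Agent.AlgSpLib.FormalLocal
/-!
# Infinitesimal lifting for smooth algebraic spaces over an affine base: the core argument
-/

set_option autoImplicit false
universe u
open CategoryTheory CategoryTheory.Limits AlgebraicGeometry Opposite AlgSp Topology TensorProduct

namespace AlgSpLib

variable {S : Scheme.{u}} {A : Type u} [CommRing A] {str : Spec (CommRingCat.of A) ⟶ S}

/-- The spectrum of an `A`-algebra as a test scheme. -/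
noncomputable abbrev ptA (str : Spec (CommRingCat.of A) ⟶ S) (R : Type u) [CommRing R] [Algebra A R] :
    Over S :=
  Over.mk (Spec.map (CommRingCat.ofHom (algebraMap A R)) ≫ str)

/-- The morphism of test schemes of an algebra map. -/
noncomputable abbrev hA (str : Spec (CommRingCat.of A) ⟶ S) {R R' : Type u} [CommRing R] [Algebra A R]
    [CommRing R'] [Algebra A R'] (h : R →ₐ[A] R') : ptA str R' ⟶ ptA str R :=
  Over.homMk (Spec.map (CommRingCat.ofHom h.toRingHom)) (by
    change Spec.map _ ≫ Spec.map _ ≫ str = Spec.map _ ≫ str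
    rw [← Spec.map_comp_assoc, ← CommRingCat.ofHom_comp, AlgHom.toRingHom_eq_coe, h.comp_algebraMap])

/-- The structure morphism of the test scheme of an algebra. -/
noncomputable abbrev stA (str : Spec (CommRingCat.of A) ⟶ S) (R : Type u) [CommRing R] [Algebra A R] :
    ptA str R ⟶ Over.mk str :=
  Over.homMk (Spec.map (CommRingCat.ofHom (algebraMap A R))) rfl

theorem hA_comp {R R' R'' : Type u} [CommRing R] [Algebra A R] [CommRing R'] [Algebra A R']
    [CommRing R''] [Algebra A R''] (h : R →ₐ[A] R') (h' : R' →ₐ[A] R'') :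
    hA str (h'.comp h) = hA str h' ≫ hA str h :=
  Over.OverMorphism.ext (by
    change Spec.map _ = Spec.map _ ≫ Spec.map _
    rw [← Spec.map_comp, ← CommRingCat.ofHom_comp]
    rfl)

theorem hA_st {R R' : Type u} [CommRing R] [Algebra A R] [CommRing R'] [Algebra A R']
    (h : R →ₐ[A] R') : hA str h ≫ stA str R = stA str R' :=
  Over.OverMorphism.ext (by
    change Spec.map _ ≫ Spec.map _ = Spec.map _
    rw [← Spec.map_comp, ← CommRingCat.ofHom_comp, AlgHom.toRingHom_eq_coe, h.comp_algebraMap])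

theorem exists_hA_eq {R R' : Type u} [CommRing R] [Algebra A R] [CommRing R'] [Algebra A R']
    (φ : ptA str R' ⟶ ptA str R) (hφ : φ ≫ stA str R = stA str R') :
    ∃ h : R →ₐ[A] R', hA str h = φ := by
  have h2 : (Spec.preimage φ.left).hom.comp (algebraMap A R) = algebraMap A R' := by
    have := congrArg CommaMorphism.left hφ
    change φ.left ≫ Spec.map _ = Spec.map _ at this
    rw [← Spec.map_preimage φ.left, ← Spec.map_comp] at this
    exact congrArg CommRingCat.Hom.hom (Spec.map_injective this)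
  exact ⟨⟨(Spec.preimage φ.left).hom, fun a => congr($h2 a)⟩,
    Over.OverMorphism.ext (Spec.map_preimage φ.left)⟩

theorem hA_injective {R R' : Type u} [CommRing R] [Algebra A R] [CommRing R'] [Algebra A R']
    {h h' : R →ₐ[A] R'} (e : hA str h = hA str h') : h = h' := by
  have := congrArg CommaMorphism.left e
  change Spec.map _ = Spec.map _ at this
  exact AlgHom.ext fun x => congrArg (fun k => k.hom x) (Spec.map_injective this)

theorem isThickMor_hA_mk {R : Type u} [CommRing R] [Algebra A R] (J : Ideal R) (hJ : J ^ 2 = ⊥) :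
    IsThickMor ((yon S).map (hA str (Ideal.Quotient.mkₐ A J))) :=
  (isThickMor_yon_map_iff _).2 (thick_quotient R J hJ)

variable {P : Sp S} {C : Type u} [CommRing C] [Algebra A C] (a : (yon S).obj (ptA str C) ⟶ P)

/-- The point of `P` given by a point of the chart. -/
noncomputable abbrev ptOf {R : Type u} [CommRing R] [Algebra A R] (g : C →ₐ[A] R) :
    (yon S).obj (ptA str R) ⟶ P :=
  (yon S).map (hA str g) ≫ a

theorem ptOf_comp {R R' : Type u} [CommRing R] [Algebra A R] [CommRing R'] [Algebra A R']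
    (g : C →ₐ[A] R) (k : R →ₐ[A] R') : ptOf a (k.comp g) = (yon S).map (hA str k) ≫ ptOf a g := by
  change (yon S).map (hA str (k.comp g)) ≫ a = _
  rw [hA_comp, Functor.map_comp, Category.assoc]

/-- The standing hypotheses on a chart of a space over an affine base. -/
structure ChartHyp (q : P ⟶ (yon S).obj (Over.mk str)) : Prop where
  isAlgSpace : IsAlgSpace P
  etale : RepWith @Etale a
  over_base : a ≫ q = (yon S).map (stA str C)

variable {a} {q : P ⟶ (yon S).obj (Over.mk str)}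

theorem ptOf_st (H : ChartHyp a q) {R : Type u} [CommRing R] [Algebra A R] (g : C →ₐ[A] R) :
    ptOf a g ≫ q = (yon S).map (stA str R) := by
  rw [Category.assoc, H.over_base, ← Functor.map_comp, hA_st]

theorem existsUnique_ptLift (H : ChartHyp a q) {R : Type u} [CommRing R] [Algebra A R] {J : Ideal R}
    (hJ : J ^ 2 = ⊥) (g : C →ₐ[A] R) (m : (yon S).obj (ptA str R) ⟶ P)
    (hm : m ≫ q = (yon S).map (stA str R))
    (e : (yon S).map (hA str (Ideal.Quotient.mkₐ A J)) ≫ m =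
      (yon S).map (hA str (Ideal.Quotient.mkₐ A J)) ≫ ptOf a g) :
    ∃! g' : C →ₐ[A] R,
      (Ideal.Quotient.mkₐ A J).comp g' = (Ideal.Quotient.mkₐ A J).comp g ∧ ptOf a g' = m := by
  obtain ⟨l, ⟨hl1, hl2⟩, hu⟩ := existsUnique_lift_of_isEtaleMor
    (IsAlgSpace.yon_obj (ptA str (R ⧸ J))) (IsAlgSpace.yon_obj (ptA str R))
    (IsAlgSpace.yon_obj (ptA str C)) H.isAlgSpace (isThickMor_hA_mk J hJ)
    (isEtaleMor_of_repWith H.etale)
    ((yon S).map (hA str ((Ideal.Quotient.mkₐ A J).comp g))) m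
    (by rw [e, hA_comp, Functor.map_comp, Category.assoc])
  obtain ⟨φ, rfl⟩ := (yon S).map_surjective l
  obtain ⟨g', rfl⟩ := exists_hA_eq φ ((yon S).map_injective (by
    rw [Functor.map_comp, ← H.over_base, ← Category.assoc, hl2, hm]))
  refine ⟨g', ⟨hA_injective (str := str) ((yon S).map_injective (by
    rw [hA_comp, Functor.map_comp]; exact hl1)), hl2⟩, fun k hk => hA_injective (str := str)
      ((yon S).map_injective (hu _ ⟨?_, hk.2⟩))⟩
  rw [← Functor.map_comp, ← hA_comp, hk.1]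

variable {n : ℕ} (π : MvPolynomial (Fin n) A →ₐ[A] C) (s : Finset (MvPolynomial (Fin n) A))

/-- `h + v` and `g + w` are points of the chart over the same point of `P`. -/
def Moves (a : (yon S).obj (ptA str C) ⟶ P) {R : Type u} [CommRing R] [Algebra A R] (J : Ideal R)
    (h g : C →ₐ[A] R) (v w : Fin n → R) : Prop :=
  (∀ i, v i ∈ J) ∧ (∀ i, w i ∈ J) ∧ ∃ h' g' : C →ₐ[A] R,
    coords π h' = coords π h + v ∧ coords π g' = coords π g + w ∧ ptOf a h' = ptOf a g'

variable {π s} {R : Type u} [CommRing R] [Algebra A R] {J : Ideal R} {h g : C →ₐ[A] R}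

theorem congr_mod_of_coords_add (hπ : Function.Surjective π) {h' : C →ₐ[A] R} {v : Fin n → R}
    (hv : ∀ i, v i ∈ J) (e : coords π h' = coords π h + v) :
    (Ideal.Quotient.mkₐ A J).comp h' = (Ideal.Quotient.mkₐ A J).comp h :=
  congr_mod_of_coords hπ fun i => by rw [e, Pi.add_apply, add_sub_cancel_left]; exact hv i

theorem Moves.unique (H : ChartHyp a q) (hπ : Function.Surjective π) (hJ : J ^ 2 = ⊥) {v w w' : Fin n → R}
    (h1 : Moves π a J h g v w) (h2 : Moves π a J h g v w') : w = w' := by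
  obtain ⟨hv, hw, h', g', eh, eg, e⟩ := h1
  obtain ⟨-, hw', h'', g'', eh', eg', e'⟩ := h2
  obtain rfl : h' = h'' := eq_of_coords_eq hπ (eh.trans eh'.symm)
  have c1 := congr_mod_of_coords_add hπ hw eg
  have c2 := congr_mod_of_coords_add hπ hw' eg'
  have hm : (yon S).map (hA str (Ideal.Quotient.mkₐ A J)) ≫ ptOf a g' =
      (yon S).map (hA str (Ideal.Quotient.mkₐ A J)) ≫ ptOf a g := by
    rw [← ptOf_comp, c1, ptOf_comp]
  have key := (existsUnique_ptLift H hJ g (ptOf a g') (ptOf_st H g') hm).unique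
    (y₁ := g') (y₂ := g'') ⟨c1, rfl⟩ ⟨c2, e'.symm.trans e⟩
  rw [key] at eg
  exact add_left_cancel (eg.symm.trans eg')

theorem Moves.exists (H : ChartHyp a q) (hπ : Function.Surjective π)
    (hs : Ideal.span (s : Set (MvPolynomial (Fin n) A)) = RingHom.ker π) (hJ : J ^ 2 = ⊥)
    (hpt : ptOf a h = ptOf a g) {v : Fin n → R} (hv : v ∈ coordSub π s J h) :
    ∃ w ∈ coordSub π s J g, Moves π a J h g v w := by
  obtain ⟨h', eh, ch⟩ := exists_translate hπ hs hJ hv
  have hm : (yon S).map (hA str (Ideal.Quotient.mkₐ A J)) ≫ ptOf a h' =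
      (yon S).map (hA str (Ideal.Quotient.mkₐ A J)) ≫ ptOf a g := by
    rw [← ptOf_comp, ch, ptOf_comp, hpt]
  obtain ⟨g', ⟨cg, eg⟩, -⟩ := existsUnique_ptLift H hJ g (ptOf a h') (ptOf_st H h') hm
  exact ⟨_, sub_coords_mem hs hJ cg, hv.1, (sub_coords_mem hs hJ cg).1, h', g', eh,
    (add_sub_cancel _ _).symm, eg.symm⟩

theorem Moves.map {R' : Type u} [CommRing R'] [Algebra A R'] (k : R →ₐ[A] R') {J' : Ideal R'}
    (hk : J ≤ J'.comap k) {v w : Fin n → R} (hm : Moves π a J h g v w) :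
    Moves π a J' (k.comp h) (k.comp g) (k ∘ v) (k ∘ w) := by
  obtain ⟨hv, hw, h', g', eh, eg, e⟩ := hm
  refine ⟨fun i => hk (hv i), fun i => hk (hw i), k.comp h', k.comp g', ?_, ?_, ?_⟩
  · rw [coords_comp, eh, coords_comp]
    exact funext fun i => map_add k _ _
  · rw [coords_comp, eg, coords_comp]
    exact funext fun i => map_add k _ _
  · rw [ptOf_comp, e, ptOf_comp]

/-- The triples congruent modulo `J`. -/
def tripleSub (J : Ideal R) : Subalgebra A (R × R × R) where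
  carrier := {x | x.2.1 - x.1 ∈ J ∧ x.2.2 - x.1 ∈ J}
  mul_mem' {x y} hx hy := by
    have aux : ∀ a b c d : R, a - b ∈ J → c - d ∈ J → a * c - b * d ∈ J := fun a b c d h1 h2 => by
      rw [show a * c - b * d = a * (c - d) + d * (a - b) by ring]
      exact J.add_mem (J.mul_mem_left _ h2) (J.mul_mem_left _ h1)
    exact ⟨aux _ _ _ _ hx.1 hy.1, aux _ _ _ _ hx.2 hy.2⟩
  add_mem' {x y} hx hy := ⟨by
      simpa [add_sub_add_comm] using J.add_mem hx.1 hy.1, by
      simpa [add_sub_add_comm] using J.add_mem hx.2 hy.2⟩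
  algebraMap_mem' r := by simp

theorem Moves.linear (H : ChartHyp a q) (hπ : Function.Surjective π) (hJ : J ^ 2 = ⊥)
    (hpt : ptOf a h = ptOf a g) {v₁ v₂ w₁ w₂ : Fin n → R}
    (m₁ : Moves π a J h g v₁ w₁) (m₂ : Moves π a J h g v₂ w₂) (c₁ c₂ : R) :
    Moves π a J h g (c₁ • v₁ + c₂ • v₂) (c₁ • w₁ + c₂ • w₂) := by
  obtain ⟨hv₁, hw₁, h₁, g₁, eh₁, eg₁, e₁⟩ := m₁
  obtain ⟨hv₂, hw₂, h₂, g₂, eh₂, eg₂, e₂⟩ := m₂
  let T := tripleSub (A := A) J
  let mkT : ∀ (f₀ f₁ f₂ : C →ₐ[A] R), (∀ x, f₁ x - f₀ x ∈ J) → (∀ x, f₂ x - f₀ x ∈ J) → (C →ₐ[A] T) :=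
    fun f₀ f₁ f₂ H1 H2 => (f₀.prod (f₁.prod f₂)).codRestrict T fun x => ⟨H1 x, H2 x⟩
  have dif : ∀ {f f' : C →ₐ[A] R} {v : Fin n → R}, (∀ i, v i ∈ J) → coords π f' = coords π f + v →
      ∀ x, f' x - f x ∈ J := fun hv e x =>
    Ideal.Quotient.eq.1 (congrArg (fun k => k x) (congr_mod_of_coords_add hπ hv e))
  let p₀ : T →ₐ[A] R := (AlgHom.fst A R (R × R)).comp T.val
  let p₁ : T →ₐ[A] R := ((AlgHom.fst A R R).comp (AlgHom.snd A R (R × R))).comp T.val
  let p₂ : T →ₐ[A] R := ((AlgHom.snd A R R).comp (AlgHom.snd A R (R × R))).comp T.val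
  let K : Ideal T := RingHom.ker p₀
  have hK0 : ∀ x ∈ K, x.1.1 = 0 := fun x hx => RingHom.mem_ker.1 hx
  have hK : K ^ 2 = ⊥ := by
    rw [pow_two]
    refine le_bot_iff.1 (Ideal.mul_le.2 fun x hx y hy => ?_)
    have h1 : x.1.2.1 ∈ J := by simpa [hK0 x hx] using x.2.1
    have h2 : x.1.2.2 ∈ J := by simpa [hK0 x hx] using x.2.2
    have h1' : y.1.2.1 ∈ J := by simpa [hK0 y hy] using y.2.1
    have h2' : y.1.2.2 ∈ J := by simpa [hK0 y hy] using y.2.2
    rw [Ideal.mem_bot]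
    refine Subtype.ext (Prod.ext ?_ (Prod.ext (mul_eq_zero_of_mem hJ h1 h1') (mul_eq_zero_of_mem hJ h2 h2')))
    change x.1.1 * y.1.1 = 0
    rw [hK0 x hx, zero_mul]
  let const : R →ₐ[A] T := ((AlgHom.id A R).prod ((AlgHom.id A R).prod (AlgHom.id A R))).codRestrict T
    fun r => by simp [T, tripleSub]
  let H' := mkT h h₁ h₂ (dif hv₁ eh₁) (dif hv₂ eh₂)
  let G' := mkT g g₁ g₂ (dif hw₁ eg₁) (dif hw₂ eg₂)
  have cH : (Ideal.Quotient.mkₐ A K).comp H' = (Ideal.Quotient.mkₐ A K).comp (const.comp h) :=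
    AlgHom.ext fun x => Ideal.Quotient.eq.2 (RingHom.mem_ker.2 (by simp [p₀, H', mkT, const]))
  obtain ⟨G'', ⟨cG, eG⟩, -⟩ := existsUnique_ptLift H hK (const.comp g) (ptOf a H') (ptOf_st H H') (by
    rw [← ptOf_comp, cH]
    simp only [ptOf_comp, hpt])
  have hG : G'' = G' := by
    have h0 : ∀ x, (G'' x).1.1 = g x := fun x => by
      have := RingHom.mem_ker.1 (Ideal.Quotient.eq.1 (congrArg (fun k => k x) cG))
      rw [map_sub, sub_eq_zero] at this
      exact this
    have comp : ∀ (pk : T →ₐ[A] R) (hk gk : C →ₐ[A] R), pk.comp H' = hk → ptOf a hk = ptOf a gk →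
        (∀ x, gk x - g x ∈ J) → (∀ x, pk (G'' x) - g x ∈ J) → pk.comp G'' = gk := by
      intro pk hk gk eH e hgk hpk
      have c : ∀ f : C →ₐ[A] R, (∀ x, f x - g x ∈ J) →
          (Ideal.Quotient.mkₐ A J).comp f = (Ideal.Quotient.mkₐ A J).comp g := fun f hf =>
        AlgHom.ext fun x => Ideal.Quotient.eq.2 (hf x)
      refine (existsUnique_ptLift H hJ g (ptOf a gk) (ptOf_st H gk)
        (by rw [← ptOf_comp, c gk hgk, ptOf_comp])).unique ⟨c _ hpk, ?_⟩ ⟨c _ hgk, rfl⟩
      rw [ptOf_comp, eG, ← ptOf_comp, eH, e]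
    have k₁ := comp p₁ h₁ g₁ (AlgHom.ext fun _ => rfl) e₁ (dif hw₁ eg₁) (fun x => h0 x ▸ (G'' x).2.1)
    have k₂ := comp p₂ h₂ g₂ (AlgHom.ext fun _ => rfl) e₂ (dif hw₂ eg₂) (fun x => h0 x ▸ (G'' x).2.2)
    exact AlgHom.ext fun x => Subtype.ext (Prod.ext (h0 x)
      (Prod.ext congr($k₁ x) congr($k₂ x)))
  rw [hG] at eG
  let φ : T →ₐ[A] R :=
  { toFun := fun x => x.1.1 + c₁ * (x.1.2.1 - x.1.1) + c₂ * (x.1.2.2 - x.1.1)
    map_one' := by simp
    map_zero' := by simp
    map_add' := fun x y => by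
      simp only [AddMemClass.coe_add, Prod.fst_add, Prod.snd_add]; ring
    map_mul' := fun x y => by
      simp only [MulMemClass.coe_mul, Prod.fst_mul, Prod.snd_mul]
      have q11 := mul_eq_zero_of_mem hJ x.2.1 y.2.1
      have q22 := mul_eq_zero_of_mem hJ x.2.2 y.2.2
      have q12 := mul_eq_zero_of_mem hJ x.2.1 y.2.2
      have q21 := mul_eq_zero_of_mem hJ x.2.2 y.2.1
      linear_combination (c₁ - c₁ * c₁) * q11 + (c₂ - c₂ * c₂) * q22 - c₁ * c₂ * q12 - c₁ * c₂ * q21
    commutes' := fun r => by simp }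
  refine ⟨fun i => J.add_mem (J.mul_mem_left c₁ (hv₁ i)) (J.mul_mem_left c₂ (hv₂ i)),
    fun i => J.add_mem (J.mul_mem_left c₁ (hw₁ i)) (J.mul_mem_left c₂ (hw₂ i)),
    φ.comp H', φ.comp G', ?_, ?_, by rw [ptOf_comp, ptOf_comp, eG]⟩
  · funext i
    have e1 := congrFun eh₁ i
    have e2 := congrFun eh₂ i
    simp only [coords, Pi.add_apply] at e1 e2
    simp [coords, φ, H', mkT, e1, e2, add_assoc]
  · funext i
    have e1 := congrFun eg₁ i
    have e2 := congrFun eg₂ i
    simp only [coords, Pi.add_apply] at e1 e2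
    simp [coords, φ, G', mkT, e1, e2, add_assoc]

end AlgSpLib
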