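import Mathlib
/-!
# Lifts of algebra maps along square-zero ideals, in coordinates
-/

set_option autoImplicit false
universe u
open MvPolynomial TensorProduct

namespace AlgSpLib

variable {A C E : Type u} [CommRing A] [CommRing C] [CommRing E] [Algebra A C] [Algebra A E] {n : ℕ}
  (π : MvPolynomial (Fin n) A →ₐ[A] C) (s : Finset (MvPolynomial (Fin n) A))

theorem aeval_add_of_mul_eq_zero (x v : Fin n → E) (h : ∀ i j, v i * v j = 0)
    (p : MvPolynomial (Fin n) A) :
    aeval (x + v) p = aeval x p + ∑ i, aeval x (pderiv i p) * v i := by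
  induction p using MvPolynomial.induction_on with
  | C a => simp
  | add p q hp hq =>
    simp only [map_add, add_mul, Finset.sum_add_distrib, hp, hq]
    ring
  | mul_X p k hp =>
    have h0 : (∑ i, aeval x (pderiv i p) * v i) * v k = 0 := by
      rw [Finset.sum_mul]
      exact Finset.sum_eq_zero fun i _ => by rw [mul_assoc, h, mul_zero]
    have hk : ∑ i, aeval x (pderiv i (p * X k)) * v i
        = (∑ i, aeval x (pderiv i p) * v i) * x k + aeval x p * v k := by
      have : ∀ i, aeval x (pderiv i (p * X k)) * v i = aeval x (pderiv i p) * v i * x k +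
          if i = k then aeval x p * v i else 0 := by
        intro i
        rw [pderiv_mul]
        rcases eq_or_ne i k with rfl | hik
        · rw [pderiv_X_self, if_pos rfl]
          simp only [map_add, map_mul, aeval_X, map_one]
          ring
        · rw [pderiv_X_of_ne hik.symm, if_neg hik]
          simp only [map_add, map_mul, aeval_X, map_zero]
          ring
      rw [Finset.sum_congr rfl fun i _ => this i, Finset.sum_add_distrib, ← Finset.sum_mul,
        Finset.sum_ite_eq' Finset.univ k, if_pos (Finset.mem_univ k)]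
    rw [hk, map_mul, map_mul, aeval_X, aeval_X, Pi.add_apply, hp]
    linear_combination h0

/-- Coordinates of the lifts of `g` modulo `J`. -/
noncomputable def coordSub (J : Ideal E) (g : C →ₐ[A] E) : Submodule E (Fin n → E) where
  carrier := {v | (∀ i, v i ∈ J) ∧ ∀ p ∈ s, ∑ i, g (π (pderiv i p)) * v i = 0}
  add_mem' := fun ⟨h1, h2⟩ ⟨h1', h2'⟩ => ⟨fun i => J.add_mem (h1 i) (h1' i), fun p hp => by
    simp [mul_add, Finset.sum_add_distrib, h2 p hp, h2' p hp]⟩
  zero_mem' := ⟨fun _ => J.zero_mem, fun p _ => by simp⟩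
  smul_mem' c v := fun ⟨h1, h2⟩ => ⟨fun i => J.mul_mem_left c (h1 i), fun p hp => by
    simp only [Pi.smul_apply, smul_eq_mul, mul_left_comm _ c, ← Finset.mul_sum, h2 p hp, mul_zero]⟩

/-- The values on the generators. -/
noncomputable def coords (g : C →ₐ[A] E) : Fin n → E := fun i => g (π (X i))

theorem aeval_coords (g : C →ₐ[A] E) (p : MvPolynomial (Fin n) A) :
    aeval (coords π g) p = g (π p) :=
  congrArg (fun k => k p) (show aeval (coords π g) = g.comp π from (aeval_unique (g.comp π)).symm)

theorem coords_comp {E' : Type u} [CommRing E'] [Algebra A E'] (h : E →ₐ[A] E') (g : C →ₐ[A] E) :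
    coords π (h.comp g) = h ∘ coords π g := rfl

variable {π s}

theorem eq_of_coords_eq (hπ : Function.Surjective π) {g g' : C →ₐ[A] E}
    (h : coords π g = coords π g') : g = g' := by
  refine AlgHom.ext fun c => ?_
  obtain ⟨p, rfl⟩ := hπ c
  rw [← aeval_coords, ← aeval_coords, h]

theorem congr_mod_of_coords (hπ : Function.Surjective π) {J : Ideal E} {g g' : C →ₐ[A] E}
    (h : ∀ i, coords π g' i - coords π g i ∈ J) :
    (Ideal.Quotient.mkₐ A J).comp g' = (Ideal.Quotient.mkₐ A J).comp g :=
  eq_of_coords_eq hπ (funext fun i => Ideal.Quotient.eq.2 (h i))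

theorem sub_coords_mem_of_congr_mod {J : Ideal E} {g g' : C →ₐ[A] E}
    (h : (Ideal.Quotient.mkₐ A J).comp g' = (Ideal.Quotient.mkₐ A J).comp g) (i : Fin n) :
    coords π g' i - coords π g i ∈ J :=
  Ideal.Quotient.eq.1 (congrArg (fun k => k (π (X i))) h)

theorem mul_eq_zero_of_mem {J : Ideal E} (hJ : J ^ 2 = ⊥) {a b : E} (ha : a ∈ J) (hb : b ∈ J) :
    a * b = 0 := by
  have := Ideal.mul_mem_mul ha hb
  rwa [← pow_two, hJ, Ideal.mem_bot] at this

theorem sub_coords_mem (hs : Ideal.span (s : Set (MvPolynomial (Fin n) A)) = RingHom.ker π)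
    {J : Ideal E} (hJ : J ^ 2 = ⊥) {g g' : C →ₐ[A] E}
    (h : (Ideal.Quotient.mkₐ A J).comp g' = (Ideal.Quotient.mkₐ A J).comp g) :
    coords π g' - coords π g ∈ coordSub π s J g := by
  refine ⟨sub_coords_mem_of_congr_mod h, fun p hp => ?_⟩
  have hp0 : π p = 0 := by
    have : p ∈ RingHom.ker π := hs ▸ Ideal.subset_span hp
    exact this
  have := aeval_add_of_mul_eq_zero (coords π g) (coords π g' - coords π g) (fun i j =>
    mul_eq_zero_of_mem hJ (sub_coords_mem_of_congr_mod h i) (sub_coords_mem_of_congr_mod h j)) p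
  rw [add_sub_cancel, aeval_coords, aeval_coords, hp0, map_zero, map_zero, zero_add] at this
  simp only [aeval_coords] at this
  exact this.symm

theorem exists_translate (hπ : Function.Surjective π)
    (hs : Ideal.span (s : Set (MvPolynomial (Fin n) A)) = RingHom.ker π)
    {J : Ideal E} (hJ : J ^ 2 = ⊥) {g : C →ₐ[A] E} {v : Fin n → E} (hv : v ∈ coordSub π s J g) :
    ∃ g' : C →ₐ[A] E, coords π g' = coords π g + v ∧
      (Ideal.Quotient.mkₐ A J).comp g' = (Ideal.Quotient.mkₐ A J).comp g := by
  let F : MvPolynomial (Fin n) A →ₐ[A] E := aeval (coords π g + v)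
  have hF : RingHom.ker π ≤ RingHom.ker F := by
    rw [← hs, Ideal.span_le]
    intro p hp
    have hp0 : π p = 0 := by
      have : p ∈ RingHom.ker π := hs ▸ Ideal.subset_span hp
      exact this
    rw [SetLike.mem_coe, RingHom.mem_ker]
    change aeval (coords π g + v) p = 0
    rw [aeval_add_of_mul_eq_zero _ _ (fun i j => mul_eq_zero_of_mem hJ (hv.1 i) (hv.1 j)),
      aeval_coords, hp0, map_zero, zero_add]
    simpa only [aeval_coords] using hv.2 p hp
  let e := Ideal.quotientKerAlgEquivOfSurjective (f := π) hπ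
  let g' : C →ₐ[A] E := (Ideal.Quotient.liftₐ (RingHom.ker π) F fun a ha => hF ha).comp e.symm.toAlgHom
  have hg : ∀ p, g' (π p) = F p := fun p => by
    have : e (Ideal.Quotient.mk (RingHom.ker π) p) = π p :=
      Ideal.quotientKerAlgEquivOfSurjective_mk hπ p
    change Ideal.Quotient.liftₐ (RingHom.ker π) F (fun a ha => hF ha) (e.symm (π p)) = _
    rw [← this, e.symm_apply_apply]
    rfl
  have hc : coords π g' = coords π g + v := funext fun i => (hg (X i)).trans (aeval_X _ _)
  exact ⟨g', hc, congr_mod_of_coords hπ fun i => by rw [hc, Pi.add_apply, add_sub_cancel_left]; exact hv.1 i⟩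

theorem map_mem_coordSub {E' : Type u} [CommRing E'] [Algebra A E'] (h : E →ₐ[A] E') {J : Ideal E}
    {J' : Ideal E'} (hJJ : J ≤ J'.comap h) {g : C →ₐ[A] E} {v : Fin n → E}
    (hv : v ∈ coordSub π s J g) : h ∘ v ∈ coordSub π s J' (h.comp g) :=
  ⟨fun i => hJJ (hv.1 i), fun p hp => by
    simpa using congrArg h (hv.2 p hp)⟩

/-- Membership in the coordinate module only depends on `g` modulo `J`. -/
theorem mem_coordSub_congr {J : Ideal E} (hJ : J ^ 2 = ⊥) {g g' : C →ₐ[A] E}
    (h : (Ideal.Quotient.mkₐ A J).comp g' = (Ideal.Quotient.mkₐ A J).comp g) {v : Fin n → E}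
    (hv : v ∈ coordSub π s J g) : v ∈ coordSub π s J g' := by
  refine ⟨hv.1, fun p hp => ?_⟩
  rw [← hv.2 p hp]
  refine Finset.sum_congr rfl fun i _ => ?_
  have : g' (π (pderiv i p)) - g (π (pderiv i p)) ∈ J :=
    Ideal.Quotient.eq.1 (congrArg (fun k => k (π (pderiv i p))) h)
  have h0 := mul_eq_zero_of_mem hJ this (hv.1 i)
  rw [sub_mul, sub_eq_zero] at h0
  exact h0

section BaseChange

variable (B : Type u) [CommRing B] [Algebra A B]

/-- The ideal of `A` pushed to an algebra. -/
abbrev idealIn (I : Ideal A) (E : Type u) [CommRing E] [Algebra A E] : Ideal E :=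
  I.map (algebraMap A E)

theorem idealIn_le_comap (I : Ideal A) {E E' : Type u} [CommRing E] [Algebra A E] [CommRing E']
    [Algebra A E'] (h : E →ₐ[A] E') : idealIn I E ≤ (idealIn I E').comap h := by
  rw [Ideal.map_le_iff_le_comap]
  intro a ha
  change h (algebraMap A E a) ∈ idealIn I E'
  rw [h.commutes]
  exact Ideal.mem_map_of_mem _ ha

theorem idealIn_sq {I : Ideal A} (hI : I ^ 2 = ⊥) (E : Type u) [CommRing E] [Algebra A E] :
    idealIn I E ^ 2 = ⊥ := by
  rw [← Ideal.map_pow, hI, Ideal.map_bot]

/-- The natural map `(Fin n → E) ⊗ B → (Fin n → E ⊗ B)`. -/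
noncomputable def coordBC : (Fin n → E) ⊗[A] B →ₗ[A] (Fin n → E ⊗[A] B) :=
  LinearMap.pi fun i => (LinearMap.proj i : (Fin n → E) →ₗ[A] E).rTensor B

theorem coordBC_tmul (v : Fin n → E) (b : B) (i : Fin n) :
    coordBC B (v ⊗ₜ[A] b) i = v i ⊗ₜ[A] b := rfl

theorem coordBC_bijective : Function.Bijective (coordBC (A := A) (E := E) (n := n) B) := by
  have : (coordBC (A := A) (E := E) (n := n) B) =
      ((TensorProduct.comm A (Fin n → E) B) ≪≫ₗ TensorProduct.piRight A A B (fun _ : Fin n => E) ≪≫ₗ
        LinearEquiv.piCongrRight fun _ => TensorProduct.comm A B E).toLinearMap := by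
    refine TensorProduct.ext' fun v b => funext fun i => ?_
    simp [coordBC_tmul]
  rw [this]
  exact LinearEquiv.bijective _

variable (π s)

/-- The natural map from the base change of the coordinate module. -/
noncomputable def coordSubBC (J : Ideal E) (g : C →ₐ[A] E) :
    (coordSub π s J g) ⊗[A] B →ₗ[A] (Fin n → E ⊗[A] B) :=
  (coordBC B).comp (((coordSub π s J g).subtype.restrictScalars A).rTensor B)

theorem coordSubBC_tmul (J : Ideal E) (g : C →ₐ[A] E) (v : coordSub π s J g) (b : B) (i : Fin n) :
    coordSubBC π s B J g (v ⊗ₜ[A] b) i = (v : Fin n → E) i ⊗ₜ[A] b := rfl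

theorem coordSubBC_injective [Module.Flat A B] (J : Ideal E) (g : C →ₐ[A] E) :
    Function.Injective (coordSubBC π s B J g) :=
  (coordBC_bijective B).1.comp
    (Module.Flat.rTensor_preserves_injective_linearMap _ Subtype.val_injective)

theorem mem_idealIn_iff (I : Ideal A) (x : E ⊗[A] B) :
    x ∈ idealIn I (E ⊗[A] B) ↔
      x ∈ LinearMap.range (((idealIn I E).subtype.restrictScalars A).rTensor B) := by
  have : idealIn I (E ⊗[A] B) =
      (idealIn I E).map (Algebra.TensorProduct.includeLeft : E →ₐ[A] E ⊗[A] B) := by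
    rw [idealIn, idealIn, ← Ideal.map_coe (Algebra.TensorProduct.includeLeft : E →ₐ[A] E ⊗[A] B),
      Ideal.map_map, AlgHom.comp_algebraMap]
  constructor
  · intro hx
    rw [this] at hx
    induction hx using Submodule.span_induction with
    | mem y hy =>
      obtain ⟨e, he, rfl⟩ := hy
      exact ⟨⟨e, he⟩ ⊗ₜ 1, rfl⟩
    | zero => exact zero_mem _
    | add y z _ _ hy hz => exact add_mem hy hz
    | smul c y _ hy =>
      obtain ⟨t, rfl⟩ := hy
      clear this
      induction c using TensorProduct.induction_on with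
      | zero => simp
      | add c d hc hd => rw [add_smul]; exact add_mem hc hd
      | tmul e b =>
        rename_i h
        clear h
        induction t using TensorProduct.induction_on with
        | zero => simp
        | add t t' ht ht' => rw [map_add, smul_add]; exact add_mem ht ht'
        | tmul e' b' =>
          refine ⟨⟨e * e'.1, Ideal.mul_mem_left _ e e'.2⟩ ⊗ₜ (b * b'), ?_⟩
          simp [smul_eq_mul]
  · rintro ⟨t, rfl⟩
    induction t using TensorProduct.induction_on with
    | zero => simp
    | add t t' ht ht' => rw [map_add]; exact add_mem ht ht'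
    | tmul e b =>
      rw [this]
      change (e.1 ⊗ₜ[A] b : E ⊗[A] B) ∈ _
      rw [show (e.1 ⊗ₜ[A] b : E ⊗[A] B) = (1 ⊗ₜ b) * (e.1 ⊗ₜ 1) by simp]
      exact Ideal.mul_mem_left _ _ (Ideal.mem_map_of_mem _ e.2)

theorem coordSubBC_mem (I : Ideal A) (g : C →ₐ[A] E) (t : (coordSub π s (idealIn I E) g) ⊗[A] B) :
    coordSubBC π s B (idealIn I E) g t ∈ coordSub π s (idealIn I (E ⊗[A] B))
      (Algebra.TensorProduct.includeLeft.comp g) := by
  induction t using TensorProduct.induction_on with
  | zero => simp
  | add t t' ht ht' => rw [map_add]; exact add_mem ht ht'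
  | tmul v b =>
    have := map_mem_coordSub (Algebra.TensorProduct.includeLeft : E →ₐ[A] E ⊗[A] B)
      (idealIn_le_comap I _) v.2
    have := Submodule.smul_mem _ (1 ⊗ₜ[A] b : E ⊗[A] B) this
    convert this using 1
    exact funext fun i => by simp [coordSubBC_tmul, smul_eq_mul]

theorem coordSubBC_surjective [Module.Flat A B] (I : Ideal A) (g : C →ₐ[A] E) {w : Fin n → E ⊗[A] B}
    (hw : w ∈ coordSub π s (idealIn I (E ⊗[A] B)) (Algebra.TensorProduct.includeLeft.comp g)) :
    ∃ t, coordSubBC π s B (idealIn I E) g t = w := by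
  classical
  let J := idealIn I E
  obtain ⟨t, rfl⟩ := (coordBC_bijective (A := A) (E := E) B).2 w
  let M : (Fin n → E) →ₗ[A] (Fin n → E ⧸ J) × (s → E) := LinearMap.prod
    (LinearMap.pi fun i => (Ideal.Quotient.mkₐ A J).toLinearMap.comp (LinearMap.proj i))
    (LinearMap.pi fun p => ∑ i, (LinearMap.mulLeft A (g (π (pderiv i (p : MvPolynomial (Fin n) A))))).comp
      (LinearMap.proj i))
  have hex : Function.Exact ((coordSub π s J g).subtype.restrictScalars A) M := by
    intro v
    simp only [M, LinearMap.prod_apply, Pi.prod, Function.prod, Prod.mk_eq_zero, funext_iff, LinearMap.pi_apply,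
      LinearMap.comp_apply, LinearMap.proj_apply, AlgHom.toLinearMap_apply, Pi.zero_apply,
      LinearMap.coe_restrictScalars, Submodule.coe_subtype, Subtype.range_coe_subtype, Set.mem_range,
      Subtype.exists, exists_prop, exists_eq_right, LinearMap.sum_apply, LinearMap.mulLeft_apply]
    exact ⟨fun h => ⟨fun i => Ideal.Quotient.eq_zero_iff_mem.1 (h.1 i), fun p hp => h.2 ⟨p, hp⟩⟩,
      fun h => ⟨fun i => Ideal.Quotient.eq_zero_iff_mem.2 (h.1 i), fun p => h.2 p p.2⟩⟩
  have hexB := Module.Flat.rTensor_exact B hex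
  have hMt : M.rTensor B t = 0 := by
    have h1 : ((LinearMap.fst A _ _).comp M).rTensor B t = 0 := by
      have hinj : Function.Injective (LinearMap.pi fun i =>
          (LinearMap.proj i : (Fin n → E ⧸ J) →ₗ[A] E ⧸ J).rTensor B) :=
        (coordBC_bijective (A := A) (E := E ⧸ J) (n := n) B).1
      refine hinj (funext fun i => ?_)
      simp only [map_zero, Pi.zero_apply, LinearMap.pi_apply, ← LinearMap.rTensor_comp_apply]
      have hw' := (mem_idealIn_iff B I _).1 (hw.1 i)
      obtain ⟨u, hu⟩ := hw'
      change ((LinearMap.proj i).comp ((LinearMap.fst A _ _).comp M)).rTensor B t = 0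
      rw [show (LinearMap.proj i).comp ((LinearMap.fst A _ _).comp M) =
          (Ideal.Quotient.mkₐ A J).toLinearMap.comp (LinearMap.proj i) from rfl,
        LinearMap.rTensor_comp_apply]
      change (Ideal.Quotient.mkₐ A J).toLinearMap.rTensor B (coordBC B t i) = 0
      rw [← hu, ← LinearMap.rTensor_comp_apply,
        show (Ideal.Quotient.mkₐ A J).toLinearMap.comp ((idealIn I E).subtype.restrictScalars A) = 0 from
          LinearMap.ext fun e => Ideal.Quotient.eq_zero_iff_mem.2 e.2]
      simp
    have h2 : ∀ p : s, ((LinearMap.proj p).comp ((LinearMap.snd A _ _).comp M)).rTensor B t = 0 := by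
      intro p
      rw [show (LinearMap.proj p).comp ((LinearMap.snd A _ _).comp M) = ∑ i,
          (LinearMap.mulLeft A (g (π (pderiv i (p : MvPolynomial (Fin n) A))))).comp (LinearMap.proj i) from rfl]
      refine Eq.trans ?_ (hw.2 p p.2)
      rw [← LinearMap.coe_rTensorHom, map_sum, LinearMap.sum_apply]
      simp only [LinearMap.coe_rTensorHom]
      refine Finset.sum_congr rfl fun i _ => ?_
      rw [LinearMap.rTensor_comp_apply]
      change (LinearMap.mulLeft A _).rTensor B (coordBC B t i) = _
      generalize coordBC B t i = e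
      induction e using TensorProduct.induction_on with
      | zero => simp
      | add e e' he he' => simp [mul_add, he, he']
      | tmul e b => simp
    have hsnd : ((LinearMap.snd A _ _).comp M).rTensor B t = 0 := by
      have hb : Function.Injective (LinearMap.pi fun p : s =>
          (LinearMap.proj p : (s → E) →ₗ[A] E).rTensor B) := by
        have : (LinearMap.pi fun p : s => (LinearMap.proj p : (s → E) →ₗ[A] E).rTensor B) =
            ((TensorProduct.comm A (s → E) B) ≪≫ₗ TensorProduct.piRight A A B (fun _ : s => E) ≪≫ₗ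
              LinearEquiv.piCongrRight fun _ => TensorProduct.comm A B E).toLinearMap := by
          refine TensorProduct.ext' fun v b => funext fun i => ?_
          simp
        rw [this]
        exact LinearEquiv.injective _
      refine hb (funext fun p => ?_)
      rw [map_zero, Pi.zero_apply, ← h2 p]
      exact (LinearMap.rTensor_comp_apply _ _ _ _).symm
    have key : TensorProduct.prodLeft A A (Fin n → E ⧸ J) (s → E) B (M.rTensor B t) =
        (((LinearMap.fst A _ _).comp M).rTensor B t, ((LinearMap.snd A _ _).comp M).rTensor B t) := by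
      clear h1 h2 hsnd hw
      induction t using TensorProduct.induction_on with
      | zero => simp only [map_zero]; rfl
      | add a b ha hb => simp only [map_add, ha, hb, Prod.mk_add_mk]
      | tmul a b => rfl
    rw [h1, hsnd] at key
    exact (LinearEquiv.map_eq_zero_iff _).1 key
  obtain ⟨u, hu⟩ := (hexB t).1 hMt
  exact ⟨u, congrArg (coordBC B) hu⟩

end BaseChange

end AlgSpLib
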