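import Groth.Agent.AlgSpLib.SmoothDescent
/-!
# Infinitesimal lifting for smooth algebraic spaces over an affine base
-/

set_option autoImplicit false
universe u
open CategoryTheory CategoryTheory.Limits AlgebraicGeometry Opposite AlgSp Topology TensorProduct

namespace AlgSpLib

variable {S : Scheme.{u}} {A : Type u} [CommRing A] {str : Spec (CommRingCat.of A) ⟶ S}

theorem idealIn_pi_mem {ι : Type u} [Finite ι] (I : Ideal A) (B : ι → Type u) [∀ i, CommRing (B i)]
    [∀ i, Algebra A (B i)] (x : ∀ i, B i) (h : ∀ i, x i ∈ idealIn I (B i)) : x ∈ idealIn I (∀ i, B i) := by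
  classical
  have := Fintype.ofFinite ι
  have hs : ∀ (i : ι) (y : B i), y ∈ idealIn I (B i) → Pi.single i y ∈ idealIn I (∀ i, B i) := by
    intro i y hy
    have e1 : y ∈ I • (⊤ : Submodule A (B i)) := by
      rw [Ideal.smul_top_eq_map]; exact hy
    have e2 := Submodule.mem_map_of_mem (f := LinearMap.single A B i) e1
    rw [Submodule.map_smul''] at e2
    have e3 : (I • ((⊤ : Submodule A (B i)).map (LinearMap.single A B i)) : Submodule A (∀ i, B i)) ≤
        I • ⊤ := Submodule.smul_mono le_rfl le_top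
    have := e3 e2
    rw [Ideal.smul_top_eq_map] at this
    exact this
  rw [← Finset.univ_sum_single x]
  exact Ideal.sum_mem _ fun i _ => hs i _ (h i)

theorem quotPi_bijective {ι : Type u} [Finite ι] (I : Ideal A) (B : ι → Type u) [∀ i, CommRing (B i)]
    [∀ i, Algebra A (B i)] :
    Function.Bijective (AlgHom.pi fun i => quotHom I (Pi.evalAlgHom A B i) :
      ((∀ i, B i) ⧸ idealIn I (∀ i, B i)) →ₐ[A] ∀ i, B i ⧸ idealIn I (B i)) := by
  refine ⟨(injective_iff_map_eq_zero _).2 fun x hx => ?_, fun y => ?_⟩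
  · obtain ⟨x, rfl⟩ := Ideal.Quotient.mk_surjective x
    exact Ideal.Quotient.eq_zero_iff_mem.2 (idealIn_pi_mem I B x fun i =>
      Ideal.Quotient.eq_zero_iff_mem.1 (congrFun hx i))
  · choose x hx using fun i => Ideal.Quotient.mk_surjective (y i)
    exact ⟨Ideal.Quotient.mk _ x, funext fun i => hx i⟩

theorem flat_of_etale (B : Type u) [CommRing B] [Algebra A B] [Algebra.Etale A B] : Module.Flat A B := by
  have : Etale (Spec.map (CommRingCat.ofHom (algebraMap A B))) :=
    (HasRingHomProperty.Spec_iff (P := @Etale)).2 (RingHom.etale_algebraMap.2 inferInstance)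
  exact RingHom.flat_algebraMap_iff.1 ((HasRingHomProperty.Spec_iff (P := @Flat)).1
    (inferInstance : Flat (Spec.map (CommRingCat.ofHom (algebraMap A B)))))

/-- Sections over a square-zero subscheme of an affine base lift along smooth algebraic spaces. -/
theorem exists_section_lift (I : Ideal A) (hI : I ^ 2 = ⊥) {P : Sp S} (hP : IsAlgSpace P)
    {q : P ⟶ (yon S).obj (Over.mk str)} (hq : LocP @Smooth q)
    (sT : (yon S).obj (ptA str (A ⧸ I)) ⟶ P) (hsT : sT ≫ q = (yon S).map (stA str (A ⧸ I))) :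
    ∃ L : (yon S).obj (Over.mk str) ⟶ P,
      L ≫ q = 𝟙 _ ∧ (yon S).map (stA str (A ⧸ I)) ≫ L = sT := by
  classical
  obtain ⟨U, a₀, ha₀, has₀⟩ := hP.atlas
  obtain ⟨W, p, c, sqW⟩ : ∃ (W : Over S) (p : W ⟶ U) (c : W ⟶ ptA str (A ⧸ I)),
      IsPullback ((yon S).map p) ((yon S).map c) a₀ sT := exists_isPullback_yon a₀ sT ha₀.rep
  have : Etale c.left := etale_left (repWith_of_isPullback sqW ha₀)
  have : Surjective c.left := surjective_left (repWith_of_isPullback sqW has₀)
  -- finitely many affine opens of the atlas suffice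
  have hV : ∀ w : W.left, ∃ V : U.left.Opens, IsAffineOpen V ∧ p.left w ∈ V := fun w => by
    obtain ⟨V, hV, hwV, -⟩ := exists_isAffineOpen_mem_and_subset (X := U.left) (x := p.left w) (U := ⊤) trivial
    exact ⟨V, hV, hwV⟩
  choose V hVa hVw using hV
  have : CompactSpace (ptA str (A ⧸ I)).left := inferInstanceAs (CompactSpace (Spec (CommRingCat.of (A ⧸ I))))
  obtain ⟨t, ht⟩ := CompactSpace.isCompact_univ.elim_finite_subcover
    (fun w : W.left => c.left '' (p.left ⁻¹' (V w)))
    (fun w => c.left.isOpenMap _ ((V w).2.preimage p.left.continuous))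
    (fun x _ => by
      obtain ⟨w, rfl⟩ := c.left.surjective x
      exact Set.mem_iUnion.2 ⟨w, w, hVw w, rfl⟩)
  let g : t → Scheme.{u} := fun i => (V i.1 : Scheme)
  have hga : ∀ i, IsAffine (g i) := fun i => hVa i.1
  let m : ∐ g ⟶ U.left := Sigma.desc fun i => (V i.1).ι
  have hm : Etale m := IsZariskiLocalAtSource.sigmaDesc fun i => inferInstance
  let U' : Over S := Over.mk (m ≫ U.hom)
  let m' : U' ⟶ U := Over.homMk m rfl
  have : IsAffine U'.left := inferInstanceAs (IsAffine (∐ g))
  let a₁ : (yon S).obj U' ⟶ P := (yon S).map m' ≫ a₀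
  have hm' : RepWith @Etale ((yon S).map m') := (repWith_yon_map_iff (P := (@Etale : MorphismProperty Scheme.{u})) m').2 hm
  have ha₁ : RepWith @Etale a₁ := repWith_comp hm' ha₀
  obtain ⟨h, hh⟩ := (yon S).map_surjective (a₁ ≫ q)
  have hsm : Smooth h.left := hq a₁ (𝟙 _) h ha₁ (repWith_id _ _) (by rw [Category.comp_id, hh])
  let C := Γ(U'.left, ⊤)
  let γ : Spec C ⟶ Spec (CommRingCat.of A) := U'.left.isoSpec.inv ≫ h.left
  let : Algebra A C := (Spec.preimage γ).hom.toAlgebra
  have hγ : Spec.map (CommRingCat.ofHom (algebraMap A C)) = γ := Spec.map_preimage γ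
  have : Algebra.Smooth A C := by
    refine RingHom.smooth_algebraMap.1 ((HasRingHomProperty.Spec_iff (P := @Smooth)).1 ?_)
    rw [show Spec.map (CommRingCat.ofHom (algebraMap A C)) = γ from hγ] at *
    exact (show Smooth (Spec.map (Spec.preimage γ)) from by
      rw [Spec.map_preimage]; exact inferInstanceAs (Smooth (U'.left.isoSpec.inv ≫ h.left)))
  let i₀ : ptA str C ⟶ U' := Over.homMk U'.left.isoSpec.inv (by
    change _ ≫ U'.hom = Spec.map _ ≫ str
    rw [hγ, ← Over.w h]
    exact (Category.assoc _ _ _).symm)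
  have : IsIso i₀.left := inferInstanceAs (IsIso U'.left.isoSpec.inv)
  have : IsIso ((Over.forget S).map i₀) := ‹IsIso i₀.left›
  have : IsIso i₀ := isIso_of_reflects_iso i₀ (Over.forget S)
  let a : (yon S).obj (ptA str C) ⟶ P := (yon S).map i₀ ≫ a₁
  have H : ChartHyp a q := by
    refine ⟨hP, ((RepWith _).cancel_left_of_respectsIso _ _).2 ha₁, ?_⟩
    rw [Category.assoc, ← hh, ← Functor.map_comp]
    exact congrArg (yon S).map (Over.OverMorphism.ext hγ.symm)
  -- the chart covers the closed subscheme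
  let W' : Over S := Over.mk (pullback.fst p.left m ≫ W.hom)
  let e₂ : W' ⟶ ptA str (A ⧸ I) := (Over.homMk (pullback.fst p.left m) rfl : W' ⟶ W) ≫ c
  have : Etale e₂.left := inferInstanceAs (Etale (pullback.fst p.left m ≫ c.left))
  have : Surjective e₂.left := ⟨fun x => by
    obtain ⟨i, hit, w, hw, rfl⟩ := Set.mem_iUnion₂.1 (ht (Set.mem_univ x))
    obtain ⟨y, hy⟩ : p.left w ∈ Set.range m :=
      ⟨Sigma.ι g ⟨i, hit⟩ ⟨p.left w, hw⟩, by
        rw [← Scheme.Hom.comp_apply, Sigma.ι_desc]
        rfl⟩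
    obtain ⟨z, hz, -⟩ := Scheme.Pullback.exists_preimage_pullback (f := p.left) (g := m) w y hy.symm
    exact ⟨z, congrArg c.left hz⟩⟩
  let sq : InfSq q :=
  { A := A, I := I, sq_zero := hI, str := str, top := sT, bot := 𝟙 _,
    comm := by rw [Category.comp_id]; exact hsT }
  choose B _ φ hφ hzr k hk using exists_etale_refine sq (W := W') e₂
  have : CompactSpace sq.ptT'.left := inferInstanceAs (CompactSpace (Spec (CommRingCat.of A)))
  obtain ⟨u, hu⟩ := CompactSpace.isCompact_univ.elim_finite_subcover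
    (fun z : sq.ptT'.left => Set.range (pullSqHom sq (φ z)).left)
    (fun z => by
      have : Etale (pullSqHom sq (φ z)).left := (HasRingHomProperty.Spec_iff (P := @Etale)).2 (hφ z)
      exact (pullSqHom sq (φ z)).left.isOpenMap.isOpen_range)
    (fun z _ => Set.mem_iUnion.2 ⟨z, hzr z⟩)
  let Br : u → Type u := fun r => B r.1
  let (r : u) : Algebra A (Br r) := (φ r.1).toAlgebra
  have (r : u) : Algebra.Etale A (Br r) := RingHom.etale_algebraMap.1 (hφ r.1)
  let Bt := ∀ r, Br r
  have : Module.Flat A Bt := flat_of_etale Bt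
  have : Module.FaithfullyFlat A Bt := Module.FaithfullyFlat.of_comap_surjective fun Q => by
    obtain ⟨z, hz, Q', hQ'⟩ := Set.mem_iUnion₂.1 (hu (Set.mem_univ (Q : sq.ptT'.left)))
    exact ⟨PrimeSpectrum.comap (Pi.evalRingHom Br ⟨z, hz⟩) Q', hQ'⟩
  -- points of the chart on the members of the covering
  have loc : ∀ r : u, ∃ v : C →ₐ[A] Br r ⧸ idealIn I (Br r),
      ptOf a v = (yon S).map (hA str (baseQuot I (Br r))) ≫ sT := by
    intro r
    let fst' : W' ⟶ W := Over.homMk (pullback.fst p.left m) rfl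
    let snd' : W' ⟶ U' := Over.homMk (pullback.snd p.left m) (by
      change pullback.snd p.left m ≫ m ≫ U.hom = pullback.fst p.left m ≫ W.hom
      rw [← Category.assoc, ← pullback.condition, Category.assoc, Over.w p])
    have hfs : snd' ≫ m' = fst' ≫ p := Over.OverMorphism.ext pullback.condition.symm
    let cast' : ptA str (Br r ⧸ idealIn I (Br r)) ⟶ (pullSq sq (φ r.1)).ptT :=
      Over.homMk (𝟙 _) (by
        change 𝟙 _ ≫ Spec.map _ ≫ Spec.map _ ≫ str = Spec.map _ ≫ str
        rw [Category.id_comp, ← Spec.map_comp_assoc, ← CommRingCat.ofHom_comp]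
        try rfl)
    let ψ : ptA str (Br r ⧸ idealIn I (Br r)) ⟶ ptA str C := cast' ≫ k r.1 ≫ snd' ≫ inv i₀
    have hψ : (yon S).map ψ ≫ a = (yon S).map (hA str (baseQuot I (Br r))) ≫ sT := by
      simp only [a, a₁, ← Functor.map_comp_assoc]
      rw [show ψ ≫ i₀ ≫ m' = (cast' ≫ k r.1 ≫ fst') ≫ p by simp [ψ, hfs], Functor.map_comp,
        Category.assoc, sqW.w, ← Functor.map_comp_assoc, Category.assoc, Category.assoc,
        Functor.map_comp, Category.assoc, show fst' ≫ c = e₂ from rfl, Functor.map_comp, Category.assoc]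
      erw [hk r.1]
      change (yon S).map cast' ≫ (yon S).map _ ≫ sT = _
      rw [← Functor.map_comp_assoc]
      refine congrArg (fun j => (yon S).map j ≫ sT) (Over.OverMorphism.ext ?_)
      exact Category.id_comp _
    obtain ⟨v, hv⟩ := exists_hA_eq (str := str) ψ ((yon S).map_injective (by
      rw [Functor.map_comp, ← H.over_base, ← Category.assoc, hψ, Category.assoc, hsT, ← Functor.map_comp,
        hA_st]))
    exact ⟨v, by rw [ptOf, hv, hψ]⟩
  choose v hv using loc
  let π' := AlgEquiv.ofBijective _ (quotPi_bijective I Br)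
  let u₀ : C →ₐ[A] Bt ⧸ idealIn I Bt := π'.symm.toAlgHom.comp (AlgHom.pi v)
  have hu₀ : ∀ r, (quotHom I (Pi.evalAlgHom A Br r)).comp u₀ = v r := fun r => AlgHom.ext fun x =>
    congrFun (π'.apply_symm_apply (fun r => v r x)) r
  refine exists_section_of_local I hI H sT Bt u₀ ?_
  refine hom_ext_of_cover (fun r : u => hA str (quotHom I (Pi.evalAlgHom A Br r))) (fun r => ?_) (fun r => ?_)
    (fun Q => ?_) fun r => ?_
  rotate_left 2
  · obtain ⟨r, Q', hQ'⟩ := PrimeSpectrum.exists_comap_evalRingHom_eq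
      (PrimeSpectrum.comap (Ideal.Quotient.mk (idealIn I Bt)) Q)
    have hle : idealIn I (Br r) ≤ Q'.asIdeal := Ideal.map_le_iff_le_comap.2 fun x hx => by
      have : algebraMap A Bt x ∈ (PrimeSpectrum.comap (Pi.evalRingHom Br r) Q').asIdeal := by
        rw [hQ']
        change Ideal.Quotient.mk _ (algebraMap A Bt x) ∈ Q.asIdeal
        rw [Ideal.Quotient.eq_zero_iff_mem.2 (Ideal.mem_map_of_mem _ hx)]
        exact Q.asIdeal.zero_mem
      exact this
    obtain ⟨Q'', rfl⟩ : Q' ∈ Set.range (PrimeSpectrum.comap (Ideal.Quotient.mk (idealIn I (Br r)))) := by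
      rw [range_comap_of_surjective _ _ Ideal.Quotient.mk_surjective, Ideal.mk_ker]
      exact hle
    exact ⟨r, Q'', PrimeSpectrum.comap_injective_of_surjective _ Ideal.Quotient.mk_surjective hQ'⟩
  · rw [← ptOf_comp, hu₀, hv, ← Functor.map_comp_assoc, ← hA_comp, quotHom_comp_baseQuot]
  all_goals
    have h1 : Etale (hA str (baseQuot I Bt)).left := (HasRingHomProperty.Spec_iff (P := @Etale)).2
      (etale_quotientMap (algebraMap A Bt) (RingHom.etale_algebraMap.2 inferInstance) I)
    have h2 : Etale (hA str (baseQuot I (Br r))).left := (HasRingHomProperty.Spec_iff (P := @Etale)).2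
      (etale_quotientMap (algebraMap A (Br r)) (RingHom.etale_algebraMap.2 inferInstance) I)
    rw [← quotHom_comp_baseQuot I (Pi.evalAlgHom A Br r), hA_comp, Over.comp_left] at h2
    have := Etale.of_comp (hA str (quotHom I (Pi.evalAlgHom A Br r))).left (hA str (baseQuot I Bt)).left
    infer_instance

end AlgSpLib
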