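import Groth.Agent.AlgSpLib.SrcDescent
import Groth.Agent.AlgSpLib.Reduced
import Groth.Agent.AlgSpLib.LocP
import Groth.Agent.CohenLib.RegularField
import Groth.Agent.RegFlatLib.Basic
import Groth.Agent.FlatLib.SmoothScheme
import Groth.Agent.S0114
import Groth.Agent.S5938
/-!
# fppf descent on the source: finiteness, smoothness, regularity
-/

set_option autoImplicit false
universe u
open CategoryTheory CategoryTheory.Limits AlgebraicGeometry AlgSp Topology IsLocalRing

namespace AlgSpLib

variable {S : Scheme.{u}}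

theorem locP_of_fppf_comp (P : MorphismProperty Scheme.{u}) [IsZariskiLocalAtSource P]
    (hd : ∀ {U' U Y : Scheme.{u}} (π : U' ⟶ U) (k : U ⟶ Y) [Flat π] [LocallyOfFinitePresentation π]
      [Surjective π], P (π ≫ k) → P k)
    {X Y Z : Sp S} (hX : IsAlgSpace X) (hY : IsAlgSpace Y) {g : X ⟶ Y} {h : Y ⟶ Z}
    (hfl : LocP @Flat g) (hfp : LocP @LocallyOfFinitePresentation g) (hs : IsSurjectiveMor g)
    (hgh : LocP P (g ≫ h)) : LocP P h :=
  haveI : IsZariskiLocalAtSource (@Flat ⊓ @LocallyOfFinitePresentation : MorphismProperty Scheme.{u}) :=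
    inferInstance
  locP_of_src_cover P (@Flat ⊓ @LocallyOfFinitePresentation)
    (fun π k hπ hπs hh => by
      obtain ⟨h1, h2⟩ := hπ
      haveI : Flat π := h1
      haveI : LocallyOfFinitePresentation π := h2
      haveI := hπs
      exact hd π k hh)
    hY (Fi := fun _ : PUnit.{u + 1} => X) (fun _ => hX) (fun _ => g)
    (fun _ _ _ a b k ha hb e => ⟨hfl a b k ha hb e, hfp a b k ha hb e⟩)
    (fun x => ⟨⟨⟩, hs x⟩) fun _ => hgh

/-! ## Regularity -/

/-- Locally Noetherian with regular local rings. -/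
def IsReg (X : Scheme.{u}) : Prop :=
  IsLocallyNoetherian X ∧ ∀ x : ↥X, IsRegularLocalRing ↥(X.presheaf.stalk x)

theorem isReg_of_smooth {W U : Scheme.{u}} (g : W ⟶ U) [Smooth g] (h : IsReg U) : IsReg W := by
  haveI := h.1
  haveI := LocallyOfFiniteType.isLocallyNoetherian g
  refine ⟨inferInstance, fun w => ?_⟩
  haveI := h.2 (g w)
  have h1 : (g.stalkMap w).hom.FormallySmooth :=
    Scheme.Hom.mem_smoothLocus.1 (g.smoothLocus_eq_top ▸ trivial : w ∈ g.smoothLocus)
  have h2 := Flat.stalkMap g w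
  letI := (g.stalkMap w).hom.toAlgebra
  haveI : IsLocalHom (algebraMap (U.presheaf.stalk (g w)) (W.presheaf.stalk w)) := g.toLRSHom.prop w
  haveI : Module.Flat (U.presheaf.stalk (g w)) (W.presheaf.stalk w) := h2
  haveI : Algebra.FormallySmooth (U.presheaf.stalk (g w)) (W.presheaf.stalk w) := h1
  exact CohenLib.isRegularLocalRing_of_formallySmooth_flat (U.presheaf.stalk (g w)) (W.presheaf.stalk w)

theorem isReg_of_fppf_surjective {W U : Scheme.{u}} (g : W ⟶ U) [Flat g]
    [LocallyOfFinitePresentation g] [Surjective g] (h : IsReg W) : IsReg U := by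
  haveI := h.1
  haveI := isLocallyNoetherian_of_fppf_surjective g
  refine ⟨inferInstance, fun x => ?_⟩
  obtain ⟨w, rfl⟩ := g.surjective x
  haveI := h.2 w
  have h2 := Flat.stalkMap g w
  letI := (g.stalkMap w).hom.toAlgebra
  haveI : IsLocalHom (algebraMap (U.presheaf.stalk (g w)) (W.presheaf.stalk w)) := g.toLRSHom.prop w
  haveI : Module.Flat (U.presheaf.stalk (g w)) (W.presheaf.stalk w) := h2
  exact RegFlatLib.isRegularLocalRing_of_flat (U.presheaf.stalk (g w)) (W.presheaf.stalk w)

theorem isReg_of_chart {F : Sp S} (hF : EtaleLocally IsReg F) {U : Over S}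
    {a : (yon S).obj U ⟶ F} (ha : RepWith @Etale a) : IsReg U.left := by
  obtain ⟨U₀, p, hp, hps, h₀⟩ := hF
  obtain ⟨W, q, r, sq⟩ := exists_isPullback_yon p a hp.rep
  have := etale_left (repWith_of_isPullback sq hp)
  have := surjective_left (repWith_of_isPullback sq hps)
  have := etale_left (repWith_of_isPullback sq.flip ha)
  exact isReg_of_fppf_surjective r.left (isReg_of_smooth q.left h₀)

theorem etaleLocally_isReg_of_fppf_surjective {F G : Sp S} (hF : IsAlgSpace F) (hG : IsAlgSpace G)
    {f : F ⟶ G} (hfp : LocP @LocallyOfFinitePresentation f) (hfl : LocP @Flat f)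
    (hs : IsSurjectiveMor f) (h : EtaleLocally IsReg F) : EtaleLocally IsReg G := by
  obtain ⟨V, b, hb, hbs⟩ := hG.atlas
  obtain ⟨U, a, k, ha, hks, e⟩ := exists_surjective_chart hF hG hs b hb
  have := isReg_of_chart h ha
  have : Flat k.left := hfl a b k ha hb e
  have : LocallyOfFinitePresentation k.left := hfp a b k ha hb e
  exact ⟨V, b, hb, hbs, isReg_of_fppf_surjective k.left ‹_›⟩

end AlgSpLib
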