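import Groth.Agent.AlgSpLib.Fppf
import Mathlib.AlgebraicGeometry.Sites.Fpqc
/-!
# Transfer of locality on the source from schemes to algebraic spaces
-/

set_option autoImplicit false
universe u
open CategoryTheory CategoryTheory.Limits AlgebraicGeometry AlgSp Topology

namespace AlgSpLib

variable {S : Scheme.{u}}

/-- The charts of the base changes of a covering family to a chart. -/
structure ChartFamily {ι : Type u} {X : Sp S} {Xi : ι → Sp S} (g : ∀ i, Xi i ⟶ X) {U : Over S}
    (a : (yon S).obj U ⟶ X) where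
  obj : ι → Over S
  chart : ∀ i, (yon S).obj (obj i) ⟶ pullback (g i) a
  etale : ∀ i, RepWith @Etale (chart i)
  surjective : ∀ i, RepWith @Surjective (chart i)
  hom : ∀ i, obj i ⟶ U
  w : ∀ i, (yon S).map (hom i) = chart i ≫ pullback.snd (g i) a

theorem ChartFamily.prop {ι : Type u} {X : Sp S} {Xi : ι → Sp S}
    {g : ∀ i, Xi i ⟶ X} {U : Over S} {a : (yon S).obj U ⟶ X} (C : ChartFamily g a)
    (ha : RepWith @Etale a) {Q : MorphismProperty Scheme.{u}} {i : ι} (hg : LocP Q (g i)) :
    Q (C.hom i).left := by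
  refine hg (C.chart i ≫ pullback.fst (g i) a) a (C.hom i) ?_ ha
    (by rw [C.w i, Category.assoc, Category.assoc, pullback.condition])
  exact repWith_comp (C.etale i)
    (repWith_of_isPullback (IsPullback.of_hasPullback (g i) a).flip ha)

theorem ChartFamily.exists_mem_range {ι : Type u} {X : Sp S} {Xi : ι → Sp S}
    {g : ∀ i, Xi i ⟶ X} {U : Over S} {a : (yon S).obj U ⟶ X} (C : ChartFamily g a)
    (hs : ∀ x : Points X, ∃ i, x ∈ Set.range (Points.map (g i))) (x : U.left) :
    ∃ i, x ∈ Set.range (C.hom i).left := by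
  obtain ⟨i, y, hy⟩ := hs (Points.ofPt a x)
  obtain ⟨w, -, hw⟩ := exists_point_isPullback (IsPullback.of_hasPullback (g i) a) y
    (Points.ofScheme U x) (by rw [hy, ← Points.ofPt_eq_map_ofScheme])
  obtain ⟨z, hz⟩ := map_surjective_of_repWith (C.surjective i) w
  obtain ⟨z, rfl⟩ := (Points.schemeEquiv (C.obj i)).surjective z
  refine ⟨i, z, ?_⟩
  apply (Points.schemeEquiv U).injective
  refine (Points.map_yon_map_apply (C.hom i) z).symm.trans ?_
  change Points.map ((yon S).map (C.hom i)) _ = _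
  rw [C.w i, Points.map_comp]
  exact (congrArg _ hz).trans hw

theorem isLocalOnSource_of_isLocalAtSource (τ : CovNotion S) (P Q : MorphismProperty Scheme.{u})
    (K : Precoverage Scheme.{u}) [P.IsLocalAtSource K]
    (hpair : ∀ {A B : Scheme.{u}} (m : A ⟶ B), Q m → ∃ R ∈ K B, R m)
    (het : ∀ {A B : Scheme.{u}} (m : A ⟶ B), Etale m → Surjective m → Presieve.singleton m ∈ K B)
    (hτQ : ∀ ⦃ι : Type u⦄ ⦃X : Sp S⦄ (Xi : ι → Sp S) (g : ∀ i, Xi i ⟶ X), τ Xi g →
      ∀ i, LocP Q (g i))
    (hcov : ∀ ⦃ι : Type u⦄ ⦃X : Sp S⦄ (Xi : ι → Sp S) (g : ∀ i, Xi i ⟶ X), IsAlgSpace X →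
      (∀ i, IsAlgSpace (Xi i)) → τ Xi g → ∀ {U : Over S} (a : (yon S).obj U ⟶ X),
      RepWith @Etale a → ∀ C : ChartFamily g a,
        Presieve.ofArrows (fun i => (C.obj i).left) (fun i => (C.hom i).left) ∈ K U.left) :
    IsLocalOnSource τ (LocP P) := by
  intro ι X Xi g hX hXi hτ Y f hY
  refine ⟨fun hf i U V a b k ha hb e => ?_, fun h U V a b k ha hb e => ?_⟩
  · have hW : IsAlgSpace (pullback f b) := isAlgSpace_pullback hX (IsAlgSpace.yon_obj V) hY f b
    obtain ⟨U', c, hc, hcs⟩ := hW.atlas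
    obtain ⟨k', hk'⟩ := (yon S).map_surjective (c ≫ pullback.snd f b)
    let l : (yon S).obj U ⟶ pullback f b :=
      pullback.lift (a ≫ g i) ((yon S).map k) (by rw [Category.assoc]; exact e)
    obtain ⟨U'', m, π, sq⟩ := exists_isPullback_yon c l hc.rep
    have : Etale π.left := etale_left (repWith_of_isPullback sq hc)
    have : Surjective π.left := surjective_left (repWith_of_isPullback sq hcs)
    have hb' : RepWith @Etale (c ≫ pullback.fst f b) :=
      repWith_comp hc (repWith_of_isPullback (IsPullback.of_hasPullback f b).flip hb)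
    have hm : Q m.left := hτQ Xi g hτ i ((yon S).map π ≫ a) (c ≫ pullback.fst f b) m
      (repWith_comp (repWith_of_isPullback sq hc) ha) hb' (by
        rw [Category.assoc, ← Category.assoc ((yon S).map m), sq.w, Category.assoc,
          pullback.lift_fst])
    have hP' : P k'.left := hf _ b k' hb' hb (by
      rw [hk', Category.assoc, Category.assoc, pullback.condition])
    have e' : m ≫ k' = π ≫ k := (yon S).map_injective (by
      rw [Functor.map_comp, Functor.map_comp, hk', ← Category.assoc, sq.w, Category.assoc,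
        pullback.lift_snd])
    have hQ' : P (π.left ≫ k.left) := by
      obtain ⟨R, hR, hmR⟩ := hpair m.left hm
      rw [← Over.comp_left, ← e', Over.comp_left]
      exact MorphismProperty.IsLocalAtSource.comp hR m.left hmR hP'
    refine MorphismProperty.IsLocalAtSource.of_forall_comp (het π.left inferInstance inferInstance) ?_
    rintro _ _ ⟨⟩
    exact hQ'
  · have hW : ∀ i, IsAlgSpace (pullback (g i) a) :=
      fun i => isAlgSpace_pullback (hXi i) (IsAlgSpace.yon_obj U) hX _ _
    choose E c hc hcs using fun i => (hW i).atlas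
    choose p hp using fun i => (yon S).map_surjective (c i ≫ pullback.snd (g i) a)
    refine MorphismProperty.IsLocalAtSource.of_forall_comp
      (hcov Xi g hX hXi hτ a ha ⟨E, c, hc, hcs, p, hp⟩) ?_
    rintro _ _ ⟨i⟩
    rw [← Over.comp_left]
    refine h i (c i ≫ pullback.fst (g i) a) b (p i ≫ k)
      (repWith_comp (hc i) (repWith_of_isPullback (IsPullback.of_hasPullback (g i) a).flip ha)) hb ?_
    rw [Functor.map_comp, hp i, Category.assoc, Category.assoc, pullback.condition_assoc, e,
      Category.assoc]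

theorem exists_mem_precoverage (Q : MorphismProperty Scheme.{u}) [Q.ContainsIdentities]
    {A B : Scheme.{u}} (m : A ⟶ B) (hm : Q m) : ∃ R ∈ Scheme.precoverage Q B, R m :=
  ⟨Presieve.ofArrows (fun o : Option PUnit.{u + 1} => o.elim B fun _ => A)
    (fun | none => 𝟙 _ | some _ => m),
    (Scheme.ofArrows_mem_precoverage_iff _).2
      ⟨fun x => ⟨none, x, rfl⟩, fun | none => Q.id_mem _ | some _ => hm⟩,
    Presieve.ofArrows.mk (some PUnit.unit)⟩

theorem singleton_mem_precoverage (Q : MorphismProperty Scheme.{u})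
    {A B : Scheme.{u}} (m : A ⟶ B) (hm : Q m) [Surjective m] :
    Presieve.singleton m ∈ Scheme.precoverage Q B := by
  exact (Scheme.singleton_mem_precoverage_iff (P := Q) m).2 ⟨m.surjective, hm⟩

theorem isLocalOnSource_of_isLocalAtSource_precoverage (P Q : MorphismProperty Scheme.{u})
    [Q.ContainsIdentities] (hQ : (@Etale : MorphismProperty Scheme.{u}) ≤ Q)
    [P.IsLocalAtSource (Scheme.precoverage Q)] (τ : CovNotion S)
    (hτ : ∀ ⦃ι : Type u⦄ ⦃X : Sp S⦄ (Xi : ι → Sp S) (g : ∀ i, Xi i ⟶ X), τ Xi g →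
      (∀ i, LocP Q (g i)) ∧ ∀ x : Points X, ∃ i, x ∈ Set.range (Points.map (g i))) :
    IsLocalOnSource τ (LocP P) :=
  isLocalOnSource_of_isLocalAtSource τ P Q _ (exists_mem_precoverage Q)
    (fun m hm _ => singleton_mem_precoverage Q m (hQ _ _ _ hm)) (fun ι X Xi g h => (hτ Xi g h).1)
    fun ι X Xi g _ _ h U a ha C => (Scheme.ofArrows_mem_precoverage_iff _).2
      ⟨C.exists_mem_range (hτ Xi g h).2, fun i => C.prop ha ((hτ Xi g h).1 i)⟩

theorem ofArrows_mem_fpqcPrecoverage {ι : Type u} {U : Scheme.{u}} {A : ι → Scheme.{u}}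
    {f : ∀ i, A i ⟶ U} (hf : ∀ i, Flat (f i)) (hs : ∀ x, ∃ i, x ∈ Set.range (f i))
    (hqc : QuasiCompactCover ⟨ι, A, f⟩) : Presieve.ofArrows A f ∈ Scheme.fpqcPrecoverage U :=
  ⟨(Scheme.presieve₀_mem_qcPrecoverage_iff (E := ⟨ι, A, f⟩)).2 hqc,
    (Scheme.ofArrows_mem_precoverage_iff _).2 ⟨hs, hf⟩⟩

theorem isLocalOnSource_fpqc_of_isLocalAtSource (P : MorphismProperty Scheme.{u})
    [P.IsLocalAtSource Scheme.fpqcPrecoverage] :
    IsLocalOnSource (IsFpqcCover (S := S)) (LocP P) := by
  refine isLocalOnSource_of_isLocalAtSource _ P @Flat _ (fun {A B} m (_ : Flat m) => ?_)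
    (fun m _ _ => ?_) (fun ι X Xi g h => h.1) fun ι X Xi g hX hXi hτ U a ha C =>
      ofArrows_mem_fpqcPrecoverage (fun i => C.prop ha (hτ.1 i))
        (C.exists_mem_range (fun x => exists_mem_range_of_fpqc hX hτ x)) ⟨fun {Z} hZ => ?_⟩
  · let A' : Option PUnit.{u + 1} → Scheme.{u} := fun o => o.elim B fun _ => A
    let f' : ∀ o, A' o ⟶ B := fun | none => 𝟙 _ | some _ => m
    refine ⟨Presieve.ofArrows A' f', ofArrows_mem_fpqcPrecoverage
      (fun | none => inferInstanceAs (Flat (𝟙 _)) | some _ => ‹_›) (fun x => ⟨none, x, rfl⟩)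
      ⟨fun {Z} hZ => ?_⟩, Presieve.ofArrows.mk (some PUnit.unit)⟩
    refine IsCompactOpenCovered.of_finite (κ := PUnit.{1}) (fun _ => (none : Option PUnit.{u + 1}))
      (fun _ => Z) (fun _ => hZ.isCompact) ?_
    ext x
    constructor
    · intro h
      simp only [f', Set.mem_iUnion, Set.mem_image] at h
      obtain ⟨-, y, hy, rfl⟩ := h
      exact hy
    · exact fun hx => Set.mem_iUnion.2 ⟨⟨⟩, x, hx, rfl⟩
  · exact Scheme.fppfPrecoverage_le_fpqcPrecoverage _
      (singleton_mem_precoverage _ m ⟨inferInstance, inferInstance⟩)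
  · let Z' : Over S := Over.mk (Z.ι ≫ U.hom)
    let s : Z' ⟶ U := Over.homMk Z.ι rfl
    have : IsAffine Z'.left := hZ
    obtain ⟨m, W, c, hW, hcf, hcs, hl⟩ := hτ.2 Z' ‹_› ((yon S).map s ≫ a)
    choose i l hl using hl
    let l' : ∀ j, (yon S).obj (W j) ⟶ pullback (g (i j)) a := fun j =>
      pullback.lift (l j) ((yon S).map (c j ≫ s)) (by rw [hl, Functor.map_comp, Category.assoc])
    choose R v r sq using fun j => exists_isPullback_yon (C.chart (i j)) (l' j) (C.etale (i j)).rep
    have he : ∀ j, Etale (r j).left :=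
      fun j => etale_left (repWith_of_isPullback (sq j) (C.etale _))
    have hsr : ∀ j, Surjective (r j).left :=
      fun j => surjective_left (repWith_of_isPullback (sq j) (C.surjective _))
    choose E k hE hke hks hloc using fun j =>
      (have := hW j; have := he j; have := hsr j; exists_affine_etale_surjective (r j).left)
    have hfac : ∀ j, (k j ≫ (v j).left) ≫ (C.hom (i j)).left =
        (k j ≫ (r j).left) ≫ (c j).left ≫ Z.ι := fun j => by
      rw [Category.assoc, Category.assoc, ← Over.comp_left,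
        show v j ≫ C.hom (i j) = r j ≫ c j ≫ s from (yon S).map_injective (by
          rw [Functor.map_comp, C.w, ← Category.assoc, (sq j).w, Category.assoc, pullback.lift_snd,
            ← Functor.map_comp]), Over.comp_left, Over.comp_left]
      rfl
    refine IsCompactOpenCovered.of_comp (X := fun i => ↥(C.obj i).left) (σ := Fin m)
      (Y := fun j => ↥(E j)) (fun j => ⇑((k j ≫ (r j).left) ≫ (c j).left ≫ Z.ι))
      (a := i) (fun j => ⇑(k j ≫ (v j).left)) (fun j => Scheme.Hom.continuous _)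
      (fun j => by rw [← hfac j]; rfl) (fun _ => Scheme.Hom.continuous _) Z.2 ?_
    refine IsCompactOpenCovered.of_finite (κ := Fin m) id (fun _ => ⊤)
      (fun j => by have := hE j; exact CompactSpace.isCompact_univ) ?_
    ext x
    simp only [id, TopologicalSpace.Opens.coe_top, Set.image_univ, Set.mem_iUnion]
    constructor
    · rintro ⟨j, y, rfl⟩
      exact Subtype.property _
    · intro hx
      obtain ⟨j, w, hw⟩ := hcs ⟨x, hx⟩
      have := hks j
      obtain ⟨y, hy⟩ := (k j ≫ (r j).left).surjective w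
      exact ⟨j, y, (congrArg (fun t => ((c j).left ≫ Z.ι) t) hy).trans (congrArg Z.ι hw)⟩

end AlgSpLib
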