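import Mathlib
/-!
# Morphisms of schemes which become closed immersions over a thickening
-/

set_option autoImplicit false
universe u
open CategoryTheory CategoryTheory.Limits AlgebraicGeometry Topology TensorProduct

namespace AlgSpLib.ThickCI

theorem top_le_of_le_sup_nilpotent {A M : Type*} [CommRing A] [AddCommGroup M] [Module A M]
    {I : Ideal A} (hI : IsNilpotent I) {N : Submodule A M} (h : (⊤ : Submodule A M) ≤ N ⊔ I • ⊤) :
    (⊤ : Submodule A M) ≤ N := by
  obtain ⟨n, hn⟩ := hI
  have key : ∀ k : ℕ, (⊤ : Submodule A M) ≤ N ⊔ I ^ k • ⊤ := fun k => by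
    induction k with
    | zero => simp
    | succ k ih =>
      refine h.trans (sup_le le_sup_left ?_)
      refine (Submodule.smul_mono (le_refl I) ih).trans ?_
      rw [Submodule.smul_sup, ← Submodule.mul_smul, ← pow_succ']
      exact sup_le_sup_right Submodule.smul_le_right _
  have := key n
  rw [hn, Ideal.zero_eq_bot, Submodule.bot_smul, sup_bot_eq] at this
  exact this

section Ring

variable {A C : Type u} [CommRing A] [CommRing C] [Algebra A C] (I : Ideal A)

/-- The comparison map. -/
noncomputable def toQuot : C ⊗[A] (A ⧸ I) →ₐ[A] C ⧸ I.map (algebraMap A C) :=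
  Algebra.TensorProduct.lift (Ideal.Quotient.mkₐ A _)
    (Ideal.Quotient.liftₐ I (Algebra.ofId A _) (fun a ha => by
      change algebraMap A (C ⧸ I.map (algebraMap A C)) a = 0
      exact Ideal.Quotient.eq_zero_iff_mem.2 (Ideal.mem_map_of_mem _ ha) ))
    fun _ _ => Commute.all _ _

theorem toQuot_surjective : Function.Surjective (toQuot (C := C) I) := fun x => by
  obtain ⟨c, rfl⟩ := Ideal.Quotient.mk_surjective x
  exact ⟨c ⊗ₜ 1, by simp [toQuot]⟩

theorem map_le_smul_top : (I.map (algebraMap A C)).restrictScalars A = I • (⊤ : Submodule A C) :=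
  (Ideal.smul_top_eq_map I).symm

theorem surjective_of_quot (hsurj : Function.Surjective (Algebra.TensorProduct.includeRight :
      A ⧸ I →ₐ[A] C ⊗[A] (A ⧸ I)))
    (h : IsNilpotent I ∨ (Module.Finite A C ∧ I ≤ nilradical A)) :
    Function.Surjective (algebraMap A C) := by
  have hle : (⊤ : Submodule A C) ≤ LinearMap.range (Algebra.linearMap A C) ⊔ I • ⊤ := fun c _ => by
    obtain ⟨b, hb⟩ := hsurj (c ⊗ₜ 1)
    obtain ⟨a, rfl⟩ := Ideal.Quotient.mk_surjective b
    have e := congrArg (toQuot I) hb
    simp only [toQuot, Algebra.TensorProduct.includeRight_apply, Algebra.TensorProduct.lift_tmul, map_one,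
      one_mul, mul_one] at e
    have e' : algebraMap A C a - c ∈ I.map (algebraMap A C) := Ideal.Quotient.eq.1 e
    rw [← map_le_smul_top]
    refine Submodule.mem_sup.2 ⟨algebraMap A C a, ⟨a, rfl⟩, c - algebraMap A C a, ?_, by abel⟩
    have := neg_mem e'
    rwa [neg_sub] at this
  have hN : (⊤ : Submodule A C) ≤ LinearMap.range (Algebra.linearMap A C) := by
    rcases h with h | ⟨hf, hI⟩
    · exact top_le_of_le_sup_nilpotent h hle
    · exact Submodule.le_of_le_smul_of_le_jacobson_bot hf.1 (hI.trans (by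
        rw [nilradical_eq_sInf]; exact le_sInf fun J hJ => sInf_le (show J.IsPrime from hJ.2.isPrime))) hle
  exact fun c => hN (x := c) trivial

theorem finiteType_of_quot (hI : IsNilpotent I) (hft : Algebra.FiniteType A (C ⊗[A] (A ⧸ I))) :
    Algebra.FiniteType A C := by
  classical
  obtain ⟨s', hs'⟩ := (hft.of_surjective (toQuot I) (toQuot_surjective I) :
    Algebra.FiniteType A (C ⧸ I.map (algebraMap A C))).out
  choose g hg using fun x : C ⧸ I.map (algebraMap A C) => Ideal.Quotient.mk_surjective x
  refine ⟨⟨s'.image g, ?_⟩⟩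
  have hmap : (Algebra.adjoin A (↑(s'.image g) : Set C)).map (Ideal.Quotient.mkₐ A (I.map (algebraMap A C))) = ⊤ := by
    rw [AlgHom.map_adjoin, eq_top_iff, ← hs']
    refine Algebra.adjoin_mono fun x hx => ⟨g x, ?_, hg x⟩
    exact Finset.mem_image_of_mem g hx
  refine top_le_iff.1 fun c _ => ?_
  refine top_le_of_le_sup_nilpotent hI (N := Subalgebra.toSubmodule (Algebra.adjoin A (↑(s'.image g) : Set C)))
    (fun c _ => ?_) (x := c) trivial
  obtain ⟨d, hd, hdc⟩ := Subalgebra.mem_map.1 (hmap.ge (x := Ideal.Quotient.mkₐ A (I.map (algebraMap A C)) c) trivial)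
  rw [← map_le_smul_top]
  exact Submodule.mem_sup.2 ⟨d, hd, c - d, Ideal.Quotient.eq.1 hdc.symm, by abel⟩

end Ring

section Scheme

variable {W T W' T' : Scheme.{u}} {p : W' ⟶ W} {d' : W' ⟶ T'} {d : W ⟶ T} {i : T' ⟶ T}

theorem isClosedEmbedding_of_thick (sq : IsPullback p d' d i) [IsClosedImmersion i] [Surjective i]
    [IsClosedImmersion d'] : IsClosedEmbedding d := by
  haveI : IsClosedImmersion p := MorphismProperty.of_isPullback (P := @IsClosedImmersion) sq.flip ‹_›
  haveI : Surjective p := MorphismProperty.of_isPullback (P := @Surjective) sq.flip ‹_›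
  let e : W' ≃ₜ W := p.isClosedEmbedding.isEmbedding.toHomeomorphOfSurjective p.surjective
  have h : IsClosedEmbedding (fun w' => d (p w')) := by
    have : (fun w' => d (p w')) = fun w' => i (d' w') := by
      funext w'
      rw [← Scheme.Hom.comp_apply, ← Scheme.Hom.comp_apply, sq.w]
    rw [this]
    exact i.isClosedEmbedding.comp d'.isClosedEmbedding
  have h2 := h.comp e.symm.isClosedEmbedding
  convert h2 using 1
  funext w
  exact congrArg d (e.apply_symm_apply w).symm

theorem isAffineHom_of_thick (sq : IsPullback p d' d i) [IsClosedImmersion i] [Surjective i]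
    [IsClosedImmersion d'] : IsAffineHom d :=
  isAffineHom_of_isInducing d (isClosedEmbedding_of_thick sq).isInducing
    (isClosedEmbedding_of_thick sq).isClosed_range

theorem exists_thick_baseChange (sq : IsPullback p d' d i) {W₁ T₁ : Scheme.{u}} {a : W₁ ⟶ W}
    {d₁ : W₁ ⟶ T₁} {g : T₁ ⟶ T} (sq₁ : IsPullback a d₁ d g) :
    ∃ l, IsPullback l (pullback.snd d' (pullback.snd g i)) d₁ (pullback.fst g i) := by
  have sqi := IsPullback.of_hasPullback g i
  have big := IsPullback.of_hasPullback d' (pullback.snd g i)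
  have outer : IsPullback (pullback.fst d' (pullback.snd g i) ≫ p) (pullback.snd d' (pullback.snd g i)) d
      (pullback.fst g i ≫ g) := by
    rw [sqi.w]
    exact big.paste_horiz sq
  refine ⟨_, IsPullback.of_right (h₁₁ := sq₁.lift (pullback.fst d' (pullback.snd g i) ≫ p)
      (pullback.snd d' (pullback.snd g i) ≫ pullback.fst g i) (outer.w.trans (Category.assoc _ _ _).symm)) ?_
    (IsPullback.lift_snd _ _ _ _) sq₁⟩
  rw [IsPullback.lift_fst]
  exact outer

theorem universallyClosed_of_thick (sq : IsPullback p d' d i) [IsClosedImmersion i] [Surjective i]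
    [IsClosedImmersion d'] : UniversallyClosed d := by
  refine ⟨MorphismProperty.universally_mk' _ _ fun g _ => ?_⟩
  obtain ⟨l, hl⟩ := exists_thick_baseChange sq (IsPullback.of_hasPullback g d).flip
  haveI : IsClosedImmersion (pullback.snd d' (pullback.snd g i)) :=
    MorphismProperty.pullback_snd (P := @IsClosedImmersion) _ _ ‹_›
  haveI : IsClosedImmersion (pullback.fst g i) := MorphismProperty.pullback_fst (P := @IsClosedImmersion) _ _ ‹_›
  haveI : Surjective (pullback.fst g i) := MorphismProperty.pullback_fst (P := @Surjective) _ _ ‹_›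
  exact (isClosedEmbedding_of_thick hl).isClosedMap

theorem locallyQuasiFinite_of_thick (sq : IsPullback p d' d i) [IsClosedImmersion i] [Surjective i]
    [LocallyQuasiFinite d'] [LocallyOfFiniteType d] : LocallyQuasiFinite d := by
  haveI : IsClosedImmersion p := MorphismProperty.of_isPullback (P := @IsClosedImmersion) sq.flip ‹_›
  haveI : Surjective p := MorphismProperty.of_isPullback (P := @Surjective) sq.flip ‹_›
  let e : W' ≃ₜ W := p.isClosedEmbedding.isEmbedding.toHomeomorphOfSurjective p.surjective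
  refine locallyQuasiFinite_iff_isDiscrete_preimage_singleton.2 fun x => ?_
  obtain ⟨x', rfl⟩ := i.surjective x
  have : d ⁻¹' {i x'} = e '' (d' ⁻¹' {x'}) := by
    ext w
    obtain ⟨w', rfl⟩ := e.surjective w
    rw [e.injective.mem_set_image]
    change d (p w') = i x' ↔ d' w' = x'
    rw [← Scheme.Hom.comp_apply, sq.w, Scheme.Hom.comp_apply]
    exact i.isClosedEmbedding.injective.eq_iff
  rw [this]
  exact (d'.isDiscrete_preimage_singleton x').image e.isEmbedding.isInducing

/-- The closed immersion on affine pieces. -/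
theorem exists_affine_model {A C : Type u} [CommRing A] [CommRing C] [Algebra A C] {W' T' : Scheme.{u}}
    {p : W' ⟶ Spec (.of C)} {d' : W' ⟶ T'} {i : T' ⟶ Spec (.of A)}
    (sq : IsPullback p d' (Spec.map (CommRingCat.ofHom (algebraMap A C))) i) [IsClosedImmersion i] :
    ∃ (I : Ideal A) (e : T' ≅ Spec (.of (A ⧸ I))) (e' : W' ≅ Spec (.of (C ⊗[A] (A ⧸ I)))),
      i = e.hom ≫ Spec.map (CommRingCat.ofHom (Ideal.Quotient.mk I)) ∧
      e'.inv ≫ d' ≫ e.hom = Spec.map (CommRingCat.ofHom (Algebra.TensorProduct.includeRight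
        (R := A) (A := C) (B := A ⧸ I)).toRingHom) := by
  obtain ⟨I, e, he⟩ := (IsClosedImmersion.Spec_iff (R := CommRingCat.of A) (f := i)).1 ‹_›
  have sqs := (isPullback_SpecMap_of_isPushout _ _ _ _ (CommRingCat.isPushout_tensorProduct A C (A ⧸ I)))
  have sq' : IsPullback p (d' ≫ e.hom) (Spec.map (CommRingCat.ofHom (algebraMap A C)))
      (Spec.map (CommRingCat.ofHom (algebraMap A (A ⧸ I)))) :=
    sq.of_iso (Iso.refl _) (Iso.refl _) e (Iso.refl _) (by simp) (by simp) (by simp)
      (by simp only [Iso.refl_hom, Category.comp_id]; exact he)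
  refine ⟨I, e, sq'.isoIsPullback _ _ sqs, he, ?_⟩
  exact sq'.isoIsPullback_inv_snd _ _ sqs

theorem isNilpotent_ker {A : Type u} [CommRing A] {I : Ideal A} {T' : Scheme.{u}} {i : T' ⟶ Spec (.of A)}
    (e : T' ≅ Spec (.of (A ⧸ I))) (he : i = e.hom ≫ Spec.map (CommRingCat.ofHom (Ideal.Quotient.mk I)))
    [Surjective i] : I ≤ nilradical A ∧ (LocallyOfFinitePresentation i → IsNilpotent I) := by
  have hI : I ≤ nilradical A := by
    intro a ha
    rw [nilradical_eq_sInf, Submodule.mem_sInf]
    intro J hJ
    obtain ⟨x, hx⟩ := i.surjective (⟨J, hJ⟩ : PrimeSpectrum A)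
    rw [he, Scheme.Hom.comp_apply] at hx
    have h2 : (PrimeSpectrum.comap (Ideal.Quotient.mk I) (e.hom x)).asIdeal = J :=
      congrArg PrimeSpectrum.asIdeal hx
    rw [← h2, PrimeSpectrum.comap_asIdeal, Ideal.mem_comap, Ideal.Quotient.eq_zero_iff_mem.2 ha]
    exact zero_mem _
  refine ⟨hI, fun h => ?_⟩
  rw [he, MorphismProperty.cancel_left_of_respectsIso (P := @LocallyOfFinitePresentation),
    LocallyOfFinitePresentation.SpecMap_iff] at h
  have hfg : I.FG := by
    letI : Algebra.FinitePresentation A (A ⧸ I) := h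
    have := Algebra.FinitePresentation.ker_fG_of_surjective (R := A) (A := A) (B := A ⧸ I)
      (Ideal.Quotient.mkₐ A I) Ideal.Quotient.mk_surjective
    rwa [show RingHom.ker (Ideal.Quotient.mkₐ A I).toRingHom = I from Ideal.mk_ker] at this
  exact (Ideal.FG.isNilpotent_iff_le_nilradical hfg).2 hI

theorem isClosedImmersion_of_thick (sq : IsPullback p d' d i) [IsClosedImmersion i] [Surjective i]
    [IsClosedImmersion d'] (h : LocallyOfFiniteType d ∨ LocallyOfFinitePresentation i) :
    IsClosedImmersion d := by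
  haveI := isAffineHom_of_thick sq
  wlog hT : ∃ A, T = Spec A generalizing W T W' T'
  · rename' this => ih
    refine (IsZariskiLocalAtTarget.iff_of_openCover (P := @IsClosedImmersion) T.affineCover).2 fun j => ?_
    let g := T.affineCover.f j
    obtain ⟨l, hl⟩ := exists_thick_baseChange sq (IsPullback.of_hasPullback d g)
    haveI : IsClosedImmersion (pullback.snd d' (pullback.snd g i)) :=
      MorphismProperty.pullback_snd (P := @IsClosedImmersion) _ _ ‹_›
    haveI : IsClosedImmersion (pullback.fst g i) := MorphismProperty.pullback_fst (P := @IsClosedImmersion) _ _ ‹_›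
    haveI : Surjective (pullback.fst g i) := MorphismProperty.pullback_fst (P := @Surjective) _ _ ‹_›
    haveI : IsAffineHom (pullback.snd d g) := MorphismProperty.pullback_snd (P := @IsAffineHom) _ _ ‹_›
    refine ih (d := pullback.snd d g) hl ?_ ‹_› ⟨_, rfl⟩
    exact h.imp (fun h => MorphismProperty.pullback_snd (P := @LocallyOfFiniteType) _ _ h)
      (fun h => MorphismProperty.pullback_fst (P := @LocallyOfFinitePresentation) _ _ h)
  obtain ⟨A, rfl⟩ := hT
  haveI : IsAffine W := isAffine_of_isAffineHom d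
  wlog hW : ∃ C, W = Spec C generalizing W
  · have := this (W := Spec Γ(W, ⊤)) (d := W.isoSpec.inv ≫ d) (p := p ≫ W.isoSpec.hom)
      (sq.of_iso (Iso.refl _) W.isoSpec (Iso.refl _) (Iso.refl _) (by simp) (by simp) (by simp) (by simp))
      (h.imp (fun (_ : LocallyOfFiniteType d) => inferInstance) id) inferInstance inferInstance ⟨_, rfl⟩
    exact (MorphismProperty.cancel_left_of_respectsIso (P := @IsClosedImmersion) _ _).1 this
  obtain ⟨C, rfl⟩ := hW
  obtain ⟨φ, rfl⟩ := Spec.map_surjective d
  letI := φ.hom.toAlgebra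
  have hφ : φ = CommRingCat.ofHom (algebraMap A C) := rfl
  obtain ⟨I, e, e', he, hd⟩ := exists_affine_model (A := A) (C := C) sq
  haveI : IsClosedImmersion (e'.inv ≫ d' ≫ e.hom) := inferInstance
  rw [hd] at this
  have hsurj : Function.Surjective (Algebra.TensorProduct.includeRight : A ⧸ I →ₐ[A] (C : Type u) ⊗[A] (A ⧸ I)) := by
    obtain ⟨-, h2⟩ := IsClosedImmersion.isAffine_surjective_of_isAffine
      (Spec.map (CommRingCat.ofHom (Algebra.TensorProduct.includeRight
        (R := A) (A := C) (B := A ⧸ I)).toRingHom))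
    exact (MorphismProperty.arrow_mk_iso_iff (MorphismProperty.surjective CommRingCat)
      (arrowIsoΓSpecOfIsAffine _)).2 h2
  obtain ⟨hI, hI'⟩ := isNilpotent_ker e he
  refine IsClosedImmersion.spec_of_surjective _ (surjective_of_quot I hsurj ?_)
  rcases h with h | h
  · refine Or.inr ⟨?_, hI⟩
    haveI := universallyClosed_of_thick sq
    haveI : IsIntegralHom (Spec.map φ) :=
      IsIntegralHom.iff_universallyClosed_and_isAffineHom.2 ⟨inferInstance, inferInstance⟩
    haveI : IsFinite (Spec.map φ) := (IsFinite.iff_isIntegralHom_and_locallyOfFiniteType _).2 ⟨inferInstance, h⟩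
    exact (IsFinite.SpecMap_iff φ).1 ‹_›
  · exact Or.inl (hI' h)

theorem locallyOfFiniteType_of_thick (sq : IsPullback p d' d i) [IsClosedImmersion i] [Surjective i]
    [LocallyOfFinitePresentation i] [LocallyOfFiniteType d'] : LocallyOfFiniteType d := by
  wlog hT : ∃ A, T = Spec A generalizing W T W' T'
  · rename' this => ih
    refine (IsZariskiLocalAtTarget.iff_of_openCover (P := @LocallyOfFiniteType) T.affineCover).2 fun j => ?_
    let g := T.affineCover.f j
    obtain ⟨l, hl⟩ := exists_thick_baseChange sq (IsPullback.of_hasPullback d g)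
    haveI : LocallyOfFiniteType (pullback.snd d' (pullback.snd g i)) :=
      MorphismProperty.pullback_snd (P := @LocallyOfFiniteType) _ _ ‹_›
    haveI : IsClosedImmersion (pullback.fst g i) := MorphismProperty.pullback_fst (P := @IsClosedImmersion) _ _ ‹_›
    haveI : Surjective (pullback.fst g i) := MorphismProperty.pullback_fst (P := @Surjective) _ _ ‹_›
    haveI : LocallyOfFinitePresentation (pullback.fst g i) :=
      MorphismProperty.pullback_fst (P := @LocallyOfFinitePresentation) _ _ ‹_›
    exact ih (d := pullback.snd d g) hl ⟨_, rfl⟩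
  obtain ⟨A, rfl⟩ := hT
  wlog hW : ∃ C, W = Spec C generalizing W W'
  · rename' this => ih
    refine (IsZariskiLocalAtSource.iff_of_openCover (P := @LocallyOfFiniteType) W.affineCover).2 fun j => ?_
    haveI : LocallyOfFiniteType (pullback.snd (W.affineCover.f j) p ≫ d') := inferInstance
    exact ih ((IsPullback.of_hasPullback (W.affineCover.f j) p).paste_vert sq) ⟨_, rfl⟩
  obtain ⟨C, rfl⟩ := hW
  obtain ⟨φ, rfl⟩ := Spec.map_surjective d
  letI := φ.hom.toAlgebra
  obtain ⟨I, e, e', he, hd⟩ := exists_affine_model (A := A) (C := C) sq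
  haveI : LocallyOfFiniteType (Spec.map (CommRingCat.ofHom (algebraMap A (A ⧸ I)))) := by
    rw [HasRingHomProperty.Spec_iff (P := @LocallyOfFiniteType)]
    exact RingHom.FiniteType.of_surjective _ Ideal.Quotient.mk_surjective
  have h' : LocallyOfFiniteType ((e'.inv ≫ d' ≫ e.hom) ≫ Spec.map (CommRingCat.ofHom (algebraMap A (A ⧸ I)))) :=
    inferInstance
  rw [hd, ← Spec.map_comp, HasRingHomProperty.Spec_iff (P := @LocallyOfFiniteType), CommRingCat.hom_comp] at h'
  have hft : Algebra.FiniteType A ((C : Type u) ⊗[A] (A ⧸ I)) := by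
    have e1 : (algebraMap A ((C : Type u) ⊗[A] (A ⧸ I))) = (Algebra.TensorProduct.includeRight
        (R := A) (A := C) (B := A ⧸ I)).toRingHom.comp (algebraMap A (A ⧸ I)) :=
      ((Algebra.TensorProduct.includeRight (R := A) (A := C) (B := A ⧸ I)).comp_algebraMap).symm
    rw [← RingHom.finiteType_algebraMap, e1]
    exact h'
  rw [HasRingHomProperty.Spec_iff (P := @LocallyOfFiniteType)]
  exact RingHom.finiteType_algebraMap.2 (finiteType_of_quot I ((isNilpotent_ker e he).2 inferInstance) hft)

end Scheme

end AlgSpLib.ThickCI
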