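import Groth.Agent.AlgSpLib.ThickCI
import Groth.Agent.AlgSpLib.SepLqfScheme
import Groth.Agent.AlgSpLib.Sep
/-!
# Morphisms of algebraic spaces which become closed immersions over a thickening
-/

set_option autoImplicit false
universe u
open CategoryTheory CategoryTheory.Limits AlgebraicGeometry Opposite AlgSp Topology

namespace AlgSpLib

variable {S : Scheme.{u}}

/-- Test squares over a scheme for a morphism and its base change. -/
theorem exists_thick_test {F G F' G' : Sp S} {φ : F ⟶ G} {g : G' ⟶ G} {fst : F' ⟶ F} {snd : F' ⟶ G'}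
    (sq : IsPullback fst snd φ g) (hg : RepWith @IsClosedImmersion g) (hgs : RepWith @Surjective g)
    {T W : Over S} {ξ : (yon S).obj T ⟶ G} {fw : (yon S).obj W ⟶ F} {d : W ⟶ T}
    (sqW : IsPullback fw ((yon S).map d) φ ξ) :
    ∃ (T' : Over S) (i : T' ⟶ T) (η : (yon S).obj T' ⟶ G') (l : (yon S).obj (pullback d i) ⟶ F'),
      IsClosedImmersion i.left ∧ Surjective i.left ∧ IsPullback η ((yon S).map i) g ξ ∧
      IsPullback l ((yon S).map (pullback.snd d i)) snd η := by
  have sqT := hg.rep.isPullback ξ
  obtain ⟨i, hi⟩ : ∃ i, i = hg.rep.snd ξ := ⟨_, rfl⟩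
  rw [← hi] at sqT
  have hci : IsClosedImmersion i.left := hi ▸ hg.property_snd ξ
  have hsi : Surjective i.left := hi ▸ hgs.property_snd ξ
  have sqP := (IsPullback.of_hasPullback d i).map (yon S)
  have big : IsPullback ((yon S).map (pullback.fst d i) ≫ fw) ((yon S).map (pullback.snd d i)) φ
      (hg.rep.fst ξ ≫ g) := by
    rw [sqT.w]
    exact sqP.paste_horiz sqW
  refine ⟨_, i, hg.rep.fst ξ, sq.lift ((yon S).map (pullback.fst d i) ≫ fw)
    ((yon S).map (pullback.snd d i) ≫ hg.rep.fst ξ) (big.w.trans (Category.assoc _ _ _).symm),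
    hci, hsi, sqT, ?_⟩
  refine IsPullback.of_right ?_ (sq.lift_snd _ _ _) sq
  rw [sq.lift_fst]
  exact big

theorem isPullback_forget_left {W T T' : Over S} (d : W ⟶ T) (i : T' ⟶ T) :
    IsPullback (pullback.fst d i).left (pullback.snd d i).left d.left i.left :=
  (IsPullback.of_hasPullback d i).map (Over.forget S)

theorem repWith_closedImmersion_of_thick {F G F' G' : Sp S} {φ : F ⟶ G} {g : G' ⟶ G} {fst : F' ⟶ F}
    {snd : F' ⟶ G'} (sq : IsPullback fst snd φ g) (hg : RepWith @IsClosedImmersion g)
    (hgs : RepWith @Surjective g) (hsnd : RepWith @IsClosedImmersion snd) (hφ : Representable φ)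
    (h : RepWith @LocallyOfFiniteType φ ∨ RepWith @LocallyOfFinitePresentation g) :
    RepWith @IsClosedImmersion φ := by
  refine ⟨hφ, fun T W ξ fw d sqW => ?_⟩
  obtain ⟨T', i, η, l, hi, his, sqT, sq'⟩ := exists_thick_test sq hg hgs sqW
  haveI : IsClosedImmersion (pullback.snd d i).left := hsnd.2 η l (pullback.snd d i) sq'
  exact @ThickCI.isClosedImmersion_of_thick _ _ _ _ _ _ _ _ (isPullback_forget_left d i) hi his ‹_›
    (h.imp (fun h => h.2 ξ fw d sqW) (fun h => h.2 ξ η i sqT))

variable {F G F' G' : Sp S} {φ : F ⟶ G} {g : G' ⟶ G} {fst : F' ⟶ F} {snd : F' ⟶ G'}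

theorem repWith_diagonal_closedImmersion_of_thick (hF : IsAlgSpace F) (sq : IsPullback fst snd φ g)
    (hg : RepWith @IsClosedImmersion g) (hgs : RepWith @Surjective g) (hsnd : RepWith @IsClosedImmersion snd) :
    RepWith @IsClosedImmersion (pullback.diagonal φ) := by
  obtain ⟨hrep, hlft, -⟩ := repWith_diagonal_properties hF φ
  haveI : Mono snd := mono_of_repWith (fun f (_ : IsClosedImmersion f) => inferInstance) hsnd
  have hd : RepWith @IsClosedImmersion (pullback.diagonal snd) :=
    repWith_of_isIso (pullback.diagonal snd)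
  have s1 : IsPullback (pullback.snd snd snd ≫ fst) (pullback.fst snd snd) φ (fst ≫ φ) := by
    rw [sq.w]
    exact (IsPullback.of_hasPullback snd snd).flip.paste_horiz sq
  let m := pullback.map snd snd φ φ fst fst g sq.w.symm sq.w.symm
  have hm1 : m ≫ pullback.fst φ φ = pullback.fst snd snd ≫ fst := pullback.lift_fst _ _ _
  have hm2 : m ≫ pullback.snd φ φ = pullback.snd snd snd ≫ fst := pullback.lift_snd _ _ _
  have s2 : IsPullback m (pullback.fst snd snd) (pullback.fst φ φ) fst :=
    IsPullback.of_right (by rw [hm2]; exact s1) hm1 (IsPullback.of_hasPullback φ φ).flip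
  have s3 : IsPullback m (pullback.fst snd snd ≫ snd) (pullback.fst φ φ ≫ φ) g := s2.paste_vert sq
  exact repWith_closedImmersion_of_thick (isPullback_diagonal sq) (repWith_of_isPullback s3.flip hg)
    (repWith_of_isPullback s3.flip hgs) hd hrep (Or.inl hlft)

theorem locP_lqf_lft_of_thick (hF : IsAlgSpace F) (hG : IsAlgSpace G) (sq : IsPullback fst snd φ g)
    (hg : RepWith @IsClosedImmersion g) (hgs : RepWith @Surjective g) (hsnd : RepWith @IsClosedImmersion snd)
    (h : LocP @LocallyOfFiniteType φ ∨ RepWith @LocallyOfFinitePresentation g) :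
    LocP (@LocallyQuasiFinite ⊓ @LocallyOfFiniteType) φ := by
  obtain ⟨U, V, a, b, k, ha, has, hb, -, e⟩ := exists_chart hF hG φ
  have sqV := hg.rep.isPullback b
  obtain ⟨i, hi⟩ : ∃ i, i = hg.rep.snd b := ⟨_, rfl⟩
  rw [← hi] at sqV
  haveI : IsClosedImmersion i.left := hi ▸ hg.property_snd b
  haveI : Surjective i.left := hi ▸ hgs.property_snd b
  have sqU := (IsPullback.of_hasPullback k i).map (yon S)
  let η := hg.rep.fst b
  have o : IsPullback ((yon S).map (pullback.fst k i)) ((yon S).map (pullback.snd k i) ≫ η) (a ≫ φ) g := by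
    rw [e]
    exact sqU.paste_vert sqV.flip
  let c := sq.lift ((yon S).map (pullback.fst k i) ≫ a) ((yon S).map (pullback.snd k i) ≫ η)
    ((Category.assoc _ _ _).trans o.w)
  have hc1 : c ≫ fst = (yon S).map (pullback.fst k i) ≫ a := sq.lift_fst _ _ _
  have hc2 : c ≫ snd = (yon S).map (pullback.snd k i) ≫ η := sq.lift_snd _ _ _
  have hsqa : IsPullback ((yon S).map (pullback.fst k i)) c a fst :=
    IsPullback.of_bot (by rw [hc2]; exact o) hc1.symm sq
  have hce : RepWith @Etale c := repWith_of_isPullback hsqa ha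
  have hη : RepWith @Etale η := repWith_of_isPullback sqV.flip hb
  have h1 : LocP (@LocallyQuasiFinite ⊓ @LocallyOfFiniteType : MorphismProperty Scheme.{u}) snd :=
    locP_of_repWith (repWith_mono (fun _ _ f (_ : IsClosedImmersion f) => ⟨inferInstance, inferInstance⟩) hsnd)
  obtain ⟨hq, hl⟩ : LocallyQuasiFinite (pullback.snd k i).left ∧ LocallyOfFiniteType (pullback.snd k i).left :=
    h1 c η (pullback.snd k i) hce hη hc2
  haveI : LocallyOfFiniteType k.left := by
    rcases h with h | h
    · exact h a b k ha hb e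
    · haveI : LocallyOfFinitePresentation i.left := h.2 b η i sqV
      exact ThickCI.locallyOfFiniteType_of_thick (isPullback_forget_left k i)
  exact locP_of_chart ha has hb e
    ⟨ThickCI.locallyQuasiFinite_of_thick (isPullback_forget_left k i), ‹_›⟩

theorem repWith_closedImmersion_of_thick_bijective (hF : IsAlgSpace F) (hG : IsAlgSpace G)
    (sq : IsPullback fst snd φ g)
    (hg : RepWith @IsClosedImmersion g) (hgs : Function.Surjective (Points.map g))
    (hsnd : RepWith @IsClosedImmersion snd)
    (h : LocP @LocallyOfFiniteType φ ∨ LocP @LocallyOfFinitePresentation g) :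
    RepWith @IsClosedImmersion φ := by
  have hgs' : RepWith @Surjective g := (repWith_surjective_iff hg.rep).2 hgs
  have h' := h.imp id fun h => repWith_of_locP hG hg.rep h
  have hl := locP_lqf_lft_of_thick hF hG sq hg hgs' hsnd h'
  have hsep := repWith_diagonal_closedImmersion_of_thick hF sq hg hgs' hsnd
  have hrep := representable_of_sep_lqf hF hG hsep hl
  refine repWith_closedImmersion_of_thick sq hg hgs' hsnd hrep ?_
  exact h'.imp (fun h => repWith_of_locP hG hrep h) id

end AlgSpLib
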