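import Groth.Agent.AlgSpLib.AffineFpqc
import Groth.Prelude.Def_AlgSpInf

/-!
# Thickenings are fpqc local on the base
-/

set_option autoImplicit false
set_option backward.isDefEq.respectTransparency false

universe u

open CategoryTheory CategoryTheory.Limits AlgebraicGeometry AlgSp

namespace AlgSpLib

lemma descendsAlong_surjective : MorphismProperty.DescendsAlong (@Surjective : MorphismProperty Scheme.{u})
    (@Surjective ⊓ @Flat ⊓ @QuasiCompact) := by
  refine ⟨fun {A X Y Z} fst snd f g sq hf h => ⟨fun y => ?_⟩⟩
  obtain ⟨⟨hs, -⟩, -⟩ := hf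
  haveI : Surjective f := hs
  haveI : Surjective fst := h
  obtain ⟨x, hx⟩ := f.surjective y
  obtain ⟨a, ha⟩ := fst.surjective x
  exact ⟨snd a, by rw [← Scheme.Hom.comp_apply, ← sq.w, Scheme.Hom.comp_apply, ha, hx]⟩

theorem isLocalOnBase_fpqc_isThickMor (S : Scheme.{u}) :
    IsLocalOnBase (IsFpqcCover (S := S)) IsThickMor := by
  haveI := descendsAlong_surjective.{u}
  haveI : MorphismProperty.DescendsAlong (thick : MorphismProperty Scheme.{u})
      (@Surjective ⊓ @Flat ⊓ @QuasiCompact) := by unfold thick; exact descendsAlong_inf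
  haveI : IsZariskiLocalAtTarget (thick : MorphismProperty Scheme.{u}) := by unfold thick; infer_instance
  exact isLocalOnBase_fpqc_repWith_of_affine S thick fun _ _ g hg =>
    haveI : IsClosedImmersion g := hg.1; (inferInstance : IsAffineHom g)

end AlgSpLib
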