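import Groth.Agent.AlgSpLib.UnivClosed
import Groth.Agent.AlgSpLib.Points
import Groth.Prelude.Def_AlgSpInf
/-!
# Open subspaces of thickenings
-/

set_option autoImplicit false
universe u
open CategoryTheory CategoryTheory.Limits AlgebraicGeometry AlgSp Topology

namespace AlgSpLib

variable {S : Scheme.{u}}

theorem exists_iso_of_range_eq {A B F : Sp S} {j : A ⟶ F} {j' : B ⟶ F}
    (hj : RepWith @IsOpenImmersion j) (hj' : RepWith @IsOpenImmersion j')
    (h : Set.range (Points.map j) = Set.range (Points.map j')) :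
    ∃ e : A ≅ B, e.hom ≫ j' = j := by
  obtain ⟨a, ha⟩ := (exists_factor_iff hj' j).2 h.le
  obtain ⟨b, hb⟩ := (exists_factor_iff hj j').2 h.ge
  have := mono_of_openImmersion hj
  have := mono_of_openImmersion hj'
  exact ⟨⟨a, b, (cancel_mono j).1 (by rw [Category.assoc, hb, ha, Category.id_comp]),
    (cancel_mono j').1 (by rw [Category.assoc, ha, hb, Category.id_comp])⟩, ha⟩

theorem thickening_openSubspace {X X' U : Space S} (i : X ⟶ X') (hi : IsThickMor i.hom)
    (u : U ⟶ X) (hu : RepWith @IsOpenImmersion u.hom) :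
    (∃ (U' : Space S) (u' : U' ⟶ X') (k : U ⟶ U'),
      RepWith @IsOpenImmersion u'.hom ∧ IsPullback u.hom k.hom i.hom u'.hom) ∧
    (∀ (U₁ U₂ : Space S) (u₁ : U₁ ⟶ X') (u₂ : U₂ ⟶ X') (k₁ : U ⟶ U₁) (k₂ : U ⟶ U₂),
      RepWith @IsOpenImmersion u₁.hom → IsPullback u.hom k₁.hom i.hom u₁.hom →
      RepWith @IsOpenImmersion u₂.hom → IsPullback u.hom k₂.hom i.hom u₂.hom →
      ∃ e : U₁ ≅ U₂, e.hom ≫ u₂ = u₁) := by
  have hci : RepWith @IsClosedImmersion i.hom := repWith_mono inf_le_left hi
  have hsurj : Function.Surjective (Points.map i.hom) :=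
    map_surjective_of_repWith (repWith_mono inf_le_right hi)
  have := mono_of_repWith (fun g (_ : IsClosedImmersion g) => inferInstance) hci
  have hinj : Function.Injective (Points.map i.hom) := injective_map_of_mono i.hom
  let A := Set.range (Points.map u.hom)
  have hA : IsOpen A := (isOpenMap_map_of_isEtaleMor U.property
    (isEtaleMor_of_openImmersion hu)).isOpen_range
  let B := Points.map i.hom '' A
  have hB : IsOpen B := by
    rw [← isClosed_compl_iff, ← Set.image_compl_eq ⟨hinj, hsurj⟩]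
    exact isClosed_image_of_closedImmersion X.property X'.property hci hA.isClosed_compl
  refine ⟨?_, fun U₁ U₂ u₁ u₂ k₁ k₂ h₁ sq₁ h₂ sq₂ => ?_⟩
  · let j := openSubι X'.obj B
    have hj := repWith_openSubι X'.obj hB
    have sq := IsPullback.of_hasPullback i.hom j
    have hjP : RepWith @IsOpenImmersion (pullback.fst i.hom j) := repWith_of_isPullback sq.flip hj
    have hr : Set.range (Points.map (pullback.fst i.hom j)) = A := by
      rw [range_map_of_isPullback sq.flip, range_openSubι]
      exact Set.preimage_image_eq _ hinj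
    obtain ⟨e, he⟩ := exists_iso_of_range_eq hu hjP hr.symm
    refine ⟨⟨openSub X'.obj B, isAlgSpace_openSub X'.property hB⟩, ObjectProperty.homMk j,
      ObjectProperty.homMk (e.hom ≫ pullback.snd i.hom j), hj, ?_⟩
    exact IsPullback.of_iso sq e.symm (Iso.refl _) (Iso.refl _) (Iso.refl _)
      (by simp [← he]) (by simp) (by simp) (by simp)
  · have key : ∀ {U₁ : Space S} (u₁ : U₁ ⟶ X') (k₁ : U ⟶ U₁),
        IsPullback u.hom k₁.hom i.hom u₁.hom → Set.range (Points.map u₁.hom) = B := by
      intro U₁ u₁ k₁ sq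
      rw [← Set.image_preimage_eq (Set.range (Points.map u₁.hom)) hsurj,
        ← range_map_of_isPullback sq.flip]
    obtain ⟨e, he⟩ := exists_iso_of_range_eq h₁ h₂ ((key u₁ k₁ sq₁).trans (key u₂ k₂ sq₂).symm)
    exact ⟨(ObjectProperty.fullyFaithfulι _).preimageIso e, ObjectProperty.hom_ext _ he⟩

end AlgSpLib
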