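import Groth.Agent.AlgSpLib.NilLiftAlg
import Groth.Agent.AlgSpLib.SmoothFormal
/-!
# Etale local lifts of smooth morphisms along thickenings
-/

set_option autoImplicit false
universe u
open CategoryTheory CategoryTheory.Limits AlgebraicGeometry Opposite AlgSp Topology

namespace AlgSpLib

variable {S : Scheme.{u}}

/-- A surjective closed immersion into an affine scheme is a quotient by a nil ideal. -/
theorem exists_quotient_iso_of_thick {A : Type u} [CommRing A] {W : Scheme.{u}}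
    (j : W ⟶ Spec (CommRingCat.of A)) [IsClosedImmersion j] [Surjective j] :
    ∃ (I : Ideal A) (ι : Spec (CommRingCat.of (A ⧸ I)) ≅ W),
      ι.hom ≫ j = Spec.map (CommRingCat.ofHom (Ideal.Quotient.mk I)) ∧ ∀ x ∈ I, IsNilpotent x := by
  obtain ⟨_, hsurj⟩ := IsClosedImmersion.isAffine_surjective_of_isAffine j
  let ρ : CommRingCat.of A ⟶ Γ(W, ⊤) := (Scheme.ΓSpecIso (CommRingCat.of A)).inv ≫ j.appTop
  have hρ : Function.Surjective ρ.hom := fun y => by
    obtain ⟨x, rfl⟩ := hsurj y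
    exact ⟨(Scheme.ΓSpecIso (CommRingCat.of A)).hom.hom x, by
      simp only [ρ, CommRingCat.hom_comp, RingHom.comp_apply]
      rw [← RingHom.comp_apply (Scheme.ΓSpecIso (CommRingCat.of A)).inv.hom, ← CommRingCat.hom_comp,
        Iso.hom_inv_id]
      rfl⟩
  have hj : W.isoSpec.inv ≫ j = Spec.map ρ := by
    rw [Iso.inv_comp_eq, Spec.map_comp]
    exact (Scheme.toSpecΓ_naturality_assoc j _).symm.trans (by simp [Scheme.isoSpec]) |>.symm
  let e := RingHom.quotientKerEquivOfSurjective hρ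
  let ι : Spec (CommRingCat.of (A ⧸ RingHom.ker ρ.hom)) ≅ W :=
    (asIso (Spec.map e.symm.toCommRingCatIso.hom)) ≪≫ W.isoSpec.symm
  have hι : ι.hom ≫ j = Spec.map (CommRingCat.ofHom (Ideal.Quotient.mk (RingHom.ker ρ.hom))) := by
    simp only [ι, Iso.trans_hom, asIso_hom, Iso.symm_hom, Category.assoc, hj, ← Spec.map_comp]
    congr 1
    refine CommRingCat.hom_ext (RingHom.ext fun x => ?_)
    change e.symm (ρ.hom x) = _
    rw [RingEquiv.symm_apply_eq]
    exact (RingHom.quotientKerEquivOfSurjective_apply_mk hρ x).symm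
  refine ⟨_, ι, hι, fun x hx => ?_⟩
  rw [← mem_nilradical, nilradical_eq_sInf, Submodule.mem_sInf]
  intro p hp
  obtain ⟨t, ht⟩ := j.surjective (⟨p, hp⟩ : PrimeSpectrum A)
  obtain ⟨t', rfl⟩ := ι.hom.surjective t
  rw [← Scheme.Hom.comp_apply, hι] at ht
  have : x ∈ (PrimeSpectrum.comap (Ideal.Quotient.mk (RingHom.ker ρ.hom)) t').asIdeal := by
    change Ideal.Quotient.mk _ x ∈ t'.asIdeal
    rw [Ideal.Quotient.eq_zero_iff_mem.2 hx]
    exact t'.asIdeal.zero_mem
  change x ∈ (⟨p, hp⟩ : PrimeSpectrum A).asIdeal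
  rw [← ht]
  exact this

theorem exists_affine_etale_nhd {F : Sp S} (hF : IsAlgSpace F) (x : Points F) :
    ∃ (A : CommRingCat.{u}) (str : Spec A ⟶ S) (e : (yon S).obj (Over.mk str) ⟶ F) (z : ↥(Spec A)),
      RepWith @Etale e ∧ Points.ofPt e z = x := by
  obtain ⟨U, a, ha, has⟩ := hF.atlas
  obtain ⟨y, rfl⟩ := map_surjective_of_repWith has x
  obtain ⟨u, rfl⟩ := (Points.schemeEquiv U).surjective y
  obtain ⟨O, hO, huO, -⟩ := exists_isAffineOpen_mem_and_subset (X := U.left) (x := u) (U := ⊤) trivial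
  let j : Over.mk (hO.fromSpec ≫ U.hom) ⟶ U := Over.homMk hO.fromSpec rfl
  refine ⟨Γ(U.left, O), hO.fromSpec ≫ U.hom, (yon S).map j ≫ a, hO.isoSpec.hom ⟨u, huO⟩,
    repWith_comp ((repWith_yon_map_iff (P := (@Etale : MorphismProperty Scheme.{u})) j).2
      (inferInstanceAs (Etale hO.fromSpec))) ha, ?_⟩
  rw [ofPt_yon_comp, Points.ofPt_eq_map_ofScheme]
  refine congrArg (Points.map a) (congrArg (Points.ofScheme U) ?_)
  change (hO.isoSpec.hom ≫ hO.fromSpec) ⟨u, huO⟩ = u
  rw [IsAffineOpen.isoSpec_hom_fromSpec]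
  rfl

/-- The local lift over an affine etale chart of the thickening. -/
theorem exists_etale_local_section {A : Type u} [CommRing A] {str : Spec (CommRingCat.of A) ⟶ S}
    (I : Ideal A) (hI : ∀ x ∈ I, IsNilpotent x) {P : Sp S} (hP : IsAlgSpace P)
    {q : P ⟶ (yon S).obj (Over.mk str)} (hq : LocP @Smooth q)
    (sT : (yon S).obj (ptA str (A ⧸ I)) ⟶ P) (hsT : sT ≫ q = (yon S).map (stA str (A ⧸ I)))
    (z : ↥(Spec (CommRingCat.of A))) :
    ∃ (B : Type u) (_ : CommRing B) (_ : Algebra A B) (ℓ : (yon S).obj (ptA str B) ⟶ P),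
      Algebra.Etale A B ∧ z ∈ Set.range (stA str B).left ∧ ℓ ≫ q = (yon S).map (stA str B) ∧
        (yon S).map (hA str (Ideal.Quotient.mkₐ A (idealIn I B))) ≫ ℓ =
          (yon S).map (hA str (baseQuot I B)) ≫ sT := by
  obtain ⟨t, ht⟩ : ∃ t : PrimeSpectrum (A ⧸ I), PrimeSpectrum.comap (Ideal.Quotient.mk I) t = z := by
    change z ∈ Set.range (PrimeSpectrum.comap (Ideal.Quotient.mk I))
    rw [range_comap_of_surjective _ _ Ideal.Quotient.mk_surjective, Ideal.mk_ker]
    exact fun x hx => (hI x hx).elim fun k hk => z.2.mem_of_pow_mem k (by rw [hk]; exact z.asIdeal.zero_mem)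
  obtain ⟨U, a₀, ha₀, has₀⟩ := hP.atlas
  obtain ⟨W, p, c, sqW⟩ : ∃ (W : Over S) (p : W ⟶ U) (c : W ⟶ ptA str (A ⧸ I)),
      IsPullback ((yon S).map p) ((yon S).map c) a₀ sT := exists_isPullback_yon a₀ sT ha₀.rep
  have : Etale c.left := etale_left (repWith_of_isPullback sqW ha₀)
  have : Surjective c.left := surjective_left (repWith_of_isPullback sqW has₀)
  obtain ⟨w, hw⟩ := c.left.surjective t
  obtain ⟨V, hV, hwV, -⟩ := exists_isAffineOpen_mem_and_subset (X := U.left) (x := p.left w) (U := ⊤) trivial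
  let U' : Over S := Over.mk (hV.fromSpec ≫ U.hom)
  let m : U' ⟶ U := Over.homMk hV.fromSpec rfl
  let a₁ : (yon S).obj U' ⟶ P := (yon S).map m ≫ a₀
  have ha₁ : RepWith @Etale a₁ := repWith_comp
    ((repWith_yon_map_iff (P := (@Etale : MorphismProperty Scheme.{u})) m).2
      (inferInstanceAs (Etale hV.fromSpec))) ha₀
  obtain ⟨h, hh⟩ := (yon S).map_surjective (a₁ ≫ q)
  have hsm : Smooth h.left := hq a₁ (𝟙 _) h ha₁ (repWith_id _ _) (by rw [Category.comp_id, hh])
  let : Algebra A Γ(U.left, V) := (Spec.preimage h.left).hom.toAlgebra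
  have hC : Spec.map (CommRingCat.ofHom (algebraMap A Γ(U.left, V))) = h.left := Spec.map_preimage h.left
  have : Algebra.Smooth A Γ(U.left, V) := by
    refine RingHom.smooth_algebraMap.1 ((HasRingHomProperty.Spec_iff (P := @Smooth)).1 ?_)
    exact (show Smooth (Spec.map (Spec.preimage h.left)) from by rw [Spec.map_preimage]; exact hsm)
  let i₀ : ptA str Γ(U.left, V) ⟶ U' := Over.homMk (𝟙 _) (by
    change 𝟙 _ ≫ U'.hom = Spec.map _ ≫ str
    rw [hC, Category.id_comp, ← Over.w h]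
    rfl)
  have : IsIso ((Over.forget S).map i₀) := inferInstanceAs (IsIso (𝟙 (Spec Γ(U.left, V))))
  have : IsIso i₀ := isIso_of_reflects_iso i₀ (Over.forget S)
  let a : (yon S).obj (ptA str Γ(U.left, V)) ⟶ P := (yon S).map i₀ ≫ a₁
  have hover : a ≫ q = (yon S).map (stA str Γ(U.left, V)) := by
    rw [Category.assoc, ← hh, ← Functor.map_comp]
    exact congrArg (yon S).map (Over.OverMorphism.ext ((Category.id_comp _).trans hC.symm))
  obtain ⟨O, hO, hwO, hOV⟩ := exists_isAffineOpen_mem_and_subset (X := W.left) (x := w)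
    (U := p.left ⁻¹ᵁ V) hwV
  let α : Γ(W.left, O) ⟶ Γ(W.left, O) := 𝟙 _
  let m₁ : Spec Γ(W.left, O) ⟶ Spec (CommRingCat.of (A ⧸ I)) := hO.fromSpec ≫ c.left
  let : Algebra (A ⧸ I) Γ(W.left, O) := (Spec.preimage m₁).hom.toAlgebra
  have hD : Spec.map (CommRingCat.ofHom (algebraMap (A ⧸ I) Γ(W.left, O))) = m₁ := Spec.map_preimage m₁
  have : Algebra.Etale (A ⧸ I) Γ(W.left, O) := by
    refine RingHom.etale_algebraMap.1 ((HasRingHomProperty.Spec_iff (P := @Etale)).1 ?_)
    exact (show Etale (Spec.map (Spec.preimage m₁)) from by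
      rw [Spec.map_preimage]; exact inferInstanceAs (Etale (hO.fromSpec ≫ c.left)))
  let qd : PrimeSpectrum Γ(W.left, O) := hO.isoSpec.hom ⟨w, hwO⟩
  have hqd : hO.fromSpec qd = w := by
    change (hO.isoSpec.hom ≫ hO.fromSpec) ⟨w, hwO⟩ = w
    rw [IsAffineOpen.isoSpec_hom_fromSpec]; rfl
  obtain ⟨B, _, φ, ψ, hφ, hψ, Q, hQ⟩ := exists_etale_lift_near_any I qd
  let : Algebra A B := φ.toAlgebra
  have : Algebra.Etale A B := RingHom.etale_algebraMap.1 hφ
  -- the point of the chart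
  let rb : Spec (CommRingCat.of (B ⧸ idealIn I B)) ⟶ W.left := Spec.map (CommRingCat.ofHom ψ) ≫ hO.fromSpec
  have hrb : rb ≫ c.left = (hA str (baseQuot I B)).left := by
    change (_ ≫ _) ≫ _ = Spec.map _
    rw [Category.assoc, show hO.fromSpec ≫ c.left = m₁ from rfl, ← hD, ← Spec.map_comp]
    exact congrArg Spec.map (CommRingCat.hom_ext hψ)
  let r : ptA str (B ⧸ idealIn I B) ⟶ W := Over.homMk rb (by
    rw [← Over.w c, ← Category.assoc, hrb]
    exact Over.w (hA str (baseQuot I B)))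
  have hr : r ≫ c = hA str (baseQuot I B) := Over.OverMorphism.ext hrb
  have hsub : Set.range (r ≫ p).left ⊆ Set.range hV.fromSpec := by
    rintro _ ⟨y, rfl⟩
    rw [IsAffineOpen.range_fromSpec]
    have : hO.fromSpec (Spec.map (CommRingCat.ofHom ψ) y) ∈ (O : Set W.left) := by
      rw [← hO.range_fromSpec]; exact ⟨_, rfl⟩
    exact hOV this
  have hlift := IsOpenImmersion.lift_fac hV.fromSpec (r ≫ p).left hsub
  let ru : ptA str (B ⧸ idealIn I B) ⟶ U' := Over.homMk (IsOpenImmersion.lift hV.fromSpec (r ≫ p).left hsub) (by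
    change _ ≫ hV.fromSpec ≫ U.hom = _
    rw [← Category.assoc, hlift]
    exact Over.w (r ≫ p))
  have hru : ru ≫ m = r ≫ p := Over.OverMorphism.ext hlift
  have hψa : (yon S).map (ru ≫ inv i₀) ≫ a = (yon S).map (hA str (baseQuot I B)) ≫ sT := by
    rw [Functor.map_comp, Category.assoc, Functor.map_inv, IsIso.inv_hom_id_assoc, ← Functor.map_comp_assoc,
      hru, Functor.map_comp, Category.assoc, sqW.w, ← Functor.map_comp_assoc, hr]
  obtain ⟨u, hu⟩ := exists_hA_eq (str := str) (ru ≫ inv i₀) ((yon S).map_injective (by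
    rw [Functor.map_comp, ← hover, ← Category.assoc, hψa, Category.assoc, hsT, ← Functor.map_comp, hA_st]))
  obtain ⟨l, hl⟩ := exists_lift_of_nil (idealIn I B) (fun x hx => by
    have hle : idealIn I B ≤ nilradical B := Ideal.map_le_iff_le_comap.2 fun y hy =>
      mem_nilradical.2 ((hI y hy).map _)
    exact mem_nilradical.1 (hle hx)) u
  refine ⟨B, inferInstance, inferInstance, ptOf a l, this, ⟨Q, ?_⟩, ?_, ?_⟩
  · refine Eq.trans hQ ?_
    rw [PrimeSpectrum.comap_comp_apply, ← ht]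
    congr 1
    change (Spec.map (CommRingCat.ofHom (algebraMap (A ⧸ I) Γ(W.left, O)))) qd = t
    rw [hD, Scheme.Hom.comp_apply, hqd, hw]
  · rw [Category.assoc, hover, ← Functor.map_comp, hA_st]
  · rw [← ptOf_comp, hl, ptOf, hu, hψa]

theorem exists_etale_nhd_lift {X Y T T' : Sp S} (hX : IsAlgSpace X) (hY : IsAlgSpace Y) (hT' : IsAlgSpace T')
    {f : X ⟶ Y} (hf : LocP @Smooth f) {i : T ⟶ T'} (hi : IsThickMor i)
    (a : T ⟶ X) (b : T' ⟶ Y) (w : a ≫ f = i ≫ b) (t' : Points T') :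
    ∃ (V : Over S) (e : (yon S).obj V ⟶ T') (ℓ : (yon S).obj V ⟶ X),
      RepWith @Etale e ∧ t' ∈ Set.range (Points.ofPt e) ∧ ℓ ≫ f = e ≫ b ∧
      ∀ (P : Sp S) (p₁ : P ⟶ T) (p₂ : P ⟶ (yon S).obj V),
        IsPullback p₁ p₂ i e → p₂ ≫ ℓ = p₁ ≫ a := by
  obtain ⟨A, str, e₀, z, he₀, hz⟩ := exists_affine_etale_nhd hT' t'
  obtain ⟨W, tW, j, sqT⟩ : ∃ (W : Over S) (tW : (yon S).obj W ⟶ T) (j : W ⟶ Over.mk str),
      IsPullback tW ((yon S).map j) i e₀ := ⟨_, _, _, hi.rep.isPullback e₀⟩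
  obtain ⟨hjc, hjs⟩ := (repWith_yon_map_iff (P := thick) j).1 (repWith_of_isPullback sqT hi)
  obtain ⟨I, ι, hι, hI⟩ := exists_quotient_iso_of_thick (A := A) j.left
  let ι' : ptA str (A ⧸ I) ⟶ W := Over.homMk ι.hom (by
    change ι.hom ≫ W.hom = Spec.map _ ≫ str
    rw [← Over.w j, ← Category.assoc, hι]
    rfl)
  have hι' : ι' ≫ j = stA str (A ⧸ I) := Over.OverMorphism.ext hι
  have : IsIso ((Over.forget S).map ι') := inferInstanceAs (IsIso ι.hom)
  have : IsIso ι' := isIso_of_reflects_iso ι' (Over.forget S)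
  have sqP := IsPullback.of_hasPullback f (e₀ ≫ b)
  have ecomm : ((yon S).map ι' ≫ tW ≫ a) ≫ f = (yon S).map (stA str (A ⧸ I)) ≫ e₀ ≫ b := by
    rw [Category.assoc, Category.assoc, w, ← Category.assoc tW, sqT.w, ← hι', Functor.map_comp,
      Category.assoc, Category.assoc]
  obtain ⟨B, _, _, ℓ, hB, ⟨Q, hQ⟩, hℓ, hℓT⟩ := exists_etale_local_section (str := str) I hI
    (isAlgSpace_pullback hX (IsAlgSpace.yon_obj _) hY f (e₀ ≫ b))
    (locP_of_isPullback hX hY (IsAlgSpace.yon_obj _) sqP hf)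
    (pullback.lift _ _ ecomm) (pullback.lift_snd _ _ _) z
  have hetB : Etale (stA str B).left :=
    (HasRingHomProperty.Spec_iff (P := @Etale)).2 (RingHom.etale_algebraMap.2 hB)
  refine ⟨ptA str B, (yon S).map (stA str B) ≫ e₀, ℓ ≫ pullback.fst _ _,
    repWith_comp ((repWith_yon_map_iff (P := (@Etale : MorphismProperty Scheme.{u})) _).2 hetB) he₀,
    ⟨Q, by rw [ofPt_yon_comp]; exact (congrArg _ hQ).trans hz⟩,
    by rw [Category.assoc, pullback.condition, ← Category.assoc, hℓ, Category.assoc], ?_⟩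
  intro P p₁ p₂ sq
  obtain ⟨W', t₂, j₂, sq₂⟩ : ∃ (W' : Over S) (t₂ : (yon S).obj W' ⟶ T) (j₂ : W' ⟶ ptA str B),
      IsPullback t₂ ((yon S).map j₂) i ((yon S).map (stA str B) ≫ e₀) := ⟨_, _, _, hi.rep.isPullback _⟩
  rw [← cancel_epi (sq₂.isoIsPullback _ _ sq).hom, IsPullback.isoIsPullback_hom_snd_assoc,
    IsPullback.isoIsPullback_hom_fst_assoc]
  refine hom_ext_of_cover (T := W') (Tk := fun x : W'.left.affineCover.I₀ =>
      Over.mk (W'.left.affineCover.f x ≫ W'.hom)) (fun x => Over.homMk (W'.left.affineCover.f x) rfl)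
    (fun x => inferInstanceAs (Flat (W'.left.affineCover.f x)))
    (fun x => inferInstanceAs (LocallyOfFinitePresentation (W'.left.affineCover.f x)))
    (fun t => W'.left.affineCover.exists_eq t) fun x => ?_
  -- on an affine piece
  let piece : Over.mk (W'.left.affineCover.f x ≫ W'.hom) ⟶ W' := Over.homMk (W'.left.affineCover.f x) rfl
  let g : Over.mk (W'.left.affineCover.f x ≫ W'.hom) ⟶ ptA str B := piece ≫ j₂
  let v : Over.mk (W'.left.affineCover.f x ≫ W'.hom) ⟶ W := by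
    refine ((yon S).map_surjective (sqT.lift ((yon S).map piece ≫ t₂)
      ((yon S).map (g ≫ stA str B)) ?_)).choose
    rw [Category.assoc, sq₂.w, Functor.map_comp, Category.assoc, Functor.map_comp, Category.assoc]
  have hv : (yon S).map v = _ := ((yon S).map_surjective (sqT.lift ((yon S).map piece ≫ t₂)
    ((yon S).map (g ≫ stA str B)) _)).choose_spec
  have hvt : (yon S).map v ≫ tW = (yon S).map piece ≫ t₂ := by rw [hv, sqT.lift_fst]
  have hvj : v ≫ j = g ≫ stA str B := (yon S).map_injective (by rw [Functor.map_comp, hv, sqT.lift_snd])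
  -- the piece factors through the closed subscheme of the chart
  let Rx := Γ(W'.left.affineCover.X x, ⊤)
  let e : Spec Rx ⟶ W'.left.affineCover.X x := (W'.left.affineCover.X x).isoSpec.inv
  let β : B →+* Rx := (Spec.preimage (e ≫ g.left)).hom
  let γ : A ⧸ I →+* Rx := (Spec.preimage (e ≫ (v ≫ inv ι').left)).hom
  have hβ : Spec.map (CommRingCat.ofHom β) = e ≫ g.left := Spec.map_preimage _
  have hγ : Spec.map (CommRingCat.ofHom γ) = e ≫ (v ≫ inv ι').left := Spec.map_preimage _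
  have hcomp : (v ≫ inv ι') ≫ stA str (A ⧸ I) = g ≫ stA str B := by
    rw [Category.assoc, ← hι', IsIso.inv_hom_id_assoc, hvj]
  have hβγ : β.comp (algebraMap A B) = γ.comp (Ideal.Quotient.mk I) := by
    have h2 : Spec.map (CommRingCat.ofHom (β.comp (algebraMap A B))) =
        Spec.map (CommRingCat.ofHom (γ.comp (Ideal.Quotient.mk I))) := by
      rw [CommRingCat.ofHom_comp, CommRingCat.ofHom_comp, Spec.map_comp, Spec.map_comp, hβ, hγ,
        Category.assoc, Category.assoc]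
      exact congrArg (e ≫ ·) (congrArg CommaMorphism.left hcomp).symm
    exact congrArg CommRingCat.Hom.hom (Spec.map_injective h2)
  have hle : ∀ y ∈ idealIn I B, β y = 0 := fun y hy => by
    have : idealIn I B ≤ RingHom.ker β := Ideal.map_le_iff_le_comap.2 fun a ha => by
      change β (algebraMap A B a) = 0
      rw [← RingHom.comp_apply, hβγ, RingHom.comp_apply, Ideal.Quotient.eq_zero_iff_mem.2 ha, map_zero]
    exact this hy
  let β' : B ⧸ idealIn I B →+* Rx := Ideal.Quotient.lift _ β hle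
  have hβ'γ : β'.comp (baseQuot I B).toRingHom = γ := Ideal.Quotient.ringHom_ext hβγ
  let E : Over.mk (e ≫ W'.left.affineCover.f x ≫ W'.hom) ⟶ Over.mk (W'.left.affineCover.f x ≫ W'.hom) :=
    Over.homMk e rfl
  have : IsIso ((Over.forget S).map E) := inferInstanceAs (IsIso (W'.left.affineCover.X x).isoSpec.inv)
  have : IsIso E := isIso_of_reflects_iso E (Over.forget S)
  let k : Over.mk (e ≫ W'.left.affineCover.f x ≫ W'.hom) ⟶ ptA str (B ⧸ idealIn I B) :=
    Over.homMk (Spec.map (CommRingCat.ofHom β')) (by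
      have h1 : CommRingCat.ofHom β = CommRingCat.ofHom (Ideal.Quotient.mk (idealIn I B)) ≫
          CommRingCat.ofHom β' := rfl
      change _ ≫ Spec.map _ ≫ str = e ≫ W'.left.affineCover.f x ≫ W'.hom
      rw [show W'.left.affineCover.f x ≫ W'.hom = g.left ≫ Spec.map _ ≫ str from (Over.w g).symm,
        ← Category.assoc e, ← hβ, ← Spec.map_comp_assoc, ← Spec.map_comp_assoc, ← CommRingCat.ofHom_comp]
      rfl)
  have k1 : k ≫ hA str (Ideal.Quotient.mkₐ A (idealIn I B)) = E ≫ g := Over.OverMorphism.ext (by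
    change Spec.map _ ≫ Spec.map _ = e ≫ g.left
    rw [← Spec.map_comp, ← hβ]
    rfl)
  have k2 : k ≫ hA str (baseQuot I B) = E ≫ v ≫ inv ι' := Over.OverMorphism.ext (by
    change Spec.map _ ≫ Spec.map _ = e ≫ (v ≫ inv ι').left
    rw [← Spec.map_comp, ← hγ]
    exact congrArg Spec.map (CommRingCat.hom_ext hβ'γ))
  rw [← cancel_epi ((yon S).map E), ← Category.assoc ((yon S).map piece), ← Functor.map_comp,
    ← Functor.map_comp_assoc, ← k1, Functor.map_comp, Category.assoc, ← Category.assoc _ ℓ, hℓT,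
    Category.assoc, pullback.lift_fst, ← Functor.map_comp_assoc, k2]
  simp only [Functor.map_comp, Category.assoc, Functor.map_inv, IsIso.inv_hom_id_assoc]
  rw [← Category.assoc ((yon S).map v), hvt, Category.assoc]

end AlgSpLib
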