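import Groth.Agent.AlgSpLib.Descend
import Groth.Agent.AlgSpLib.ThickSmoothLift
/-!
# Lifting along first order thickenings of algebraic spaces
-/

set_option autoImplicit false
universe u
open CategoryTheory CategoryTheory.Limits AlgebraicGeometry Opposite AlgSp Topology

namespace AlgSpLib

variable {S : Scheme.{u}}

theorem sq_eq_bot_of_sqZero {A : Type u} [CommRing A] (I : Ideal A)
    (h : sqZero (Spec.map (CommRingCat.ofHom (Ideal.Quotient.mk I)))) : I ^ 2 = ⊥ := by
  have hk := congrArg (fun K => Scheme.IdealSheafData.ideal K ⟨⊤, isAffineOpen_top _⟩) h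
  simp only [Scheme.IdealSheafData.ideal_mul, Pi.mul_apply, Scheme.Hom.ker_apply,
    Scheme.IdealSheafData.ideal_bot, Pi.bot_apply] at hk
  let σ := Scheme.ΓSpecIso (CommRingCat.of A)
  have key : ∀ x ∈ I, σ.inv.hom x ∈ RingHom.ker
      (Spec.map (CommRingCat.ofHom (Ideal.Quotient.mk I))).appTop.hom := fun x hx => by
    rw [RingHom.mem_ker, ← RingHom.comp_apply, ← CommRingCat.hom_comp,
      ← Scheme.ΓSpecIso_inv_naturality, CommRingCat.hom_comp, RingHom.comp_apply, CommRingCat.hom_ofHom,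
      Ideal.Quotient.eq_zero_iff_mem.2 hx, map_zero]
  rw [pow_two]
  refine le_bot_iff.1 (Ideal.mul_le.2 fun x hx y hy => ?_)
  have h2 := Ideal.mul_mem_mul (key x hx) (key y hy)
  rw [show RingHom.ker (Spec.map (CommRingCat.ofHom (Ideal.Quotient.mk I))).appTop.hom *
      RingHom.ker (Spec.map (CommRingCat.ofHom (Ideal.Quotient.mk I))).appTop.hom = ⊥ from hk,
    Ideal.mem_bot, ← map_mul] at h2
  rw [Ideal.mem_bot]
  exact σ.symm.commRingCatIsoToRingEquiv.injective (h2.trans (map_zero _).symm)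

theorem exists_chart_data {T T' : Sp S} {j : T ⟶ T'} (hj : IsFOThickMor j) {A : Type u} [CommRing A]
    {str : Spec (CommRingCat.of A) ⟶ S} (e : (yon S).obj (Over.mk str) ⟶ T') (he : RepWith @Etale e) :
    ∃ I : Ideal A, I ^ 2 = ⊥ ∧ ∃ r : (yon S).obj (ptA str (A ⧸ I)) ⟶ T,
      IsPullback r ((yon S).map (stA str (A ⧸ I))) j e := by
  obtain ⟨W, tW, jW, sqT⟩ : ∃ (W : Over S) (tW : (yon S).obj W ⟶ T) (jW : W ⟶ Over.mk str),
      IsPullback tW ((yon S).map jW) j e := ⟨_, _, _, hj.1.rep.isPullback e⟩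
  obtain ⟨hjc, hjs⟩ := (repWith_yon_map_iff (P := thick) jW).1 (repWith_of_isPullback sqT hj.1)
  obtain ⟨I, ι, hι, -⟩ := exists_quotient_iso_of_thick (A := A) jW.left
  have hsz : sqZero jW.left := hj.2 e tW jW (inferInstanceAs (IsAffine (Spec (CommRingCat.of A)))) he sqT
  refine ⟨I, sq_eq_bot_of_sqZero I ?_, ?_⟩
  · unfold sqZero at hsz ⊢
    rwa [← hι, Scheme.Hom.ker_comp_of_isIso]
  let ι' : ptA str (A ⧸ I) ⟶ W := Over.homMk ι.hom (by
    change ι.hom ≫ W.hom = Spec.map _ ≫ str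
    rw [← Over.w jW, ← Category.assoc, hι]
    rfl)
  have : IsIso ((Over.forget S).map ι') := inferInstanceAs (IsIso ι.hom)
  have : IsIso ι' := isIso_of_reflects_iso ι' (Over.forget S)
  refine ⟨(yon S).map ι' ≫ tW, sqT.of_iso (asIso ((yon S).map ι')).symm (Iso.refl _) (Iso.refl _) (Iso.refl _)
    ?_ ?_ (by simp) (by simp)⟩
  · simp
  · rw [Iso.refl_hom, Category.comp_id, Iso.symm_hom, asIso_inv, IsIso.eq_inv_comp, ← Functor.map_comp]
    exact congrArg (yon S).map (Over.OverMorphism.ext hι)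

section

variable {T T' X Y : Sp S} {j : T ⟶ T'} {f : X ⟶ Y}

theorem ext_of_affine_etale (hT' : IsAlgSpace T') {G : Sp S} {y y' : T' ⟶ G}
    (h : ∀ (A : CommRingCat.{u}) (str : Spec A ⟶ S) (e : (yon S).obj (Over.mk str) ⟶ T'),
      RepWith @Etale e → e ≫ y = e ≫ y') : y = y' := by
  obtain ⟨U, a, ha, has⟩ := hT'.atlas
  refine hom_ext_of_atlas ha has ?_
  let O := fun x : U.left => (exists_isAffineOpen_mem_and_subset (X := U.left) (x := x) (U := ⊤) trivial).choose
  have hO : ∀ x, IsAffineOpen (O x) ∧ x ∈ O x := fun x =>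
    ⟨(exists_isAffineOpen_mem_and_subset (X := U.left) (x := x) (U := ⊤) trivial).choose_spec.1,
      (exists_isAffineOpen_mem_and_subset (X := U.left) (x := x) (U := ⊤) trivial).choose_spec.2.1⟩
  refine hom_ext_of_cover (T := U) (Tk := fun x : U.left => Over.mk ((hO x).1.fromSpec ≫ U.hom))
    (fun x => Over.homMk (hO x).1.fromSpec rfl) (fun x => inferInstanceAs (Flat (hO x).1.fromSpec))
    (fun x => inferInstanceAs (LocallyOfFinitePresentation (hO x).1.fromSpec))
    (fun x => ⟨x, (hO x).1.range_fromSpec ▸ (hO x).2⟩) fun x => ?_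
  rw [← Category.assoc, ← Category.assoc]
  exact h _ _ _ (repWith_comp ((repWith_yon_map_iff (P := (@Etale : MorphismProperty Scheme.{u}))
    (Over.homMk (hO x).1.fromSpec rfl : Over.mk ((hO x).1.fromSpec ≫ U.hom) ⟶ U)).2
      (inferInstanceAs (Etale (hO x).1.fromSpec))) ha)

theorem lift_unique_along_space_thickening (hf : IsFormallyUnramifiedMor f) (hj : IsFOThickMor j)
    (hT' : IsAlgSpace T') {l l' : T' ⟶ X} (h1 : j ≫ l = j ≫ l') (h2 : l ≫ f = l' ≫ f) : l = l' := by
  refine ext_of_affine_etale hT' fun A str e he => ?_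
  obtain ⟨I, hI, r, sqr⟩ := exists_chart_data hj e he
  let sq : InfSq f :=
  { A := A, I := I, sq_zero := hI, str := str, top := r ≫ j ≫ l, bot := e ≫ l ≫ f,
    comm := by
      rw [Category.assoc, Category.assoc, ← Category.assoc r j, sqr.w, Category.assoc] }
  have hj' : stA str (A ⧸ I) = sq.j := Over.OverMorphism.ext rfl
  refine hf sq _ _ ?_ (Category.assoc _ _ _) ?_ (by rw [Category.assoc, ← h2])
  · rw [← hj', ← Category.assoc, ← sqr.w, Category.assoc]
  · rw [← hj', ← Category.assoc, ← sqr.w, Category.assoc, ← h1]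

theorem exists_lift_of_local (hj : IsFOThickMor j)
    (hT' : IsAlgSpace T') (a : T ⟶ X) (b : T' ⟶ Y) (w : a ≫ f = j ≫ b)
    (hf : ∀ sq : InfSq f, (∃ t, sq.top = t ≫ a) → sq.HasUniqLift) :
    ∃ l : T' ⟶ X, j ≫ l = a ∧ l ≫ f = b := by
  obtain ⟨U, a₀, ha₀, has₀⟩ := hT'.atlas
  -- unique lifts on the affine pieces of the atlas
  have loc : ∀ x : U.left, ∃ (V : U.left.Opens) (hV : IsAffineOpen V) (I : Ideal Γ(U.left, V))
      (r : (yon S).obj (ptA (hV.fromSpec ≫ U.hom) (Γ(U.left, V) ⧸ I)) ⟶ T)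
      (l : (yon S).obj (Over.mk (hV.fromSpec ≫ U.hom)) ⟶ X),
      x ∈ V ∧ I ^ 2 = ⊥ ∧
      IsPullback r ((yon S).map (stA (hV.fromSpec ≫ U.hom) (Γ(U.left, V) ⧸ I))) j
        ((yon S).map (Over.homMk hV.fromSpec rfl : Over.mk (hV.fromSpec ≫ U.hom) ⟶ U) ≫ a₀) ∧
      (yon S).map (stA (hV.fromSpec ≫ U.hom) (Γ(U.left, V) ⧸ I)) ≫ l = r ≫ a ∧
      l ≫ f = ((yon S).map (Over.homMk hV.fromSpec rfl : Over.mk (hV.fromSpec ≫ U.hom) ⟶ U) ≫ a₀) ≫ b := by
    intro x
    obtain ⟨V, hV, hxV, -⟩ := exists_isAffineOpen_mem_and_subset (X := U.left) (x := x) (U := ⊤) trivial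
    obtain ⟨I, hI, r, sqr⟩ := exists_chart_data hj
      ((yon S).map (Over.homMk hV.fromSpec rfl : Over.mk (hV.fromSpec ≫ U.hom) ⟶ U) ≫ a₀)
      (repWith_comp ((repWith_yon_map_iff (P := (@Etale : MorphismProperty Scheme.{u})) _).2
        (inferInstanceAs (Etale hV.fromSpec))) ha₀)
    let sq : InfSq f :=
    { A := Γ(U.left, V), I := I, sq_zero := hI, str := hV.fromSpec ≫ U.hom, top := r ≫ a,
      bot := ((yon S).map (Over.homMk hV.fromSpec rfl : Over.mk (hV.fromSpec ≫ U.hom) ⟶ U) ≫ a₀) ≫ b,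
      comm := by
        rw [Category.assoc, w, ← Category.assoc r, sqr.w, Category.assoc] }
    obtain ⟨l, hl1, hl2⟩ := (hf sq ⟨r, rfl⟩).exists
    exact ⟨V, hV, I, r, l, hxV, hI, sqr, hl1, hl2⟩
  choose V hV I r l hxV hI sqr hl1 hl2 using loc
  let c := fun x : U.left => (Over.homMk (hV x).fromSpec rfl : Over.mk ((hV x).fromSpec ≫ U.hom) ⟶ U)
  -- the local lifts agree
  have compat : ∀ (Z : Over S) (x x' : U.left) (g : Z ⟶ Over.mk ((hV x).fromSpec ≫ U.hom))
      (g' : Z ⟶ Over.mk ((hV x').fromSpec ≫ U.hom)),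
      (yon S).map (g ≫ c x) ≫ a₀ = (yon S).map (g' ≫ c x') ≫ a₀ →
      (yon S).map g ≫ l x = (yon S).map g' ≫ l x' := by
    intro Z x x' g g' hgg
    refine hom_ext_of_cover (T := Z) (Tk := fun t : Z.left.affineCover.I₀ =>
        Over.mk ((Z.left.affineCover.X t).isoSpec.inv ≫ Z.left.affineCover.f t ≫ Z.hom))
      (fun t => Over.homMk ((Z.left.affineCover.X t).isoSpec.inv ≫ Z.left.affineCover.f t) (Category.assoc _ _ _))
      (fun t => inferInstanceAs (Flat ((Z.left.affineCover.X t).isoSpec.inv ≫ Z.left.affineCover.f t)))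
      (fun t => inferInstanceAs
        (LocallyOfFinitePresentation ((Z.left.affineCover.X t).isoSpec.inv ≫ Z.left.affineCover.f t)))
      (fun z => by
        obtain ⟨t, y, rfl⟩ := Z.left.affineCover.exists_eq z |>.imp fun t ht => ht
        refine ⟨t, (Z.left.affineCover.X t).isoSpec.hom y, ?_⟩
        change ((Z.left.affineCover.X t).isoSpec.hom ≫
          (Z.left.affineCover.X t).isoSpec.inv ≫ Z.left.affineCover.f t) y = _
        rw [Iso.hom_inv_id_assoc]) fun t => ?_
    let str' : Spec Γ(Z.left.affineCover.X t, ⊤) ⟶ S :=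
      (Z.left.affineCover.X t).isoSpec.inv ≫ Z.left.affineCover.f t ≫ Z.hom
    let piece : Over.mk str' ⟶ Z :=
      Over.homMk ((Z.left.affineCover.X t).isoSpec.inv ≫ Z.left.affineCover.f t) (Category.assoc _ _ _)
    let φ : Γ(U.left, V x) →+* Γ(Z.left.affineCover.X t, ⊤) := (Spec.preimage (piece ≫ g).left).hom
    let φ' : Γ(U.left, V x') →+* Γ(Z.left.affineCover.X t, ⊤) := (Spec.preimage (piece ≫ g').left).hom
    let J := (I x').map φ'
    have hJ : J ^ 2 = ⊥ := by rw [← Ideal.map_pow, hI x', Ideal.map_bot]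
    have hφ' : Spec.map (CommRingCat.ofHom φ') = (piece ≫ g').left := Spec.map_preimage _
    let ZJ : Over S := Over.mk (Spec.map (CommRingCat.ofHom (Ideal.Quotient.mk J)) ≫ str')
    let jJ : ZJ ⟶ Over.mk str' := Over.homMk (Spec.map (CommRingCat.ofHom (Ideal.Quotient.mk J))) rfl
    let k' : ZJ ⟶ ptA ((hV x').fromSpec ≫ U.hom) (Γ(U.left, V x') ⧸ I x') :=
      Over.homMk (Spec.map (CommRingCat.ofHom (Ideal.quotientMap J φ' Ideal.le_comap_map))) (by
        change _ ≫ Spec.map _ ≫ _ = Spec.map _ ≫ str'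
        rw [show str' = (piece ≫ g').left ≫ (hV x').fromSpec ≫ U.hom from (Over.w (piece ≫ g')).symm, ← hφ',
          ← Spec.map_comp_assoc, ← Spec.map_comp_assoc]
        exact congrArg (fun k => Spec.map k ≫ _) (CommRingCat.hom_ext
          (Ideal.quotientMap_comp_mk (J := I x') (f := φ') Ideal.le_comap_map)))
    have hk' : k' ≫ stA ((hV x').fromSpec ≫ U.hom) (Γ(U.left, V x') ⧸ I x') = jJ ≫ piece ≫ g' :=
      Over.OverMorphism.ext (by
        change Spec.map _ ≫ Spec.map _ = Spec.map _ ≫ (piece ≫ g').left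
        rw [← hφ', ← Spec.map_comp, ← Spec.map_comp]
        exact congrArg Spec.map (CommRingCat.hom_ext
          (Ideal.quotientMap_comp_mk (J := I x') (f := φ') Ideal.le_comap_map)))
    have heq : (yon S).map (piece ≫ g) ≫ (yon S).map (c x) ≫ a₀ =
        (yon S).map (piece ≫ g') ≫ (yon S).map (c x') ≫ a₀ := by
      simp only [Functor.map_comp, Category.assoc]
      rw [← Category.assoc ((yon S).map g), ← Category.assoc ((yon S).map g'), ← Functor.map_comp, ← Functor.map_comp]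
      exact congrArg ((yon S).map piece ≫ ·) hgg
    obtain ⟨k, hk⟩ := (yon S).map_surjective ((sqr x).lift ((yon S).map k' ≫ r x')
      ((yon S).map (jJ ≫ piece ≫ g)) (by
        rw [Category.assoc, (sqr x').w, ← Functor.map_comp_assoc, hk', Functor.map_comp (f := jJ),
          Functor.map_comp (f := jJ), Category.assoc, Category.assoc]
        exact congrArg ((yon S).map jJ ≫ ·) heq.symm))
    have e1 : (yon S).map k ≫ r x = (yon S).map k' ≫ r x' := by rw [hk, (sqr x).lift_fst]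
    have e2 : k ≫ stA ((hV x).fromSpec ≫ U.hom) (Γ(U.left, V x) ⧸ I x) = jJ ≫ piece ≫ g :=
      (yon S).map_injective (by rw [Functor.map_comp, hk, (sqr x).lift_snd])
    let sq : InfSq f :=
    { A := Γ(Z.left.affineCover.X t, ⊤), I := J, sq_zero := hJ, str := str',
      top := (yon S).map k' ≫ r x' ≫ a,
      bot := (yon S).map (piece ≫ g') ≫ ((yon S).map (c x') ≫ a₀) ≫ b,
      comm := by
        rw [Category.assoc, Category.assoc, w, ← Category.assoc (r x'), (sqr x').w, Category.assoc,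
          ← Functor.map_comp_assoc, hk']
        simp only [Functor.map_comp, Category.assoc]
        rfl }
    have hjJ : jJ = sq.j := rfl
    have hu : sq.HasUniq := fun y y' q1 q2 q1' q2' =>
      (hf sq ⟨(yon S).map k' ≫ r x', (Category.assoc _ _ _).symm⟩).unique ⟨q1, q2⟩ ⟨q1', q2'⟩
    have := hu ((yon S).map (piece ≫ g) ≫ l x) ((yon S).map (piece ≫ g') ≫ l x')
      (by
        rw [← hjJ, ← Functor.map_comp_assoc, ← e2, Functor.map_comp, Category.assoc, hl1, ← Category.assoc, e1,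
          Category.assoc])
      (by
        rw [Category.assoc, hl2, ← Category.assoc, heq]
        simp only [sq, c, Category.assoc])
      (by rw [← hjJ, ← Functor.map_comp_assoc, ← hk', Functor.map_comp, Category.assoc, hl1])
      (by rw [Category.assoc, hl2])
    rw [← Functor.map_comp_assoc, ← Functor.map_comp_assoc]
    exact this
  have hcs : ∀ u : U.left, ∃ x, u ∈ Set.range (c x).left := fun u => ⟨u, (hV u).range_fromSpec ▸ hxV u⟩
  obtain ⟨lU, hlU⟩ := exists_amalgamation c (fun x => inferInstanceAs (Flat (hV x).fromSpec))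
    (fun x => inferInstanceAs (LocallyOfFinitePresentation (hV x).fromSpec)) hcs l
    (fun x x' Z g g' hgg => compat Z x x' g g' (by rw [hgg]))
  obtain ⟨L, hL⟩ := exists_desc_of_atlas ha₀ has₀ lU (fun Z g g' hgg => by
    -- refine by pairs of opens
    let O := fun z : Z.left => g.left ⁻¹ᵁ V (g.left z) ⊓ g'.left ⁻¹ᵁ V (g'.left z)
    let s := fun z : Z.left => (Over.homMk (O z).ι rfl : Over.mk ((O z).ι ≫ Z.hom) ⟶ Z)
    refine hom_ext_of_cover s (fun z => inferInstanceAs (Flat (O z).ι))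
      (fun z => inferInstanceAs (LocallyOfFinitePresentation (O z).ι))
      (fun z => ⟨z, ⟨z, hxV _, hxV _⟩, rfl⟩) fun z => ?_
    have key : ∀ (h : Z ⟶ U), (∀ y : (O z : Scheme), h.left ((O z).ι y) ∈ V (h.left z)) →
        ∃ m : Over.mk ((O z).ι ≫ Z.hom) ⟶ Over.mk ((hV (h.left z)).fromSpec ≫ U.hom),
          m ≫ c (h.left z) = s z ≫ h := by
      intro h hh
      have hsub : Set.range (s z ≫ h).left ⊆ Set.range (hV (h.left z)).fromSpec := by
        rintro _ ⟨y, rfl⟩
        rw [IsAffineOpen.range_fromSpec]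
        exact hh y
      exact ⟨Over.homMk (IsOpenImmersion.lift (hV (h.left z)).fromSpec (s z ≫ h).left hsub) (by
          change _ ≫ (hV (h.left z)).fromSpec ≫ U.hom = _
          rw [← Category.assoc, IsOpenImmersion.lift_fac]
          exact Over.w (s z ≫ h)),
        Over.OverMorphism.ext (IsOpenImmersion.lift_fac _ _ hsub)⟩
    obtain ⟨m, hm⟩ := key g fun y => y.2.1
    obtain ⟨m', hm'⟩ := key g' fun y => y.2.2
    rw [← Functor.map_comp_assoc, ← Functor.map_comp_assoc, ← hm, ← hm', Functor.map_comp, Functor.map_comp,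
      Category.assoc, Category.assoc, hlU, hlU]
    refine compat _ _ _ m m' ?_
    rw [hm, hm', Functor.map_comp, Functor.map_comp, Category.assoc, Category.assoc, hgg])
  refine ⟨L, ?_, ?_⟩
  · obtain ⟨W, p, q, sqW⟩ : ∃ (W : Over S) (p : (yon S).obj W ⟶ T) (q : W ⟶ U),
        IsPullback p ((yon S).map q) j a₀ := ⟨_, _, _, hj.1.rep.isPullback a₀⟩
    have hpe : RepWith @Etale p := repWith_of_isPullback sqW.flip ha₀
    have hps : RepWith @Surjective p := repWith_of_isPullback sqW.flip has₀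
    refine hom_ext_of_atlas hpe hps ?_
    rw [← Category.assoc, sqW.w, Category.assoc, hL]
    let s := fun w : W.left => (Over.homMk (q.left ⁻¹ᵁ V (q.left w)).ι rfl :
      Over.mk ((q.left ⁻¹ᵁ V (q.left w)).ι ≫ W.hom) ⟶ W)
    refine hom_ext_of_cover s (fun w => inferInstanceAs (Flat (q.left ⁻¹ᵁ V (q.left w)).ι))
      (fun w => inferInstanceAs (LocallyOfFinitePresentation (q.left ⁻¹ᵁ V (q.left w)).ι))
      (fun w => ⟨w, ⟨w, hxV _⟩, rfl⟩) fun w => ?_
    have hsub : Set.range (s w ≫ q).left ⊆ Set.range (hV (q.left w)).fromSpec := by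
      rintro _ ⟨y, rfl⟩
      rw [IsAffineOpen.range_fromSpec]
      exact y.2
    let m : Over.mk ((q.left ⁻¹ᵁ V (q.left w)).ι ≫ W.hom) ⟶
        Over.mk ((hV (q.left w)).fromSpec ≫ U.hom) :=
      Over.homMk (IsOpenImmersion.lift (hV (q.left w)).fromSpec (s w ≫ q).left hsub) (by
        change _ ≫ (hV (q.left w)).fromSpec ≫ U.hom = _
        rw [← Category.assoc, IsOpenImmersion.lift_fac]
        exact Over.w (s w ≫ q))
    have hm : m ≫ c (q.left w) = s w ≫ q := Over.OverMorphism.ext (IsOpenImmersion.lift_fac _ _ hsub)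
    obtain ⟨k, hk⟩ := (yon S).map_surjective ((sqr (q.left w)).lift ((yon S).map (s w) ≫ p) ((yon S).map m) (by
      rw [Category.assoc, sqW.w, ← Functor.map_comp_assoc, ← hm, Functor.map_comp, Category.assoc]))
    have hk1 : (yon S).map k ≫ r (q.left w) = (yon S).map (s w) ≫ p := by rw [hk, (sqr _).lift_fst]
    have hk2 : (yon S).map k ≫ (yon S).map (stA _ _) = (yon S).map m := by rw [hk]; exact (sqr _).lift_snd _ _ _
    rw [← Category.assoc ((yon S).map (s w)), ← Functor.map_comp, ← hm, Functor.map_comp, Category.assoc, hlU,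
      ← hk2, Category.assoc, hl1, ← Category.assoc, hk1, Category.assoc]
  · refine hom_ext_of_atlas ha₀ has₀ ?_
    rw [← Category.assoc, hL]
    refine hom_ext_of_cover c (fun x => inferInstanceAs (Flat (hV x).fromSpec))
      (fun x => inferInstanceAs (LocallyOfFinitePresentation (hV x).fromSpec)) hcs fun x => ?_
    rw [← Category.assoc, hlU, hl2, Category.assoc]

theorem exists_lift_along_space_thickening (hf : IsFormallyEtaleMor f) (hj : IsFOThickMor j)
    (hT' : IsAlgSpace T') (a : T ⟶ X) (b : T' ⟶ Y) (w : a ≫ f = j ≫ b) :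
    ∃ l : T' ⟶ X, j ≫ l = a ∧ l ≫ f = b :=
  exists_lift_of_local hj hT' a b w fun sq _ => hf sq

theorem lift_unique_of_local (hj : IsFOThickMor j) (hT' : IsAlgSpace T') (a : T ⟶ X) (b : T' ⟶ Y)
    (hf : ∀ sq : InfSq f, (∃ t, sq.top = t ≫ a) → sq.HasUniqLift)
    {l l' : T' ⟶ X} (h1 : j ≫ l = a) (h2 : l ≫ f = b) (h1' : j ≫ l' = a) (h2' : l' ≫ f = b) : l = l' := by
  refine ext_of_affine_etale hT' fun A str e he => ?_
  obtain ⟨I, hI, r, sqr⟩ := exists_chart_data hj e he
  let sq : InfSq f :=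
  { A := A, I := I, sq_zero := hI, str := str, top := r ≫ a, bot := e ≫ b,
    comm := by
      rw [Category.assoc, ← h1, Category.assoc, h2, ← Category.assoc r j, sqr.w, Category.assoc] }
  have hj' : stA str (A ⧸ I) = sq.j := Over.OverMorphism.ext rfl
  refine (hf sq ⟨r, rfl⟩).unique ⟨?_, by rw [Category.assoc, h2]⟩ ⟨?_, by rw [Category.assoc, h2']⟩
  · rw [← hj', ← Category.assoc, ← sqr.w, Category.assoc, h1]
  · rw [← hj', ← Category.assoc, ← sqr.w, Category.assoc, h1']

end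

theorem existsUnique_lift_along_space_thickening {T T' X Y : Sp S} {j : T ⟶ T'} {f : X ⟶ Y}
    (hf : IsFormallyEtaleMor f) (hj : IsFOThickMor j) (hT' : IsAlgSpace T') (a : T ⟶ X) (b : T' ⟶ Y)
    (w : a ≫ f = j ≫ b) : ∃! l : T' ⟶ X, j ≫ l = a ∧ l ≫ f = b := by
  obtain ⟨l, hl⟩ := exists_lift_along_space_thickening hf hj hT' a b w
  exact ⟨l, hl, fun l' hl' => lift_unique_along_space_thickening (Formal.etale_iff.1 hf).2 hj hT'
    (hl'.1.trans hl.1.symm) (hl'.2.trans hl.2.symm)⟩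

theorem isUnivFOThick_comp {Z Z' Y X : Sp S} {hZ : Z ⟶ Y} {g : Y ⟶ X} {i : Z ⟶ Z'} {h' : Z' ⟶ Y}
    (HU : IsUnivFOThick hZ i h') (hg : IsFormallyEtaleMor g) : IsUnivFOThick (hZ ≫ g) i (h' ≫ g) := by
  refine ⟨HU.1, by rw [← Category.assoc, HU.2.1], fun T T' hT hT' j a b hj w => ?_⟩
  obtain ⟨b', hb1, hb2⟩ := exists_lift_along_space_thickening hg hj hT' (a ≫ hZ) b
    (by rw [Category.assoc]; exact w.symm)
  obtain ⟨a', ⟨ha1, ha2⟩, huniq⟩ := HU.2.2 hT hT' j a b' hj hb1
  refine ⟨a', ⟨ha1, by rw [← Category.assoc, ha2, hb2]⟩, fun a'' ⟨h1, h2⟩ => huniq a'' ⟨h1, ?_⟩⟩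
  refine lift_unique_along_space_thickening (Formal.etale_iff.1 hg).2 hj hT' ?_ ?_
  · rw [← Category.assoc, h1, Category.assoc, HU.2.1, hb1]
  · rw [Category.assoc, h2, hb2]

end AlgSpLib
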