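import Groth.Agent.AlgSpLib.FOThickBC
/-!
# Universal first order thickenings: formally unramified, affine tests
-/

set_option autoImplicit false
universe u
open CategoryTheory CategoryTheory.Limits AlgebraicGeometry Opposite AlgSp Topology

namespace AlgSpLib

variable {S : Scheme.{u}}

theorem UnivThick.eq_of_eq_on_quot {Z Z' X : Sp S} {h : Z ⟶ X} {i : Z ⟶ Z'} {h' : Z' ⟶ X}
    (HU : IsUnivFOThick h i h') {A : Type u} [CommRing A] {str : Spec (CommRingCat.of A) ⟶ S} (K : Ideal A)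
    (hK : K ^ 2 = ⊥) {l l' : (yon S).obj (Over.mk str) ⟶ Z'} (e : l ≫ h' = l' ≫ h')
    (a : (yon S).obj (ptA str (A ⧸ K)) ⟶ Z) (e1 : (yon S).map (stA str (A ⧸ K)) ≫ l = a ≫ i)
    (e2 : (yon S).map (stA str (A ⧸ K)) ≫ l' = a ≫ i) : l = l' :=
  (HU.2.2 (IsAlgSpace.yon_obj _) (IsAlgSpace.yon_obj _) _ a (l ≫ h') (isFOThickMor_stA str K hK)
    (by rw [← Category.assoc, e1, Category.assoc, HU.2.1])).unique ⟨e1, rfl⟩ ⟨e2, e.symm⟩

theorem isFormallyUnramifiedMor_univThick {Z Z' X : Sp S} (hZ' : IsAlgSpace Z') {h : Z ⟶ X} {i : Z ⟶ Z'}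
    {h' : Z' ⟶ X} (HU : IsUnivFOThick h i h') : IsFormallyUnramifiedMor h' := by
  intro sq l l' h1 h2 h1' h2'
  obtain ⟨J, hJ, r, sqJ⟩ := exists_data_any HU.1 hZ' l
  let K := sq.I ⊔ J
  let L := K * K
  have hLJ : L ≤ J := by
    refine Ideal.mul_le.2 fun x hx y hy => ?_
    obtain ⟨a, ha, b, hb, rfl⟩ := Submodule.mem_sup.1 hx
    obtain ⟨c, hc, d, hd, rfl⟩ := Submodule.mem_sup.1 hy
    have hac : a * c = 0 := by
      have := Ideal.mul_mem_mul ha hc
      rwa [← pow_two, sq.sq_zero, Ideal.mem_bot] at this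
    rw [show (a + b) * (c + d) = a * c + (a * d + b * c + b * d) by ring, hac, zero_add]
    exact J.add_mem (J.add_mem (J.mul_mem_left a hd) (J.mul_mem_right c hb)) (J.mul_mem_right d hb)
  -- agreement on `A ⧸ (I + J)`
  have hK1 : (yon S).map (stA sq.str (sq.A ⧸ K)) ≫ l = (yon S).map (stA sq.str (sq.A ⧸ K)) ≫ l' := by
    have e : stA sq.str (sq.A ⧸ K) =
        hA sq.str (Ideal.Quotient.factorₐ sq.A (le_sup_left : sq.I ≤ K)) ≫ sq.j := by
      rw [show sq.j = stA sq.str (sq.A ⧸ sq.I) from Over.OverMorphism.ext rfl]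
      exact (hA_st _).symm
    simp only [e, Functor.map_comp, Category.assoc, h1, h1']
  let str' : Spec (CommRingCat.of (sq.A ⧸ L)) ⟶ S :=
    Spec.map (CommRingCat.ofHom (Ideal.Quotient.mk L)) ≫ sq.str
  let c : Over.mk str' ⟶ sq.ptT' := Over.homMk (Spec.map (CommRingCat.ofHom (Ideal.Quotient.mk L))) rfl
  let K' := K.map (Ideal.Quotient.mk L)
  have hK' : K' ^ 2 = ⊥ := by rw [← Ideal.map_pow, pow_two, Ideal.map_quotient_self]
  let κ : ptA str' ((sq.A ⧸ L) ⧸ K') ⟶ ptA sq.str (sq.A ⧸ K) :=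
    Over.homMk (Spec.map (CommRingCat.ofHom (Ideal.quotientMap K' (Ideal.Quotient.mk L) Ideal.le_comap_map))) (by
      change _ ≫ Spec.map _ ≫ _ = Spec.map _ ≫ Spec.map _ ≫ _
      rw [← Spec.map_comp_assoc, ← Spec.map_comp_assoc]
      exact congrArg (fun k => Spec.map k ≫ _) (CommRingCat.hom_ext
        (Ideal.quotientMap_comp_mk (J := K) (f := Ideal.Quotient.mk L) Ideal.le_comap_map)))
  have hκ : κ ≫ stA sq.str (sq.A ⧸ K) = stA str' ((sq.A ⧸ L) ⧸ K') ≫ c := Over.OverMorphism.ext (by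
    change Spec.map _ ≫ Spec.map _ = Spec.map _ ≫ Spec.map _
    rw [← Spec.map_comp, ← Spec.map_comp]
    exact congrArg Spec.map (CommRingCat.hom_ext
      (Ideal.quotientMap_comp_mk (J := K) (f := Ideal.Quotient.mk L) Ideal.le_comap_map)))
  let toJ : ptA sq.str (sq.A ⧸ K) ⟶ ptA sq.str (sq.A ⧸ J) :=
    hA sq.str (Ideal.Quotient.factorₐ sq.A (le_sup_right : J ≤ K))
  have htoJ : toJ ≫ stA sq.str (sq.A ⧸ J) = stA sq.str (sq.A ⧸ K) := hA_st _
  have hL : (yon S).map c ≫ l = (yon S).map c ≫ l' := by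
    refine UnivThick.eq_of_eq_on_quot HU K' hK' (by rw [Category.assoc, Category.assoc, h2, h2'])
      ((yon S).map (κ ≫ toJ) ≫ r) ?_ ?_
    · rw [← Functor.map_comp_assoc, ← hκ, Category.assoc, sqJ.w, ← Functor.map_comp_assoc, Category.assoc, htoJ]
    · rw [← Functor.map_comp_assoc, ← hκ, Functor.map_comp, Category.assoc, ← hK1, Category.assoc, sqJ.w,
        ← Functor.map_comp_assoc, ← Functor.map_comp_assoc, Category.assoc, htoJ]
  refine UnivThick.eq_of_eq_on_quot HU J hJ (h2.trans h2'.symm) r sqJ.w.symm ?_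
  have e : hA sq.str (Ideal.Quotient.factorₐ sq.A hLJ) ≫ stA sq.str (sq.A ⧸ L) = stA sq.str (sq.A ⧸ J) :=
    hA_st _
  have hc : (yon S).map (stA sq.str (sq.A ⧸ L)) ≫ l = (yon S).map (stA sq.str (sq.A ⧸ L)) ≫ l' := hL
  simp only [sqJ.w, ← e, Functor.map_comp, Category.assoc, hc]

end AlgSpLib

namespace AlgSpLib

variable {S : Scheme.{u}}

theorem isUnivFOThick_iff_affine_test {Z Z' X : Sp S} {h : Z ⟶ X} {i : Z ⟶ Z'} {h' : Z' ⟶ X}
    (hi : IsFOThickMor i) (w : i ≫ h' = h) :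
    IsUnivFOThick h i h' ↔
      ∀ (T T' : Over S) (j : T ⟶ T'), IsAffine T'.left → IsFOThickMor ((yon S).map j) →
        ∀ (a : (yon S).obj T ⟶ Z) (b : (yon S).obj T' ⟶ X), (yon S).map j ≫ b = a ≫ h →
          ∃! a' : (yon S).obj T' ⟶ Z', (yon S).map j ≫ a' = a ≫ i ∧ a' ≫ h' = b := by
  refine ⟨fun HU T T' j _ hj a b e => HU.2.2 (IsAlgSpace.yon_obj T) (IsAlgSpace.yon_obj T') _ a b hj e,
    fun H => ⟨hi, w, fun T T' _ hT' j a b hj e => ?_⟩⟩
  have hloc : ∀ sq : InfSq h', (∃ t, sq.top = t ≫ a ≫ i) → sq.HasUniqLift := by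
    rintro sq ⟨t, ht⟩
    have hj' : stA sq.str (sq.A ⧸ sq.I) = sq.j := Over.OverMorphism.ext rfl
    have := H sq.ptT sq.ptT' sq.j (inferInstanceAs (IsAffine (Spec (.of sq.A))))
      (hj' ▸ isFOThickMor_stA sq.str sq.I sq.sq_zero) (t ≫ a) sq.bot
      (by rw [← sq.comm, ht]; simp only [Category.assoc, w])
    rwa [Category.assoc, ← ht] at this
  have e' : (a ≫ i) ≫ h' = j ≫ b := by rw [Category.assoc, w, e]
  obtain ⟨l, hl⟩ := exists_lift_of_local hj hT' (a ≫ i) b e' hloc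
  exact ⟨l, hl, fun l' hl' => lift_unique_of_local hj hT' (a ≫ i) b hloc hl'.1 hl'.2 hl.1 hl.2⟩

end AlgSpLib
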