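import Groth.Agent.AlgSpLib.UnivThick
/-!
# Base change of first order thickenings and of universal first order thickenings
-/

set_option autoImplicit false
universe u
open CategoryTheory CategoryTheory.Limits AlgebraicGeometry Opposite AlgSp Topology

namespace AlgSpLib

variable {S : Scheme.{u}}

/-- A thickening whose pullbacks to affine schemes have square-zero ideals is of first order. -/
theorem isFOThickMor_of_data {F G : Sp S} {j : F ⟶ G} (hj : IsThickMor j)
    (hdata : ∀ {A : Type u} [CommRing A] {str : Spec (CommRingCat.of A) ⟶ S}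
      (m : (yon S).obj (Over.mk str) ⟶ G),
      ∃ I : Ideal A, I ^ 2 = ⊥ ∧ ∃ r : (yon S).obj (ptA str (A ⧸ I)) ⟶ F,
        IsPullback r ((yon S).map (stA str (A ⧸ I))) j m) : IsFOThickMor j := by
  refine ⟨hj, fun V W b fst snd hV hb sqW => ?_⟩
  have : IsAffine V.left := hV
  let str : Spec Γ(V.left, ⊤) ⟶ S := V.left.isoSpec.inv ≫ V.hom
  let ε : Over.mk str ⟶ V := Over.homMk V.left.isoSpec.inv rfl
  have : IsIso ((Over.forget S).map ε) := inferInstanceAs (IsIso V.left.isoSpec.inv)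
  have : IsIso ε := isIso_of_reflects_iso ε (Over.forget S)
  obtain ⟨I, hI, r, sqI⟩ := hdata ((yon S).map ε ≫ b)
  -- compare with the given pullback
  have sqW' : IsPullback fst ((yon S).map (snd ≫ inv ε)) j ((yon S).map ε ≫ b) := by
    refine sqW.of_iso (Iso.refl _) (Iso.refl _) ((yon S).mapIso (asIso ε).symm) (Iso.refl _)
      (by simp) ?_ (by simp) ?_
    · simp
    · simp [← Functor.map_comp_assoc]
  let iso := sqW'.isoIsPullback _ _ sqI
  obtain ⟨σ, hσ⟩ := (yon S).map_surjective iso.hom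
  have hs : σ ≫ stA str (Γ(V.left, ⊤) ⧸ I) = snd ≫ inv ε := (yon S).map_injective (by
    rw [Functor.map_comp, hσ]; exact sqW'.isoIsPullback_hom_snd _ _ sqI)
  have : IsIso σ := by
    have : IsIso ((yon S).map σ) := by rw [hσ]; infer_instance
    exact isIso_of_reflects_iso σ (yon S)
  have hfo := AffLocT.yon_map (inferInstanceAs (IsAffine (Spec Γ(V.left, ⊤)))) (isFOThickMor_stA str I hI).2
  have e : snd.left = σ.left ≫ (stA str (Γ(V.left, ⊤) ⧸ I)).left ≫ ε.left := by
    rw [← Over.comp_left, ← Over.comp_left, ← Category.assoc, hs, Category.assoc, IsIso.inv_hom_id,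
      Category.comp_id]
  have : IsIso σ.left := inferInstanceAs (IsIso ((Over.forget S).map σ))
  have : IsClosedImmersion (stA str (Γ(V.left, ⊤) ⧸ I)).left := (thick_quotient _ I hI).1
  have : QuasiCompact ((stA str (Γ(V.left, ⊤) ⧸ I)).left ≫ ε.left) := by
    have : IsIso ε.left := inferInstanceAs (IsIso V.left.isoSpec.inv)
    infer_instance
  unfold sqZero at hfo ⊢
  rw [e, Scheme.Hom.ker_comp_of_isIso]
  -- transport the square-zero condition along the isomorphism of the target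
  refine Scheme.IdealSheafData.ext_of_isAffine ?_
  rw [Scheme.IdealSheafData.ideal_mul, Pi.mul_apply, Scheme.Hom.ker_apply]
  let q := (stA str (Γ(V.left, ⊤) ⧸ I)).left
  change RingHom.ker (q ≫ ε.left).appTop.hom * RingHom.ker (q ≫ ε.left).appTop.hom = ⊥
  refine le_bot_iff.1 (Ideal.mul_le.2 fun x hx y hy => ?_)
  have : IsAffine (Over.mk str).left := inferInstanceAs (IsAffine (Spec Γ(V.left, ⊤)))
  have hk := congrArg (fun I => Scheme.IdealSheafData.ideal I ⟨⊤, isAffineOpen_top _⟩) hfo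
  simp only [Scheme.IdealSheafData.ideal_mul, Pi.mul_apply, Scheme.Hom.ker_apply,
    Scheme.IdealSheafData.ideal_bot, Pi.bot_apply] at hk
  have key : ∀ z, z ∈ RingHom.ker (q ≫ ε.left).appTop.hom → ε.left.appTop z ∈ RingHom.ker q.appTop.hom :=
    fun z hz => hz
  have h2 := Ideal.mul_mem_mul (key _ hx) (key _ hy)
  rw [show RingHom.ker q.appTop.hom * RingHom.ker q.appTop.hom = ⊥ from hk, Ideal.mem_bot, ← map_mul] at h2
  rw [Ideal.mem_bot]
  have : IsIso (V.left.isoSpec.inv).appTop := inferInstanceAs (IsIso (V.left.isoSpec.inv.app ⊤))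
  exact (ConcreteCategory.bijective_of_isIso V.left.isoSpec.inv.appTop).1 (h2.trans (map_zero _).symm)

/-- First order thickenings are stable under base change. -/
theorem isFOThickMor_of_isPullback {F G F' G' : Sp S} {p : F' ⟶ F} {j' : F' ⟶ G'} {j : F ⟶ G} {g : G' ⟶ G}
    (sq : IsPullback p j' j g) (hG : IsAlgSpace G) (hj : IsFOThickMor j) : IsFOThickMor j' := by
  refine isFOThickMor_of_data (repWith_of_isPullback sq hj.1) fun {A} _ {str} m => ?_
  obtain ⟨I, hI, r, sqI⟩ := exists_data_any hj hG (m ≫ g)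
  refine ⟨I, hI, sq.lift r ((yon S).map (stA str (A ⧸ I)) ≫ m) (by rw [sqI.w, Category.assoc]),
    IsPullback.of_right ?_ (sq.lift_snd _ _ _).symm.symm sq⟩
  rw [sq.lift_fst]
  exact sqI

theorem isUnivFOThick_etale_baseChange {Z Y Y' Z' X : Sp S} (hY' : IsAlgSpace Y') (hZ' : IsAlgSpace Z')
    {e : Z ⟶ Y} {hY : Y ⟶ X} {iY : Y ⟶ Y'} {g : Y' ⟶ X} (HU : IsUnivFOThick hY iY g)
    {iZ : Z ⟶ Z'} {e' : Z' ⟶ Y'} (he' : IsEtaleMor e') (sq : IsPullback e iZ iY e') :
    IsUnivFOThick (e ≫ hY) iZ (e' ≫ g) := by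
  refine ⟨isFOThickMor_of_isPullback sq hY' HU.1,
    by rw [← Category.assoc, ← sq.w, Category.assoc, HU.2.1], fun T T' hT hT' j a b hj w => ?_⟩
  obtain ⟨y, ⟨hy1, hy2⟩, huy⟩ := HU.2.2 hT hT' j (a ≫ e) b hj (by rw [w, Category.assoc])
  have hfe := isFormallyEtaleMor_of_isEtaleMor hZ' hY' he'
  obtain ⟨z, ⟨hz1, hz2⟩, huz⟩ := existsUnique_lift_along_space_thickening hfe hj hT' (a ≫ iZ) y
    (by rw [hy1, Category.assoc, Category.assoc, sq.w])
  refine ⟨z, ⟨hz1, by rw [← Category.assoc, hz2, hy2]⟩, fun z' hz' => huz z' ⟨hz'.1, huy _ ⟨?_, ?_⟩⟩⟩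
  · rw [← Category.assoc, hz'.1, Category.assoc, Category.assoc, sq.w]
  · rw [Category.assoc]; exact hz'.2

theorem isUnivFOThick_baseChange {Z X W Y W' P : Sp S} (hW' : IsAlgSpace W') {h : Z ⟶ X} {f : Z ⟶ W}
    {g : X ⟶ Y} {h' : W ⟶ Y} (sq : IsPullback h f g h') {iW : W ⟶ W'} {gW : W' ⟶ Y}
    (HU : IsUnivFOThick h' iW gW) {pX : P ⟶ X} {pW : P ⟶ W'} (sq' : IsPullback pX pW g gW)
    {iZ : Z ⟶ P} (w1 : iZ ≫ pX = h) (w2 : iZ ≫ pW = f ≫ iW) : IsUnivFOThick h iZ pX := by
  have sqZ : IsPullback f iZ iW pW := by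
    have hb : IsPullback (iZ ≫ pX) f g (iW ≫ gW) := by rw [w1, HU.2.1]; exact sq
    exact (IsPullback.of_right hb w2 sq').flip
  refine ⟨isFOThickMor_of_isPullback sqZ hW' HU.1, w1, fun T T' hT hT' j a b hj w => ?_⟩
  obtain ⟨y, ⟨hy1, hy2⟩, huy⟩ := HU.2.2 hT hT' j (a ≫ f) (b ≫ g) hj
    (by rw [← Category.assoc, w, Category.assoc, Category.assoc, sq.w])
  refine ⟨sq'.lift b y hy2.symm, ⟨sq'.hom_ext ?_ ?_, sq'.lift_fst _ _ _⟩, fun z hz => sq'.hom_ext ?_ ?_⟩
  · rw [Category.assoc, sq'.lift_fst, w, Category.assoc, w1]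
  · rw [Category.assoc, sq'.lift_snd, hy1, Category.assoc, Category.assoc, w2]
  · rw [sq'.lift_fst]; exact hz.2
  · rw [sq'.lift_snd]
    refine huy _ ⟨?_, ?_⟩
    · rw [← Category.assoc, hz.1, Category.assoc, Category.assoc, w2]
    · rw [Category.assoc, ← sq'.w, ← Category.assoc, hz.2]

end AlgSpLib

namespace AlgSpLib

variable {S : Scheme.{u}}

/-- A map from the subscheme of a square lifts etale locally through an etale surjection of spaces. -/
theorem exists_lift_etale_surjective {F G Z Y : Sp S} {f : F ⟶ G} (sq : InfSq f) (hZ : IsAlgSpace Z)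
    (hY : IsAlgSpace Y) {e : Z ⟶ Y} (he : IsEtaleMor e) (hes : IsSurjectiveMor e)
    (t : (yon S).obj sq.ptT ⟶ Y) (z : sq.ptT'.left) :
    ∃ (B : Type u) (_ : CommRing B) (φ : sq.A →+* B), φ.Etale ∧ z ∈ Set.range (pullSqHom sq φ).left ∧
      ∃ (r : (pullSq sq φ).ptT ⟶ sq.ptT) (az : (yon S).obj (pullSq sq φ).ptT ⟶ Z),
        r ≫ sq.j = (pullSq sq φ).j ≫ pullSqHom sq φ ∧ (pullSq sq φ).top = (yon S).map r ≫ sq.top ∧
          az ≫ e = (yon S).map r ≫ t := by
  have sqP := IsPullback.of_hasPullback e t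
  have hP := isAlgSpace_pullback hZ (IsAlgSpace.yon_obj sq.ptT) hY e t
  have hps : Function.Surjective (Points.map (pullback.snd e t)) :=
    map_surjective_of_isPullback sqP hes
  obtain ⟨U, a, ha, has⟩ := hP.atlas
  obtain ⟨c, hc⟩ := (yon S).map_surjective (a ≫ pullback.snd e t)
  have : Etale c.left := etale_left (by
    rw [hc]
    exact isEtaleMor_of_isPullback hZ hY (IsAlgSpace.yon_obj _) sqP he a ha)
  have : Surjective c.left := ⟨fun x => by
    obtain ⟨p, hp⟩ := hps (Points.ofScheme sq.ptT x)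
    obtain ⟨q, rfl⟩ := map_surjective_of_repWith has p
    obtain ⟨w, rfl⟩ := (Points.schemeEquiv U).surjective q
    refine ⟨w, (Points.schemeEquiv sq.ptT).injective ((Points.map_yon_map_apply c w).symm.trans ?_)⟩
    rw [hc, Points.map_comp]
    exact hp⟩
  -- etale neighbourhood
  obtain ⟨B, _, φ, hφ, hz, k, hk⟩ := exists_etale_refine
    ({ A := sq.A, I := sq.I, sq_zero := sq.sq_zero, str := sq.str, top := 𝟙 _, bot := 𝟙 _,
       comm := by simp } : InfSq ((yon S).map sq.j)) c z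
  refine ⟨B, inferInstance, φ, hφ, hz, k ≫ c, (yon S).map k ≫ a ≫ pullback.fst e t, ?_, ?_, ?_⟩
  · refine (yon S).map_injective ?_
    have h := congrArg (· ≫ (yon S).map sq.j) hk
    simp only [Category.assoc, Category.id_comp, ← Functor.map_comp] at h
    simp only [Category.assoc] at h ⊢
    rw [h]
    refine congrArg (yon S).map (Over.OverMorphism.ext ?_)
    change Spec.map _ ≫ Spec.map _ = Spec.map _ ≫ Spec.map _
    rw [← Spec.map_comp, ← Spec.map_comp, ← CommRingCat.ofHom_comp, ← CommRingCat.ofHom_comp,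
      Ideal.quotientMap_comp_mk]
  · have h := congrArg (· ≫ sq.top) hk
    simp only [Category.assoc, Category.id_comp] at h
    rw [Functor.map_comp, Category.assoc]
    exact h.symm
  · rw [Category.assoc, Category.assoc, pullback.condition, ← Category.assoc a, ← hc, Functor.map_comp,
      Category.assoc]

theorem isUnivFOThick_descend {Z Y Z' Y' X : Sp S} (hZ : IsAlgSpace Z) (hY : IsAlgSpace Y)
    (hZ' : IsAlgSpace Z') (hY' : IsAlgSpace Y') {e : Z ⟶ Y} (he : IsEtaleMor e) (hes : IsSurjectiveMor e)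
    {h : Y ⟶ X} {iZ : Z ⟶ Z'} {iY : Y ⟶ Y'} (hiY : IsFOThickMor iY) {f' : Z' ⟶ Y'} (hf' : IsEtaleMor f')
    (w : iZ ≫ f' = e ≫ iY) {g : Y' ⟶ X} (w' : iY ≫ g = h) (HU : IsUnivFOThick (e ≫ h) iZ (f' ≫ g)) :
    IsUnivFOThick h iY g := by
  have hfe := isFormallyEtaleMor_of_isEtaleMor hZ' hY' hf'
  have huniq : ∀ sq : InfSq g, (∃ t, sq.top = t ≫ iY) → sq.HasUniq := by
    rintro sq ⟨t, ht⟩ y y' h1 h2 h1' h2'
    choose B _ φ hφ hz r az hr htop haz using exists_lift_etale_surjective sq hZ hY he hes t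
    have hce : ∀ z, Etale (pullSqHom sq (φ z)).left := fun z =>
      (HasRingHomProperty.Spec_iff (P := @Etale)).2 (hφ z)
    refine hom_ext_of_cover (fun z => pullSqHom sq (φ z)) (fun z => have := hce z; inferInstance)
      (fun z => have := hce z; inferInstance) (fun z => ⟨z, hz z⟩) fun z => ?_
    let sq' := pullSq sq (φ z)
    have hw : ∀ yy : (yon S).obj sq.ptT' ⟶ Y', (yon S).map sq.j ≫ yy = sq.top →
        (az z ≫ iZ) ≫ f' = (yon S).map sq'.j ≫ (yon S).map (pullSqHom sq (φ z)) ≫ yy := fun yy hyy => by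
      rw [Category.assoc, w, ← Category.assoc, haz, Category.assoc, ← ht, ← hyy, ← Functor.map_comp_assoc,
        hr, Functor.map_comp, Category.assoc]
    let s₁ : InfSq f' :=
    { A := sq'.A, I := sq'.I, sq_zero := sq'.sq_zero, str := sq'.str, top := az z ≫ iZ,
      bot := (yon S).map (pullSqHom sq (φ z)) ≫ y, comm := hw y h1 }
    let s₂ : InfSq f' :=
    { A := sq'.A, I := sq'.I, sq_zero := sq'.sq_zero, str := sq'.str, top := az z ≫ iZ,
      bot := (yon S).map (pullSqHom sq (φ z)) ≫ y', comm := hw y' h1' }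
    obtain ⟨z₁, hz₁, hz₁'⟩ := (hfe s₁).exists
    obtain ⟨z₂, hz₂, hz₂'⟩ := (hfe s₂).exists
    have hj' : stA sq'.str (sq'.A ⧸ sq'.I) = sq'.j := Over.OverMorphism.ext rfl
    have hb : ∀ (zz : (yon S).obj sq'.ptT' ⟶ Z') (yy : (yon S).obj sq.ptT' ⟶ Y'),
        zz ≫ f' = (yon S).map (pullSqHom sq (φ z)) ≫ yy → yy ≫ g = sq.bot →
        zz ≫ f' ≫ g = (yon S).map (pullSqHom sq (φ z)) ≫ sq.bot := fun zz yy e1 e2 => by
      rw [← Category.assoc, e1, Category.assoc, e2]
    have key : z₁ = z₂ := by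
      refine (HU.2.2 (IsAlgSpace.yon_obj _) (IsAlgSpace.yon_obj _) _ (az z) _
        (hj' ▸ isFOThickMor_stA sq'.str sq'.I sq'.sq_zero) ?_).unique
          ⟨hz₁, hb z₁ y hz₁' h2⟩ ⟨hz₂, hb z₂ y' hz₂' h2'⟩
      rw [← Category.assoc (az z), haz, Category.assoc, ← w', ← Category.assoc t, ← ht, sq.comm,
        ← Functor.map_comp_assoc, ← Functor.map_comp_assoc, hr]
    exact hz₁'.symm.trans ((congrArg (· ≫ f') key).trans hz₂')
  refine (isUnivFOThick_iff_affine_test hiY w').2 fun T T' j hT' hj a b e1 => ?_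
  have hloc : ∀ sq : InfSq g, (∃ t, sq.top = t ≫ a ≫ iY) → sq.HasUniqLift := by
    rintro sq ⟨t, ht⟩
    refine hasUniqLift_of_local' sq ?_ fun z => ?_
    · rintro sq' ⟨r, hr⟩
      exact huniq sq' ⟨r ≫ t ≫ a, by rw [hr, ht]; simp only [Category.assoc]⟩
    · obtain ⟨B, _, φ, hφ, hz, r, az, hr, htop, haz⟩ := exists_lift_etale_surjective sq hZ hY he hes (t ≫ a) z
      let sq' := pullSq sq φ
      have hj' : stA sq'.str (sq'.A ⧸ sq'.I) = sq'.j := Over.OverMorphism.ext rfl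
      obtain ⟨zl, hl1, hl2⟩ := (HU.2.2 (IsAlgSpace.yon_obj _) (IsAlgSpace.yon_obj _) _ az sq'.bot
        (hj' ▸ isFOThickMor_stA sq'.str sq'.I sq'.sq_zero) (by
          rw [← Category.assoc az, haz, ← sq'.comm, htop, ht, ← w']
          simp only [Category.assoc])).exists
      refine ⟨B, inferInstance, φ, hφ, hz, zl ≫ f', ?_, by rw [Category.assoc]; exact hl2⟩
      rw [← Category.assoc, hl1, Category.assoc, w, ← Category.assoc, haz, htop, ht]
      simp only [Category.assoc]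
  have e' : (a ≫ iY) ≫ g = (yon S).map j ≫ b := by rw [Category.assoc, w', e1]
  obtain ⟨l, hl⟩ := exists_lift_of_local hj (IsAlgSpace.yon_obj T') (a ≫ iY) b e' hloc
  exact ⟨l, hl, fun l' hl' =>
    lift_unique_of_local hj (IsAlgSpace.yon_obj T') (a ≫ iY) b hloc hl'.1 hl'.2 hl.1 hl.2⟩

end AlgSpLib
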