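import Groth.Agent.RichLib.UnramifiedLocus

/-!
# The unramified locus under base change, pointwise
-/

set_option autoImplicit false
universe u

open TensorProduct Topology CategoryTheory CategoryTheory.Limits AlgebraicGeometry
open RichLib.UnrLocus

namespace AlgSpLib

theorem exists_preimage_openImmersion {P A B C : Scheme.{u}} {a : P ⟶ A} {b : P ⟶ B} {c : A ⟶ C} {j : B ⟶ C}
    (sq : IsPullback a b c j) [IsOpenImmersion j] (p : A) (hp : c.base p ∈ Set.range j.base) :
    ∃ q : P, a.base q = p := by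
  have h1 : p ∈ Set.range (pullback.fst c j).base := by rw [Scheme.Pullback.range_fst]; exact hp
  obtain ⟨q, hq⟩ := h1
  exact ⟨sq.isoPullback.inv.base q, by rw [← Scheme.Hom.comp_apply, sq.isoPullback_inv_fst]; exact hq⟩

theorem mem_locus_of_mem_pullback {P X Y T : Scheme.{u}} {fst : P ⟶ X} {snd : P ⟶ T}
    {f : X ⟶ Y} {g : T ⟶ Y} (h : IsPullback fst snd f g) [LocallyOfFiniteType f]
    (z : P) (hz : z ∈ locus snd) : fst.base z ∈ locus f := by
  have hfg : f.base (fst.base z) = g.base (snd.base z) := by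
    rw [← Scheme.Hom.comp_apply, h.w, Scheme.Hom.comp_apply]
  obtain ⟨_, ⟨U : Y.Opens, hU, rfl⟩, hxU, -⟩ := Y.isBasis_affineOpens.exists_subset_of_mem_open
    (Set.mem_univ (f.base (fst.base z))) isOpen_univ
  obtain ⟨_, ⟨V : X.Opens, hV, rfl⟩, hxV, hVU⟩ := X.isBasis_affineOpens.exists_subset_of_mem_open
    hxU (f ⁻¹ᵁ U).2
  obtain ⟨_, ⟨W : T.Opens, hW, rfl⟩, hzW, hWU⟩ := T.isBasis_affineOpens.exists_subset_of_mem_open
    (show snd.base z ∈ g ⁻¹ᵁ U by show g.base (snd.base z) ∈ U; rw [← hfg]; exact hxU) (g ⁻¹ᵁ U).2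
  letI := (f.appLE U V hVU).hom.toAlgebra
  letI := (g.appLE U W hWU).hom.toAlgebra
  haveI : Algebra.FiniteType Γ(Y, U) Γ(X, V) :=
    HasRingHomProperty.appLE (P := @LocallyOfFiniteType) f ‹_› ⟨U, hU⟩ ⟨V, hV⟩ hVU
  have hφ := hU.SpecMap_appLE_fromSpec f hV hVU
  have hψ := hU.SpecMap_appLE_fromSpec g hW hWU
  obtain ⟨v, hv⟩ : fst.base z ∈ Set.range hV.fromSpec.base := by rw [hV.range_fromSpec]; exact hxV
  obtain ⟨w, hw⟩ : snd.base z ∈ Set.range hW.fromSpec.base := by rw [hW.range_fromSpec]; exact hzW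
  let α := Spec.map (CommRingCat.ofHom (algebraMap Γ(Y, U) Γ(X, V)))
  let β := Spec.map (CommRingCat.ofHom (algebraMap Γ(Y, U) Γ(T, W)))
  have hαβ : β.base w = α.base v := hU.fromSpec.isOpenEmbedding.injective (by
    show (β ≫ hU.fromSpec).base w = (α ≫ hU.fromSpec).base v
    erw [hψ, hφ]
    simp only [Scheme.Hom.comp_apply]
    erw [hw, hv]
    exact hfg.symm)
  let e := pullbackSpecIso Γ(Y, U) Γ(T, W) Γ(X, V)
  have h0 : IsPullback (pullback.fst β α) (pullback.snd β α) (β ≫ hU.fromSpec) (α ≫ hU.fromSpec) :=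
    IsPullback.of_isLimit (pullbackIsPullbackOfCompMono β α hU.fromSpec)
  erw [hφ, hψ] at h0
  let k : pullback β α ⟶ pullback (hW.fromSpec ≫ g) f :=
    pullback.lift (pullback.fst β α) (pullback.snd β α ≫ hV.fromSpec) (by rw [Category.assoc]; exact h0.w)
  have hk1 : k ≫ pullback.fst (hW.fromSpec ≫ g) f = pullback.fst β α := pullback.lift_fst _ _ _
  have hk2 : k ≫ pullback.snd (hW.fromSpec ≫ g) f = pullback.snd β α ≫ hV.fromSpec := pullback.lift_snd _ _ _
  have hl : IsPullback k (pullback.snd β α) (pullback.snd (hW.fromSpec ≫ g) f) hV.fromSpec :=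
    IsPullback.of_right (by rw [hk1]; exact h0) hk2 (IsPullback.of_hasPullback _ _)
  haveI : IsOpenImmersion k := MorphismProperty.of_isPullback hl.flip inferInstance
  let m : pullback (hW.fromSpec ≫ g) f ⟶ P := h.lift (pullback.snd _ _)
    (pullback.fst _ _ ≫ hW.fromSpec) (by rw [Category.assoc]; exact pullback.condition.symm)
  haveI : IsOpenImmersion m := MorphismProperty.of_isPullback (IsPullback.of_right (h₁₁ := m) (h₁₂ := fst)
    (v₁₁ := pullback.fst _ _) (v₁₂ := snd) (h₂₁ := hW.fromSpec)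
    (by rw [h.lift_fst]; exact (IsPullback.of_hasPullback _ _).flip) (h.lift_snd _ _ _) h).flip inferInstance
  have sqm : IsPullback m (pullback.fst (hW.fromSpec ≫ g) f) snd hW.fromSpec :=
    IsPullback.of_right (h₁₁ := m) (h₁₂ := fst) (v₁₁ := pullback.fst _ _) (v₁₂ := snd) (h₂₁ := hW.fromSpec)
      (by rw [h.lift_fst]; exact (IsPullback.of_hasPullback _ _).flip) (h.lift_snd _ _ _) h
  have hm1 : m ≫ snd = pullback.fst _ _ ≫ hW.fromSpec := h.lift_snd _ _ _
  have hm2 : m ≫ fst = pullback.snd _ _ := h.lift_fst _ _ _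
  obtain ⟨p, hp⟩ := exists_preimage_openImmersion sqm z ⟨w, hw⟩
  obtain ⟨q, hq⟩ := exists_preimage_openImmersion hl p ⟨v, by
    rw [← hm2, Scheme.Hom.comp_apply]; erw [hp]; exact hv⟩
  have hq2 : (pullback.snd β α).base q = v := hV.fromSpec.isOpenEmbedding.injective (by
    rw [← Scheme.Hom.comp_apply, ← hk2, Scheme.Hom.comp_apply, hq, ← hm2, Scheme.Hom.comp_apply]
    erw [hp]; exact hv.symm)
  have hu : q ∈ locus (pullback.fst β α) := by
    rw [← hk1, mem_locus_comp_left_iff, hq, ← mem_locus_comp_right_iff _ hW.fromSpec, ← hm1,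
      mem_locus_comp_left_iff]
    erw [hp]
    exact hz
  have hloc : e.hom.base q ∈ locus (Spec.map (CommRingCat.ofHom
      (algebraMap Γ(T, W) (Γ(T, W) ⊗[Γ(Y, U)] Γ(X, V))))) := by
    rw [← mem_locus_comp_left_iff]
    have : e.hom ≫ Spec.map (CommRingCat.ofHom (algebraMap Γ(T, W) (Γ(T, W) ⊗[Γ(Y, U)] Γ(X, V)))) =
        pullback.fst β α := pullbackSpecIso_hom_fst _ _ _
    rw [this]; exact hu
  have h2 := (mem_locus_spec_iff (e.hom.base q)).mp hloc
  rw [mem_unramifiedLocus_tensor_iff, ← mem_locus_spec_iff] at h2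
  have h3 : PrimeSpectrum.comap (Algebra.TensorProduct.includeRight.toRingHom :
      Γ(X, V) →+* Γ(T, W) ⊗[Γ(Y, U)] Γ(X, V)) (e.hom.base q) = v := by
    rw [← hq2]
    show (e.hom ≫ Spec.map (CommRingCat.ofHom Algebra.TensorProduct.includeRight.toRingHom)).base q = _
    erw [pullbackSpecIso_hom_snd]
  replace h2 : v ∈ locus α := h3 ▸ h2
  rw [← hv, ← mem_locus_comp_left_iff]
  erw [← hφ, mem_locus_comp_right_iff]
  exact h2

theorem mem_locus_baseChange_iff {P X Y T : Scheme.{u}} {fst : P ⟶ X} {snd : P ⟶ T}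
    {f : X ⟶ Y} {g : T ⟶ Y} (h : IsPullback fst snd f g) [LocallyOfFiniteType f] (z : P) :
    z ∈ locus snd ↔ fst.base z ∈ locus f := by
  refine ⟨mem_locus_of_mem_pullback h z, fun ⟨V, hzV, hV⟩ => ⟨fst ⁻¹ᵁ V, hzV, ?_⟩⟩
  exact MorphismProperty.of_isPullback ((isPullback_morphismRestrict fst V).flip.paste_horiz h.flip).flip hV

end AlgSpLib
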