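import Mathlib.RingTheory.Valuation.LocalSubring
import Mathlib.RingTheory.MvPolynomial.Basic
import Mathlib.RingTheory.Localization.AtPrime.Basic
import Mathlib.RingTheory.Localization.FractionRing

/-!
# Composite valuations
-/

set_option autoImplicit false
set_option backward.isDefEq.respectTransparency false
set_option backward.isDefEq.respectTransparency.types false

universe u

open IsLocalRing

namespace AlgSpLib

/-- A valuation ring dominating a local ring, with residue field containing a given extension. -/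
theorem exists_valuation_residue {O L k : Type u} [CommRing O] [IsLocalRing O] [Field L] [Field k]
    (ρ : O →+* L) (χ : O →+* k) [IsLocalHom χ] :
    ∃ (L' : Type u) (_ : Field L') (ι : L →+* L') (B : ValuationSubring L') (σ : O →+* B)
      (ιk : k →+* ResidueField B), B.subtype.comp σ = ι.comp ρ ∧ (residue B).comp σ = ιk.comp χ := by
  classical
  have hρ : RingHom.ker ρ.rangeRestrict ≤ RingHom.ker χ := fun x hx => by
    rw [RingHom.mem_ker] at hx ⊢
    by_contra hne
    have := ((isUnit_of_map_unit χ x (isUnit_iff_ne_zero.2 hne)).map ρ).ne_zero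
    exact this (congrArg Subtype.val hx)
  let χ₀ : ρ.range →+* k :=
    RingHom.liftOfSurjective ρ.rangeRestrict ρ.rangeRestrict_surjective ⟨χ, hρ⟩
  have hχ₀ : χ₀.comp ρ.rangeRestrict = χ := RingHom.liftOfSurjective_comp _ _ _
  let ev : MvPolynomial k ρ.range →+* k := MvPolynomial.eval₂Hom χ₀ id
  have hev : Function.Surjective ev := fun a => ⟨.X a, MvPolynomial.eval₂Hom_X' _ _ _⟩
  let M := RingHom.ker ev
  haveI : M.IsMaximal := RingHom.ker_isMaximal_of_surjective ev hev
  obtain ⟨L', _, i, hi⟩ : ∃ (L' : Type u) (_ : Field L') (i : MvPolynomial k L →+* L'), Function.Injective i :=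
    ⟨FractionRing (MvPolynomial k L), inferInstance, algebraMap _ _, IsFractionRing.injective _ _⟩
  let ι : L →+* L' := i.comp MvPolynomial.C
  let g : MvPolynomial k ρ.range →+* L' :=
    i.comp (MvPolynomial.map ρ.range.subtype)
  have hg : Function.Injective g :=
    fun x y h => MvPolynomial.map_injective ρ.range.subtype Subtype.val_injective
      (hi h)
  let g' : Localization.AtPrime M →+* L' := IsLocalization.lift (M := M.primeCompl) (g := g)
    fun y => isUnit_iff_ne_zero.2 fun h => y.2 (by rw [hg (h.trans (map_zero g).symm)]; exact M.zero_mem)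
  obtain ⟨B, hB, hloc⟩ := IsLocalRing.exists_factor_valuationRing (R := Localization.AtPrime M) g'
  let j : MvPolynomial k ρ.range →+* B :=
    (g'.codRestrict B.toSubring hB).comp (algebraMap _ (Localization.AtPrime M))
  have hj : RingHom.ker ev ≤ RingHom.ker ((residue B).comp j) := fun x hx => by
    rw [RingHom.mem_ker, RingHom.comp_apply, residue_eq_zero_iff, mem_maximalIdeal, mem_nonunits_iff]
    intro hu
    have h2 := isUnit_of_map_unit (g'.codRestrict B.toSubring hB) (algebraMap _ (Localization.AtPrime M) x) hu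
    exact ((IsLocalization.AtPrime.isUnit_to_map_iff _ M x).1 h2) hx
  let ιk : k →+* ResidueField B := RingHom.liftOfSurjective ev hev ⟨(residue B).comp j, hj⟩
  refine ⟨L', inferInstance, ι, B, j.comp (MvPolynomial.C.comp ρ.rangeRestrict), ιk, ?_, ?_⟩
  · ext o
    change g' (algebraMap _ _ (MvPolynomial.C (ρ.rangeRestrict o))) = ι (ρ o)
    rw [IsLocalization.lift_eq]
    simp [g, ι]
  · ext o
    have := RingHom.congr_fun (RingHom.liftOfSurjective_comp ev hev ⟨(residue B).comp j, hj⟩)
      (MvPolynomial.C (ρ.rangeRestrict o))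
    rw [RingHom.comp_apply] at this
    rw [show ev (MvPolynomial.C (ρ.rangeRestrict o)) = χ o from
      (MvPolynomial.eval₂Hom_C _ _ _).trans (RingHom.congr_fun hχ₀ o)] at this
    exact this.symm

variable {L : Type u} [Field L]

/-- The composite of a valuation subring with one of its residue field. -/
def compositeVal (B : ValuationSubring L) (A : ValuationSubring (ResidueField B)) : ValuationSubring L where
  toSubring := (A.toSubring.comap (residue B)).map B.subtype
  mem_or_inv_mem' x := by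
    rcases eq_or_ne x 0 with rfl | hx
    · exact Or.inl (Subring.zero_mem _)
    by_cases h1 : x ∈ B
    · by_cases h2 : x⁻¹ ∈ B
      · have hu : residue B ⟨x, h1⟩ * residue B ⟨x⁻¹, h2⟩ = 1 := by
          rw [← map_mul, ← map_one (residue B)]
          exact congrArg _ (Subtype.ext (mul_inv_cancel₀ hx))
        rcases A.mem_or_inv_mem (residue B ⟨x, h1⟩) with h | h
        · exact Or.inl ⟨⟨x, h1⟩, h, rfl⟩
        · rw [inv_eq_of_mul_eq_one_right hu] at h
          exact Or.inr ⟨⟨x⁻¹, h2⟩, h, rfl⟩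
      · refine Or.inl ⟨⟨x, h1⟩, ?_, rfl⟩
        have : residue B ⟨x, h1⟩ = 0 := by
          rw [residue_eq_zero_iff, mem_maximalIdeal, mem_nonunits_iff]
          intro hu
          obtain ⟨y, hy⟩ := isUnit_iff_exists_inv.1 hu
          have : x * (y : L) = 1 := congrArg Subtype.val hy
          exact h2 (inv_eq_of_mul_eq_one_right this ▸ y.2)
        change residue B ⟨x, h1⟩ ∈ A
        rw [this]; exact A.zero_mem
    · refine Or.inr ⟨⟨x⁻¹, (B.mem_or_inv_mem x).resolve_left h1⟩, ?_, rfl⟩
      have : residue B ⟨x⁻¹, (B.mem_or_inv_mem x).resolve_left h1⟩ = 0 := by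
        rw [residue_eq_zero_iff, mem_maximalIdeal, mem_nonunits_iff]
        intro hu
        obtain ⟨y, hy⟩ := isUnit_iff_exists_inv.1 hu
        have : x⁻¹ * (y : L) = 1 := congrArg Subtype.val hy
        have h3 := inv_eq_of_mul_eq_one_right this
        rw [inv_inv] at h3
        exact h1 (h3 ▸ y.2)
      change residue B ⟨x⁻¹, _⟩ ∈ A
      rw [this]; exact A.zero_mem

theorem mem_compositeVal {B : ValuationSubring L} {A : ValuationSubring (ResidueField B)} {x : L} :
    x ∈ compositeVal B A ↔ ∃ h : x ∈ B, residue B ⟨x, h⟩ ∈ A :=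
  ⟨fun ⟨y, hy, e⟩ => e ▸ ⟨y.2, hy⟩, fun ⟨h, hA⟩ => ⟨⟨x, h⟩, hA, rfl⟩⟩

/-- An extension of a composite valuation is again composite. -/
theorem exists_composite_extension (B : ValuationSubring L) (A : ValuationSubring (ResidueField B))
    {L' : Type u} [Field L'] (ι : L →+* L') {C' : Type u} [CommRing C'] [IsDomain C'] [ValuationRing C']
    [Algebra C' L'] [IsFractionRing C' L'] (φ : compositeVal B A →+* C') [IsLocalHom φ]
    (hφ : (algebraMap C' L').comp φ = ι.comp (compositeVal B A).subtype) :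
    ∃ (B' : ValuationSubring L') (m : C' →+* B') (n : B →+* B') (A' : ValuationSubring (ResidueField B'))
      (q : C' →+* A') (μ : ResidueField B →+* ResidueField B') (α : A →+* A'),
      B'.subtype.comp m = algebraMap C' L' ∧ B'.subtype.comp n = ι.comp B.subtype ∧
      A'.subtype.comp q = (residue B').comp m ∧ μ.comp (residue B) = (residue B').comp n ∧
      A'.subtype.comp α = μ.comp A.subtype ∧ IsLocalHom α := by
  classical
  have hmem : ∀ c : compositeVal B A, ι (c : L) = algebraMap C' L' (φ c) := fun c =>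
    (RingHom.congr_fun hφ c).symm
  -- the localisation
  let S₀ : Set L := {s | ∃ h : s ∈ B, residue B ⟨s, h⟩ ∈ A ∧ residue B ⟨s, h⟩ ≠ 0}
  have hS1 : (1 : L) ∈ S₀ := ⟨B.one_mem, by
    rw [show (⟨1, B.one_mem⟩ : B) = 1 from rfl, map_one]; exact ⟨A.one_mem, one_ne_zero⟩⟩
  have hSmul : ∀ {s t}, s ∈ S₀ → t ∈ S₀ → s * t ∈ S₀ := fun {s t} ⟨h1, h1A, h1n⟩ ⟨h2, h2A, h2n⟩ =>
    ⟨B.mul_mem _ _ h1 h2, by
      rw [show (⟨s * t, B.mul_mem _ _ h1 h2⟩ : B) = ⟨s, h1⟩ * ⟨t, h2⟩ from rfl, map_mul]
      exact ⟨A.mul_mem _ _ h1A h2A, mul_ne_zero h1n h2n⟩⟩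
  have hSint : ∀ {s}, s ∈ S₀ → ∃ c : C', algebraMap C' L' c = ι s := fun {s} hs =>
    ⟨φ ⟨s, mem_compositeVal.2 ⟨hs.1, hs.2.1⟩⟩, (hmem _).symm⟩
  let B' : ValuationSubring L' :=
    { carrier := {x | ∃ s ∈ S₀, ∃ c : C', algebraMap C' L' c = ι s * x}
      mul_mem' := fun {x y} ⟨s, hs, c, hc⟩ ⟨t, ht, d, hd⟩ =>
        ⟨s * t, hSmul hs ht, c * d, by rw [map_mul, map_mul, hc, hd]; ring⟩
      one_mem' := ⟨1, hS1, 1, by simp⟩
      add_mem' := fun {x y} ⟨s, hs, c, hc⟩ ⟨t, ht, d, hd⟩ => by
        obtain ⟨cs, hcs⟩ := hSint hs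
        obtain ⟨ct, hct⟩ := hSint ht
        exact ⟨s * t, hSmul hs ht, c * ct + d * cs, by
          rw [map_add, map_mul, map_mul, map_mul, hc, hd, hcs, hct]; ring⟩
      zero_mem' := ⟨1, hS1, 0, by simp⟩
      neg_mem' := fun {x} ⟨s, hs, c, hc⟩ => ⟨s, hs, -c, by rw [map_neg, hc]; ring⟩
      mem_or_inv_mem' := fun x => by
        rcases ValuationRing.isInteger_or_isInteger C' x with ⟨c, hc⟩ | ⟨c, hc⟩
        · exact Or.inl ⟨1, hS1, c, by rw [map_one, one_mul, hc]⟩
        · exact Or.inr ⟨1, hS1, c, by rw [map_one, one_mul, hc]⟩ }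
  let m : C' →+* B' := (algebraMap C' L').codRestrict B'.toSubring
    fun c => ⟨1, hS1, c, by rw [map_one, one_mul]⟩
  have hnB : ∀ b : B, ι (b : L) ∈ B' := fun b => by
    by_cases h : (b : L) ∈ compositeVal B A
    · exact ⟨1, hS1, φ ⟨b, h⟩, by rw [← hmem, map_one, one_mul]⟩
    · have hb0 : (b : L) ≠ 0 := fun h0 => h (h0 ▸ (compositeVal B A).zero_mem)
      obtain ⟨hinv, hA⟩ := mem_compositeVal.1 (((compositeVal B A).mem_or_inv_mem (b : L)).resolve_left h)
      refine ⟨(b : L)⁻¹, ⟨hinv, hA, fun h0 => ?_⟩, 1, by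
        rw [map_one, ← map_mul, inv_mul_cancel₀ hb0, map_one]⟩
      have : residue B b * residue B ⟨(b : L)⁻¹, hinv⟩ = 1 := by
        rw [← map_mul, ← map_one (residue B)]
        exact congrArg _ (Subtype.ext (mul_inv_cancel₀ hb0))
      rw [h0, mul_zero] at this
      exact zero_ne_one this
  let n : B →+* B' := (ι.comp B.subtype).codRestrict B'.toSubring hnB
  have hnloc : IsLocalHom n := ⟨fun b hu => by
    by_contra hb
    rcases eq_or_ne (b : L) 0 with h0 | h0
    · exact not_isUnit_zero (by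
        rwa [show b = 0 from Subtype.ext h0, map_zero] at hu)
    obtain ⟨y, hy⟩ := isUnit_iff_exists_inv.1 hu
    have hy' : ι (b : L) * (y : L') = 1 := congrArg Subtype.val hy
    obtain ⟨s, ⟨hsB, hsA, hs0⟩, c, hc⟩ := y.2
    have hs : IsUnit (⟨s, hsB⟩ : B) := by
      by_contra h
      exact hs0 ((residue_eq_zero_iff _).2 h)
    obtain ⟨t, ht⟩ := isUnit_iff_exists_inv.1 hs
    have hst : s * (t : L) = 1 := congrArg Subtype.val ht
    have hbt : residue B (b * t) = 0 :=
      (residue_eq_zero_iff _).2 fun h => hb (isUnit_of_mul_isUnit_left h)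
    have hmem' : (b : L) * t ∈ compositeVal B A := mem_compositeVal.2 ⟨(b * t).2, by
      change residue B (b * t) ∈ A
      rw [hbt]; exact A.zero_mem⟩
    have hunit : IsUnit (φ ⟨_, hmem'⟩) := IsUnit.of_mul_eq_one c (IsFractionRing.injective C' L' (by
      rw [map_mul, map_one, ← hmem, hc]
      change ι ((b : L) * t) * (ι s * y) = 1
      rw [map_mul, show ι (b : L) * ι (t : L) * (ι s * y) = ι (b : L) * y * (ι s * ι (t : L)) by ring, hy',
        ← map_mul, hst, map_one, mul_one]))
    obtain ⟨d, hd⟩ := isUnit_iff_exists_inv.1 (isUnit_of_map_unit φ _ hunit)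
    obtain ⟨hdB, -⟩ := mem_compositeVal.1 d.2
    have hd' : (b : L) * t * (d : L) = 1 := congrArg Subtype.val hd
    exact hb (IsUnit.of_mul_eq_one (t * ⟨d, hdB⟩) (Subtype.ext ((mul_assoc _ _ _).symm.trans hd')))⟩
  let μ : ResidueField B →+* ResidueField B' :=
    haveI := hnloc
    ResidueField.map n
  have hμ : μ.comp (residue B) = (residue B').comp n := by
    haveI := hnloc
    exact ResidueField.map_comp_residue n
  let A' : ValuationSubring (ResidueField B') :=
    { toSubring := ((residue B').comp m).range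
      mem_or_inv_mem' := fun x => by
        obtain ⟨b, rfl⟩ := residue_surjective x
        rcases eq_or_ne (residue B' b) 0 with h0 | h0
        · exact Or.inl (h0 ▸ Subring.zero_mem _)
        rcases ValuationRing.isInteger_or_isInteger C' (b : L') with ⟨c, hc⟩ | ⟨c, hc⟩
        · exact Or.inl ⟨c, congrArg (residue B') (Subtype.ext hc : m c = b)⟩
        · refine Or.inr ⟨c, ?_⟩
          have hb0 : (b : L') ≠ 0 := fun h => h0 (by
            rw [show b = 0 from Subtype.ext h, map_zero])
          refine (inv_eq_of_mul_eq_one_right ?_).symm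
          rw [RingHom.comp_apply, ← map_mul, ← map_one (residue B')]
          refine congrArg _ (Subtype.ext ?_)
          change (b : L') * algebraMap C' L' c = 1
          rw [hc, mul_inv_cancel₀ hb0] }
  let q : C' →+* A' := ((residue B').comp m).rangeRestrict
  have hlift : ∀ a : A, ∃ c : compositeVal B A, ∃ h : (c : L) ∈ B, residue B ⟨c, h⟩ = a ∧
      (residue B').comp m (φ c) = μ (a : ResidueField B) := fun a => by
    obtain ⟨b, hb⟩ := residue_surjective (a : ResidueField B)
    let c : compositeVal B A := ⟨b, mem_compositeVal.2 ⟨b.2, show residue B b ∈ A from hb ▸ a.2⟩⟩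
    refine ⟨c, b.2, hb, ?_⟩
    rw [← hb, ← RingHom.comp_apply μ, hμ, RingHom.comp_apply, RingHom.comp_apply]
    exact congrArg _ (Subtype.ext (hmem c).symm)
  let α : A →+* A' := (μ.comp A.subtype).codRestrict A'.toSubring fun a => by
    obtain ⟨c, -, -, hc⟩ := hlift a
    exact ⟨φ c, hc⟩
  refine ⟨B', m, n, A', q, μ, α, rfl, rfl, rfl, hμ, rfl, ⟨fun a hu => ?_⟩⟩
  obtain ⟨c, hcB, hca, hc⟩ := hlift a
  have hqc : q (φ c) = α a := Subtype.ext hc
  haveI : IsLocalHom q := .of_surjective q ((residue B').comp m).rangeRestrict_surjective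
  have hu' : IsUnit c := isUnit_of_map_unit φ c (isUnit_of_map_unit q _ (hqc ▸ hu))
  obtain ⟨d, hd⟩ := isUnit_iff_exists_inv.1 hu'
  obtain ⟨hdB, hdA⟩ := mem_compositeVal.1 d.2
  refine IsUnit.of_mul_eq_one ⟨residue B ⟨d, hdB⟩, hdA⟩ (Subtype.ext ?_)
  change (a : ResidueField B) * residue B ⟨d, hdB⟩ = 1
  rw [← hca, ← map_mul, ← map_one (residue B)]
  exact congrArg _ (Subtype.ext (show (c : L) * (d : L) = 1 from congrArg Subtype.val hd))

end AlgSpLib
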