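import Groth.Agent.AlgSpLib.ValExist
import Groth.Agent.AlgSpLib.LocP
import Mathlib.RingTheory.Unramified.Field

/-!
# Lifts after finite separable extensions
-/

set_option autoImplicit false
set_option backward.isDefEq.respectTransparency false
set_option backward.isDefEq.respectTransparency.types false

universe u

open CategoryTheory CategoryTheory.Limits AlgebraicGeometry Opposite AlgSp Topology

namespace AlgSpLib

variable {S : Scheme.{u}}

/-- Residue fields of schemes etale over a field are finite separable extensions. -/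
theorem finite_separable_of_etale {K : Type u} [Field K] {str : Spec (CommRingCat.of K) ⟶ S}
    {W : Over S} (pK : W ⟶ Over.mk str) [Etale pK.left] (w : W.left)
    (ψ : CommRingCat.of K ⟶ W.left.residueField w)
    (hψ : Spec.map ψ = W.left.fromSpecResidueField w ≫ pK.left) :
    letI := ψ.hom.toAlgebra; Module.Finite K (W.left.residueField w) ∧ Algebra.IsSeparable K (W.left.residueField w) := by
  let iw := W.left.fromSpecResidueField w
  haveI : Subsingleton (Over.mk str).left := inferInstanceAs (Subsingleton (PrimeSpectrum K))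
  haveI : LocallyQuasiFinite pK.left := locallyQuasiFinite_of_etale pK.left
  have hdisc : DiscreteTopology (pK.left ⁻¹' {pK.left w}) := (pK.left.isDiscrete_preimage_singleton _).to_subtype
  haveI : IsClosedImmersion iw := by
    refine .of_isPreimmersion _ ?_
    rw [Scheme.range_fromSpecResidueField]
    have hu : pK.left ⁻¹' {pK.left w} = Set.univ := Set.eq_univ_of_forall fun x => Subsingleton.elim _ _
    rw [hu] at hdisc
    haveI : DiscreteTopology W.left :=
      ((Homeomorph.Set.univ W.left).symm.isEmbedding).discreteTopology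
    exact isClosed_discrete _
  haveI : LocallyOfFiniteType (Spec.map ψ) := by rw [hψ]; infer_instance
  haveI : FormallyUnramified (Spec.map ψ) := by
    rw [hψ]
    exact MorphismProperty.comp_mem (W := @FormallyUnramified) _ _ inferInstance inferInstance
  have hft : ψ.hom.FiniteType := (HasRingHomProperty.Spec_iff (P := @LocallyOfFiniteType)).1 ‹_›
  have hfu : ψ.hom.FormallyUnramified := (HasRingHomProperty.Spec_iff (P := @FormallyUnramified)).1 ‹_›
  algebraize [ψ.hom]
  exact ⟨Algebra.FormallyUnramified.finite_of_free _ _, Algebra.FormallyUnramified.isSeparable _ _⟩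

/-- A chart with a generalization of a point over the closed point gives a finite separable lift. -/
theorem exists_finite_separable_lift {X Y : Sp S} {f : X ⟶ Y} (sq : ValSq f) {U : Over S}
    {a : (yon S).obj U ⟶ pullback f sq.bot} (ha : RepWith @Etale a) {u u' : U.left} (hu' : u' ⤳ u)
    (s : (yon S).obj sq.ptK ⟶ pullback f sq.bot) (hs₁ : s ≫ pullback.fst f sq.bot = sq.top)
    (hsg : s ≫ pullback.snd f sq.bot = (yon S).map sq.j)
    (hu'x : Points.ofPt a u' = Points.ofPt s (IsLocalRing.closedPoint sq.K))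
    {gU : U ⟶ sq.ptA} (hgU : (yon S).map gU = a ≫ pullback.snd f sq.bot)
    (hgu : gU.left u = IsLocalRing.closedPoint sq.A) :
    ∃ e : sq.DomExt, (letI := e.ψ.toAlgebra; Module.Finite sq.K e.K' ∧ Algebra.IsSeparable sq.K e.K') ∧
      e.HasLift := by
  let η : sq.ptK.left := IsLocalRing.closedPoint sq.K
  obtain ⟨W, p, t, sqW⟩ := exists_isPullback_yon a s ha.rep
  obtain ⟨w, hwp, -⟩ := (ofPt_eq_ofPt_iff sqW u' η).1 hu'x
  have hpt : p ≫ gU = t ≫ sq.j := (yon S).map_injective (by
    rw [Functor.map_comp, Functor.map_comp, hgU, reassoc_of% sqW.w, hsg])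
  -- the valuation ring
  have hspec : p.left w ⤳ u := hwp ▸ hu'
  let ρ : U.left.presheaf.stalk u ⟶ W.left.residueField w :=
    U.left.presheaf.stalkSpecializes hspec ≫ p.left.stalkMap w ≫ W.left.residue w
  obtain ⟨A', hA, hA_local⟩ := IsLocalRing.exists_factor_valuationRing ρ.hom
  let σ : U.left.presheaf.stalk u ⟶ .of A' := CommRingCat.ofHom (ρ.hom.codRestrict _ hA)
  have hσ : Spec.map (CommRingCat.ofHom (algebraMap A' (W.left.residueField w))) ≫
      Spec.map σ ≫ U.left.fromSpecStalk u = W.left.fromSpecResidueField w ≫ p.left := by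
    rw [Scheme.fromSpecResidueField, Category.assoc, ← Scheme.SpecMap_stalkMap_fromSpecStalk,
      ← Scheme.SpecMap_stalkSpecializes_fromSpecStalk hspec]
    simp_rw [← Spec.map_comp_assoc]
    rfl
  obtain ⟨φ, hφ⟩ := Spec.map_surjective (R := .of sq.A) (S := .of A')
    (Spec.map σ ≫ U.left.fromSpecStalk u ≫ gU.left)
  obtain ⟨ψ, hψ⟩ := Spec.map_surjective (R := .of sq.K) (S := W.left.residueField w)
    (W.left.fromSpecResidueField w ≫ t.left)
  have hpt' : p.left ≫ gU.left = t.left ≫ sq.j.left := by rw [← Over.comp_left, ← Over.comp_left, hpt]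
  have hcomm : (algebraMap A' (W.left.residueField w)).comp φ.hom = ψ.hom.comp (algebraMap sq.A sq.K) := by
    have : Spec.map (φ ≫ CommRingCat.ofHom (algebraMap A' (W.left.residueField w))) =
        Spec.map (CommRingCat.ofHom (algebraMap sq.A sq.K) ≫ ψ) := by
      rw [Spec.map_comp, Spec.map_comp, hφ, hψ, Category.assoc, reassoc_of% hσ, hpt']
      rfl
    exact congrArg CommRingCat.Hom.hom (Spec.map_injective this)
  have hloc : IsLocalHom φ.hom := by
    have h2 : Spec.map σ (IsLocalRing.closedPoint A') = IsLocalRing.closedPoint (U.left.presheaf.stalk u) :=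
      IsLocalRing.comap_closedPoint (S := A') (ρ.hom.codRestrict A'.toSubring hA)
    have h1 : PrimeSpectrum.comap φ.hom (IsLocalRing.closedPoint A') = IsLocalRing.closedPoint sq.A := by
      change Spec.map φ (IsLocalRing.closedPoint A') = _
      rw [hφ, Scheme.Hom.comp_apply, Scheme.Hom.comp_apply, h2, U.left.fromSpecStalk_closedPoint]
      exact hgu
    exact ((IsLocalRing.local_hom_TFAE φ.hom).out 0 4).2 (congrArg PrimeSpectrum.asIdeal h1)
  let e : sq.DomExt :=
    { A' := A', K' := W.left.residueField w, φ := φ.hom, ψ := ψ.hom, comm := hcomm, isLocalHom := hloc }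
  let lu : e.ptA' ⟶ U := Over.homMk (Spec.map σ ≫ U.left.fromSpecStalk u) (by
    change _ = Spec.map φ ≫ sq.str
    rw [hφ, Category.assoc, Category.assoc, Category.assoc]
    exact congrArg (fun m => Spec.map σ ≫ U.left.fromSpecStalk u ≫ m) (Over.w gU).symm)
  let k : e.ptK' ⟶ e.ptA' := Over.homMk (Spec.map (CommRingCat.ofHom (algebraMap e.A' e.K'))) rfl
  let ψo : e.ptK' ⟶ sq.ptK := Over.homMk (Spec.map (CommRingCat.ofHom e.ψ)) (by
    change Spec.map _ ≫ Spec.map _ ≫ _ = Spec.map _ ≫ Spec.map _ ≫ _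
    rw [← Spec.map_comp_assoc, ← Spec.map_comp_assoc, ← CommRingCat.ofHom_comp,
      ← CommRingCat.ofHom_comp, e.comm])
  let wo : e.ptK' ⟶ W := Over.homMk (W.left.fromSpecResidueField w) (by
    change _ = Spec.map _ ≫ Spec.map φ ≫ sq.str
    rw [hφ, Category.assoc, Category.assoc]
    erw [reassoc_of% hσ]
    exact congrArg (W.left.fromSpecResidueField w ≫ ·) ((Over.w p).symm.trans (congrArg (p.left ≫ ·) (Over.w gU).symm)))
  haveI : Etale t.left := etale_left (repWith_of_isPullback sqW ha)
  refine ⟨e, ?_, (yon S).map lu ≫ a ≫ pullback.fst f sq.bot, ?_, ?_⟩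
  · exact finite_separable_of_etale t w ψ hψ
  · change (yon S).map k ≫ _ = (yon S).map ψo ≫ sq.top
    have e1 : k ≫ lu = wo ≫ p := Over.OverMorphism.ext hσ
    have e2 : wo ≫ t = ψo := Over.OverMorphism.ext hψ.symm
    rw [← Functor.map_comp_assoc, e1, Functor.map_comp_assoc, reassoc_of% sqW.w, hs₁,
      ← Functor.map_comp_assoc, e2]
  · rw [Category.assoc, Category.assoc, pullback.condition, ← Category.assoc a, ← hgU, ← Functor.map_comp_assoc]
    congr 2
    apply Over.OverMorphism.ext
    change (Spec.map σ ≫ U.left.fromSpecStalk u) ≫ gU.left = Spec.map φ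
    rw [hφ, Category.assoc]

/-- Lifts after some extension give lifts after a finite separable one. -/
theorem exists_finite_separable_of_hasLiftExt {X Y : Sp S} (hX : IsAlgSpace X) (hY : IsAlgSpace Y) {f : X ⟶ Y}
    (sq : ValSq f) (h : sq.HasLiftExt) :
    ∃ e : sq.DomExt, (letI := e.ψ.toAlgebra; Module.Finite sq.K e.K' ∧ Algebra.IsSeparable sq.K e.K') ∧
      e.HasLift := by
  obtain ⟨e, l, hl₁, hl₂⟩ := h
  have sqP := IsPullback.of_hasPullback f sq.bot
  have hP : IsAlgSpace (pullback f sq.bot) := isAlgSpace_pullback hX (IsAlgSpace.yon_obj _) hY f sq.bot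
  let q : e.ptA' ⟶ sq.ptA := Over.homMk (Spec.map (CommRingCat.ofHom e.φ)) rfl
  let k : e.ptK' ⟶ e.ptA' := Over.homMk (Spec.map (CommRingCat.ofHom (algebraMap e.A' e.K'))) rfl
  let ψo : e.ptK' ⟶ sq.ptK := Over.homMk (Spec.map (CommRingCat.ofHom e.ψ)) (by
    change Spec.map _ ≫ Spec.map _ ≫ _ = Spec.map _ ≫ Spec.map _ ≫ _
    rw [← Spec.map_comp_assoc, ← Spec.map_comp_assoc, ← CommRingCat.ofHom_comp,
      ← CommRingCat.ofHom_comp, e.comm])
  let b : (yon S).obj e.ptA' ⟶ pullback f sq.bot := sqP.lift l ((yon S).map q) hl₂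
  let s : (yon S).obj sq.ptK ⟶ pullback f sq.bot := sqP.lift sq.top ((yon S).map sq.j) sq.comm
  have hbs : (yon S).map k ≫ b = (yon S).map ψo ≫ s := sqP.hom_ext
    (by rw [Category.assoc, Category.assoc, sqP.lift_fst, sqP.lift_fst]; exact hl₁)
    (by rw [Category.assoc, Category.assoc, sqP.lift_snd, sqP.lift_snd, ← Functor.map_comp, ← Functor.map_comp]
        refine congrArg _ (Over.OverMorphism.ext ?_)
        change Spec.map _ ≫ Spec.map _ = Spec.map _ ≫ Spec.map _
        rw [← Spec.map_comp, ← Spec.map_comp, ← CommRingCat.ofHom_comp, ← CommRingCat.ofHom_comp, e.comm])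
  obtain ⟨U, a, ha, has⟩ := hP.atlas
  obtain ⟨v, hv⟩ := surjective_ofPt has (Points.ofPt b (IsLocalRing.closedPoint e.A'))
  obtain ⟨P, pU, pA, sqU⟩ := exists_isPullback_yon a b ha.rep
  obtain ⟨p, hpU, hpA⟩ := (ofPt_eq_ofPt_iff sqU v (IsLocalRing.closedPoint e.A')).1 hv
  haveI : Etale pA.left := etale_left (repWith_of_isPullback sqU ha)
  let η' : e.ptK'.left := IsLocalRing.closedPoint e.K'
  obtain ⟨p', hp', hp'η⟩ := Flat.generalizingMap (f := pA.left)
    (show k.left η' ⤳ pA.left p from hpA.symm ▸ IsLocalRing.specializes_closedPoint (R := e.A') _)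
  obtain ⟨gU, hgU⟩ := (yon S).map_surjective (a ≫ pullback.snd f sq.bot)
  refine exists_finite_separable_lift sq ha (hp'.map pU.left.continuous) s (sqP.lift_fst _ _ _) (sqP.lift_snd _ _ _)
    ?_ hgU ?_
  · rw [(ofPt_eq_ofPt_iff sqU (pU.left p') (k.left η')).2 ⟨p', rfl, hp'η⟩, ← ofPt_yon_comp, hbs, ofPt_yon_comp]
    exact congrArg _ (Subsingleton.elim (α := PrimeSpectrum sq.K) _ _)
  · have e1 : pU ≫ gU = pA ≫ q := (yon S).map_injective (by
      rw [Functor.map_comp, Functor.map_comp, hgU, reassoc_of% sqU.w, sqP.lift_snd])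
    haveI := e.isLocalHom
    rw [← Scheme.Hom.comp_apply, ← Over.comp_left, e1, Over.comp_left, Scheme.Hom.comp_apply, hpA]
    exact IsLocalRing.comap_closedPoint e.φ

end AlgSpLib
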