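import Groth.Agent.AlgSpLib.ValNoethMain
import Groth.Agent.AlgSpLib.ValFinSep
import Groth.Agent.NormalLib.KrullAkizuki

/-!
# The DVR criterion for universal closedness
-/

set_option autoImplicit false
set_option backward.isDefEq.respectTransparency false
set_option backward.isDefEq.respectTransparency.types false

universe u

open CategoryTheory CategoryTheory.Limits AlgebraicGeometry Opposite AlgSp Topology

namespace AlgSpLib

variable {S : Scheme.{u}}

/-- A valuation ring of a finite extension dominating a discrete valuation ring is one. -/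
theorem isDVR_of_finite {A K A' K' : Type u} [CommRing A] [IsDomain A] [IsDiscreteValuationRing A] [Field K]
    [Algebra A K] [IsFractionRing A K] [CommRing A'] [IsDomain A'] [ValuationRing A'] [Field K'] [Algebra A' K']
    [IsFractionRing A' K'] (φ : A →+* A') (ψ : K →+* K') [IsLocalHom φ]
    (comm : (algebraMap A' K').comp φ = ψ.comp (algebraMap A K))
    (hfin : letI := ψ.toAlgebra; Module.Finite K K') : IsDiscreteValuationRing A' := by
  letI := ψ.toAlgebra
  letI := φ.toAlgebra
  letI : Algebra A K' := (ψ.comp (algebraMap A K)).toAlgebra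
  haveI : IsScalarTower A K K' := IsScalarTower.of_algebraMap_eq' rfl
  haveI : IsScalarTower A A' K' := IsScalarTower.of_algebraMap_eq' comm.symm
  haveI := hfin
  haveI : IsNoetherianRing A' :=
    NormalLib.isNoetherianRing_of_between (R := A) K (L := K') A' (IsFractionRing.injective A' K')
  obtain ⟨ϖ, hϖ⟩ := IsDiscreteValuationRing.exists_irreducible A
  have h0 : φ ϖ ≠ 0 := fun h => hϖ.ne_zero (IsFractionRing.injective A K (ψ.injective (by
    rw [← RingHom.comp_apply, ← comm, RingHom.comp_apply, h, map_zero, map_zero, map_zero])))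
  exact
    { not_a_field' := fun h => h0 (by
        have hm : φ ϖ ∈ IsLocalRing.maximalIdeal A' := (IsLocalRing.mem_maximalIdeal _).2
          fun hu => hϖ.not_isUnit (isUnit_of_map_unit φ ϖ hu)
        rwa [h, Ideal.mem_bot] at hm) }

theorem exists_dvr_finite_separable {X Y : Sp S} (hX : IsAlgSpace X) (hY : IsAlgSpace Y) {f : X ⟶ Y}
    (hd : IsDecentMor f) (hc : IsUnivClosedMor f) (sq : ValSq f) (hA : IsDiscreteValuationRing sq.A) :
    ∃ e : sq.DomExt, IsDiscreteValuationRing e.A' ∧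
      (letI := e.ψ.toAlgebra; Module.Finite sq.K e.K' ∧ Algebra.IsSeparable sq.K e.K') ∧ e.HasLift := by
  obtain ⟨e, he, hl⟩ := exists_finite_separable_of_hasLiftExt hX hY sq
    (existVC_of_univClosed_decentMor hX hY hd hc sq)
  haveI := hA
  haveI := e.isLocalHom
  exact ⟨e, isDVR_of_finite e.φ e.ψ e.comm he.1, he, hl⟩

/-- Lifts after extensions exist for the squares over discrete valuation rings. -/
def DvrLiftExt {X Y : Sp S} (f : X ⟶ Y) : Prop :=
  ∀ sq : ValSq f, IsDiscreteValuationRing sq.A → sq.HasLiftExt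

theorem dvrLiftExt_of_isPullback {X Y X' Z : Sp S} {fst : X' ⟶ X} {f' : X' ⟶ Z} {f : X ⟶ Y} {g : Z ⟶ Y}
    (h : IsPullback fst f' f g) (hf : DvrLiftExt f) : DvrLiftExt f' := by
  intro sq hA
  obtain ⟨e, l, hl₁, hl₂⟩ := hf (pushSq h sq) hA
  let e' : sq.DomExt :=
    { A' := e.A', K' := e.K', φ := e.φ, ψ := e.ψ, comm := e.comm, isLocalHom := e.isLocalHom }
  let q : e'.ptA' ⟶ sq.ptA := Over.homMk (Spec.map (CommRingCat.ofHom e'.φ)) rfl
  let k : e'.ptK' ⟶ e'.ptA' := Over.homMk (Spec.map (CommRingCat.ofHom (algebraMap e'.A' e'.K'))) rfl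
  let ψo : e'.ptK' ⟶ sq.ptK := Over.homMk (Spec.map (CommRingCat.ofHom e'.ψ)) (by
    change Spec.map _ ≫ Spec.map _ ≫ _ = Spec.map _ ≫ Spec.map _ ≫ _
    rw [← Spec.map_comp_assoc, ← Spec.map_comp_assoc, ← CommRingCat.ofHom_comp,
      ← CommRingCat.ofHom_comp, e'.comm])
  refine ⟨e', h.lift l ((yon S).map q ≫ sq.bot) (hl₂.trans (Category.assoc _ _ _).symm), ?_, h.lift_snd _ _ _⟩
  refine h.hom_ext ((Category.assoc _ _ _).trans
    ((congrArg ((yon S).map k ≫ ·) (h.lift_fst _ _ _)).trans (hl₁.trans (Category.assoc _ _ _).symm))) ?_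
  refine (Category.assoc _ _ _).trans ((congrArg ((yon S).map k ≫ ·) (h.lift_snd _ _ _)).trans ?_)
  change (yon S).map k ≫ (yon S).map q ≫ sq.bot = ((yon S).map ψo ≫ sq.top) ≫ f'
  rw [Category.assoc, sq.comm, ← Functor.map_comp_assoc, ← Functor.map_comp_assoc]
  congr 2
  apply Over.OverMorphism.ext
  change Spec.map _ ≫ Spec.map _ = Spec.map _ ≫ Spec.map _
  rw [← Spec.map_comp, ← Spec.map_comp, ← CommRingCat.ofHom_comp, ← CommRingCat.ofHom_comp, e'.comm]

theorem exists_dvr_of_hom' {A L : Type u} [CommRing A] [IsNoetherianRing A] [Field L] (α : A →+* L)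
    (P : Ideal A) [P.IsPrime] (hker : RingHom.ker α ≤ P) (hne : ∃ a ∈ P, α a ≠ 0) (s : Finset L)
    (hs : Subfield.closure (Set.range α ∪ s) = ⊤) :
    ∃ D : ValuationSubring L, IsDiscreteValuationRing D ∧ (∀ a, α a ∈ D) ∧
      ∀ a, D.valuation (α a) < 1 ↔ a ∈ P := by
  letI := α.toAlgebra
  exact DvrDomLib.exists_dvr_dominating (L := L) (A := A) P hker hne s hs

theorem isClosedMap_of_dvrLiftExt {X : Sp S} {T : Over S} [IsAffine T.left] [IsNoetherianRing Γ(T.left, ⊤)]
    {g : X ⟶ (yon S).obj T} (hq : IsQuasiCompactSp X) (hg : LocP @LocallyOfFiniteType g) (hd : DvrLiftExt g) :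
    IsClosedMap (Points.map g) := by
  classical
  obtain ⟨W, c, hW, hc, hcs⟩ := exists_affine_chart hq
  haveI := hW
  obtain ⟨h, hh⟩ := (yon S).map_surjective (c ≫ g)
  haveI : LocallyOfFiniteType h.left := hg c (𝟙 _) h hc (repWith_id _ T) (by rw [hh, Category.comp_id])
  intro C hC
  have key : Points.map g '' C = Points.schemeHomeo T '' (h.left '' (Points.ofPt c ⁻¹' C)) := by
    conv_lhs => rw [← Set.image_preimage_eq C (surjective_ofPt hcs)]
    rw [Set.image_image, Set.image_image]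
    refine Set.image_congr fun w _ => ?_
    rw [Points.map_ofPt, ← hh]
    exact ((Points.schemeHomeo T).apply_symm_apply _).symm.trans
      (congrArg _ (Points.toScheme_ofPt h w))
  rw [key, (Points.schemeHomeo T).isClosed_image]
  refine isClosed_image_of_stableUnderSpecialization h.left (hC.preimage (Points.continuous_ofPt c)) ?_
  rintro _ v hspec ⟨w, hw, rfl⟩
  rcases eq_or_ne (h.left w) v with rfl | hne
  · exact ⟨w, hw, rfl⟩
  let eT := T.left.isoSpec
  let iw := W.left.fromSpecResidueField w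
  let q : PrimeSpectrum Γ(T.left, ⊤) := eT.hom v
  obtain ⟨β, hβ⟩ := Spec.map_surjective (R := Γ(W.left, ⊤)) (S := W.left.residueField w)
    (iw ≫ W.left.isoSpec.hom)
  obtain ⟨φ, hφ⟩ := Spec.map_surjective (W.left.isoSpec.inv ≫ h.left ≫ eT.hom)
  haveI : LocallyOfFiniteType (Spec.map φ) := hφ ▸ inferInstance
  have hφft : φ.hom.FiniteType := (HasRingHomProperty.Spec_iff (P := @LocallyOfFiniteType)).1 this
  let β₀ : Γ(T.left, ⊤) →+* W.left.residueField w := β.hom.comp φ.hom
  have hβ₀ : Spec.map (CommRingCat.ofHom β₀) = iw ≫ h.left ≫ eT.hom := by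
    rw [show CommRingCat.ofHom β₀ = φ ≫ β from rfl, Spec.map_comp, hφ, hβ, Category.assoc, Iso.hom_inv_id_assoc]
  let p : PrimeSpectrum Γ(T.left, ⊤) := Spec.map (CommRingCat.ofHom β₀) (IsLocalRing.closedPoint _)
  have hpw : p = eT.hom (h.left w) := by
    simp only [p, hβ₀, Scheme.Hom.comp_apply, iw]
    exact congrArg eT.hom (congrArg h.left (Scheme.fromSpecResidueField_apply _ _))
  have hker : RingHom.ker β₀ = p.asIdeal := by
    change _ = (IsLocalRing.maximalIdeal (W.left.residueField w)).comap β₀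
    rw [IsLocalRing.maximalIdeal_eq_bot, RingHom.ker_eq_comap_bot]
  have hpq : p.asIdeal ≤ q.asIdeal :=
    (PrimeSpectrum.le_iff_specializes p q).2 (by rw [hpw]; exact hspec.map eT.hom.continuous)
  obtain ⟨s, hs⟩ := mem_of_finiteType hφft β.hom
  let L : Subfield (W.left.residueField w) := Subfield.closure (Set.range β₀ ∪ (s : Set _))
  have hLR : ∀ r, β₀ r ∈ L := fun r => Subfield.subset_closure (Or.inl ⟨r, rfl⟩)
  have hLs : ∀ x ∈ s, x ∈ L := fun x hx => Subfield.subset_closure (Or.inr hx)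
  let α : Γ(T.left, ⊤) →+* L := β₀.codRestrict L hLR
  have hgens : Subfield.closure (Set.range α ∪ ↑(s.attach.image fun x => (⟨x.1, hLs _ x.2⟩ : L))) = ⊤ := by
    refine subfield_closure_eq_top L _ (Subfield.closure_mono ?_)
    rintro y (⟨r, rfl⟩ | hy)
    · exact ⟨α r, Or.inl ⟨r, rfl⟩, rfl⟩
    · refine ⟨⟨y, hLs _ hy⟩, Or.inr ?_, rfl⟩
      exact Finset.mem_coe.2 (Finset.mem_image.2 ⟨⟨y, hy⟩, Finset.mem_attach _ _, rfl⟩)
  have hkerα : RingHom.ker α ≤ q.asIdeal := fun a ha => hpq (by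
    rw [← hker, RingHom.mem_ker]
    exact congrArg Subtype.val (RingHom.mem_ker.1 ha))
  have hnP : ∃ a ∈ q.asIdeal, α a ≠ 0 := by
    by_contra hcon
    push Not at hcon
    refine hne (eT.hom.homeomorph.injective ?_)
    change eT.hom (h.left w) = eT.hom v
    rw [← hpw]
    exact PrimeSpectrum.ext (le_antisymm hpq fun a ha => by
      rw [← hker, RingHom.mem_ker]
      exact congrArg Subtype.val (hcon a ha))
  haveI : q.asIdeal.IsPrime := q.isPrime
  let t₀ : Finset L := s.attach.image fun x => (⟨x.1, hLs _ x.2⟩ : L)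
  obtain ⟨D, hD, hDmem, hDval⟩ := exists_dvr_of_hom' (A := Γ(T.left, ⊤)) (L := L) α q.asIdeal hkerα hnP t₀ hgens
  let ρ₀ : Γ(T.left, ⊤) →+* D := α.codRestrict D.toSubring hDmem
  let btD : Spec (CommRingCat.of D) ⟶ T.left := Spec.map (CommRingCat.ofHom ρ₀) ≫ eT.inv
  let γ : Γ(W.left, ⊤) →+* L := β.hom.codRestrict L (hs L hLR hLs)
  let uL : Spec (CommRingCat.of L) ⟶ W.left := Spec.map (CommRingCat.ofHom γ) ≫ W.left.isoSpec.inv
  have huL : Spec.map (CommRingCat.ofHom L.subtype) ≫ uL = iw := by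
    simp only [uL, ← Spec.map_comp_assoc]
    rw [show CommRingCat.ofHom γ ≫ CommRingCat.ofHom L.subtype = β from rfl, hβ, Category.assoc, Iso.hom_inv_id,
      Category.comp_id]
  have huLg : uL ≫ h.left = Spec.map (CommRingCat.ofHom (algebraMap D L)) ≫ btD := by
    refine hom_ext_of_injective (i := L.subtype) Subtype.val_injective ?_
    rw [reassoc_of% huL]
    simp only [btD, ← Spec.map_comp_assoc]
    rw [show (CommRingCat.ofHom ρ₀ ≫ CommRingCat.ofHom (algebraMap D L)) ≫ CommRingCat.ofHom L.subtype =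
        CommRingCat.ofHom β₀ from rfl, hβ₀]
    simp only [Category.assoc, Iso.hom_inv_id, Category.comp_id]
  let oU : Over.mk (Spec.map (CommRingCat.ofHom (algebraMap D L)) ≫ btD ≫ T.hom) ⟶ W := Over.homMk uL (by
    change uL ≫ W.hom = Spec.map (CommRingCat.ofHom (algebraMap D L)) ≫ btD ≫ T.hom
    rw [← Over.w h, reassoc_of% huLg])
  have hoU : oU.left (IsLocalRing.closedPoint L) = w := by
    change uL (IsLocalRing.closedPoint L) = w
    have : Spec.map (CommRingCat.ofHom L.subtype) (IsLocalRing.closedPoint (W.left.residueField w)) =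
        IsLocalRing.closedPoint L := Subsingleton.elim (α := PrimeSpectrum L) _ _
    rw [← this, ← Scheme.Hom.comp_apply, huL]
    exact W.left.fromSpecResidueField_apply w _
  let sq : ValSq g :=
    { A := D, K := L, str := btD ≫ T.hom, top := (yon S).map oU ≫ c, bot := (yon S).map (Over.homMk btD rfl)
      comm := by
        simp only [Category.assoc]
        rw [← hh, ← Functor.map_comp, ← Functor.map_comp]
        exact congrArg _ (Over.OverMorphism.ext huLg) }
  obtain ⟨e, l, hl₁, hl₂⟩ := hd sq hD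
  let z : Points X := Points.ofPt l (IsLocalRing.closedPoint e.A')
  have hz : z ∈ C := by
    let k : e.ptK' ⟶ e.ptA' := Over.homMk (Spec.map (CommRingCat.ofHom (algebraMap e.A' e.K'))) rfl
    refine ((IsLocalRing.specializes_closedPoint (R := e.A')
      (k.left (IsLocalRing.closedPoint e.K'))).map (Points.continuous_ofPt l)).mem_closed hC ?_
    rw [← ofPt_yon_comp k l]
    erw [hl₁]
    rw [ofPt_yon_comp, ofPt_yon_comp]
    rw [show ∀ y : sq.ptK.left, oU.left y = w from fun y => by
      rw [show y = IsLocalRing.closedPoint L from Subsingleton.elim (α := PrimeSpectrum L) _ _]; exact hoU]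
    exact hw
  obtain ⟨t, ht⟩ := surjective_ofPt hcs z
  refine ⟨t, show Points.ofPt c t ∈ C from ht ▸ hz, ?_⟩
  have e1 : Points.toScheme T (Points.map g z) = h.left t := by
    rw [← ht, Points.map_ofPt, ← hh, Points.toScheme_ofPt]
  rw [← e1, Points.map_ofPt, hl₂, ← Functor.map_comp, Points.toScheme_ofPt]
  haveI := e.isLocalHom
  change btD (Spec.map (CommRingCat.ofHom e.φ) (IsLocalRing.closedPoint e.A')) = v
  have h1 : Spec.map (CommRingCat.ofHom e.φ) (IsLocalRing.closedPoint e.A') = IsLocalRing.closedPoint D :=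
    IsLocalRing.comap_closedPoint e.φ
  have h2 : Spec.map (CommRingCat.ofHom ρ₀) (IsLocalRing.closedPoint D) = q := by
    change PrimeSpectrum.comap ρ₀ (IsLocalRing.closedPoint D) = q
    refine PrimeSpectrum.ext (Ideal.ext fun a => ?_)
    exact (D.valuation_lt_one_iff (ρ₀ a)).trans (hDval a)
  rw [h1]
  change (Spec.map (CommRingCat.ofHom ρ₀) ≫ eT.inv) _ = v
  rw [Scheme.Hom.comp_apply, h2]
  exact eT.hom.homeomorph.injective (by
    change eT.hom (eT.inv (eT.hom v)) = eT.hom v
    rw [← Scheme.Hom.comp_apply, ← Scheme.Hom.comp_apply, Iso.inv_hom_id, Category.comp_id])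

theorem isUnivClosedMor_of_dvrLiftExt {X Y : Sp S} (hX : IsAlgSpace X) (hY : IsAlgSpace Y) {f : X ⟶ Y}
    (hft : IsFiniteTypeMor f) (hYn : IsLocNoethSp Y) (hd : DvrLiftExt f) : IsUnivClosedMor f := by
  obtain ⟨V, p, hp, hps⟩ := hY.atlas
  haveI := isLocallyNoetherian_of_chart hYn hp
  refine isUnivClosedMor_of_affineSpace hX hY hft.2 p hp hps fun n P fst snd sq => ?_
  haveI : IsLocallyNoetherian 𝔸(ULift.{u} (Fin n); V.left) :=
    LocallyOfFiniteType.isLocallyNoetherian (𝔸(ULift.{u} (Fin n); V.left) ↘ V.left)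
  let E : Over S := Over.mk ((𝔸(ULift.{u} (Fin n); V.left) ↘ V.left) ≫ V.hom)
  obtain ⟨ι, Z, z, hZ, hz, hzo, hzs⟩ := exists_affine_charts (IsAlgSpace.yon_obj E)
  refine descends_isClosedMor (fun i => IsPullback.of_hasPullback snd (z i)) hzo hzs fun i => ?_
  haveI := hZ i
  have sqi := (IsPullback.of_hasPullback snd (z i)).paste_horiz sq
  obtain ⟨m, hm⟩ := (yon S).map_surjective (z i)
  haveI : Etale m.left := etale_left (hm ▸ hz i)
  haveI : IsLocallyNoetherian E.left := ‹IsLocallyNoetherian 𝔸(ULift.{u} (Fin n); V.left)›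
  haveI : IsLocallyNoetherian (Z i).left := LocallyOfFiniteType.isLocallyNoetherian m.left
  haveI : IsNoetherianRing Γ((Z i).left, ⊤) :=
    IsLocallyNoetherian.component_noetherian ⟨⊤, isAffineOpen_top _⟩
  exact isClosedMap_of_dvrLiftExt (hft.2 (IsAlgSpace.yon_obj _) (isQuasiCompactSp_yon _) _ _ _ sqi)
    (locP_of_isPullback hX hY (IsAlgSpace.yon_obj _) sqi hft.1) (dvrLiftExt_of_isPullback sqi hd)

end AlgSpLib
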