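import Groth.Agent.AlgSpLib.ValVC
import Groth.Agent.AlgSpLib.DecentPoints

/-!
# Universally closed morphisms satisfy the existence part of the valuative criterion
-/

set_option autoImplicit false
set_option backward.isDefEq.respectTransparency false
set_option backward.isDefEq.respectTransparency.types false

universe u

open CategoryTheory CategoryTheory.Limits AlgebraicGeometry Opposite AlgSp Topology

namespace AlgSpLib

variable {S : Scheme.{u}}

/-- Every point of `X` is defined by a quasi-compact field-valued point. -/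
def HasQcPoints (X : Sp S) : Prop :=
  ∀ x : Points X, ∃ p : FieldPt X, Points.mk p = x ∧ RepWith @QuasiCompact p.toHom

theorem hasQcPoints_of_isDecent {X : Sp S} (h : IsDecent X) : HasQcPoints X := fun x =>
  let ⟨p, hp, _, hq⟩ := h x
  ⟨p, hp, hq⟩

theorem hasQcPoints_of_representable {X X' : Sp S} {π : X' ⟶ X} (hπ : Representable π) (h : HasQcPoints X) :
    HasQcPoints X' := fun x => by
  obtain ⟨p, hp, hq⟩ := h (Points.map π x)
  have sq := hπ.isPullback p.toHom
  obtain ⟨z, hz, -⟩ := exists_point_isPullback sq x (Points.schemeHomeo p.pt (IsLocalRing.closedPoint p.K)) (by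
    rw [← hp, ← Points.ofPt_toHom p (IsLocalRing.closedPoint p.K)]
    exact congrFun (ofPt_comp_ofScheme p.toHom) _)
  obtain ⟨w, rfl⟩ := (Points.schemeHomeo _).surjective z
  have hq' : RepWith @QuasiCompact (hπ.fst p.toHom) := repWith_of_isPullback sq.flip hq
  refine ⟨FieldPt.ofPt (hπ.fst p.toHom) w, (Points.ofPt_eq_map_ofScheme _ w).trans hz, ?_⟩
  rw [FieldPt.toHom_ofPt]
  let j : Over.mk ((hπ.pullback p.toHom).left.fromSpecResidueField w ≫ (hπ.pullback p.toHom).hom) ⟶
      hπ.pullback p.toHom := Over.homMk ((hπ.pullback p.toHom).left.fromSpecResidueField w) rfl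
  exact repWith_comp ((repWith_yon_map_iff (P := (@QuasiCompact : MorphismProperty Scheme.{u})) j).2
    (@quasiCompact_of_finite _ _ _ (Finite.of_subsingleton
      (α := PrimeSpectrum ((hπ.pullback p.toHom).left.residueField w))))) hq'

theorem exists_specializes_over {P : Sp S} {V : Over S} {g : P ⟶ (yon S).obj V} (hcl : IsClosedMap (Points.map g))
    (x : Points P) (v : V.left) (h : Points.toScheme V (Points.map g x) ⤳ v) :
    ∃ z, x ⤳ z ∧ Points.toScheme V (Points.map g z) = v := by
  have h' : Points.map g x ⤳ Points.schemeHomeo V v := by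
    have := h.map (Points.schemeHomeo V).continuous
    erw [(Points.schemeHomeo V).apply_symm_apply] at this
    exact this
  obtain ⟨z, hz, hgz⟩ := h'.mem_closed (hcl _ (isClosed_closure (s := ({x} : Set (Points P))))) ⟨x, subset_closure rfl, rfl⟩
  exact ⟨z, specializes_iff_mem_closure.2 hz, by
    rw [hgz]; exact (Points.schemeHomeo V).symm_apply_apply v⟩

/-- Lifting a specialization gives a dominating extension with a lift. -/
theorem hasLiftExt_of_closed {X Y : Sp S} (hX : IsAlgSpace X) (hY : IsAlgSpace Y) {f : X ⟶ Y}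
    (hc : IsUnivClosedMor f) (sq : ValSq f) (hqc : HasQcPoints (pullback f sq.bot)) : sq.HasLiftExt := by
  have sqP := IsPullback.of_hasPullback f sq.bot
  have hP : IsAlgSpace (pullback f sq.bot) := isAlgSpace_pullback hX (IsAlgSpace.yon_obj _) hY f sq.bot
  let g := pullback.snd f sq.bot
  let s : (yon S).obj sq.ptK ⟶ pullback f sq.bot := sqP.lift sq.top ((yon S).map sq.j) sq.comm
  have hsg : s ≫ g = (yon S).map sq.j := sqP.lift_snd _ _ _
  let η : sq.ptK.left := IsLocalRing.closedPoint sq.K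
  let x := Points.ofPt s η
  -- a specialization over the closed point
  have hclosed : IsClosedMap (Points.map g) := hc (IsAlgSpace.yon_obj _) sq.bot _ _ sqP
  obtain ⟨z, hz, hgz⟩ := exists_specializes_over (V := sq.ptA) hclosed x (IsLocalRing.closedPoint sq.A)
    (IsLocalRing.specializes_closedPoint (R := sq.A) _)
  -- lift it to a chart
  obtain ⟨U, a, ha, has⟩ := hP.atlas
  obtain ⟨u, hu⟩ := surjective_ofPt has z
  obtain ⟨u', hu', hu'x⟩ := exists_generalization_lift hz (hqc x) ha hu
  obtain ⟨W, p, t, sqW⟩ := exists_isPullback_yon a s ha.rep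
  obtain ⟨w, hwp, -⟩ := (ofPt_eq_ofPt_iff sqW u' η).1 hu'x
  obtain ⟨gU, hgU⟩ := (yon S).map_surjective (a ≫ g)
  have hpt : p ≫ gU = t ≫ sq.j := (yon S).map_injective (by
    rw [Functor.map_comp, Functor.map_comp, hgU, reassoc_of% sqW.w, hsg])
  have hgu : gU.left u = IsLocalRing.closedPoint sq.A := by
    rw [← hgz, ← hu, Points.map_ofPt, ← hgU, Points.toScheme_ofPt]
  -- the valuation ring
  have hspec : p.left w ⤳ u := hwp ▸ hu'
  let ρ : U.left.presheaf.stalk u ⟶ W.left.residueField w :=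
    U.left.presheaf.stalkSpecializes hspec ≫ p.left.stalkMap w ≫ W.left.residue w
  obtain ⟨A', hA, hA_local⟩ := IsLocalRing.exists_factor_valuationRing ρ.hom
  let σ : U.left.presheaf.stalk u ⟶ .of A' := CommRingCat.ofHom (ρ.hom.codRestrict _ hA)
  have hσ : Spec.map (CommRingCat.ofHom (algebraMap A' (W.left.residueField w))) ≫
      Spec.map σ ≫ U.left.fromSpecStalk u = W.left.fromSpecResidueField w ≫ p.left := by
    rw [Scheme.fromSpecResidueField, Category.assoc, ← Scheme.SpecMap_stalkMap_fromSpecStalk,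
      ← Scheme.SpecMap_stalkSpecializes_fromSpecStalk hspec]
    simp_rw [← Spec.map_comp_assoc]
    rfl
  obtain ⟨φ, hφ⟩ := Spec.map_surjective (R := .of sq.A) (S := .of A')
    (Spec.map σ ≫ U.left.fromSpecStalk u ≫ gU.left)
  obtain ⟨ψ, hψ⟩ := Spec.map_surjective (R := .of sq.K) (S := W.left.residueField w)
    (W.left.fromSpecResidueField w ≫ t.left)
  have hpt' : p.left ≫ gU.left = t.left ≫ sq.j.left := by rw [← Over.comp_left, ← Over.comp_left, hpt]
  have hcomm : (algebraMap A' (W.left.residueField w)).comp φ.hom = ψ.hom.comp (algebraMap sq.A sq.K) := by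
    have : Spec.map (φ ≫ CommRingCat.ofHom (algebraMap A' (W.left.residueField w))) =
        Spec.map (CommRingCat.ofHom (algebraMap sq.A sq.K) ≫ ψ) := by
      rw [Spec.map_comp, Spec.map_comp, hφ, hψ, Category.assoc, reassoc_of% hσ, hpt']
      rfl
    exact congrArg CommRingCat.Hom.hom (Spec.map_injective this)
  have hloc : IsLocalHom φ.hom := by
    have h2 : Spec.map σ (IsLocalRing.closedPoint A') = IsLocalRing.closedPoint (U.left.presheaf.stalk u) :=
      IsLocalRing.comap_closedPoint (S := A') (ρ.hom.codRestrict A'.toSubring hA)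
    have h1 : PrimeSpectrum.comap φ.hom (IsLocalRing.closedPoint A') = IsLocalRing.closedPoint sq.A := by
      change Spec.map φ (IsLocalRing.closedPoint A') = _
      rw [hφ, Scheme.Hom.comp_apply, Scheme.Hom.comp_apply, h2, U.left.fromSpecStalk_closedPoint]
      exact hgu
    exact ((IsLocalRing.local_hom_TFAE φ.hom).out 0 4).2 (congrArg PrimeSpectrum.asIdeal h1)
  let e : sq.DomExt :=
    { A' := A', K' := W.left.residueField w, φ := φ.hom, ψ := ψ.hom, comm := hcomm, isLocalHom := hloc }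
  let lu : e.ptA' ⟶ U := Over.homMk (Spec.map σ ≫ U.left.fromSpecStalk u) (by
    change _ = Spec.map φ ≫ sq.str
    rw [hφ, Category.assoc, Category.assoc, Category.assoc]
    exact congrArg (fun m => Spec.map σ ≫ U.left.fromSpecStalk u ≫ m) (Over.w gU).symm)
  let k : e.ptK' ⟶ e.ptA' := Over.homMk (Spec.map (CommRingCat.ofHom (algebraMap e.A' e.K'))) rfl
  let ψo : e.ptK' ⟶ sq.ptK := Over.homMk (Spec.map (CommRingCat.ofHom e.ψ)) (by
    change Spec.map _ ≫ Spec.map _ ≫ _ = Spec.map _ ≫ Spec.map _ ≫ _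
    rw [← Spec.map_comp_assoc, ← Spec.map_comp_assoc, ← CommRingCat.ofHom_comp,
      ← CommRingCat.ofHom_comp, e.comm])
  let wo : e.ptK' ⟶ W := Over.homMk (W.left.fromSpecResidueField w) (by
    change _ = Spec.map _ ≫ Spec.map φ ≫ sq.str
    rw [hφ, Category.assoc, Category.assoc]
    erw [reassoc_of% hσ]
    exact congrArg (W.left.fromSpecResidueField w ≫ ·) ((Over.w p).symm.trans (congrArg (p.left ≫ ·) (Over.w gU).symm)))
  refine ⟨e, (yon S).map lu ≫ a ≫ pullback.fst f sq.bot, ?_, ?_⟩
  · change (yon S).map k ≫ _ = (yon S).map ψo ≫ sq.top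
    have e1 : k ≫ lu = wo ≫ p := Over.OverMorphism.ext hσ
    have e2 : wo ≫ t = ψo := Over.OverMorphism.ext hψ.symm
    rw [← Functor.map_comp_assoc, e1, Functor.map_comp_assoc, reassoc_of% sqW.w, sqP.lift_fst,
      ← Functor.map_comp_assoc, e2]
  · rw [Category.assoc, Category.assoc, pullback.condition, ← Category.assoc a, ← hgU, ← Functor.map_comp_assoc]
    congr 2
    apply Over.OverMorphism.ext
    change (Spec.map σ ≫ U.left.fromSpecStalk u) ≫ gU.left = Spec.map φ
    rw [hφ, Category.assoc]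

theorem existVC_of_univClosed {X Y : Sp S} (hX : IsAlgSpace X) (hY : IsAlgSpace Y) {f : X ⟶ Y}
    (hqs : IsQuasiSeparatedMor f) (hc : IsUnivClosedMor f) : ExistVC f := fun sq =>
  hasLiftExt_of_closed hX hY hc sq (hasQcPoints_of_isDecent (isDecent_of_isQuasiSeparatedMor
    (isAlgSpace_pullback hX (IsAlgSpace.yon_obj _) hY f sq.bot) (g := pullback.snd f sq.bot)
    (repWith_diagonal_of_isPullback (IsPullback.of_hasPullback f sq.bot) hqs)))

theorem existVC_of_univClosed_decentMor {X Y : Sp S} (hX : IsAlgSpace X) (hY : IsAlgSpace Y) {f : X ⟶ Y}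
    (hd : IsDecentMor f) (hc : IsUnivClosedMor f) : ExistVC f := fun sq =>
  hasLiftExt_of_closed hX hY hc sq
    (hasQcPoints_of_isDecent (hd sq.bot _ _ (IsPullback.of_hasPullback f sq.bot)))

theorem existVC_of_univClosed_decent {X Y : Sp S} (hX : IsAlgSpace X) (hY : IsAlgSpace Y) {f : X ⟶ Y}
    (hd : IsDecent X) (hc : IsUnivClosedMor f) : ExistVC f := fun sq =>
  hasLiftExt_of_closed hX hY hc sq (hasQcPoints_of_representable
    (MorphismProperty.of_isPullback (P := Representable) (IsPullback.of_hasPullback f sq.bot).flip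
      (hY.representable_from_yon sq.bot))
    (hasQcPoints_of_isDecent hd))

theorem vc_iff {X Y : Sp S} (hX : IsAlgSpace X) (hY : IsAlgSpace Y) {f : X ⟶ Y}
    (hqc : IsQuasiCompactMor f) (hqs : IsQuasiSeparatedMor f) :
    ((IsSeparatedMor f ∧ IsUnivClosedMor f) ↔ VC f) ∧
    ((IsSeparatedMor f ∧ IsUnivClosedMor f) ↔ (UniqVC f ∧ ExistVCStrict f)) := by
  have h1 : (IsSeparatedMor f ∧ IsUnivClosedMor f) ↔ VC f :=
    ⟨fun h => ⟨uniqVC_of_isSeparatedMor h.1, existVC_of_univClosed hX hY hqs h.2⟩,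
      fun h => ⟨isSeparatedMor_of_uniqVC hX hqs h.1, isUnivClosedMor_of_existVC hqc h.2⟩⟩
  refine ⟨h1, h1.trans ⟨fun h => ⟨h.1, (existVC_iff_strict_of_sep hX hY
    (isSeparatedMor_of_uniqVC hX hqs h.1)).1 h.2⟩, fun h => ⟨h.1, existVC_of_strict h.2⟩⟩⟩

/-! ## The representable case -/

/-- An element of `K` which becomes integral in a dominating valuation ring is integral. -/
theorem mem_range_of_dominates {A K A' K' : Type u} [CommRing A] [IsDomain A] [ValuationRing A] [Field K]
    [Algebra A K] [IsFractionRing A K] [CommRing A'] [Field K'] [Algebra A' K']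
    (φ : A →+* A') (ψ : K →+* K') [IsLocalHom φ] (hinj : Function.Injective (algebraMap A' K'))
    (comm : (algebraMap A' K').comp φ = ψ.comp (algebraMap A K)) {x : K} {y : A'}
    (h : algebraMap A' K' y = ψ x) : ∃ a : A, algebraMap A K a = x := by
  rcases ValuationRing.isInteger_or_isInteger A x with ⟨a, ha⟩ | ⟨a, ha⟩
  · exact ⟨a, ha⟩
  · rcases eq_or_ne x 0 with rfl | hx
    · exact ⟨0, map_zero _⟩
    have h1 : y * φ a = 1 := hinj (by
      rw [map_mul, map_one, h, show algebraMap A' K' (φ a) = ψ (algebraMap A K a) from congr($comm a), ha,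
        ← map_mul, mul_inv_cancel₀ hx, map_one])
    obtain ⟨v, rfl⟩ := isUnit_of_map_unit φ a (IsUnit.of_mul_eq_one_right _ h1)
    refine ⟨((v⁻¹ : Aˣ) : A), ?_⟩
    have h2 : algebraMap A K ((v⁻¹ : Aˣ) : A) * algebraMap A K (v : A) = 1 := by
      rw [← map_mul, Units.inv_mul, map_one]
    rw [ha] at h2
    simpa [hx] using congrArg (· * x) h2

theorem existVCStrict_of_representable {X Y : Sp S} {f : X ⟶ Y} (hf : Representable f) (h : ExistVC f) :
    ExistVCStrict f := by
  intro sq
  obtain ⟨e, l, hl₁, hl₂⟩ := h sq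
  have sqP := hf.isPullback sq.bot
  let P : Over S := hf.pullback sq.bot
  obtain ⟨s, hs⟩ := (yon S).map_surjective (sqP.lift sq.top ((yon S).map sq.j) sq.comm)
  obtain ⟨b, hb⟩ := (yon S).map_surjective (sqP.lift l
    ((yon S).map (Over.homMk (Spec.map (CommRingCat.ofHom e.φ)) rfl : e.ptA' ⟶ sq.ptA)) hl₂)
  let k : e.ptK' ⟶ e.ptA' := Over.homMk (Spec.map (CommRingCat.ofHom (algebraMap e.A' e.K'))) rfl
  let ψo : e.ptK' ⟶ sq.ptK := Over.homMk (Spec.map (CommRingCat.ofHom e.ψ)) (by
    change Spec.map _ ≫ Spec.map _ ≫ _ = Spec.map _ ≫ Spec.map _ ≫ _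
    rw [← Spec.map_comp_assoc, ← Spec.map_comp_assoc, ← CommRingCat.ofHom_comp,
      ← CommRingCat.ofHom_comp, e.comm])
  have hbs : k ≫ b = ψo ≫ s := (yon S).map_injective (by
    rw [Functor.map_comp, Functor.map_comp, hb, hs]
    apply sqP.hom_ext
    · rw [Category.assoc, Category.assoc, sqP.lift_fst, sqP.lift_fst]; exact hl₁
    · rw [Category.assoc, Category.assoc, sqP.lift_snd, sqP.lift_snd, ← Functor.map_comp, ← Functor.map_comp]
      congr 1
      apply Over.OverMorphism.ext
      change Spec.map _ ≫ Spec.map _ = Spec.map _ ≫ Spec.map _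
      rw [← Spec.map_comp, ← Spec.map_comp, ← CommRingCat.ofHom_comp, ← CommRingCat.ofHom_comp, e.comm])
  -- an affine open containing both
  obtain ⟨O, hO, hbO, -⟩ := exists_isAffineOpen_mem_and_subset (X := P.left) (U := ⊤)
    (x := b.left (IsLocalRing.closedPoint e.A')) trivial
  have hbr : Set.range b.left ⊆ (O : Set P.left) := by
    rintro _ ⟨y, rfl⟩
    exact ((IsLocalRing.specializes_closedPoint (R := e.A') y).map b.left.continuous).mem_open O.isOpen hbO
  have hsr : Set.range s.left ⊆ (O : Set P.left) := by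
    rintro _ ⟨y, rfl⟩
    have hy : y = ψo.left (IsLocalRing.closedPoint e.K') := Subsingleton.elim (α := PrimeSpectrum sq.K) _ _
    rw [hy, ← Scheme.Hom.comp_apply, ← Over.comp_left, ← hbs, Over.comp_left, Scheme.Hom.comp_apply]
    exact hbr ⟨_, rfl⟩
  rw [← hO.range_fromSpec] at hbr hsr
  obtain ⟨α, hα⟩ := Spec.map_surjective (IsOpenImmersion.lift hO.fromSpec b.left hbr)
  obtain ⟨β, hβ⟩ := Spec.map_surjective (IsOpenImmersion.lift hO.fromSpec s.left hsr)
  have hαβ : (algebraMap e.A' e.K').comp α.hom = e.ψ.comp β.hom := by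
    have : Spec.map (α ≫ CommRingCat.ofHom (algebraMap e.A' e.K')) = Spec.map (β ≫ CommRingCat.ofHom e.ψ) := by
      rw [Spec.map_comp, Spec.map_comp, hα, hβ, ← cancel_mono hO.fromSpec, Category.assoc, Category.assoc,
        IsOpenImmersion.lift_fac, IsOpenImmersion.lift_fac]
      exact congrArg CommaMorphism.left hbs
    exact congrArg CommRingCat.Hom.hom (Spec.map_injective this)
  haveI := e.isLocalHom
  have hmem : ∀ r, ∃ a : sq.A, algebraMap sq.A sq.K a = β.hom r := fun r =>
    mem_range_of_dominates e.φ e.ψ (IsFractionRing.injective e.A' e.K') e.comm congr($hαβ r)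
  choose γ₀ hγ₀ using hmem
  have hi := IsFractionRing.injective sq.A sq.K
  let γ : Γ(P.left, O) →+* sq.A :=
    { toFun := γ₀
      map_one' := hi (by simp [hγ₀])
      map_mul' := fun _ _ => hi (by simp [hγ₀])
      map_zero' := hi (by simp [hγ₀])
      map_add' := fun _ _ => hi (by simp [hγ₀]) }
  have hγ : (CommRingCat.ofHom γ) ≫ CommRingCat.ofHom (algebraMap sq.A sq.K) = β :=
    CommRingCat.hom_ext (RingHom.ext hγ₀)
  let m₀ : Spec (.of sq.A) ⟶ P.left := Spec.map (CommRingCat.ofHom γ) ≫ hO.fromSpec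
  have hm₀ : Spec.map (CommRingCat.ofHom (algebraMap sq.A sq.K)) ≫ m₀ = s.left := by
    rw [← Spec.map_comp_assoc, hγ, hβ, IsOpenImmersion.lift_fac]
  let π : P ⟶ sq.ptA := hf.snd sq.bot
  have hπ : m₀ ≫ π.left = 𝟙 _ := by
    obtain ⟨δ, hδ⟩ := Spec.map_surjective (R := .of sq.A) (S := .of sq.A) (m₀ ≫ π.left)
    have hsπ : s ≫ π = sq.j := (yon S).map_injective (by rw [Functor.map_comp, hs, sqP.lift_snd])
    have : Spec.map (δ ≫ CommRingCat.ofHom (algebraMap sq.A sq.K)) =
        Spec.map (CommRingCat.ofHom (algebraMap sq.A sq.K)) := by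
      rw [Spec.map_comp, hδ, reassoc_of% hm₀]
      exact congrArg CommaMorphism.left hsπ
    have hδ' : δ = 𝟙 _ := CommRingCat.hom_ext (RingHom.ext fun r => hi congr($(Spec.map_injective this) r))
    rw [← hδ, hδ', Spec.map_id]
  let m : sq.ptA ⟶ P := Over.homMk m₀ (by
    change m₀ ≫ P.hom = sq.str
    rw [← Over.w π, reassoc_of% hπ]; rfl)
  refine ⟨(yon S).map m ≫ hf.fst sq.bot, ?_, ?_⟩
  · rw [← Functor.map_comp_assoc, show sq.j ≫ m = s from Over.OverMorphism.ext hm₀, hs, sqP.lift_fst]
  · rw [Category.assoc, sqP.w, ← Functor.map_comp_assoc,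
      show m ≫ hf.snd sq.bot = 𝟙 _ from Over.OverMorphism.ext hπ, CategoryTheory.Functor.map_id, Category.id_comp]

end AlgSpLib
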