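import Groth.Agent.AlgSpLib.FpqcSep
import Groth.Prelude.Def_AlgSpMor5
import Mathlib.RingTheory.Flat.TorsionFree
import Mathlib.RingTheory.RingHom.FaithfullyFlat
import Mathlib.Algebra.Category.Ring.Instances

/-!
# Valuative lifts descend from dominating extensions
-/

set_option autoImplicit false
set_option backward.isDefEq.respectTransparency false
set_option backward.isDefEq.respectTransparency.types false

universe u

open CategoryTheory CategoryTheory.Limits AlgebraicGeometry Opposite AlgSp Topology
open scoped TensorProduct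

namespace AlgSpLib

variable {S : Scheme.{u}}

/-- Injectivity on functions is stable under flat affine base change. -/
lemma appTop_injective_of_flat_baseChange {X Y Z P : Scheme.{u}} [IsAffine X] [IsAffine Y] [IsAffine Z]
    {fst : P ⟶ X} {snd : P ⟶ Y} {f : X ⟶ Z} {g : Y ⟶ Z} [Flat g] (h : IsPullback fst snd f g)
    (hf : Function.Injective f.appTop) : Function.Injective snd.appTop := by
  letI algX : Algebra Γ(Z, ⊤) Γ(X, ⊤) := f.appTop.hom.toAlgebra
  letI algY : Algebra Γ(Z, ⊤) Γ(Y, ⊤) := g.appTop.hom.toAlgebra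
  haveI : Module.Flat Γ(Z, ⊤) Γ(Y, ⊤) := g.flat_appTop
  obtain ⟨e, he⟩ := exists_tensor_equiv (isPushout_appTop_of_isPullback h) rfl rfl
  have hi : Function.Injective (Algebra.linearMap Γ(Z, ⊤) Γ(X, ⊤)) := hf
  have h1 := Module.Flat.rTensor_preserves_injective_linearMap (M := Γ(Y, ⊤)) _ hi
  intro r₁ r₂ hr
  apply (TensorProduct.lid Γ(Z, ⊤) Γ(Y, ⊤)).symm.injective
  apply h1
  apply e.injective
  simpa [he] using hr

theorem flat_of_valuation {A B : Type u} [CommRing A] [IsDomain A] [ValuationRing A] [CommRing B] [IsDomain B]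
    (φ : A →+* B) (h : Function.Injective φ) : φ.Flat := by
  letI := φ.toAlgebra
  change Module.Flat A B
  haveI : IsBezout A := inferInstance
  haveI : FaithfulSMul A B := (faithfulSMul_iff_algebraMap_injective A B).2 h
  haveI : Module.IsTorsionFree A B := inferInstance
  rw [Module.Flat.flat_iff_torsion_eq_bot_of_isBezout, ← Submodule.isTorsionFree_iff_torsion_eq_bot]
  infer_instance

/-- A separated morphism: lifts after dominating extensions give lifts. -/
theorem hasLift_of_domExt {X Y : Sp S} (hX : IsAlgSpace X) (hY : IsAlgSpace Y) {f : X ⟶ Y}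
    (hsep : IsSeparatedMor f) (sq : ValSq f) (e : sq.DomExt) (he : e.HasLift) : sq.HasLift := by
  obtain ⟨l, hl₁, hl₂⟩ := he
  let q : e.ptA' ⟶ sq.ptA := Over.homMk (Spec.map (CommRingCat.ofHom e.φ)) rfl
  let k : e.ptK' ⟶ e.ptA' := Over.homMk (Spec.map (CommRingCat.ofHom (algebraMap e.A' e.K'))) rfl
  let ψo : e.ptK' ⟶ sq.ptK := Over.homMk (Spec.map (CommRingCat.ofHom e.ψ)) (by
    change Spec.map _ ≫ Spec.map _ ≫ _ = Spec.map _ ≫ Spec.map _ ≫ _
    rw [← Spec.map_comp_assoc, ← Spec.map_comp_assoc, ← CommRingCat.ofHom_comp,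
      ← CommRingCat.ofHom_comp, e.comm])
  have hkq : k ≫ q = ψo ≫ sq.j := Over.OverMorphism.ext (by
    change Spec.map _ ≫ Spec.map _ = Spec.map _ ≫ Spec.map _
    rw [← Spec.map_comp, ← Spec.map_comp, ← CommRingCat.ofHom_comp, ← CommRingCat.ofHom_comp, e.comm])
  -- flatness
  have hcomp : Function.Injective ((algebraMap e.A' e.K').comp e.φ) := by
    rw [e.comm]; exact e.ψ.injective.comp (IsFractionRing.injective sq.A sq.K)
  have hφi : Function.Injective e.φ := Function.Injective.of_comp (f := algebraMap e.A' e.K') hcomp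
  haveI := e.isLocalHom
  haveI : Flat q.left := (HasRingHomProperty.Spec_iff (P := @Flat)).2 (flat_of_valuation e.φ hφi)
  haveI : Surjective q.left := ⟨by
    letI := e.φ.toAlgebra
    haveI : Module.Flat sq.A e.A' := flat_of_valuation e.φ hφi
    haveI : IsLocalHom (algebraMap sq.A e.A') := e.isLocalHom
    haveI : Module.FaithfullyFlat sq.A e.A' := Module.FaithfullyFlat.of_flat_of_isLocalHom
    exact PrimeSpectrum.comap_surjective_of_faithfullyFlat⟩
  haveI : IsAffine sq.ptA.left := inferInstanceAs (IsAffine (Spec _))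
  haveI : IsAffine e.ptA'.left := inferInstanceAs (IsAffine (Spec _))
  haveI : IsAffine e.ptK'.left := inferInstanceAs (IsAffine (Spec _))
  haveI : IsAffine sq.ptK.left := inferInstanceAs (IsAffine (Spec _))
  -- the base change
  have sqP := IsPullback.of_hasPullback f sq.bot
  have hP : IsAlgSpace (pullback f sq.bot) := isAlgSpace_pullback hX (IsAlgSpace.yon_obj _) hY f sq.bot
  have hPsep : IsSeparatedMor (pullback.snd f sq.bot) := repWith_diagonal_of_isPullback sqP hsep
  let b : (yon S).obj e.ptA' ⟶ pullback f sq.bot := sqP.lift l ((yon S).map q) hl₂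
  let s : (yon S).obj sq.ptK ⟶ pullback f sq.bot := sqP.lift sq.top ((yon S).map sq.j) sq.comm
  have hbs : (yon S).map k ≫ b = (yon S).map ψo ≫ s := sqP.hom_ext
    (by rw [Category.assoc, Category.assoc, sqP.lift_fst, sqP.lift_fst]; exact hl₁)
    (by rw [Category.assoc, Category.assoc, sqP.lift_snd, sqP.lift_snd, ← Functor.map_comp, ← Functor.map_comp,
      hkq])
  -- a quasi-compact open piece
  let t₀ : e.ptA'.left := IsLocalRing.closedPoint e.A'
  obtain ⟨κ, U, a, hU, ha, hopen, hs⟩ := exists_affine_charts hP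
  obtain ⟨i, hi⟩ := hs (Points.ofPt b t₀)
  let W : Set (Points (pullback f sq.bot)) := Set.range (Points.map (a i))
  have hW : IsOpen W := (hopen i).isOpen_range
  obtain ⟨b', hb'⟩ := (exists_lift_openSub (W := W) b).2 fun t =>
    ((IsLocalRing.specializes_closedPoint (R := e.A') t).map (Points.continuous_ofPt b)).mem_open hW hi
  obtain ⟨a', ha'⟩ := (exists_lift_openSub (W := W) (a i)).2 fun t =>
    ⟨Points.ofPt (𝟙 ((yon S).obj (U i))) t, by rw [Points.map_ofPt, Category.id_comp]⟩
  have hι := repWith_openSubι (pullback f sq.bot) hW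
  haveI : Mono (openSubι (pullback f sq.bot) W) := mono_openSubι _ _
  have ha'e : RepWith @Etale a' :=
    repWith_of_isPullback (isPullback_of_forall_existsUnique (f := a i) (g := openSubι _ W) (fst := 𝟙 _)
      (snd := a') (by rw [Category.id_comp, ha']) fun R x y h =>
        ⟨x, ⟨Category.comp_id x, (cancel_mono (openSubι (pullback f sq.bot) W)).1 (by rw [Category.assoc, ha', h])⟩,
          fun m hm => (Category.comp_id m).symm.trans hm.1⟩) (ha i)
  have ha's : RepWith @Surjective a' := by
    refine (repWith_surjective_iff ha'e.rep).2 fun z => ?_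
    obtain ⟨w, hw⟩ := (range_openSubι (pullback f sq.bot) (W := W)).subset ⟨z, rfl⟩
    exact ⟨w, injective_map_of_mono (openSubι (pullback f sq.bot) W) (by rw [← Points.map_comp, ha', hw])⟩
  have hWsep : IsSeparatedMor (openSubι _ W ≫ pullback.snd f sq.bot) :=
    isSeparatedMor_comp (isSeparatedMor_of_repWith
      (repWith_mono (fun _ _ g (_ : IsOpenImmersion g) => (inferInstance : IsSeparated g)) hι)) hPsep
  have hb'f : b' ≫ openSubι _ W ≫ pullback.snd f sq.bot = (yon S).map q := by
    rw [reassoc_of% hb', sqP.lift_snd]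
  haveI : IsAffine (pullback q q).left := IsAffine.of_isIso (left_isPullback q q).isoPullback.hom
  haveI := hU i
  -- the two restrictions agree
  have heq : (yon S).map (pullback.fst q q) ≫ b' = (yon S).map (pullback.snd q q) ≫ b' := by
    obtain ⟨E, ι, hι', hιw, huniv⟩ := exists_closed_equalizer hWsep ((yon S).map (pullback.fst q q) ≫ b')
      ((yon S).map (pullback.snd q q) ≫ b') (by
        rw [Category.assoc, Category.assoc, hb'f, ← Functor.map_comp, ← Functor.map_comp, pullback.condition])
    haveI := hι'
    let m : pullback (k ≫ q) (k ≫ q) ⟶ pullback q q :=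
      pullback.map (k ≫ q) (k ≫ q) q q k k (𝟙 _) (by simp) (by simp)
    have hmono : Mono sq.j := by
      haveI : Mono sq.j.left := by
        haveI : Epi (CommRingCat.ofHom (algebraMap sq.A sq.K)) := IsLocalization.epi (nonZeroDivisors sq.A) sq.K
        exact inferInstanceAs (Mono (Scheme.Spec.map (CommRingCat.ofHom (algebraMap sq.A sq.K)).op))
      exact (Over.forget S).mono_of_mono_map this
    obtain ⟨l', hl'⟩ := huniv _ m (by
      rw [← cancel_mono (openSubι (pullback f sq.bot) W)]
      simp only [Category.assoc, hb']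
      rw [← Functor.map_comp_assoc, ← Functor.map_comp_assoc, pullback.lift_fst, pullback.lift_snd,
        Functor.map_comp_assoc, Functor.map_comp_assoc, hbs, ← Functor.map_comp_assoc, ← Functor.map_comp_assoc]
      congr 2
      rw [← cancel_mono sq.j, Category.assoc, Category.assoc, ← hkq, pullback.condition])
    haveI : IsAffine (pullback (k ≫ q) (k ≫ q)).left :=
      IsAffine.of_isIso (left_isPullback (k ≫ q) (k ≫ q)).isoPullback.hom
    haveI : Flat (k ≫ q).left := by
      haveI : Flat k.left := (HasRingHomProperty.Spec_iff (P := @Flat)).2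
        (flat_of_valuation (algebraMap e.A' e.K') (IsFractionRing.injective e.A' e.K'))
      rw [Over.comp_left]; infer_instance
    have hki : Function.Injective k.left.appTop := by
      have hnat := Scheme.ΓSpecIso_naturality (CommRingCat.ofHom (algebraMap e.A' e.K'))
      have h1 : ∀ r, (Scheme.ΓSpecIso (.of e.K')).hom (k.left.appTop r) =
          algebraMap e.A' e.K' ((Scheme.ΓSpecIso (.of e.A')).hom r) := fun r => congr($hnat r)
      intro r₁ r₂ hr
      apply (Scheme.ΓSpecIso (.of e.A')).commRingCatIsoToRingEquiv.injective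
      apply IsFractionRing.injective e.A' e.K'
      exact (h1 r₁).symm.trans ((congrArg (Scheme.ΓSpecIso (.of e.K')).hom hr).trans (h1 r₂))
    have hmi : Function.Injective m.left.appTop := by
      let mid := pullback (k ≫ q) q
      haveI : IsAffine mid.left := IsAffine.of_isIso (left_isPullback (k ≫ q) q).isoPullback.hom
      let m₁ : pullback (k ≫ q) (k ≫ q) ⟶ mid :=
        pullback.map (k ≫ q) (k ≫ q) (k ≫ q) q (𝟙 _) k (𝟙 _) (by simp) (by simp)
      let m₂ : mid ⟶ pullback q q := pullback.map (k ≫ q) q q q k (𝟙 _) (𝟙 _) (by simp) (by simp)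
      have hm : m = m₁ ≫ m₂ := pullback.hom_ext (by simp [m, m₁, m₂]) (by simp [m, m₁, m₂])
      have sq₁ : IsPullback (pullback.snd (k ≫ q) (k ≫ q)) m₁ k (pullback.snd (k ≫ q) q) := by
        refine IsPullback.of_bot ?_ (by simp [m₁]) (IsPullback.of_hasPullback (k ≫ q) q).flip |> fun h => h
        simpa [m₁] using (IsPullback.of_hasPullback (k ≫ q) (k ≫ q)).flip
      have sq₂ : IsPullback (pullback.fst (k ≫ q) q) m₂ k (pullback.fst q q) := by
        refine IsPullback.of_bot ?_ (by simp [m₂]) (IsPullback.of_hasPullback q q) |> fun h => h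
        simpa [m₂] using IsPullback.of_hasPullback (k ≫ q) q
      haveI : Flat (pullback.fst q q).left :=
        MorphismProperty.of_isPullback (P := @Flat) (left_isPullback q q).flip inferInstance
      haveI : Flat (pullback.snd (k ≫ q) q).left :=
        MorphismProperty.of_isPullback (P := @Flat) (left_isPullback (k ≫ q) q) inferInstance
      have sq₁' : IsPullback (pullback.snd (k ≫ q) (k ≫ q)).left m₁.left k.left (pullback.snd (k ≫ q) q).left :=
        sq₁.map (Over.forget S)
      have sq₂' : IsPullback (pullback.fst (k ≫ q) q).left m₂.left k.left (pullback.fst q q).left :=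
        sq₂.map (Over.forget S)
      intro r₁ r₂ hr
      rw [hm, comp_appTop, comp_appTop] at hr
      exact appTop_injective_of_flat_baseChange sq₂' hki (appTop_injective_of_flat_baseChange sq₁' hki hr)
    haveI : IsAffine E.left := isAffine_of_isAffineHom ι.left
    haveI : IsIso ι.left := isIso_of_appTop_bijective ι.left ⟨fun r₁ r₂ hr => hmi (by
      rw [← hl', comp_appTop, comp_appTop, hr]),
      ((IsClosedImmersion.isAffine_surjective_of_isAffine ι.left).2)⟩
    haveI : IsIso ((Over.forget S).map ι) := inferInstanceAs (IsIso ι.left)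
    haveI : IsIso ι := isIso_of_reflects_iso _ (Over.forget S)
    exact (cancel_epi ((yon S).map ι)).1 hιw
  obtain ⟨c, hc, hcf⟩ := exists_fpqc_desc (isAlgSpace_openSub hP hW) hWsep ha'e ha's q b' hb'f heq
  refine ⟨c ≫ openSubι _ W ≫ pullback.fst f sq.bot, ?_, ?_⟩
  · haveI : Flat ψo.left := by
      refine (HasRingHomProperty.Spec_iff (P := @Flat)).2 ?_
      letI := e.ψ.toAlgebra
      exact (inferInstance : Module.Flat sq.K e.K')
    haveI : Surjective ψo.left := ⟨fun x => ⟨IsLocalRing.closedPoint e.K',
      Subsingleton.elim (α := PrimeSpectrum sq.K) _ _⟩⟩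
    haveI : QuasiCompact ψo.left := inferInstance
    have : (yon S).map sq.j ≫ c ≫ openSubι _ W = s := by
      refine hom_eq_of_fpqc hPsep ψo _ _ ?_ ?_
      · rw [Category.assoc, Category.assoc, hcf, Category.comp_id, sqP.lift_snd]
      · rw [← hbs, ← Functor.map_comp_assoc, ← hkq, Functor.map_comp_assoc, reassoc_of% hc, hb']
    rw [reassoc_of% this, sqP.lift_fst]
  · rw [Category.assoc, Category.assoc, pullback.condition, reassoc_of% hcf]

end AlgSpLib
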