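import Groth.Agent.AlgSpLib.PointFactor
import Groth.Agent.DvrDom.Basic

/-!
# Auxiliary facts for Noetherian valuative criteria
-/

set_option autoImplicit false
set_option backward.isDefEq.respectTransparency false
set_option backward.isDefEq.respectTransparency.types false

universe u

open CategoryTheory CategoryTheory.Limits AlgebraicGeometry Opposite AlgSp Topology

namespace AlgSpLib

variable {S : Scheme.{u}}

/-- The points of a scheme etale over an algebraically closed field are rational. -/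
theorem exists_section_of_etale {K : Type u} [Field K] [IsAlgClosed K] {str : Spec (CommRingCat.of K) ⟶ S}
    {W : Over S} (pK : W ⟶ Over.mk str) [Etale pK.left] (w : W.left) :
    ∃ s : Over.mk str ⟶ W, s ≫ pK = 𝟙 _ ∧ s.left (IsLocalRing.closedPoint K) = w ∧
      ∀ σ : Over.mk str ⟶ W, σ ≫ pK = 𝟙 _ → σ.left (IsLocalRing.closedPoint K) = w → σ = s := by
  let iw := W.left.fromSpecResidueField w
  haveI : Subsingleton (Over.mk str).left := inferInstanceAs (Subsingleton (PrimeSpectrum K))
  haveI : LocallyQuasiFinite pK.left := locallyQuasiFinite_of_etale pK.left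
  have hdisc : DiscreteTopology (pK.left ⁻¹' {pK.left w}) := (pK.left.isDiscrete_preimage_singleton _).to_subtype
  haveI : IsClosedImmersion iw := by
    refine .of_isPreimmersion _ ?_
    rw [Scheme.range_fromSpecResidueField]
    have hu : pK.left ⁻¹' {pK.left w} = Set.univ := Set.eq_univ_of_forall fun x => Subsingleton.elim _ _
    rw [hu] at hdisc
    haveI : DiscreteTopology W.left :=
      ((Homeomorph.Set.univ W.left).symm.isEmbedding).discreteTopology
    exact isClosed_discrete _
  obtain ⟨ψ, hψ⟩ := Spec.map_surjective (R := CommRingCat.of K) (S := W.left.residueField w) (iw ≫ pK.left)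
  haveI : LocallyOfFiniteType (Spec.map ψ) := by rw [hψ]; infer_instance
  have hft : ψ.hom.FiniteType := (HasRingHomProperty.Spec_iff (P := @LocallyOfFiniteType)).1 this
  haveI : IsIso ψ := by
    algebraize [ψ.hom]
    haveI : Module.Finite K (W.left.residueField w) := finite_of_finite_type_of_isJacobsonRing _ _
    rw [ConcreteCategory.isIso_iff_bijective]
    exact IsAlgClosed.algebraMap_bijective_of_isIntegral (k := K) (K := W.left.residueField w)
  haveI : IsIso (iw ≫ pK.left) := hψ ▸ inferInstance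
  let s : Over.mk str ⟶ W := Over.homMk (inv (iw ≫ pK.left) ≫ iw) (by
    change _ = str
    rw [Category.assoc, ← Over.w pK]
    rw [← Category.assoc iw, IsIso.inv_hom_id_assoc]
    rfl)
  refine ⟨s, Over.OverMorphism.ext ?_, ?_, fun σ hσ hσw => Over.OverMorphism.ext ?_⟩
  · change (inv (iw ≫ pK.left) ≫ iw) ≫ pK.left = 𝟙 _
    rw [Category.assoc, IsIso.inv_hom_id]
  · change (inv (iw ≫ pK.left) ≫ iw) (IsLocalRing.closedPoint K) = w
    rw [Scheme.Hom.comp_apply, Scheme.fromSpecResidueField_apply]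
  · haveI : IsReduced (Over.mk str).left := inferInstanceAs (IsReduced (Spec (CommRingCat.of K)))
    obtain ⟨g, hg⟩ := exists_factor_residueField σ.left w fun t => by
      rw [show t = IsLocalRing.closedPoint K from Subsingleton.elim _ _]; exact hσw
    change σ.left = inv (iw ≫ pK.left) ≫ iw
    rw [← hg]
    congr 1
    rw [← cancel_mono (iw ≫ pK.left), IsIso.inv_hom_id, ← Category.assoc, hg, ← Over.comp_left, hσ]
    rfl

theorem subfield_closure_eq_top {K : Type u} [Field K] (L : Subfield K) (T : Set L)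
    (h : L ≤ Subfield.closure (L.subtype '' T)) : Subfield.closure T = ⊤ := by
  refine eq_top_iff.2 fun x _ => ?_
  have hx := h x.2
  rw [← RingHom.map_field_closure] at hx
  obtain ⟨x', hx', e⟩ := hx
  rwa [show x = x' from Subtype.ext e.symm]

theorem exists_dvr_of_hom {A L : Type u} [CommRing A] [IsNoetherianRing A] [Field L] (α : A →+* L)
    (P : Ideal A) [P.IsPrime] (hker : RingHom.ker α ≤ P) (hne : ∃ a ∈ P, α a ≠ 0) (s : Finset L)
    (hs : Subfield.closure (Set.range α ∪ s) = ⊤) :
    ∃ D : ValuationSubring L, IsDiscreteValuationRing D ∧ (∀ a, α a ∈ D) ∧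
      ∀ a, a ∈ P → D.valuation (α a) < 1 := by
  letI := α.toAlgebra
  obtain ⟨D, hD, h1, h2⟩ := DvrDomLib.exists_dvr_dominating (L := L) (A := A) P hker hne s hs
  exact ⟨D, hD, h1, fun a => (h2 a).2⟩

/-- A discrete valuation ring with prescribed non-integral elements. -/
theorem exists_dvr_subfield {R₀ : Type u} [CommRing R₀] [IsNoetherianRing R₀] {K : Type u} [Field K]
    (ι₀ : R₀ →+* K) (V : ValuationSubring K) (hι₀ : ∀ r, ι₀ r ∈ V) {κ : Type u} [Finite κ] [Nonempty κ]
    (g : κ → K) (hg : ∀ i, g i ∉ V) (s : Finset K) :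
    ∃ (L : Subfield K) (D : ValuationSubring L), IsDiscreteValuationRing D ∧
      (∀ r, ∃ h : ι₀ r ∈ L, (⟨ι₀ r, h⟩ : L) ∈ D) ∧ (∀ x ∈ s, x ∈ L) ∧
      ∀ i, ∃ h : (g i)⁻¹ ∈ L, D.valuation ⟨(g i)⁻¹, h⟩ < 1 := by
  classical
  cases nonempty_fintype κ
  have hg0 : ∀ i, g i ≠ 0 := fun i h => hg i (h ▸ V.zero_mem)
  let gens : Finset K := s ∪ Finset.univ.image fun i => (g i)⁻¹
  let L : Subfield K := Subfield.closure (Set.range ι₀ ∪ (gens : Set K))
  have hR : ∀ r, ι₀ r ∈ L := fun r => Subfield.subset_closure (Or.inl ⟨r, rfl⟩)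
  have hgen : ∀ x ∈ gens, x ∈ L := fun x hx => Subfield.subset_closure (Or.inr hx)
  have hgi : ∀ i, (g i)⁻¹ ∈ L := fun i =>
    hgen _ (Finset.mem_union_right _ (Finset.mem_image.2 ⟨i, Finset.mem_univ _, rfl⟩))
  let A := MvPolynomial κ R₀
  let α : A →+* L := MvPolynomial.eval₂Hom (ι₀.codRestrict L hR) fun i => ⟨(g i)⁻¹, hgi i⟩
  have hαC : ∀ r, (α (MvPolynomial.C r) : K) = ι₀ r := fun r => congrArg Subtype.val (MvPolynomial.eval₂Hom_C _ _ r)
  have hαX : ∀ i, α (MvPolynomial.X i) = ⟨(g i)⁻¹, hgi i⟩ := fun i => MvPolynomial.eval₂Hom_X' _ _ i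
  have hmem : ∀ a, (α a : K) ∈ V := fun a => by
    have : (L.subtype.comp α) = MvPolynomial.eval₂Hom ι₀ fun i => (g i)⁻¹ :=
      MvPolynomial.ringHom_ext (fun r => (hαC r).trans (MvPolynomial.eval₂Hom_C _ _ r).symm)
        (fun i => by
          rw [RingHom.comp_apply, hαX, MvPolynomial.eval₂Hom_X']; rfl)
    have h2 : (α a : K) = MvPolynomial.eval₂Hom ι₀ (fun i => (g i)⁻¹) a := RingHom.congr_fun this a
    rw [h2]
    clear h2
    induction a using MvPolynomial.induction_on with
    | C r => simpa using hι₀ r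
    | add p q hp hq => rw [map_add]; exact V.add_mem _ _ hp hq
    | mul_X p i hp =>
      rw [map_mul, MvPolynomial.eval₂Hom_X']
      exact V.mul_mem _ _ hp ((V.mem_or_inv_mem (g i)).resolve_left (hg i))
  let α' : A →+* V := (L.subtype.comp α).codRestrict V.toSubring hmem
  let P : Ideal A := (IsLocalRing.maximalIdeal V).comap α'
  have hX : ∀ i, MvPolynomial.X i ∈ P := fun i => by
    rw [Ideal.mem_comap, IsLocalRing.mem_maximalIdeal, mem_nonunits_iff]
    intro hu
    obtain ⟨y, hy⟩ := isUnit_iff_exists_inv.1 hu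
    have : (g i)⁻¹ * (y : K) = 1 := by
      have := congrArg (Subtype.val) hy
      change (α (MvPolynomial.X i) : K) * (y : K) = 1 at this
      rwa [hαX] at this
    have h3 := inv_eq_of_mul_eq_one_right this
    rw [inv_inv] at h3
    exact hg i (h3 ▸ y.2)
  obtain ⟨i₀⟩ := ‹Nonempty κ›
  have hgens : Subfield.closure (Set.range α ∪ ↑(gens.attach.image fun x => (⟨x.1, hgen _ x.2⟩ : L))) = ⊤ := by
    refine subfield_closure_eq_top L _ (Subfield.closure_mono ?_)
    rintro y (⟨r, rfl⟩ | hy)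
    · exact ⟨α (MvPolynomial.C r), Or.inl ⟨MvPolynomial.C r, rfl⟩, hαC r⟩
    · refine ⟨⟨y, hgen _ hy⟩, Or.inr ?_, rfl⟩
      exact Finset.mem_coe.2 (Finset.mem_image.2 ⟨⟨y, hy⟩, Finset.mem_attach _ _, rfl⟩)
  haveI : IsNoetherianRing A := MvPolynomial.isNoetherianRing
  haveI : P.IsPrime := Ideal.IsPrime.comap _
  have hker : RingHom.ker α ≤ P := fun a ha => by
    rw [RingHom.mem_ker] at ha
    rw [Ideal.mem_comap, show α' a = 0 from Subtype.ext (show ((α a : L) : K) = 0 by rw [ha]; rfl)]
    exact zero_mem _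
  have hne : ∃ a ∈ P, α a ≠ 0 := ⟨MvPolynomial.X i₀, hX i₀, fun h => by
    rw [hαX] at h
    exact hg0 i₀ (inv_eq_zero.1 (congrArg Subtype.val h))⟩
  let t : Finset L := gens.attach.image fun x => (⟨x.1, hgen _ x.2⟩ : L)
  obtain ⟨D, hD, hDmem, hDval⟩ := exists_dvr_of_hom (A := A) (L := L) α P hker hne t hgens
  refine ⟨L, D, hD, fun r => ⟨hR r, ?_⟩, fun x hx => hgen x (Finset.mem_union_left _ hx), fun i => ⟨hgi i, ?_⟩⟩
  · have := hDmem (MvPolynomial.C r)
    rwa [show α (MvPolynomial.C r) = ⟨ι₀ r, hR r⟩ from Subtype.ext (hαC r)] at this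
  · have := hDval (MvPolynomial.X i) (hX i)
    rwa [hαX] at this

/-- The image of a finitely generated algebra lies in a subfield containing the images of its generators. -/
theorem mem_of_finiteType {R₀ B K : Type u} [CommRing R₀] [CommRing B] [Field K] {φ : R₀ →+* B}
    (hφ : φ.FiniteType) (β : B →+* K) :
    ∃ s : Finset K, ∀ L : Subfield K, (∀ r, β (φ r) ∈ L) → (∀ x ∈ s, x ∈ L) → ∀ b, β b ∈ L := by
  classical
  algebraize [φ]
  obtain ⟨t, ht⟩ := (inferInstance : Algebra.FiniteType R₀ B).out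
  refine ⟨t.image β, fun L hL hs b => ?_⟩
  have : b ∈ Algebra.adjoin R₀ (t : Set B) := ht ▸ Algebra.mem_top
  induction this using Algebra.adjoin_induction with
  | mem x hx => exact hs _ (Finset.mem_image_of_mem β hx)
  | algebraMap r => exact hL r
  | add x y _ _ hx hy => rw [map_add]; exact L.add_mem hx hy
  | mul x y _ _ hx hy => rw [map_mul]; exact L.mul_mem hx hy

end AlgSpLib
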