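import Groth.Agent.AlgSpLib.ValRefined
import Groth.Agent.AlgSpLib.ValNoethAux

/-!
# Valuative criteria with discrete valuation rings
-/

set_option autoImplicit false
set_option backward.isDefEq.respectTransparency false
set_option backward.isDefEq.respectTransparency.types false

universe u

open CategoryTheory CategoryTheory.Limits AlgebraicGeometry Opposite AlgSp Topology

namespace AlgSpLib

variable {S : Scheme.{u}}

/-- Lifts exist for the squares over discrete valuation rings. -/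
def DvrLift {U X Y : Sp S} (h : U ⟶ X) (f : X ⟶ Y) : Prop :=
  ∀ sq : ValSq (h ≫ f), IsDiscreteValuationRing sq.A →
    ∃ l : (yon S).obj sq.ptA ⟶ X, (yon S).map sq.j ≫ l = sq.top ≫ h ∧ l ≫ f = sq.bot

/-- Lifts are unique for the squares over discrete valuation rings. -/
def DvrUniq {U X Y : Sp S} (h : U ⟶ X) (f : X ⟶ Y) : Prop :=
  ∀ sq : ValSq (h ≫ f), IsDiscreteValuationRing sq.A → ∀ l l' : (yon S).obj sq.ptA ⟶ X,
    (yon S).map sq.j ≫ l = sq.top ≫ h ∧ l ≫ f = sq.bot →
      (yon S).map sq.j ≫ l' = sq.top ≫ h ∧ l' ≫ f = sq.bot → l = l'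

theorem repWith_qc_of_field {X : Sp S} (hX : IsAlgSpace X) {T : Over S} {g : X ⟶ (yon S).obj T}
    (hg : IsQuasiSeparatedMor g) {K : Type u} [Field K] {str : Spec (CommRingCat.of K) ⟶ S}
    (x : (yon S).obj (Over.mk str) ⟶ X) : RepWith @QuasiCompact x := by
  let p : FieldPt X := { K := K, str := str, val := (AlgSp.J S).uliftYonedaEquiv x }
  have hp : p.toHom = x := Equiv.symm_apply_apply _ _
  exact hp ▸ repWith_qc_toHom hX hg p

/-- Over a Noetherian affine base, valuation rings of algebraically closed fields lift. -/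
theorem exists_lift_of_dvrLift {U X : Sp S} (hU : IsAlgSpace U) (hX : IsAlgSpace X) {T : Over S}
    [IsAffine T.left] [IsNoetherianRing Γ(T.left, ⊤)] {h : U ⟶ X} {g : X ⟶ (yon S).obj T}
    (hsep : IsSeparatedMor g) (hqc : IsQuasiCompactSp X) (hg : LocP @LocallyOfFiniteType g)
    (hhg : LocP @LocallyOfFiniteType (h ≫ g)) (hd : DvrLift h g)
    {K : Type u} [Field K] [IsAlgClosed K] (A : ValuationSubring K) {str : Spec (CommRingCat.of A) ⟶ S}
    (bt : Over.mk str ⟶ T) (tb : (yon S).obj (Over.mk (Spec.map (CommRingCat.ofHom (algebraMap A K)) ≫ str)) ⟶ U)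
    (hc : tb ≫ h ≫ g = (yon S).map (Over.homMk (Spec.map (CommRingCat.ofHom (algebraMap A K))) rfl :
      Over.mk (Spec.map (CommRingCat.ofHom (algebraMap A K)) ≫ str) ⟶ Over.mk str) ≫ (yon S).map bt) :
    ∃ l : (yon S).obj (Over.mk str) ⟶ X,
      (yon S).map (Over.homMk (Spec.map (CommRingCat.ofHom (algebraMap A K))) rfl :
        Over.mk (Spec.map (CommRingCat.ofHom (algebraMap A K)) ≫ str) ⟶ Over.mk str) ≫ l = tb ≫ h ∧
      l ≫ g = (yon S).map bt := by
  classical
  let pt : Over S := Over.mk (Spec.map (CommRingCat.ofHom (algebraMap A K)) ≫ str)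
  let k : pt ⟶ Over.mk str := Over.homMk (Spec.map (CommRingCat.ofHom (algebraMap A K))) rfl
  let x : (yon S).obj pt ⟶ X := tb ≫ h
  have hxg : x ≫ g = (yon S).map (k ≫ bt) := by rw [Category.assoc, hc, Functor.map_comp]
  haveI : Subsingleton pt.left := inferInstanceAs (Subsingleton (PrimeSpectrum K))
  haveI : IsLocallyArtinian pt.left := inferInstanceAs (IsLocallyArtinian (Spec (CommRingCat.of K)))
  let η₀ : pt.left := IsLocalRing.closedPoint K
  -- the chart of `X`
  obtain ⟨V, a, hV, ha, has⟩ := exists_affine_chart hqc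
  haveI := hV
  obtain ⟨gV, hgV⟩ := (yon S).map_surjective (a ≫ g)
  haveI hgVft : LocallyOfFiniteType gV.left := hg a (𝟙 _) gV ha (repWith_id _ T) (by rw [hgV, Category.comp_id])
  obtain ⟨W, pV, pK, sqW⟩ := exists_isPullback_yon a x ha.rep
  haveI : Etale pK.left := etale_left (repWith_of_isPullback sqW ha)
  haveI : CompactSpace W.left := by
    haveI : QuasiCompact pV.left := (repWith_qc_of_field hX (isQuasiSeparatedMor_of_isSeparatedMor hsep) x).2
      a ((yon S).map pK) pV sqW.flip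
    exact QuasiCompact.compactSpace_of_compactSpace pV.left
  haveI : LocallyQuasiFinite pK.left := locallyQuasiFinite_of_etale pK.left
  haveI : IsLocallyArtinian W.left := .of_locallyQuasiFinite pK.left
  haveI : Finite W.left := finite_of_compact_of_discrete
  haveI : Nonempty W.left := by
    obtain ⟨v, hv⟩ := surjective_ofPt has (Points.ofPt x η₀)
    obtain ⟨w, -⟩ := (ofPt_eq_ofPt_iff sqW v η₀).1 hv
    exact ⟨w⟩
  choose sec hsec hsecw hsecu using fun w : W.left => exists_section_of_etale pK w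
  choose δ hδ using fun w : W.left => Spec.map_surjective (R := Γ(V.left, ⊤)) (S := CommRingCat.of K)
    ((sec w ≫ pV).left ≫ V.left.isoSpec.hom)
  obtain ⟨ι₁, hι₁⟩ := Spec.map_surjective (R := Γ(T.left, ⊤)) (S := CommRingCat.of A)
    (bt.left ≫ T.left.isoSpec.hom)
  let ι₀ : Γ(T.left, ⊤) →+* K := A.subtype.comp ι₁.hom
  have hι₀ : Spec.map (CommRingCat.ofHom ι₀) = k.left ≫ bt.left ≫ T.left.isoSpec.hom := by
    rw [← hι₁]
    exact Spec.map_comp ι₁ (CommRingCat.ofHom A.subtype)
  by_cases hcase : ∃ w, ∀ r, (δ w).hom r ∈ A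
  · -- a chart lift
    obtain ⟨w, hw⟩ := hcase
    let lV : Spec (CommRingCat.of A) ⟶ V.left :=
      Spec.map (CommRingCat.ofHom ((δ w).hom.codRestrict A.toSubring hw)) ≫ V.left.isoSpec.inv
    have hk : Spec.map (CommRingCat.ofHom (algebraMap A K)) ≫ lV = (sec w ≫ pV).left := by
      simp only [lV, ← Spec.map_comp_assoc]
      rw [show CommRingCat.ofHom ((δ w).hom.codRestrict A.toSubring hw) ≫ CommRingCat.ofHom (algebraMap A K) = δ w
        from rfl, hδ, Category.assoc, Iso.hom_inv_id, Category.comp_id]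
    have hwg : sec w ≫ pV ≫ gV = k ≫ bt := (yon S).map_injective (by
      rw [Functor.map_comp, Functor.map_comp, hgV, reassoc_of% sqW.w, ← Functor.map_comp_assoc, hsec,
        CategoryTheory.Functor.map_id, Category.id_comp, hxg])
    have hl : lV ≫ gV.left = bt.left := by
      refine hom_ext_of_injective (i := A.subtype) Subtype.val_injective ?_
      change Spec.map (CommRingCat.ofHom (algebraMap A K)) ≫ _ = _
      rw [reassoc_of% hk, ← Over.comp_left, Category.assoc, hwg]
      rfl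
    let oV : Over.mk str ⟶ V := Over.homMk lV (by
      change lV ≫ V.hom = str
      rw [← Over.w gV, reassoc_of% hl]
      exact Over.w bt)
    refine ⟨(yon S).map oV ≫ a, ?_, ?_⟩
    · rw [← Functor.map_comp_assoc, show k ≫ oV = sec w ≫ pV from Over.OverMorphism.ext hk, Functor.map_comp_assoc,
        sqW.w, ← Functor.map_comp_assoc, hsec, CategoryTheory.Functor.map_id, Category.id_comp]
    · rw [Category.assoc, ← hgV, ← Functor.map_comp]
      exact congrArg _ (Over.OverMorphism.ext hl)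
  exfalso
  push Not at hcase
  choose r hr using hcase
  -- generators
  obtain ⟨_, Us, aUs, hUs, haUs, -, hUcov⟩ := exists_affine_charts hU
  obtain ⟨i, hi⟩ := hUcov (Points.ofPt tb η₀)
  rw [← range_ofPt] at hi
  obtain ⟨u₁, hu₁⟩ := hi
  haveI := hUs i
  let VU := Us i
  let aU := aUs i
  obtain ⟨gU, hgU⟩ := (yon S).map_surjective (aU ≫ h ≫ g)
  haveI : LocallyOfFiniteType gU.left := hhg aU (𝟙 _) gU (haUs i) (repWith_id _ T) (by rw [hgU, Category.comp_id])
  obtain ⟨WU, pU, pKU, sqWU⟩ := exists_isPullback_yon aU tb (haUs i).rep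
  haveI : Etale pKU.left := etale_left (repWith_of_isPullback sqWU (haUs i))
  obtain ⟨wU, -⟩ := (ofPt_eq_ofPt_iff sqWU u₁ η₀).1 hu₁
  obtain ⟨sU, hsU, -, -⟩ := exists_section_of_etale pKU wU
  let u₀ : pt ⟶ VU := sU ≫ pU
  have hu₀ : (yon S).map u₀ ≫ aU = tb := by
    rw [Functor.map_comp, Category.assoc, sqWU.w, ← Functor.map_comp_assoc, hsU, CategoryTheory.Functor.map_id,
      Category.id_comp]
  have hu₀g : u₀ ≫ gU = k ≫ bt := (yon S).map_injective (by
    rw [Functor.map_comp, hgU, reassoc_of% hu₀, hc, Functor.map_comp])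
  obtain ⟨δU, hδU⟩ := Spec.map_surjective (R := Γ(VU.left, ⊤)) (S := CommRingCat.of K)
    (u₀.left ≫ VU.left.isoSpec.hom)
  obtain ⟨φU, hφU⟩ := Spec.map_surjective (VU.left.isoSpec.inv ≫ gU.left ≫ T.left.isoSpec.hom)
  haveI : LocallyOfFiniteType (Spec.map φU) := hφU ▸ inferInstance
  have hφUft : φU.hom.FiniteType := (HasRingHomProperty.Spec_iff (P := @LocallyOfFiniteType)).1 this
  have hU0 : δU.hom.comp φU.hom = ι₀ := by
    have : Spec.map (φU ≫ δU) = Spec.map (CommRingCat.ofHom ι₀) := by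
      rw [Spec.map_comp, hφU, hδU, hι₀, Category.assoc, Iso.hom_inv_id_assoc, ← Category.assoc,
        ← Over.comp_left, hu₀g]
      rfl
    exact congrArg CommRingCat.Hom.hom (Spec.map_injective this)
  obtain ⟨s, hs⟩ := mem_of_finiteType hφUft δU.hom
  obtain ⟨L, D, hD, hR, hsL, hg⟩ := exists_dvr_subfield ι₀ A (fun r => (ι₁.hom r).2)
    (fun w => (δ w).hom (r w)) hr s
  have hRL : ∀ r, ι₀ r ∈ L := fun r => (hR r).fst
  have hUL : ∀ b, δU.hom b ∈ L := hs L (fun r => by
    rw [← RingHom.comp_apply, hU0]; exact hRL r) hsL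
  -- the square over `D`
  let ρ₀ : Γ(T.left, ⊤) →+* D := (ι₀.codRestrict L hRL).codRestrict D.toSubring fun r => (hR r).snd
  let btD : Spec (CommRingCat.of D) ⟶ T.left := Spec.map (CommRingCat.ofHom ρ₀) ≫ T.left.isoSpec.inv
  let uL : Spec (CommRingCat.of L) ⟶ VU.left :=
    Spec.map (CommRingCat.ofHom (δU.hom.codRestrict L hUL)) ≫ VU.left.isoSpec.inv
  let ιD : D →+* K := L.subtype.comp D.subtype
  have hιD : Spec.map (CommRingCat.ofHom ιD) ≫ btD = k.left ≫ bt.left := by
    simp only [btD, ← Spec.map_comp_assoc]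
    rw [show CommRingCat.ofHom ρ₀ ≫ CommRingCat.ofHom ιD = CommRingCat.ofHom ι₀ from rfl, hι₀]
    simp only [Category.assoc, Iso.hom_inv_id, Category.comp_id]
  have huL : Spec.map (CommRingCat.ofHom L.subtype) ≫ uL = u₀.left := by
    simp only [uL, ← Spec.map_comp_assoc]
    rw [show CommRingCat.ofHom (δU.hom.codRestrict L hUL) ≫ CommRingCat.ofHom L.subtype = δU from rfl, hδU,
      Category.assoc, Iso.hom_inv_id, Category.comp_id]
  have huLg : uL ≫ gU.left = Spec.map (CommRingCat.ofHom (algebraMap D L)) ≫ btD := by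
    refine hom_ext_of_injective (i := L.subtype) Subtype.val_injective ?_
    rw [reassoc_of% huL, ← Over.comp_left, hu₀g, ← Spec.map_comp_assoc, ← CommRingCat.ofHom_comp]
    exact hιD.symm
  let oU : Over.mk (Spec.map (CommRingCat.ofHom (algebraMap D L)) ≫ btD ≫ T.hom) ⟶ VU := Over.homMk uL (by
    change uL ≫ VU.hom = Spec.map (CommRingCat.ofHom (algebraMap D L)) ≫ btD ≫ T.hom
    rw [← Over.w gU, reassoc_of% huLg])
  let sqD : ValSq (h ≫ g) :=
    { A := D, K := L, str := btD ≫ T.hom, top := (yon S).map oU ≫ aU, bot := (yon S).map (Over.homMk btD rfl)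
      comm := by
        simp only [Category.assoc]
        rw [← hgU, ← Functor.map_comp, ← Functor.map_comp]
        exact congrArg _ (Over.OverMorphism.ext huLg) }
  obtain ⟨l, hl₁, hl₂⟩ := hd sqD hD
  let jL : pt ⟶ sqD.ptK := Over.homMk (Spec.map (CommRingCat.ofHom L.subtype)) (by
    change Spec.map _ ≫ Spec.map (CommRingCat.ofHom (algebraMap D L)) ≫ btD ≫ T.hom = pt.hom
    rw [← Spec.map_comp_assoc, ← CommRingCat.ofHom_comp, show L.subtype.comp (algebraMap D L) = ιD from rfl,
      reassoc_of% hιD]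
    exact congrArg (k.left ≫ ·) (Over.w bt))
  let jb : pt ⟶ sqD.ptA := jL ≫ sqD.j
  have hjb : jb.left = Spec.map (CommRingCat.ofHom ιD) := (Spec.map_comp _ _).symm
  -- the chart over the lift
  obtain ⟨P, pPV, pPD, sqP⟩ := exists_isPullback_yon a l ha.rep
  haveI : Etale pPD.left := etale_left (repWith_of_isPullback sqP ha)
  let ξ : sqD.ptA.left := IsLocalRing.closedPoint D
  obtain ⟨v, hv⟩ := surjective_ofPt has (Points.ofPt l ξ)
  obtain ⟨p, -, hp⟩ := (ofPt_eq_ofPt_iff sqP v ξ).1 hv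
  obtain ⟨p', hp', hp'η⟩ := Flat.generalizingMap (f := pPD.left)
    (show jb.left η₀ ⤳ pPD.left p from hp.symm ▸ IsLocalRing.specializes_closedPoint (R := D) _)
  let Z := pullback pPD jb
  haveI : Etale (pullback.snd pPD jb).left :=
    MorphismProperty.of_isPullback (P := @Etale) (left_isPullback pPD jb) ‹Etale pPD.left›
  obtain ⟨z, hz, -⟩ := Scheme.exists_preimage_of_isPullback (left_isPullback pPD jb) p' η₀ hp'η
  obtain ⟨q₀, hq₀, hq₀z, -⟩ := exists_section_of_etale (pullback.snd pPD jb) z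
  let q : pt ⟶ P := q₀ ≫ pullback.fst pPD jb
  have hqD : q ≫ pPD = jb := by rw [Category.assoc, pullback.condition, reassoc_of% hq₀]
  have hqp : q.left η₀ = p' := by
    change (q₀ ≫ pullback.fst pPD jb).left η₀ = p'
    rw [Over.comp_left, Scheme.Hom.comp_apply, hq₀z, hz]
  have hqV : (yon S).map (q ≫ pPV) ≫ a = x := by
    rw [Functor.map_comp, Category.assoc, sqP.w, ← Functor.map_comp_assoc, hqD, Functor.map_comp_assoc, hl₁]
    change (yon S).map jL ≫ ((yon S).map oU ≫ aU) ≫ h = _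
    rw [Category.assoc, ← Functor.map_comp_assoc, show jL ≫ oU = u₀ from Over.OverMorphism.ext huL,
      reassoc_of% hu₀]
  obtain ⟨σ, hσ⟩ := (yon S).map_surjective (sqW.lift ((yon S).map (q ≫ pPV)) (𝟙 _) (by
    rw [hqV, Category.id_comp]))
  have hσK : σ ≫ pK = 𝟙 pt := (yon S).map_injective (by
    rw [Functor.map_comp, hσ, sqW.lift_snd, CategoryTheory.Functor.map_id])
  have hσV : σ ≫ pV = q ≫ pPV := (yon S).map_injective (by rw [Functor.map_comp, hσ, sqW.lift_fst])
  let w := σ.left η₀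
  have hσw : σ = sec w := hsecu w σ hσK rfl
  -- the contradiction
  have hs' : q.left η₀ ⤳ p := hqp ▸ hp'
  let ρ : P.left.presheaf.stalk p ⟶ CommRingCat.of K :=
    P.left.presheaf.stalkSpecializes hs' ≫ Scheme.stalkClosedPointTo q.left
  have hρ : Spec.map ρ ≫ P.left.fromSpecStalk p = q.left := by
    rw [Spec.map_comp, Category.assoc]
    erw [Scheme.SpecMap_stalkSpecializes_fromSpecStalk hs']
    exact Scheme.Spec_stalkClosedPointTo_fromSpecStalk q.left
  obtain ⟨B, hB, hB_local⟩ := IsLocalRing.exists_factor_valuationRing ρ.hom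
  let σB : P.left.presheaf.stalk p ⟶ CommRingCat.of B := CommRingCat.ofHom (ρ.hom.codRestrict B.toSubring hB)
  let lB : Spec (CommRingCat.of B) ⟶ P.left := Spec.map σB ≫ P.left.fromSpecStalk p
  have hlB : Spec.map (CommRingCat.ofHom B.subtype) ≫ lB = q.left := by
    rw [← hρ]
    simp only [lB, σB, ← Spec.map_comp_assoc]
    rfl
  obtain ⟨δB, hδB⟩ := Spec.map_surjective (R := Γ(V.left, ⊤)) (S := CommRingCat.of B)
    (lB ≫ pPV.left ≫ V.left.isoSpec.hom)
  obtain ⟨ε, hε⟩ := Spec.map_surjective (R := CommRingCat.of D) (S := CommRingCat.of B) (lB ≫ pPD.left)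
  have hδw : B.subtype.comp δB.hom = (δ w).hom := by
    have : Spec.map (δB ≫ CommRingCat.ofHom B.subtype) = Spec.map (δ w) := by
      rw [Spec.map_comp, hδB, hδ, reassoc_of% hlB, ← hσw, ← Category.assoc, ← Over.comp_left, ← hσV]
    exact congrArg CommRingCat.Hom.hom (Spec.map_injective this)
  have hεD : B.subtype.comp ε.hom = ιD := by
    have : Spec.map (ε ≫ CommRingCat.ofHom B.subtype) = Spec.map (CommRingCat.ofHom ιD) := by
      rw [Spec.map_comp, hε, reassoc_of% hlB, ← Over.comp_left, hqD, hjb]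
    exact congrArg CommRingCat.Hom.hom (Spec.map_injective this)
  haveI : IsLocalHom ε.hom := by
    have h2 : Spec.map σB (IsLocalRing.closedPoint B) = IsLocalRing.closedPoint (P.left.presheaf.stalk p) :=
      IsLocalRing.comap_closedPoint (S := B) (ρ.hom.codRestrict B.toSubring hB)
    have h1 : PrimeSpectrum.comap ε.hom (IsLocalRing.closedPoint B) = IsLocalRing.closedPoint D := by
      change Spec.map ε (IsLocalRing.closedPoint B) = _
      rw [hε, Scheme.Hom.comp_apply, Scheme.Hom.comp_apply, h2, P.left.fromSpecStalk_closedPoint]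
      exact hp
    exact ((IsLocalRing.local_hom_TFAE ε.hom).out 0 4).2 (congrArg PrimeSpectrum.asIdeal h1)
  obtain ⟨hL, hlt⟩ := hg w
  have hdmem : (⟨_, hL⟩ : L) ∈ D := (D.valuation_le_one_iff _).1 hlt.le
  have hunit : ¬ IsUnit (⟨_, hdmem⟩ : D) := fun hu => ((D.valuation_eq_one_iff ⟨_, hdmem⟩).1 hu).not_lt hlt
  refine hunit (isUnit_of_map_unit ε.hom _ (IsUnit.of_mul_eq_one (δB.hom (r w)) (Subtype.ext ?_)))
  change B.subtype (ε.hom ⟨_, hdmem⟩) * B.subtype (δB.hom (r w)) = (1 : K)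
  rw [← RingHom.comp_apply, hεD, ← RingHom.comp_apply, hδw]
  exact inv_mul_cancel₀ fun h0 => hr w (h0 ▸ A.zero_mem)

/-- Existence over a Noetherian affine base. -/
theorem existVC_of_dvrLift_affine {U X : Sp S} (hU : IsAlgSpace U) (hX : IsAlgSpace X) {T : Over S}
    [IsAffine T.left] [IsNoetherianRing Γ(T.left, ⊤)] {h : U ⟶ X} {g : X ⟶ (yon S).obj T}
    (hsep : IsSeparatedMor g) (hqc : IsQuasiCompactSp X) (hg : LocP @LocallyOfFiniteType g)
    (hh : IsQuasiCompactMor h) (hhl : LocP @LocallyOfFiniteType h) (hdense : DenseRange (Points.map h))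
    (hd : DvrLift h g) : ExistVC g := by
  refine existVC_of_refined_affine hX hh hdense fun sq hsq => ⟨uniqVC_of_isSeparatedMor hsep sq, ?_⟩
  obtain ⟨t, ht⟩ := hsq
  obtain ⟨bt, hbt⟩ := (yon S).map_surjective sq.bot
  let ι : sq.K →+* AlgebraicClosure sq.K := algebraMap _ _
  obtain ⟨A', hA', hA'loc⟩ := IsLocalRing.exists_factor_valuationRing (ι.comp (algebraMap sq.A sq.K))
  let φ : sq.A →+* A' := (ι.comp (algebraMap sq.A sq.K)).codRestrict A'.toSubring hA'
  let e : sq.DomExt :=
    { A' := A', K' := AlgebraicClosure sq.K, φ := φ, ψ := ι, comm := rfl, isLocalHom := hA'loc }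
  let q : e.ptA' ⟶ sq.ptA := Over.homMk (Spec.map (CommRingCat.ofHom e.φ)) rfl
  let k : e.ptK' ⟶ e.ptA' := Over.homMk (Spec.map (CommRingCat.ofHom (algebraMap e.A' e.K'))) rfl
  let ψo : e.ptK' ⟶ sq.ptK := Over.homMk (Spec.map (CommRingCat.ofHom e.ψ)) (by
    change Spec.map _ ≫ Spec.map _ ≫ _ = Spec.map _ ≫ Spec.map _ ≫ _
    rw [← Spec.map_comp_assoc, ← Spec.map_comp_assoc, ← CommRingCat.ofHom_comp,
      ← CommRingCat.ofHom_comp, e.comm])
  have hkq : k ≫ q = ψo ≫ sq.j := Over.OverMorphism.ext (by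
    change Spec.map _ ≫ Spec.map _ = Spec.map _ ≫ Spec.map _
    rw [← Spec.map_comp, ← Spec.map_comp, ← CommRingCat.ofHom_comp, ← CommRingCat.ofHom_comp, e.comm])
  obtain ⟨l, hl₁, hl₂⟩ := exists_lift_of_dvrLift hU hX hsep hqc hg
    (locP_comp hU hX (IsAlgSpace.yon_obj T) hhl hg) hd A' (str := Spec.map (CommRingCat.ofHom φ) ≫ sq.str)
    (q ≫ bt) ((yon S).map ψo ≫ t) (by
      change ((yon S).map ψo ≫ t) ≫ h ≫ g = (yon S).map k ≫ _
      rw [Category.assoc, reassoc_of% ht, sq.comm, ← hbt, ← Functor.map_comp, ← Functor.map_comp,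
        ← Functor.map_comp, reassoc_of% hkq])
  refine ⟨e, l, ?_, ?_⟩
  · change (yon S).map k ≫ l = _
    rw [hl₁, Category.assoc, ht]
  · rw [hl₂, Functor.map_comp, hbt]

theorem dvrLift_of_isPullback {U X Y X' Y' U' : Sp S} {h : U ⟶ X} {f : X ⟶ Y} {b : Y' ⟶ Y} {fX : X' ⟶ X}
    {f' : X' ⟶ Y'} (sq₀ : IsPullback fX f' f b) {fU : U' ⟶ U} {h' : U' ⟶ X'} (hU : fU ≫ h = h' ≫ fX)
    (hd : DvrLift h f) : DvrLift h' f' := by
  intro sq hA
  let sq₁ : ValSq (h ≫ f) :=
    { A := sq.A, K := sq.K, str := sq.str, top := sq.top ≫ fU, bot := sq.bot ≫ b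
      comm := by
        rw [Category.assoc, reassoc_of% hU, sq₀.w, ← Category.assoc h', ← Category.assoc, sq.comm, Category.assoc] }
  obtain ⟨l, hl₁, hl₂⟩ := hd sq₁ hA
  refine ⟨sq₀.lift l sq.bot hl₂, sq₀.hom_ext ?_ ?_, sq₀.lift_snd _ _ _⟩
  · rw [Category.assoc, sq₀.lift_fst, Category.assoc, ← hU, ← Category.assoc sq.top]
    exact hl₁
  · rw [Category.assoc, sq₀.lift_snd, Category.assoc, ← sq.comm]

theorem existVC_of_dvrLift {U X Y : Sp S} (hU : IsAlgSpace U) (hX : IsAlgSpace X) (hY : IsAlgSpace Y)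
    (hYn : IsLocNoethSp Y) {h : U ⟶ X} {f : X ⟶ Y} (hsep : IsSeparatedMor f) (hqc : IsQuasiCompactMor f)
    (hf : LocP @LocallyOfFiniteType f) (hh : IsQuasiCompactMor h) (hhl : LocP @LocallyOfFiniteType h)
    (hdense : DenseRange (Points.map h)) (hd : DvrLift h f) : ExistVC f := by
  obtain ⟨κ, T, b, hT, hb, -, hcov⟩ := exists_affine_charts hY
  refine existVC_of_etale_cover b hb (fun y => ?_) fun i => ?_
  · obtain ⟨i, hi⟩ := hcov y
    rw [← range_ofPt] at hi
    exact ⟨i, hi⟩
  haveI := hT i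
  haveI := isLocallyNoetherian_of_chart hYn (hb i)
  haveI : IsNoetherianRing Γ((T i).left, ⊤) :=
    IsLocallyNoetherian.component_noetherian ⟨⊤, isAffineOpen_top _⟩
  have sq₀ := IsPullback.of_hasPullback f (b i)
  have hX' : IsAlgSpace (pullback f (b i)) := isAlgSpace_pullback hX (IsAlgSpace.yon_obj _) hY f (b i)
  have sqU := IsPullback.of_hasPullback h (pullback.fst f (b i))
  refine existVC_of_dvrLift_affine (isAlgSpace_pullback hU hX' hX h (pullback.fst f (b i))) hX'
    (repWith_diagonal_of_isPullback sq₀ hsep)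
    (hqc (IsAlgSpace.yon_obj _) (isQuasiCompactSp_yon _) (b i) _ _ sq₀)
    (locP_of_isPullback hX hY (IsAlgSpace.yon_obj _) sq₀ hf) (isQuasiCompactMor_of_isPullback sqU hh)
    (locP_of_isPullback hU hX hX' sqU hhl) ?_ (dvrLift_of_isPullback sq₀ sqU.w hd)
  rw [DenseRange, range_map_of_isPullback sqU]
  exact hdense.preimage (isOpenMap_map_of_isEtaleMor hX'
    (isEtaleMor_of_isPullback (IsAlgSpace.yon_obj _) hY hX sq₀.flip (isEtaleMor_of_repWith (hb i))))

theorem isProperMor_of_dvrLift {U X Y : Sp S} (hU : IsAlgSpace U) (hX : IsAlgSpace X) (hY : IsAlgSpace Y)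
    (hYn : IsLocNoethSp Y) {h : U ⟶ X} {f : X ⟶ Y} (hsep : IsSeparatedMor f) (hft : IsFiniteTypeMor f)
    (hh : IsFiniteTypeMor h) (hdense : DenseRange (Points.map h)) (hd : DvrLift h f) : IsProperMor f :=
  ⟨hsep, hft, isUnivClosedMor_of_existVC hft.2
    (existVC_of_dvrLift hU hX hY hYn hsep hft.2 hft.1 hh.2 hh.1 hdense hd)⟩

theorem isSeparatedMor_of_dvrUniq {U X Y : Sp S} (hU : IsAlgSpace U) (hX : IsAlgSpace X) (hY : IsAlgSpace Y)
    (hYn : IsLocNoethSp Y) {h : U ⟶ X} {f : X ⟶ Y} (hqs : IsQuasiSeparatedMor f)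
    (hf : LocP @LocallyOfFiniteType f) (hh : IsFiniteTypeMor h) (hdense : DenseRange (Points.map h))
    (hu : DvrUniq h f) : IsSeparatedMor f := by
  have hXX : IsAlgSpace (pullback f f) := isAlgSpace_pullback hX hX hY f f
  have hXXn : IsLocNoethSp (pullback f f) := isLocNoethSp_of_lft hXX hX
    (f := pullback.snd f f) (locP_of_isPullback hX hY hX (IsPullback.of_hasPullback f f) hf)
    (isLocNoethSp_of_lft hX hY hf hYn)
  obtain ⟨hrep, hlft, -, hsepΔ, -⟩ := repWith_diagonal_properties hX f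
  have hd : DvrLift h (pullback.diagonal f) := by
    intro sq hA
    let sq₁ : ValSq (h ≫ f) :=
      { A := sq.A, K := sq.K, str := sq.str, top := sq.top, bot := sq.bot ≫ pullback.fst f f ≫ f
        comm := by rw [← reassoc_of% sq.comm, pullback.diagonal_fst_assoc] }
    have e := hu sq₁ hA (sq.bot ≫ pullback.fst f f) (sq.bot ≫ pullback.snd f f)
      ⟨by rw [← reassoc_of% sq.comm, pullback.diagonal_fst, Category.comp_id], Category.assoc _ _ _⟩
      ⟨by rw [← reassoc_of% sq.comm, pullback.diagonal_snd, Category.comp_id],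
        by rw [Category.assoc, ← pullback.condition]⟩
    refine ⟨sq.bot ≫ pullback.fst f f, ?_, ?_⟩
    · rw [← reassoc_of% sq.comm, pullback.diagonal_fst, Category.comp_id]
    · apply pullback.hom_ext
      · rw [Category.assoc, pullback.diagonal_fst, Category.comp_id]
      · rw [Category.assoc, pullback.diagonal_snd, Category.comp_id]
        exact e
  have hE : ExistVC (pullback.diagonal f) :=
    existVC_of_dvrLift hU hX hXX hXXn (isSeparatedMor_of_repWith hsepΔ)
      (isQuasiCompactMor_of_repWith hX hXX hqs) (locP_of_repWith hlft) hh.2 hh.1 hdense hd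
  refine isSeparatedMor_of_uniqVC hX hqs fun sq l l' h₁ h₂ h₁' h₂' => ?_
  let sqΔ : ValSq (pullback.diagonal f) :=
    { A := sq.A, K := sq.K, str := sq.str, top := sq.top
      bot := pullback.lift l l' (h₂.trans h₂'.symm)
      comm := by
        apply pullback.hom_ext
        · simpa using h₁.symm
        · simpa using h₁'.symm }
  obtain ⟨m, -, hm⟩ := existVCStrict_of_representable hrep hE sqΔ
  have e1 := congrArg (· ≫ pullback.fst f f) hm
  have e2 := congrArg (· ≫ pullback.snd f f) hm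
  simp only [sqΔ, Category.assoc, pullback.diagonal_fst, pullback.diagonal_snd, Category.comp_id,
    pullback.lift_fst, pullback.lift_snd] at e1 e2
  exact e1.symm.trans e2

end AlgSpLib
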