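import Groth.Agent.AlgSpLib.ValNoeth

/-!
# Noetherian valuative criteria: main statements
-/

set_option autoImplicit false
set_option backward.isDefEq.respectTransparency false
set_option backward.isDefEq.respectTransparency.types false

universe u

open CategoryTheory CategoryTheory.Limits AlgebraicGeometry Opposite AlgSp Topology

namespace AlgSpLib

variable {S : Scheme.{u}}

theorem isFiniteTypeMor_id {X : Sp S} (hX : IsAlgSpace X) : IsFiniteTypeMor (𝟙 X) :=
  ⟨locP_id hX, isQuasiCompactMor_of_repWith hX hX (repWith_of_isIso _)⟩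

theorem denseRange_map_id (X : Sp S) : DenseRange (Points.map (𝟙 X)) :=
  Function.Surjective.denseRange fun x => ⟨x, Points.map_id x⟩

theorem dvrUniq_id {X Y : Sp S} {f : X ⟶ Y}
    (h : ∀ sq : ValSq f, IsDiscreteValuationRing sq.A → sq.HasUniq) : DvrUniq (𝟙 X) f := by
  intro sq hA l l' ⟨h1, h2⟩ ⟨h1', h2'⟩
  let sq' : ValSq f :=
    { A := sq.A, K := sq.K, str := sq.str, top := sq.top, bot := sq.bot
      comm := (congrArg (sq.top ≫ ·) (Category.id_comp f)).symm.trans sq.comm }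
  exact h sq' hA l l' (h1.trans (Category.comp_id _)) h2 (h1'.trans (Category.comp_id _)) h2'

theorem dvrLift_id {X Y : Sp S} {f : X ⟶ Y}
    (h : ∀ sq : ValSq f, IsDiscreteValuationRing sq.A → sq.HasLift) : DvrLift (𝟙 X) f := by
  intro sq hA
  let sq' : ValSq f :=
    { A := sq.A, K := sq.K, str := sq.str, top := sq.top, bot := sq.bot
      comm := (congrArg (sq.top ≫ ·) (Category.id_comp f)).symm.trans sq.comm }
  obtain ⟨l, hl₁, hl₂⟩ := h sq' hA
  exact ⟨l, hl₁.trans (Category.comp_id _).symm, hl₂⟩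

theorem isSeparatedMor_iff_dvr {X Y : Sp S} (hX : IsAlgSpace X) (hY : IsAlgSpace Y) (hYn : IsLocNoethSp Y)
    {f : X ⟶ Y} (hqs : IsQuasiSeparatedMor f) (hft : LocP @LocallyOfFiniteType f) :
    IsSeparatedMor f ↔ ∀ sq : ValSq f, IsDiscreteValuationRing sq.A → sq.HasUniq :=
  ⟨fun h sq _ => uniqVC_of_isSeparatedMor h sq, fun h => isSeparatedMor_of_dvrUniq hX hX hY hYn hqs hft
    (isFiniteTypeMor_id hX) (denseRange_map_id X) (dvrUniq_id h)⟩

theorem isProperMor_iff_dvr {X Y : Sp S} (hX : IsAlgSpace X) (hY : IsAlgSpace Y) (hYn : IsLocNoethSp Y)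
    {f : X ⟶ Y} (hqs : IsQuasiSeparatedMor f) (hft : IsFiniteTypeMor f) :
    IsProperMor f ↔ ∀ sq : ValSq f, IsDiscreteValuationRing sq.A → sq.HasLift ∧ sq.HasUniq := by
  refine ⟨fun h sq _ => ⟨(existVC_iff_strict_of_sep hX hY h.1).1
    (existVC_of_univClosed hX hY hqs h.2.2) sq, uniqVC_of_isSeparatedMor h.1 sq⟩, fun h => ?_⟩
  exact isProperMor_of_dvrLift hX hX hY hYn
    ((isSeparatedMor_iff_dvr hX hY hYn hqs hft.1).2 fun sq hA => (h sq hA).2) hft
    (isFiniteTypeMor_id hX) (denseRange_map_id X) (dvrLift_id fun sq hA => (h sq hA).1)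

theorem isProperMor_of_dvr_existsUnique {U X Y : Sp S} (hU : IsAlgSpace U) (hX : IsAlgSpace X) (hY : IsAlgSpace Y)
    (hYn : IsLocNoethSp Y) {h : U ⟶ X} {f : X ⟶ Y} (hft : IsFiniteTypeMor f) (hqs : IsQuasiSeparatedMor f)
    (hh : IsFiniteTypeMor h) (hdense : DenseRange (Points.map h))
    (hv : ∀ sq : ValSq (h ≫ f), IsDiscreteValuationRing sq.A →
      ∃! l : (yon S).obj sq.ptA ⟶ X, (yon S).map sq.j ≫ l = sq.top ≫ h ∧ l ≫ f = sq.bot) : IsProperMor f :=
  isProperMor_of_dvrLift hU hX hY hYn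
    (isSeparatedMor_of_dvrUniq hU hX hY hYn hqs hft.1 hh hdense fun sq hA _ _ h1 h2 => (hv sq hA).unique h1 h2)
    hft hh hdense fun sq hA => (hv sq hA).exists

end AlgSpLib
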