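import Groth.Agent.AlgSpLib.ValCompose
import Groth.Agent.AlgSpLib.ValExist

/-!
# The refined valuative criterion
-/

set_option autoImplicit false
set_option backward.isDefEq.respectTransparency false
set_option backward.isDefEq.respectTransparency.types false

universe u

open CategoryTheory CategoryTheory.Limits AlgebraicGeometry Opposite AlgSp Topology

namespace AlgSpLib

variable {S : Scheme.{u}}

/-- Existence and uniqueness for the squares whose top arrow factors through `h`. -/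
def RefinedVC {U X Y : Sp S} (h : U ⟶ X) (f : X ⟶ Y) : Prop :=
  ∀ sq : ValSq f, (∃ t : (yon S).obj sq.ptK ⟶ U, t ≫ h = sq.top) → sq.HasUniq ∧ sq.HasLiftExt

theorem hom_ext_of_injective {A K : Type u} [CommRing A] [CommRing K] {i : A →+* K} (hi : Function.Injective i)
    {Y : Scheme.{u}} [IsAffine Y] {a b : Spec (.of A) ⟶ Y}
    (h : Spec.map (CommRingCat.ofHom i) ≫ a = Spec.map (CommRingCat.ofHom i) ≫ b) : a = b := by
  obtain ⟨α, hα⟩ := Spec.map_surjective (a ≫ Y.isoSpec.hom)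
  obtain ⟨β, hβ⟩ := Spec.map_surjective (b ≫ Y.isoSpec.hom)
  have h1 : Spec.map (α ≫ CommRingCat.ofHom i) = Spec.map (β ≫ CommRingCat.ofHom i) := by
    rw [Spec.map_comp, Spec.map_comp, hα, hβ, reassoc_of% h]
  have h2 : α = β := CommRingCat.hom_ext (RingHom.ext fun r => hi congr($(Spec.map_injective h1) r))
  rw [← cancel_mono Y.isoSpec.hom, ← hα, ← hβ, h2]

theorem exists_specializes_of_denseRange {W V : Scheme.{u}} [IsAffine W] [IsAffine V] (ψ : W ⟶ V)
    (hd : DenseRange ψ) (v : V) : ∃ w, ψ w ⤳ v := by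
  obtain ⟨φ, hφ⟩ := Spec.map_surjective (W.isoSpec.inv ≫ ψ ≫ V.isoSpec.hom)
  let eW := Scheme.homeoOfIso W.isoSpec
  let eV := Scheme.homeoOfIso V.isoSpec
  have hd' : DenseRange (PrimeSpectrum.comap φ.hom) := by
    have h1 : DenseRange (eV ∘ ψ) := eV.surjective.denseRange.comp hd eV.continuous
    refine h1.mono ?_
    rintro _ ⟨w, rfl⟩
    refine ⟨eW w, ?_⟩
    change (W.isoSpec.hom ≫ Spec.map φ) w = (ψ ≫ V.isoSpec.hom) w
    rw [hφ, W.isoSpec.hom_inv_id_assoc]
  obtain ⟨I, hI, hIp⟩ := Ideal.exists_minimalPrimes_le (bot_le (a := (eV v).asIdeal))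
  obtain ⟨q, hq⟩ := (PrimeSpectrum.denseRange_comap_iff_minimalPrimes φ.hom).1 hd' I hI
  refine ⟨eW.symm q, ?_⟩
  rw [← eV.isInducing.specializes_iff]
  have : eV (ψ (eW.symm q)) = PrimeSpectrum.comap φ.hom q := by
    change (ψ ≫ V.isoSpec.hom) (W.isoSpec.inv q) = Spec.map φ q
    rw [hφ]; rfl
  rw [this]
  exact (PrimeSpectrum.le_iff_specializes _ _).1 (hq ▸ hIp)

/-- The existence part over an affine scheme. -/
theorem existVC_of_refined_affine {U X : Sp S} (hX : IsAlgSpace X) {T : Over S} [IsAffine T.left]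
    {h : U ⟶ X} (hh : IsQuasiCompactMor h) (hd : DenseRange (Points.map h)) {g : X ⟶ (yon S).obj T}
    (hv : RefinedVC h g) : ExistVC g := by
  intro sq
  obtain ⟨bt, hbt⟩ := (yon S).map_surjective sq.bot
  obtain ⟨_, Vs, as, hVs, has, hao, hacov⟩ := exists_affine_charts hX
  obtain ⟨i, hi⟩ := hacov (Points.ofPt sq.top (IsLocalRing.closedPoint sq.K))
  rw [← range_ofPt] at hi
  obtain ⟨v₀, hv₀⟩ := hi
  haveI := hVs i
  let V := Vs i
  let a := as i
  obtain ⟨WK, pV, pK, sqWK⟩ := exists_isPullback_yon a sq.top (has i).rep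
  obtain ⟨z, -, -⟩ := (ofPt_eq_ofPt_iff sqWK v₀ (IsLocalRing.closedPoint sq.K)).1 hv₀
  let v : V.left := pV.left z
  obtain ⟨gV, hgV⟩ := (yon S).map_surjective (a ≫ g)
  have hpgV : pV ≫ gV = pK ≫ sq.j ≫ bt := (yon S).map_injective (by
    rw [Functor.map_comp, Functor.map_comp, Functor.map_comp, hgV, hbt, reassoc_of% sqWK.w, sq.comm])
  -- a generalization in the image of `h`
  have sqU := IsPullback.of_hasPullback h a
  obtain ⟨W, c, hW, -, hcs⟩ := exists_affine_chart
    (hh (IsAlgSpace.yon_obj V) (isQuasiCompactSp_yon V) a _ _ sqU)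
  haveI := hW
  obtain ⟨ψ, hψ⟩ := (yon S).map_surjective (c ≫ pullback.snd h a)
  have hdense : DenseRange ψ.left := by
    refine Dense.mono ?_ (hd.preimage (isOpenMap_ofPt (has i)))
    rintro v' ⟨x, hx⟩
    obtain ⟨y, -, hy⟩ := exists_point_isPullback sqU x (Points.schemeHomeo V v') (hx.trans
      (congrFun (ofPt_comp_ofScheme a) v'))
    obtain ⟨w, hw⟩ := surjective_ofPt hcs y
    refine ⟨w, ?_⟩
    have := congrArg (Points.toScheme V) hy
    rw [← hw, Points.map_ofPt, ← hψ, Points.toScheme_ofPt] at this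
    exact this.trans ((Points.schemeHomeo V).symm_apply_apply v')
  obtain ⟨w, hwv⟩ := exists_specializes_of_denseRange ψ.left hdense v
  -- the valuation ring `B`
  let iz := WK.left.fromSpecResidueField z
  let iw := W.left.fromSpecResidueField w
  let χ : V.left.presheaf.stalk v ⟶ WK.left.residueField z := pV.left.stalkMap z ≫ WK.left.residue z
  haveI : IsLocalHom χ.hom := ⟨fun x hx => isUnit_of_map_unit (pV.left.stalkMap z).hom x
    (isUnit_of_map_unit (IsLocalRing.residue (WK.left.presheaf.stalk z)) _ hx)⟩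
  let ρ : V.left.presheaf.stalk v ⟶ W.left.residueField w :=
    V.left.presheaf.stalkSpecializes hwv ≫ ψ.left.stalkMap w ≫ W.left.residue w
  obtain ⟨L, _, ι, B, σ, ιk, hσ₁, hσ₂⟩ := exists_valuation_residue ρ.hom χ.hom
  let lB : Spec (.of B) ⟶ V.left := Spec.map (CommRingCat.ofHom σ) ≫ V.left.fromSpecStalk v
  have eB1 : Spec.map (CommRingCat.ofHom B.subtype) ≫ lB = Spec.map (CommRingCat.ofHom ι) ≫ iw ≫ ψ.left := by
    simp only [lB, iw, ← Spec.map_comp_assoc, ← CommRingCat.ofHom_comp, hσ₁]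
    rw [CommRingCat.ofHom_comp, Spec.map_comp, Category.assoc]
    congr 1
    rw [Scheme.fromSpecResidueField, Category.assoc, ← Scheme.SpecMap_stalkMap_fromSpecStalk,
      ← Scheme.SpecMap_stalkSpecializes_fromSpecStalk hwv]
    simp_rw [← Spec.map_comp_assoc]
    rfl
  have eB2 : Spec.map (CommRingCat.ofHom (IsLocalRing.residue B)) ≫ lB =
      Spec.map (CommRingCat.ofHom ιk) ≫ iz ≫ pV.left := by
    simp only [lB, iz, ← Spec.map_comp_assoc, ← CommRingCat.ofHom_comp, hσ₂]
    rw [CommRingCat.ofHom_comp, Spec.map_comp, Category.assoc]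
    congr 1
    rw [Scheme.fromSpecResidueField, Category.assoc, ← Scheme.SpecMap_stalkMap_fromSpecStalk]
    simp_rw [← Spec.map_comp_assoc]
    rfl
  obtain ⟨ψK, hψK⟩ := Spec.map_surjective (R := .of sq.K) (S := .of (IsLocalRing.ResidueField B))
    (Spec.map (CommRingCat.ofHom ιk) ≫ iz ≫ pK.left)
  obtain ⟨A₁, hA₁, hA₁loc⟩ := IsLocalRing.exists_factor_valuationRing (ψK.hom.comp (algebraMap sq.A sq.K))
  let φA : sq.A →+* A₁ := (ψK.hom.comp (algebraMap sq.A sq.K)).codRestrict A₁.toSubring hA₁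
  haveI : IsLocalHom φA := hA₁loc
  -- the composite valuation
  let eT := T.left.isoSpec
  obtain ⟨β, hβ⟩ := Spec.map_surjective (lB ≫ gV.left ≫ eT.hom)
  obtain ⟨βA, hβA⟩ := Spec.map_surjective (bt.left ≫ eT.hom)
  have hpgV' : pV.left ≫ gV.left = pK.left ≫ sq.j.left ≫ bt.left := by
    rw [← Over.comp_left, hpgV]; rfl
  have hres : (IsLocalRing.residue B).comp β.hom = (ψK.hom.comp (algebraMap sq.A sq.K)).comp βA.hom := by
    have : Spec.map (β ≫ CommRingCat.ofHom (IsLocalRing.residue B)) =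
        Spec.map (βA ≫ CommRingCat.ofHom (algebraMap sq.A sq.K) ≫ ψK) := by
      rw [Spec.map_comp, Spec.map_comp, Spec.map_comp, hβ, hβA, hψK, reassoc_of% eB2, reassoc_of% hpgV']
      simp only [Category.assoc]
      rfl
    exact congrArg CommRingCat.Hom.hom (Spec.map_injective this)
  let C := compositeVal B A₁
  let γ : Γ(T.left, ⊤) →+* C := (B.subtype.comp β.hom).codRestrict C.toSubring fun r =>
    mem_compositeVal.2 ⟨(β.hom r).2, by
      change IsLocalRing.residue B (β.hom r) ∈ A₁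
      rw [← RingHom.comp_apply (IsLocalRing.residue B), hres]
      exact hA₁ _⟩
  let btC : Spec (.of C) ⟶ T.left := Spec.map (CommRingCat.ofHom γ) ≫ eT.inv
  have hbtC : Spec.map (CommRingCat.ofHom C.subtype) ≫ btC =
      Spec.map (CommRingCat.ofHom B.subtype) ≫ lB ≫ gV.left := by
    have e1 : CommRingCat.ofHom γ ≫ CommRingCat.ofHom C.subtype = β ≫ CommRingCat.ofHom B.subtype := rfl
    rw [← cancel_mono eT.hom, Category.assoc, Category.assoc, Category.assoc, Category.assoc, eT.inv_hom_id]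
    erw [Category.comp_id]
    rw [← hβ, ← Spec.map_comp, ← Spec.map_comp]
    exact congrArg Spec.map e1
  let ow : Over.mk (Spec.map (CommRingCat.ofHom (algebraMap C L)) ≫ btC ≫ T.hom) ⟶ W :=
    Over.homMk (Spec.map (CommRingCat.ofHom ι) ≫ iw) (by
      change _ = Spec.map (CommRingCat.ofHom C.subtype) ≫ btC ≫ T.hom
      rw [reassoc_of% hbtC, reassoc_of% eB1, Category.assoc, Over.w gV, Over.w ψ])
  let bC : Over.mk (btC ≫ T.hom) ⟶ T := Over.homMk btC rfl
  let sqC : ValSq g :=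
    { A := C, K := L, str := btC ≫ T.hom, top := (yon S).map ow ≫ c ≫ pullback.fst h a ≫ h
      bot := (yon S).map bC
      comm := by
        simp only [Category.assoc]
        rw [pullback.condition_assoc, ← hgV, ← Category.assoc c, ← hψ,
          ← Functor.map_comp, ← Functor.map_comp, ← Functor.map_comp]
        refine congrArg _ (Over.OverMorphism.ext ?_)
        change (Spec.map (CommRingCat.ofHom ι) ≫ iw) ≫ ψ.left ≫ gV.left =
          Spec.map (CommRingCat.ofHom C.subtype) ≫ btC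
        rw [hbtC, reassoc_of% eB1, Category.assoc] }
  obtain ⟨-, e, l, hl₁, hl₂⟩ := hv sqC ⟨(yon S).map ow ≫ c ≫ pullback.fst h a, by simp [sqC]⟩
  haveI := e.isLocalHom
  obtain ⟨B', m, n, A', q, μ, α, hm, hn, hq, hμ, hα, hαloc⟩ :=
    exists_composite_extension B A₁ (L' := e.K') e.ψ (C' := e.A') e.φ e.comm
  -- the square over `B'`
  let φC : Spec (.of e.A') ⟶ Spec (.of C) := Spec.map (CommRingCat.ofHom e.φ)
  have E1 : Spec.map (CommRingCat.ofHom n) ≫ lB ≫ gV.left = Spec.map (CommRingCat.ofHom m) ≫ φC ≫ btC := by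
    refine hom_ext_of_injective (i := B'.subtype) Subtype.val_injective ?_
    have e1 : (B'.subtype.comp m).comp e.φ = e.ψ.comp C.subtype := by rw [hm]; exact e.comm
    have e2 : Spec.map (CommRingCat.ofHom B'.subtype) ≫ Spec.map (CommRingCat.ofHom m) ≫ φC =
        Spec.map (CommRingCat.ofHom e.ψ) ≫ Spec.map (CommRingCat.ofHom C.subtype) := by
      simp only [φC, ← Spec.map_comp, ← CommRingCat.ofHom_comp]
      exact congrArg (fun f => Spec.map (CommRingCat.ofHom f)) e1
    rw [reassoc_of% e2, hbtC, ← Spec.map_comp_assoc, ← Spec.map_comp_assoc, ← CommRingCat.ofHom_comp,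
      ← CommRingCat.ofHom_comp, hn]
  let ψo : e.ptK' ⟶ sqC.ptK := Over.homMk (Spec.map (CommRingCat.ofHom e.ψ)) (by
    change Spec.map _ ≫ Spec.map _ ≫ _ = Spec.map _ ≫ Spec.map _ ≫ _
    rw [← Spec.map_comp_assoc, ← Spec.map_comp_assoc, ← CommRingCat.ofHom_comp,
      ← CommRingCat.ofHom_comp, e.comm])
  let k : e.ptK' ⟶ e.ptA' := Over.homMk (Spec.map (CommRingCat.ofHom (algebraMap e.A' e.K'))) rfl
  let qC : e.ptA' ⟶ sqC.ptA := Over.homMk φC rfl
  let strB : Spec (.of B') ⟶ S := Spec.map (CommRingCat.ofHom m) ≫ φC ≫ btC ≫ T.hom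
  let oA : Over.mk strB ⟶ e.ptA' := Over.homMk (Spec.map (CommRingCat.ofHom m)) rfl
  let oK : Over.mk (Spec.map (CommRingCat.ofHom (algebraMap B' e.K')) ≫ strB) ⟶ e.ptK' :=
    Over.homMk (𝟙 _) (by
      change 𝟙 _ ≫ Spec.map _ ≫ Spec.map _ ≫ _ = Spec.map (CommRingCat.ofHom B'.subtype) ≫ _ ≫ _
      rw [Category.id_comp, ← hm, CommRingCat.ofHom_comp, Spec.map_comp, Category.assoc])
  let jB : Over.mk (Spec.map (CommRingCat.ofHom (algebraMap B' e.K')) ≫ strB) ⟶ Over.mk strB :=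
    Over.homMk (Spec.map (CommRingCat.ofHom (algebraMap B' e.K'))) rfl
  have hjo : jB ≫ oA = oK ≫ k := Over.OverMorphism.ext (by
    change Spec.map (CommRingCat.ofHom B'.subtype) ≫ Spec.map _ = 𝟙 _ ≫ Spec.map _
    rw [← Spec.map_comp, Category.id_comp, ← CommRingCat.ofHom_comp, hm])
  let sqB : ValSq g :=
    { A := B', K := e.K', str := strB, top := (yon S).map oK ≫ (yon S).map ψo ≫ sqC.top
      bot := (yon S).map oA ≫ (yon S).map qC ≫ sqC.bot
      comm := by
        rw [Category.assoc, Category.assoc, sqC.comm]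
        change _ = (yon S).map jB ≫ _
        rw [← (yon S).map_comp_assoc jB oA, hjo, Functor.map_comp, Category.assoc]
        congr 1
        rw [← Functor.map_comp_assoc, ← Functor.map_comp_assoc]
        congr 2
        apply Over.OverMorphism.ext
        change Spec.map _ ≫ Spec.map _ = Spec.map _ ≫ Spec.map _
        rw [← Spec.map_comp, ← Spec.map_comp, ← CommRingCat.ofHom_comp, ← CommRingCat.ofHom_comp, e.comm] }
  let oN : sqB.ptA ⟶ V := Over.homMk (Spec.map (CommRingCat.ofHom n) ≫ lB) (by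
    change _ = Spec.map (CommRingCat.ofHom m) ≫ φC ≫ btC ≫ T.hom
    rw [← reassoc_of% E1, Category.assoc, Over.w gV])
  have hN₁ : (yon S).map jB ≫ (yon S).map oN ≫ a = sqB.top := by
    have e1 : jB ≫ oN = oK ≫ ψo ≫ ow ≫ ψ := Over.OverMorphism.ext (by
      change Spec.map (CommRingCat.ofHom B'.subtype) ≫ Spec.map (CommRingCat.ofHom n) ≫ lB =
        𝟙 _ ≫ Spec.map (CommRingCat.ofHom e.ψ) ≫ (Spec.map (CommRingCat.ofHom ι) ≫ iw) ≫ ψ.left
      rw [Category.id_comp, Category.assoc, ← eB1, ← Category.assoc (Spec.map (CommRingCat.ofHom e.ψ)),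
        ← Category.assoc (Spec.map (CommRingCat.ofHom B'.subtype)), ← Spec.map_comp, ← Spec.map_comp,
        ← CommRingCat.ofHom_comp, ← CommRingCat.ofHom_comp, hn])
    rw [← Functor.map_comp_assoc, e1]
    simp only [sqB, sqC, Functor.map_comp, Category.assoc, pullback.condition, ← hψ]
    simp only [← Category.assoc c, hψ]
  have hN₂ : ((yon S).map oN ≫ a) ≫ g = sqB.bot := by
    change _ = (yon S).map oA ≫ (yon S).map qC ≫ (yon S).map bC
    rw [Category.assoc, ← hgV, ← Functor.map_comp, ← Functor.map_comp, ← Functor.map_comp]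
    refine congrArg _ (Over.OverMorphism.ext ?_)
    change (Spec.map (CommRingCat.ofHom n) ≫ lB) ≫ gV.left = Spec.map _ ≫ φC ≫ btC
    rw [Category.assoc, E1]
  have hL₁ : (yon S).map jB ≫ (yon S).map oA ≫ l = sqB.top := by
    rw [← Functor.map_comp_assoc, hjo, Functor.map_comp_assoc]
    exact congrArg ((yon S).map oK ≫ ·) hl₁
  have hL₂ : ((yon S).map oA ≫ l) ≫ g = sqB.bot := by
    rw [Category.assoc, hl₂]
  have hll : (yon S).map oA ≫ l = (yon S).map oN ≫ a :=
    (hv sqB ⟨(yon S).map oK ≫ (yon S).map ψo ≫ (yon S).map ow ≫ c ≫ pullback.fst h a,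
      by simp [sqB, sqC]⟩).1 _ _ hL₁ hL₂ hN₁ hN₂
  -- the extension
  haveI := hαloc
  let e' : sq.DomExt :=
    { A' := A', K' := IsLocalRing.ResidueField B', φ := α.comp φA, ψ := μ.comp ψK.hom
      comm := by
        change A'.subtype.comp (α.comp φA) = _
        rw [← RingHom.comp_assoc, hα]
        rfl
      isLocalHom := RingHom.isLocalHom_comp α φA }
  have E2 : Spec.map (CommRingCat.ofHom q) ≫ φC ≫ btC =
      Spec.map (CommRingCat.ofHom (α.comp φA)) ≫ bt.left := by
    refine hom_ext_of_injective (i := A'.subtype) Subtype.val_injective ?_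
    have e1 : Spec.map (CommRingCat.ofHom A'.subtype) ≫ Spec.map (CommRingCat.ofHom q) =
        Spec.map (CommRingCat.ofHom (IsLocalRing.residue B')) ≫ Spec.map (CommRingCat.ofHom m) := by
      rw [← Spec.map_comp, ← Spec.map_comp, ← CommRingCat.ofHom_comp, ← CommRingCat.ofHom_comp, hq]
    have e2 : Spec.map (CommRingCat.ofHom (IsLocalRing.residue B')) ≫ Spec.map (CommRingCat.ofHom n) =
        Spec.map (CommRingCat.ofHom μ) ≫ Spec.map (CommRingCat.ofHom (IsLocalRing.residue B)) := by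
      rw [← Spec.map_comp, ← Spec.map_comp, ← CommRingCat.ofHom_comp, ← CommRingCat.ofHom_comp, hμ]
    have e3 : Spec.map (CommRingCat.ofHom A'.subtype) ≫ Spec.map (CommRingCat.ofHom (α.comp φA)) =
        Spec.map (CommRingCat.ofHom μ) ≫ Spec.map ψK ≫ sq.j.left := by
      change _ = _ ≫ _ ≫ Spec.map (CommRingCat.ofHom (algebraMap sq.A sq.K))
      rw [← Spec.map_comp, ← Spec.map_comp, ← Spec.map_comp, ← CommRingCat.ofHom_comp, ← RingHom.comp_assoc, hα]
      rfl
    rw [reassoc_of% e1, ← E1, reassoc_of% e2, reassoc_of% e3, reassoc_of% eB2, hψK]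
    simp only [Category.assoc, hpgV']
  let ol : e'.ptA' ⟶ e.ptA' := Over.homMk (Spec.map (CommRingCat.ofHom q)) (by
    change Spec.map _ ≫ φC ≫ btC ≫ T.hom = Spec.map (CommRingCat.ofHom (α.comp φA)) ≫ sq.str
    rw [reassoc_of% E2]
    exact congrArg (_ ≫ ·) (Over.w bt))
  let k' : e'.ptK' ⟶ e'.ptA' := Over.homMk (Spec.map (CommRingCat.ofHom (algebraMap e'.A' e'.K'))) rfl
  let ψo' : e'.ptK' ⟶ sq.ptK := Over.homMk (Spec.map (CommRingCat.ofHom e'.ψ)) (by
    change Spec.map _ ≫ Spec.map _ ≫ _ = Spec.map _ ≫ Spec.map _ ≫ _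
    rw [← Spec.map_comp_assoc, ← Spec.map_comp_assoc, ← CommRingCat.ofHom_comp,
      ← CommRingCat.ofHom_comp, e'.comm])
  let r : e'.ptK' ⟶ sqB.ptA := Over.homMk (Spec.map (CommRingCat.ofHom (IsLocalRing.residue B'))) (by
    change Spec.map _ ≫ Spec.map _ ≫ φC ≫ btC ≫ T.hom = _
    rw [← Spec.map_comp_assoc, ← CommRingCat.ofHom_comp, ← hq, CommRingCat.ofHom_comp, Spec.map_comp, Category.assoc]
    exact congrArg (_ ≫ ·) (Over.w ol))
  have hr : k' ≫ ol = r ≫ oA := Over.OverMorphism.ext (by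
    change Spec.map (CommRingCat.ofHom A'.subtype) ≫ Spec.map _ = Spec.map _ ≫ Spec.map _
    rw [← Spec.map_comp, ← Spec.map_comp, ← CommRingCat.ofHom_comp, ← CommRingCat.ofHom_comp, hq])
  have hrn : (r ≫ oN).left = (Spec.map (CommRingCat.ofHom μ) ≫ Spec.map (CommRingCat.ofHom ιk) ≫ iz) ≫ pV.left := by
    change Spec.map (CommRingCat.ofHom (IsLocalRing.residue B')) ≫ Spec.map (CommRingCat.ofHom n) ≫ lB = _
    rw [← Spec.map_comp_assoc, ← CommRingCat.ofHom_comp, ← hμ, CommRingCat.ofHom_comp, Spec.map_comp,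
      Category.assoc, eB2, Category.assoc, Category.assoc]
  let ν : e'.ptK' ⟶ WK := Over.homMk (Spec.map (CommRingCat.ofHom μ) ≫ Spec.map (CommRingCat.ofHom ιk) ≫ iz) (by
    rw [← Over.w (r ≫ oN), hrn]
    simp only [Category.assoc]
    exact congrArg (fun x => _ ≫ _ ≫ _ ≫ x) (Over.w pV).symm)
  have hν₁ : ν ≫ pV = r ≫ oN := Over.OverMorphism.ext hrn.symm
  have hν₂ : ν ≫ pK = ψo' := Over.OverMorphism.ext (by
    change (_ ≫ _ ≫ iz) ≫ pK.left = Spec.map (CommRingCat.ofHom (μ.comp ψK.hom))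
    rw [Category.assoc, Category.assoc, ← hψK, ← Spec.map_comp]
    rfl)
  refine ⟨e', (yon S).map ol ≫ l, ?_, ?_⟩
  · change (yon S).map k' ≫ _ = (yon S).map ψo' ≫ sq.top
    rw [← Functor.map_comp_assoc, hr, Functor.map_comp_assoc, hll, ← Functor.map_comp_assoc, ← hν₁,
      Functor.map_comp_assoc, sqWK.w, ← Functor.map_comp_assoc, hν₂]
  · rw [Category.assoc, hl₂, ← hbt]
    change (yon S).map ol ≫ (yon S).map qC ≫ (yon S).map bC = _
    rw [← Functor.map_comp, ← Functor.map_comp, ← Functor.map_comp]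
    refine congrArg _ (Over.OverMorphism.ext ?_)
    exact E2

/-- The existence part can be checked on an etale cover of the target. -/
theorem existVC_of_etale_cover {X Y : Sp S} {f : X ⟶ Y} {κ : Type u} {T : κ → Over S}
    (b : ∀ i, (yon S).obj (T i) ⟶ Y) (hb : ∀ i, RepWith @Etale (b i))
    (hs : ∀ y : Points Y, ∃ i t, Points.ofPt (b i) t = y) (h : ∀ i, ExistVC (pullback.snd f (b i))) :
    ExistVC f := by
  intro sq
  obtain ⟨i, t, ht⟩ := hs (Points.ofPt sq.bot (IsLocalRing.closedPoint sq.A))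
  obtain ⟨P, pT, pA, sqP⟩ := exists_isPullback_yon (b i) sq.bot (hb i).rep
  obtain ⟨p, -, hp⟩ := (ofPt_eq_ofPt_iff sqP t (IsLocalRing.closedPoint sq.A)).1 ht
  haveI : Etale pA.left := etale_left (repWith_of_isPullback sqP (hb i))
  let η : sq.ptA.left := (⟨⊥, Ideal.isPrime_bot⟩ : PrimeSpectrum sq.A)
  obtain ⟨p', hp', hp'η⟩ := Flat.generalizingMap (f := pA.left)
    (show η ⤳ pA.left p from hp.symm ▸ IsLocalRing.specializes_closedPoint (R := sq.A) η)
  let ρ : P.left.presheaf.stalk p ⟶ P.left.residueField p' :=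
    P.left.presheaf.stalkSpecializes hp' ≫ P.left.residue p'
  obtain ⟨A₁, hA, hA_local⟩ := IsLocalRing.exists_factor_valuationRing ρ.hom
  let σ : P.left.presheaf.stalk p ⟶ .of A₁ := CommRingCat.ofHom (ρ.hom.codRestrict _ hA)
  have hσ : Spec.map (CommRingCat.ofHom (algebraMap A₁ (P.left.residueField p'))) ≫
      Spec.map σ ≫ P.left.fromSpecStalk p = P.left.fromSpecResidueField p' := by
    rw [Scheme.fromSpecResidueField, ← Scheme.SpecMap_stalkSpecializes_fromSpecStalk hp']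
    simp_rw [← Spec.map_comp_assoc]
    rfl
  obtain ⟨φ, hφ⟩ := Spec.map_surjective (R := .of sq.A) (S := .of A₁)
    (Spec.map σ ≫ P.left.fromSpecStalk p ≫ pA.left)
  obtain ⟨ψ₀, hψ₀⟩ := Spec.map_surjective (R := .of sq.A) (S := P.left.residueField p')
    (P.left.fromSpecResidueField p' ≫ pA.left)
  have hψ₀i : Function.Injective ψ₀.hom := by
    rw [RingHom.injective_iff_ker_eq_bot]
    have h1 : Spec.map ψ₀ (IsLocalRing.closedPoint _) = η := by
      rw [hψ₀, Scheme.Hom.comp_apply, Scheme.fromSpecResidueField_apply]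
      exact hp'η
    have h2 : (IsLocalRing.closedPoint (P.left.residueField p')).asIdeal.comap ψ₀.hom = ⊥ :=
      congrArg PrimeSpectrum.asIdeal h1
    rw [← h2, RingHom.ker_eq_comap_bot]
    congr 1
    exact (IsLocalRing.maximalIdeal_eq_bot).symm
  let ψ : sq.K →+* P.left.residueField p' := IsFractionRing.lift hψ₀i
  have hψ : ψ.comp (algebraMap sq.A sq.K) = ψ₀.hom := IsLocalization.lift_comp _
  have hcomm : (algebraMap A₁ (P.left.residueField p')).comp φ.hom = ψ.comp (algebraMap sq.A sq.K) := by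
    rw [hψ]
    have : Spec.map (φ ≫ CommRingCat.ofHom (algebraMap A₁ (P.left.residueField p'))) = Spec.map ψ₀ := by
      rw [Spec.map_comp, hφ, hψ₀, reassoc_of% hσ]
    exact congrArg CommRingCat.Hom.hom (Spec.map_injective this)
  have hloc : IsLocalHom φ.hom := by
    have h2 : Spec.map σ (IsLocalRing.closedPoint A₁) = IsLocalRing.closedPoint (P.left.presheaf.stalk p) :=
      IsLocalRing.comap_closedPoint (S := A₁) (ρ.hom.codRestrict A₁.toSubring hA)
    have h1 : PrimeSpectrum.comap φ.hom (IsLocalRing.closedPoint A₁) = IsLocalRing.closedPoint sq.A := by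
      change Spec.map φ (IsLocalRing.closedPoint A₁) = _
      rw [hφ, Scheme.Hom.comp_apply, Scheme.Hom.comp_apply, h2, P.left.fromSpecStalk_closedPoint]
      exact hp
    exact ((IsLocalRing.local_hom_TFAE φ.hom).out 0 4).2 (congrArg PrimeSpectrum.asIdeal h1)
  let e₁ : sq.DomExt :=
    { A' := A₁, K' := P.left.residueField p', φ := φ.hom, ψ := ψ, comm := hcomm, isLocalHom := hloc }
  let oP : e₁.ptA' ⟶ P := Over.homMk (Spec.map σ ≫ P.left.fromSpecStalk p) (by
    change _ = Spec.map φ ≫ sq.str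
    rw [hφ, Category.assoc, Category.assoc, Category.assoc]
    exact congrArg (fun m => Spec.map σ ≫ P.left.fromSpecStalk p ≫ m) (Over.w pA).symm)
  let k : e₁.ptK' ⟶ e₁.ptA' := Over.homMk (Spec.map (CommRingCat.ofHom (algebraMap e₁.A' e₁.K'))) rfl
  let ψo : e₁.ptK' ⟶ sq.ptK := Over.homMk (Spec.map (CommRingCat.ofHom e₁.ψ)) (by
    change Spec.map _ ≫ Spec.map _ ≫ _ = Spec.map _ ≫ Spec.map _ ≫ _
    rw [← Spec.map_comp_assoc, ← Spec.map_comp_assoc, ← CommRingCat.ofHom_comp,
      ← CommRingCat.ofHom_comp, e₁.comm])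
  have hkP : k ≫ oP ≫ pA = ψo ≫ sq.j := Over.OverMorphism.ext (by
    change Spec.map _ ≫ (Spec.map σ ≫ P.left.fromSpecStalk p) ≫ pA.left = Spec.map _ ≫ Spec.map _
    rw [← Spec.map_comp, Category.assoc]
    erw [reassoc_of% hσ]
    rw [← hψ₀]
    exact congrArg Spec.map (CommRingCat.hom_ext hψ.symm))
  have sqT := IsPullback.of_hasPullback f (b i)
  let sq₁ : ValSq (pullback.snd f (b i)) :=
    { A := A₁, K := P.left.residueField p', str := Spec.map (CommRingCat.ofHom e₁.φ) ≫ sq.str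
      top := sqT.lift ((yon S).map ψo ≫ sq.top) ((yon S).map (k ≫ oP ≫ pT)) (by
        simp only [Functor.map_comp, Category.assoc, sqP.w, sq.comm]
        rw [← Functor.map_comp_assoc, ← Functor.map_comp_assoc, ← Functor.map_comp_assoc, ← hkP, Category.assoc])
      bot := (yon S).map (oP ≫ pT)
      comm := by rw [sqT.lift_snd, ← Functor.map_comp] }
  obtain ⟨e₂, l, hl₁, hl₂⟩ := h i sq₁
  let E : sq.DomExt :=
    { A' := e₂.A', K' := e₂.K', φ := e₂.φ.comp e₁.φ, ψ := e₂.ψ.comp e₁.ψ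
      comm := by
        rw [← RingHom.comp_assoc, e₂.comm, RingHom.comp_assoc]
        exact (congrArg e₂.ψ.comp e₁.comm).trans (RingHom.comp_assoc _ _ _).symm
      isLocalHom := by
        haveI := e₁.isLocalHom
        haveI := e₂.isLocalHom
        exact RingHom.isLocalHom_comp (e₂.φ : e₁.A' →+* e₂.A') e₁.φ }
  have hEφ : Spec.map (CommRingCat.ofHom (e₂.φ.comp e₁.φ)) =
      Spec.map (CommRingCat.ofHom e₂.φ) ≫ Spec.map (CommRingCat.ofHom e₁.φ) := by
    rw [← Spec.map_comp]; rfl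
  let c : E.ptA' ⟶ e₂.ptA' := Over.homMk (𝟙 _) (by
    change 𝟙 _ ≫ Spec.map _ ≫ Spec.map _ ≫ sq.str = Spec.map (CommRingCat.ofHom (e₂.φ.comp e₁.φ)) ≫ sq.str
    rw [Category.id_comp, hEφ, Category.assoc])
  let cK : E.ptK' ⟶ e₂.ptK' := Over.homMk (𝟙 _) (by
    change 𝟙 _ ≫ Spec.map _ ≫ Spec.map _ ≫ Spec.map _ ≫ sq.str =
      Spec.map _ ≫ Spec.map (CommRingCat.ofHom (e₂.φ.comp e₁.φ)) ≫ sq.str
    rw [Category.id_comp, hEφ, Category.assoc])
  refine ⟨E, (yon S).map c ≫ l ≫ pullback.fst f (b i), ?_, ?_⟩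
  · have h1 := congrArg (fun x => (yon S).map cK ≫ x ≫ pullback.fst f (b i)) hl₁
    simp only [sq₁, Category.assoc, sqT.lift_fst, ← Functor.map_comp_assoc] at h1 ⊢
    refine (Eq.trans ?_ h1).trans ?_
    · congr 2
    · congr 2; apply Over.OverMorphism.ext
      change (𝟙 _ ≫ Spec.map _) ≫ Spec.map _ = Spec.map _
      rw [Category.id_comp, ← Spec.map_comp]; rfl
  · rw [Category.assoc, Category.assoc, sqT.w, reassoc_of% hl₂]
    simp only [sq₁, Functor.map_comp, Category.assoc, sqP.w]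
    simp only [← Functor.map_comp_assoc]
    congr 2; apply Over.OverMorphism.ext
    change _ = Spec.map (CommRingCat.ofHom (e₂.φ.comp e₁.φ))
    rw [hEφ]
    simp only [c, oP, Over.comp_left, Over.homMk_left, Category.assoc, Category.id_comp]
    exact congrArg (Spec.map (CommRingCat.ofHom e₂.φ) ≫ ·) hφ.symm

theorem refinedVC_of_isPullback {U X Y X' Y' U' : Sp S} {h : U ⟶ X} {f : X ⟶ Y} {b : Y' ⟶ Y} {fX : X' ⟶ X}
    {f' : X' ⟶ Y'} (sq₀ : IsPullback fX f' f b) {fU : U' ⟶ U} {h' : U' ⟶ X'} (hU : fU ≫ h = h' ≫ fX)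
    (hv : RefinedVC h f) : RefinedVC h' f' := by
  rintro sq ⟨t, ht⟩
  obtain ⟨huq, hle⟩ := hv (pushSq sq₀ sq) ⟨t ≫ fU, by rw [Category.assoc, hU, ← Category.assoc, ht]; rfl⟩
  refine ⟨fun l l' h₁ h₂ h₁' h₂' => sq₀.hom_ext (huq (l ≫ fX) (l' ≫ fX) ?_ ?_ ?_ ?_) (h₂.trans h₂'.symm), ?_⟩
  · exact (Category.assoc _ _ _).symm.trans (congrArg (· ≫ fX) h₁)
  · rw [Category.assoc, sq₀.w, ← Category.assoc, h₂]; rfl
  · exact (Category.assoc _ _ _).symm.trans (congrArg (· ≫ fX) h₁')
  · rw [Category.assoc, sq₀.w, ← Category.assoc, h₂']; rfl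
  obtain ⟨e, l, hl₁, hl₂⟩ := hle
  let e' : sq.DomExt :=
    { A' := e.A', K' := e.K', φ := e.φ, ψ := e.ψ, comm := e.comm, isLocalHom := e.isLocalHom }
  let q : e'.ptA' ⟶ sq.ptA := Over.homMk (Spec.map (CommRingCat.ofHom e'.φ)) rfl
  let k : e'.ptK' ⟶ e'.ptA' := Over.homMk (Spec.map (CommRingCat.ofHom (algebraMap e'.A' e'.K'))) rfl
  let ψo : e'.ptK' ⟶ sq.ptK := Over.homMk (Spec.map (CommRingCat.ofHom e'.ψ)) (by
    change Spec.map _ ≫ Spec.map _ ≫ _ = Spec.map _ ≫ Spec.map _ ≫ _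
    rw [← Spec.map_comp_assoc, ← Spec.map_comp_assoc, ← CommRingCat.ofHom_comp,
      ← CommRingCat.ofHom_comp, e'.comm])
  refine ⟨e', sq₀.lift l ((yon S).map q ≫ sq.bot) (hl₂.trans (Category.assoc _ _ _).symm), ?_, sq₀.lift_snd _ _ _⟩
  refine sq₀.hom_ext ((Category.assoc _ _ _).trans
    ((congrArg ((yon S).map k ≫ ·) (sq₀.lift_fst _ _ _)).trans (hl₁.trans (Category.assoc _ _ _).symm))) ?_
  refine (Category.assoc _ _ _).trans ((congrArg ((yon S).map k ≫ ·) (sq₀.lift_snd _ _ _)).trans ?_)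
  change (yon S).map k ≫ (yon S).map q ≫ sq.bot = ((yon S).map ψo ≫ sq.top) ≫ f'
  rw [Category.assoc, sq.comm, ← Functor.map_comp_assoc, ← Functor.map_comp_assoc]
  congr 2
  apply Over.OverMorphism.ext
  change Spec.map _ ≫ Spec.map _ = Spec.map _ ≫ Spec.map _
  rw [← Spec.map_comp, ← Spec.map_comp, ← CommRingCat.ofHom_comp, ← CommRingCat.ofHom_comp, e'.comm]

theorem existVC_of_refined {U X Y : Sp S} (hX : IsAlgSpace X) (hY : IsAlgSpace Y) {h : U ⟶ X} {f : X ⟶ Y}
    (hh : IsQuasiCompactMor h) (hd : DenseRange (Points.map h)) (hv : RefinedVC h f) : ExistVC f := by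
  obtain ⟨κ, T, b, hT, hb, hbo, hcov⟩ := exists_affine_charts hY
  refine existVC_of_etale_cover b hb (fun y => ?_) fun i => ?_
  · obtain ⟨i, hi⟩ := hcov y
    rw [← range_ofPt] at hi
    exact ⟨i, hi⟩
  haveI := hT i
  have sq₀ := IsPullback.of_hasPullback f (b i)
  have hX' : IsAlgSpace (pullback f (b i)) := isAlgSpace_pullback hX (IsAlgSpace.yon_obj _) hY f (b i)
  have sqU := IsPullback.of_hasPullback h (pullback.fst f (b i))
  refine existVC_of_refined_affine hX' (isQuasiCompactMor_of_isPullback sqU hh) ?_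
    (refinedVC_of_isPullback sq₀ sqU.w hv)
  rw [DenseRange, range_map_of_isPullback sqU]
  exact hd.preimage (isOpenMap_map_of_isEtaleMor hX'
    (isEtaleMor_of_isPullback (IsAlgSpace.yon_obj _) hY hX sq₀.flip (isEtaleMor_of_repWith (hb i))))

theorem refined_valuative {U X Y : Sp S} (hX : IsAlgSpace X) (hY : IsAlgSpace Y) {f : X ⟶ Y} {h : U ⟶ X}
    (hf : IsQuasiCompactMor f) (hh : IsQuasiCompactMor h) (hd : DenseRange (Points.map h))
    (hv : RefinedVC h f) : IsUnivClosedMor f ∧ (IsQuasiSeparatedMor f → IsSeparatedMor f) := by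
  refine ⟨isUnivClosedMor_of_existVC hf (existVC_of_refined hX hY hh hd hv), fun hqs => ?_⟩
  have hXX : IsAlgSpace (pullback f f) := isAlgSpace_pullback hX hX hY f f
  have hΔ : RefinedVC h (pullback.diagonal f) := by
    rintro sq ⟨t, ht⟩
    refine ⟨fun l l' _ h₂ _ h₂' => ?_, ?_⟩
    · simpa using congrArg (· ≫ pullback.fst f f) (h₂.trans h₂'.symm)
    let sq' : ValSq f :=
      { A := sq.A, K := sq.K, str := sq.str, top := sq.top, bot := sq.bot ≫ pullback.fst f f ≫ f
        comm := by rw [← reassoc_of% sq.comm, pullback.diagonal_fst_assoc] }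
    have h' := (hv sq' ⟨t, ht⟩).1 (sq.bot ≫ pullback.fst f f) (sq.bot ≫ pullback.snd f f)
      (by rw [← reassoc_of% sq.comm, pullback.diagonal_fst, Category.comp_id]) (Category.assoc _ _ _)
      (by rw [← reassoc_of% sq.comm, pullback.diagonal_snd, Category.comp_id])
      (by rw [Category.assoc, ← pullback.condition])
    obtain ⟨l, hl₁, hl₂⟩ : sq.HasLift := by
      refine ⟨sq.bot ≫ pullback.fst f f, ?_, ?_⟩
      · rw [← reassoc_of% sq.comm, pullback.diagonal_fst, Category.comp_id]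
      · apply pullback.hom_ext
        · rw [Category.assoc, pullback.diagonal_fst, Category.comp_id]
        · rw [Category.assoc, pullback.diagonal_snd, Category.comp_id]
          exact h'
    let e : sq.DomExt :=
      { A' := sq.A, K' := sq.K, φ := RingHom.id _, ψ := RingHom.id _
        comm := rfl, isLocalHom := ⟨fun _ ha => ha⟩ }
    let q : e.ptA' ⟶ sq.ptA := Over.homMk (Spec.map (CommRingCat.ofHom e.φ)) rfl
    refine ⟨e, (yon S).map q ≫ l, ?_, ?_⟩
    · rw [← hl₁, ← Functor.map_comp_assoc, ← Functor.map_comp_assoc]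
      congr 2
      apply Over.OverMorphism.ext
      change Spec.map _ ≫ Spec.map _ = Spec.map _ ≫ Spec.map _
      rw [← Spec.map_comp, ← Spec.map_comp]
      rfl
    · rw [Category.assoc, hl₂]
  obtain ⟨-, hlft, -, -, -⟩ := repWith_diagonal_properties hX f
  refine isSeparatedMor_of_uniqVC hX hqs fun sq l l' h₁ h₂ h₁' h₂' => ?_
  let sqΔ : ValSq (pullback.diagonal f) :=
    { A := sq.A, K := sq.K, str := sq.str, top := sq.top
      bot := pullback.lift l l' (h₂.trans h₂'.symm)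
      comm := by
        apply pullback.hom_ext
        · simpa using h₁.symm
        · simpa using h₁'.symm }
  obtain ⟨m, -, hm⟩ := existVCStrict_of_representable hqs.rep (existVC_of_refined hX hXX hh hd hΔ) sqΔ
  have e1 := congrArg (· ≫ pullback.fst f f) hm
  have e2 := congrArg (· ≫ pullback.snd f f) hm
  simp only [sqΔ, Category.assoc, pullback.diagonal_fst, pullback.diagonal_snd, Category.comp_id,
    pullback.lift_fst, pullback.lift_snd] at e1 e2
  exact e1.symm.trans e2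

end AlgSpLib
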