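import Groth.Agent.AlgSpLib.ValLift
import Groth.Agent.AlgSpLib.Qc
import Groth.Agent.AlgSpLib.Univ
import Mathlib.AlgebraicGeometry.ZariskisMainTheorem

/-!
# The valuative criteria for algebraic spaces
-/

set_option autoImplicit false
set_option backward.isDefEq.respectTransparency false
set_option backward.isDefEq.respectTransparency.types false

universe u

open CategoryTheory CategoryTheory.Limits AlgebraicGeometry Opposite AlgSp Topology

namespace AlgSpLib

variable {S : Scheme.{u}}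

/-! ## Formal properties -/

theorem existVC_of_strict {X Y : Sp S} {f : X ⟶ Y} (h : ExistVCStrict f) : ExistVC f := by
  intro sq
  obtain ⟨l, hl₁, hl₂⟩ := h sq
  let e : sq.DomExt :=
    { A' := sq.A, K' := sq.K, φ := RingHom.id _, ψ := RingHom.id _
      comm := rfl, isLocalHom := ⟨fun _ ha => ha⟩ }
  let q : e.ptA' ⟶ sq.ptA := Over.homMk (Spec.map (CommRingCat.ofHom e.φ)) rfl
  refine ⟨e, (yon S).map q ≫ l, ?_, ?_⟩
  · rw [← hl₁, ← Functor.map_comp_assoc, ← Functor.map_comp_assoc]
    congr 2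
    apply Over.OverMorphism.ext
    change Spec.map _ ≫ Spec.map _ = Spec.map _ ≫ Spec.map _
    rw [← Spec.map_comp, ← Spec.map_comp]
    rfl
  · rw [Category.assoc, hl₂]

/-- The square for `f` induced by a square for a base change of `f`. -/
noncomputable def pushSq {X Y X' Z : Sp S} {fst : X' ⟶ X} {f' : X' ⟶ Z} {f : X ⟶ Y} {g : Z ⟶ Y}
    (h : IsPullback fst f' f g) (sq : ValSq f') : ValSq f where
  A := sq.A
  K := sq.K
  str := sq.str
  top := sq.top ≫ fst
  bot := sq.bot ≫ g
  comm := by rw [Category.assoc, h.w, reassoc_of% sq.comm]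

theorem existVC_of_isPullback {X Y X' Z : Sp S} {fst : X' ⟶ X} {f' : X' ⟶ Z} {f : X ⟶ Y} {g : Z ⟶ Y}
    (h : IsPullback fst f' f g) (hf : ExistVC f) : ExistVC f' := by
  intro sq
  obtain ⟨e, l, hl₁, hl₂⟩ := hf (pushSq h sq)
  let e' : sq.DomExt :=
    { A' := e.A', K' := e.K', φ := e.φ, ψ := e.ψ, comm := e.comm, isLocalHom := e.isLocalHom }
  let q : e'.ptA' ⟶ sq.ptA := Over.homMk (Spec.map (CommRingCat.ofHom e'.φ)) rfl
  let k : e'.ptK' ⟶ e'.ptA' := Over.homMk (Spec.map (CommRingCat.ofHom (algebraMap e'.A' e'.K'))) rfl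
  refine ⟨e', h.lift l ((yon S).map q ≫ sq.bot) (hl₂.trans (Category.assoc _ _ _).symm), ?_, h.lift_snd _ _ _⟩
  let ψo : e'.ptK' ⟶ sq.ptK := Over.homMk (Spec.map (CommRingCat.ofHom e'.ψ)) (by
    change Spec.map _ ≫ Spec.map _ ≫ _ = Spec.map _ ≫ Spec.map _ ≫ _
    rw [← Spec.map_comp_assoc, ← Spec.map_comp_assoc, ← CommRingCat.ofHom_comp,
      ← CommRingCat.ofHom_comp, e'.comm])
  refine h.hom_ext ((Category.assoc _ _ _).trans
    ((congrArg ((yon S).map k ≫ ·) (h.lift_fst _ _ _)).trans (hl₁.trans (Category.assoc _ _ _).symm))) ?_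
  refine (Category.assoc _ _ _).trans ((congrArg ((yon S).map k ≫ ·) (h.lift_snd _ _ _)).trans ?_)
  · change (yon S).map k ≫ (yon S).map q ≫ sq.bot = ((yon S).map ψo ≫ sq.top) ≫ f'
    rw [Category.assoc, sq.comm, ← Functor.map_comp_assoc, ← Functor.map_comp_assoc]
    congr 2
    apply Over.OverMorphism.ext
    change Spec.map _ ≫ Spec.map _ = Spec.map _ ≫ Spec.map _
    rw [← Spec.map_comp, ← Spec.map_comp, ← CommRingCat.ofHom_comp, ← CommRingCat.ofHom_comp, e'.comm]

theorem existVCStrict_of_isPullback {X Y X' Z : Sp S} {fst : X' ⟶ X} {f' : X' ⟶ Z} {f : X ⟶ Y} {g : Z ⟶ Y}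
    (h : IsPullback fst f' f g) (hf : ExistVCStrict f) : ExistVCStrict f' := by
  intro sq
  obtain ⟨l, hl₁, hl₂⟩ := hf (pushSq h sq)
  exact ⟨h.lift l sq.bot hl₂, h.hom_ext (by rw [Category.assoc, h.lift_fst]; exact hl₁)
    (by rw [Category.assoc, h.lift_snd, sq.comm]), h.lift_snd _ _ _⟩

theorem uniqVC_of_isPullback {X Y X' Z : Sp S} {fst : X' ⟶ X} {f' : X' ⟶ Z} {f : X ⟶ Y} {g : Z ⟶ Y}
    (h : IsPullback fst f' f g) (hf : UniqVC f) : UniqVC f' := by
  intro sq l l' h₁ h₂ h₁' h₂'
  refine h.hom_ext (hf (pushSq h sq) (l ≫ fst) (l' ≫ fst) ?_ ?_ ?_ ?_) (h₂.trans h₂'.symm)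
  · exact (Category.assoc _ _ _).symm.trans (congrArg (· ≫ fst) h₁)
  · rw [Category.assoc, h.w, ← Category.assoc, h₂]; rfl
  · exact (Category.assoc _ _ _).symm.trans (congrArg (· ≫ fst) h₁')
  · rw [Category.assoc, h.w, ← Category.assoc, h₂']; rfl

theorem existVC_comp {X Y Z : Sp S} {f : X ⟶ Y} {g : Y ⟶ Z} (hf : ExistVC f) (hg : ExistVC g) :
    ExistVC (f ≫ g) := by
  intro sq
  let sqg : ValSq g :=
    { A := sq.A, K := sq.K, str := sq.str, top := sq.top ≫ f, bot := sq.bot
      comm := (Category.assoc _ _ _).trans sq.comm }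
  obtain ⟨e, l, hl₁, hl₂⟩ := hg sqg
  let ψo : e.ptK' ⟶ sqg.ptK := Over.homMk (Spec.map (CommRingCat.ofHom e.ψ)) (by
    change Spec.map _ ≫ Spec.map _ ≫ _ = Spec.map _ ≫ Spec.map _ ≫ _
    rw [← Spec.map_comp_assoc, ← Spec.map_comp_assoc, ← CommRingCat.ofHom_comp,
      ← CommRingCat.ofHom_comp, e.comm])
  let sqf : ValSq f :=
    { A := e.A', K := e.K', str := Spec.map (CommRingCat.ofHom e.φ) ≫ sq.str
      top := (yon S).map ψo ≫ sq.top, bot := l, comm := (Category.assoc _ _ _).trans hl₁.symm }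
  obtain ⟨e', m, hm₁, hm₂⟩ := hf sqf
  let E : sq.DomExt :=
    { A' := e'.A', K' := e'.K', φ := e'.φ.comp e.φ, ψ := e'.ψ.comp e.ψ
      comm := by
        rw [← RingHom.comp_assoc, e'.comm, RingHom.comp_assoc]
        exact (congrArg e'.ψ.comp e.comm).trans (RingHom.comp_assoc _ _ _).symm
      isLocalHom := by
        haveI := e.isLocalHom
        haveI := e'.isLocalHom
        exact RingHom.isLocalHom_comp (e'.φ : e.A' →+* e'.A') e.φ }
  have hφ : Spec.map (CommRingCat.ofHom (e'.φ.comp e.φ)) =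
      Spec.map (CommRingCat.ofHom e'.φ) ≫ Spec.map (CommRingCat.ofHom e.φ) := by
    rw [← Spec.map_comp]; rfl
  let c : E.ptA' ⟶ e'.ptA' := Over.homMk (𝟙 _) (by
    change 𝟙 _ ≫ Spec.map _ ≫ Spec.map _ ≫ sq.str = Spec.map (CommRingCat.ofHom (e'.φ.comp e.φ)) ≫ sq.str
    rw [Category.id_comp, hφ, Category.assoc])
  let cK : E.ptK' ⟶ e'.ptK' := Over.homMk (𝟙 _) (by
    change 𝟙 _ ≫ Spec.map _ ≫ Spec.map _ ≫ Spec.map _ ≫ sq.str =
      Spec.map _ ≫ Spec.map (CommRingCat.ofHom (e'.φ.comp e.φ)) ≫ sq.str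
    rw [Category.id_comp, hφ, Category.assoc])
  refine ⟨E, (yon S).map c ≫ m, ?_, ?_⟩
  · have h1 := (congrArg ((yon S).map cK ≫ ·) hm₁)
    simp only [sqf, ← Functor.map_comp_assoc] at h1 ⊢
    refine (Eq.trans ?_ h1).trans ?_
    · congr 2
    · congr 2; apply Over.OverMorphism.ext
      change (𝟙 _ ≫ Spec.map _) ≫ Spec.map _ = Spec.map _
      rw [Category.id_comp, ← Spec.map_comp]; rfl
  · rw [Category.assoc, reassoc_of% hm₂, hl₂, ← Functor.map_comp_assoc, ← Functor.map_comp_assoc]
    congr 2; apply Over.OverMorphism.ext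
    change (𝟙 _ ≫ Spec.map _) ≫ Spec.map _ = Spec.map _
    rw [Category.id_comp, ← hφ]

theorem uniqVC_comp {X Y Z : Sp S} {f : X ⟶ Y} {g : Y ⟶ Z} (hf : UniqVC f) (hg : UniqVC g) :
    UniqVC (f ≫ g) := by
  intro sq l l' h₁ h₂ h₁' h₂'
  let sqg : ValSq g :=
    { A := sq.A, K := sq.K, str := sq.str, top := sq.top ≫ f, bot := sq.bot
      comm := (Category.assoc _ _ _).trans sq.comm }
  have e : l ≫ f = l' ≫ f := hg sqg _ _ (by rw [← Category.assoc, h₁]) ((Category.assoc _ _ _).trans h₂)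
    (by rw [← Category.assoc, h₁']) ((Category.assoc _ _ _).trans h₂')
  let sqf : ValSq f :=
    { A := sq.A, K := sq.K, str := sq.str, top := sq.top, bot := l ≫ f
      comm := by rw [← Category.assoc, h₁] }
  exact hf sqf l l' h₁ rfl h₁' e.symm

/-! ## Separatedness and uniqueness -/

theorem uniqVC_of_isSeparatedMor {X Y : Sp S} {f : X ⟶ Y} (hf : IsSeparatedMor f) : UniqVC f := by
  intro sq l l' h₁ h₂ h₁' h₂'
  have sqP := IsPullback.of_hasPullback f sq.bot
  have hPsep : IsSeparatedMor (pullback.snd f sq.bot) := repWith_diagonal_of_isPullback sqP hf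
  let b := sqP.lift l (𝟙 _) (by rw [h₂, Category.id_comp])
  let b' := sqP.lift l' (𝟙 _) (by rw [h₂', Category.id_comp])
  obtain ⟨E, ι, hι, hιw, huniv⟩ := exists_closed_equalizer hPsep b b'
    (by rw [sqP.lift_snd, sqP.lift_snd])
  haveI := hι
  obtain ⟨j', hj'⟩ := huniv sq.ptK sq.j (sqP.hom_ext
    (by rw [Category.assoc, Category.assoc, sqP.lift_fst, sqP.lift_fst, h₁, h₁'])
    (by rw [Category.assoc, Category.assoc, sqP.lift_snd, sqP.lift_snd]))
  haveI : IsAffine sq.ptA.left := inferInstanceAs (IsAffine (Spec _))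
  haveI : IsAffine E.left := isAffine_of_isAffineHom ι.left
  have hji : Function.Injective sq.j.left.appTop := by
    have hnat := Scheme.ΓSpecIso_naturality (CommRingCat.ofHom (algebraMap sq.A sq.K))
    have h1 : ∀ r, (Scheme.ΓSpecIso (.of sq.K)).hom (sq.j.left.appTop r) =
        algebraMap sq.A sq.K ((Scheme.ΓSpecIso (.of sq.A)).hom r) := fun r => congr($hnat r)
    intro r₁ r₂ hr
    apply (Scheme.ΓSpecIso (.of sq.A)).commRingCatIsoToRingEquiv.injective
    apply IsFractionRing.injective sq.A sq.K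
    exact (h1 r₁).symm.trans ((congrArg (Scheme.ΓSpecIso (.of sq.K)).hom hr).trans (h1 r₂))
  haveI : IsIso ι.left := isIso_of_appTop_bijective ι.left ⟨fun r₁ r₂ hr => hji (by
    rw [← hj', comp_appTop, comp_appTop, hr]),
    ((IsClosedImmersion.isAffine_surjective_of_isAffine ι.left).2)⟩
  haveI : IsIso ((Over.forget S).map ι) := inferInstanceAs (IsIso ι.left)
  haveI : IsIso ι := isIso_of_reflects_iso _ (Over.forget S)
  have := (cancel_epi ((yon S).map ι)).1 hιw
  simpa [b, b'] using congrArg (· ≫ pullback.fst f sq.bot) this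

theorem existVC_iff_strict_of_sep {X Y : Sp S} (hX : IsAlgSpace X) (hY : IsAlgSpace Y) {f : X ⟶ Y}
    (hf : IsSeparatedMor f) : ExistVC f ↔ ExistVCStrict f :=
  ⟨fun h sq => by obtain ⟨e, he⟩ := h sq; exact hasLift_of_domExt hX hY hf sq e he, existVC_of_strict⟩

/-! ## Existence implies universally closed -/

theorem isClosed_image_of_stableUnderSpecialization {W U : Scheme.{u}} [IsAffine W] [IsAffine U] (h : W ⟶ U)
    {Z : Set W} (hZ : IsClosed Z) (hs : StableUnderSpecialization (h '' Z)) : IsClosed (h '' Z) := by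
  obtain ⟨φ, hφ⟩ := Spec.map_surjective (W.isoSpec.inv ≫ h ≫ U.isoSpec.hom)
  let eW := Scheme.homeoOfIso W.isoSpec
  let eU := Scheme.homeoOfIso U.isoSpec
  have him : eU '' (h '' Z) = PrimeSpectrum.comap φ.hom '' (eW '' Z) := by
    rw [Set.image_image, Set.image_image]
    refine Set.image_congr fun x _ => ?_
    change (h ≫ U.isoSpec.hom) x = (W.isoSpec.hom ≫ Spec.map φ) x
    rw [hφ, W.isoSpec.hom_inv_id_assoc]
  rw [← eU.isClosed_image, him]
  refine PrimeSpectrum.isClosed_image_of_stableUnderSpecialization φ.hom _ (eW.isClosed_image.2 hZ) ?_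
  rw [← him]
  exact hs.image eU.isClosedMap.specializingMap

/-- Over an affine scheme: quasi-compactness and existence of lifts give closedness. -/
theorem isClosedMap_of_existVC {X : Sp S} {U : Over S} [IsAffine U.left] {g : X ⟶ (yon S).obj U}
    (hq : IsQuasiCompactSp X) (he : ExistVC g) : IsClosedMap (Points.map g) := by
  obtain ⟨W, c, hW, hc, hcs⟩ := exists_affine_chart hq
  haveI := hW
  obtain ⟨h, hh⟩ := (yon S).map_surjective (c ≫ g)
  intro C hC
  have key : Points.map g '' C = Points.schemeHomeo U '' (h.left '' (Points.ofPt c ⁻¹' C)) := by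
    conv_lhs => rw [← Set.image_preimage_eq C (surjective_ofPt hcs)]
    rw [Set.image_image, Set.image_image]
    refine Set.image_congr fun w _ => ?_
    rw [Points.map_ofPt, ← hh]
    exact ((Points.schemeHomeo U).apply_symm_apply _).symm.trans
      (congrArg _ (Points.toScheme_ofPt h w))
  rw [key, (Points.schemeHomeo U).isClosed_image]
  refine isClosed_image_of_stableUnderSpecialization h.left (hC.preimage (Points.continuous_ofPt c)) ?_
  rintro _ v hspec ⟨w, hw, rfl⟩
  let ρ : U.left.presheaf.stalk v ⟶ W.left.residueField w :=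
    U.left.presheaf.stalkSpecializes hspec ≫ h.left.stalkMap w ≫ W.left.residue w
  obtain ⟨A, hA, hA_local⟩ := IsLocalRing.exists_factor_valuationRing ρ.hom
  let σ : U.left.presheaf.stalk v ⟶ .of A := CommRingCat.ofHom (ρ.hom.codRestrict _ hA)
  have hσ : Spec.map (CommRingCat.ofHom (algebraMap A (W.left.residueField w))) ≫
      Spec.map σ ≫ U.left.fromSpecStalk v = W.left.fromSpecResidueField w ≫ h.left := by
    rw [Scheme.fromSpecResidueField, Category.assoc, ← Scheme.SpecMap_stalkMap_fromSpecStalk,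
      ← Scheme.SpecMap_stalkSpecializes_fromSpecStalk hspec]
    simp_rw [← Spec.map_comp_assoc]
    rfl
  let str : Spec (.of A) ⟶ S := Spec.map σ ≫ U.left.fromSpecStalk v ≫ U.hom
  let tp : Over.mk (Spec.map (CommRingCat.ofHom (algebraMap A (W.left.residueField w))) ≫ str) ⟶ W :=
    Over.homMk (W.left.fromSpecResidueField w) (by
      change _ ≫ W.hom = Spec.map _ ≫ Spec.map σ ≫ U.left.fromSpecStalk v ≫ U.hom
      rw [reassoc_of% hσ, Over.w h])
  let bt : Over.mk str ⟶ U := Over.homMk (Spec.map σ ≫ U.left.fromSpecStalk v) (Category.assoc _ _ _)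
  let sq : ValSq g :=
    { A := A, K := W.left.residueField w, str := str, top := (yon S).map tp ≫ c, bot := (yon S).map bt
      comm := by
        rw [Category.assoc, ← hh, ← Functor.map_comp, ← Functor.map_comp]
        exact congrArg _ (Over.OverMorphism.ext hσ.symm) }
  obtain ⟨e, l, hl₁, hl₂⟩ := he sq
  let z : Points X := Points.ofPt l (IsLocalRing.closedPoint e.A')
  have hz : z ∈ C := by
    let k : e.ptK' ⟶ e.ptA' := Over.homMk (Spec.map (CommRingCat.ofHom (algebraMap e.A' e.K'))) rfl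
    refine ((IsLocalRing.specializes_closedPoint (R := e.A')
      (k.left (IsLocalRing.closedPoint e.K'))).map (Points.continuous_ofPt l)).mem_closed hC ?_
    rw [← ofPt_yon_comp k l]
    erw [hl₁]
    rw [ofPt_yon_comp, ofPt_yon_comp]
    change Points.ofPt c (W.left.fromSpecResidueField w _) ∈ C
    rw [Scheme.fromSpecResidueField_apply]
    exact hw
  obtain ⟨t, ht⟩ := surjective_ofPt hcs z
  refine ⟨t, show Points.ofPt c t ∈ C from ht ▸ hz, ?_⟩
  have e1 : Points.toScheme U (Points.map g z) = h.left t := by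
    rw [← ht, Points.map_ofPt, ← hh, Points.toScheme_ofPt]
  rw [← e1, Points.map_ofPt, hl₂, ← Functor.map_comp, Points.toScheme_ofPt]
  haveI := e.isLocalHom
  change U.left.fromSpecStalk v (Spec.map σ (Spec.map (CommRingCat.ofHom e.φ) (IsLocalRing.closedPoint e.A'))) = v
  have h1 : Spec.map (CommRingCat.ofHom e.φ) (IsLocalRing.closedPoint e.A') = IsLocalRing.closedPoint A :=
    IsLocalRing.comap_closedPoint e.φ
  have h2 : Spec.map σ (IsLocalRing.closedPoint A) = IsLocalRing.closedPoint (U.left.presheaf.stalk v) :=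
    IsLocalRing.comap_closedPoint (S := A) (ρ.hom.codRestrict A.toSubring hA)
  rw [h1, h2, U.left.fromSpecStalk_closedPoint]

theorem isUnivClosedMor_of_existVC {X Y : Sp S} {f : X ⟶ Y} (hq : IsQuasiCompactMor f) (he : ExistVC f) :
    IsUnivClosedMor f :=
  (univSp_iff_affine descends_isClosedMor).2 fun Z _ g _ fst snd sq =>
    isClosedMap_of_existVC (hq (IsAlgSpace.yon_obj Z) (isQuasiCompactSp_yon Z) g fst snd sq)
      (existVC_of_isPullback sq he)

/-! ## Uniqueness implies separated -/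

theorem isSeparatedMor_of_uniqVC {X Y : Sp S} (hX : IsAlgSpace X) {f : X ⟶ Y} (hqs : IsQuasiSeparatedMor f)
    (hu : UniqVC f) : IsSeparatedMor f := by
  obtain ⟨-, hlft, -, -, hmono⟩ := repWith_diagonal_properties hX f
  have hΔ : ExistVCStrict (pullback.diagonal f) := by
    intro sq
    let sq' : ValSq f :=
      { A := sq.A, K := sq.K, str := sq.str, top := sq.top, bot := sq.bot ≫ pullback.fst f f ≫ f
        comm := by
          rw [← reassoc_of% sq.comm, pullback.diagonal_fst_assoc] }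
    have h := hu sq' (sq.bot ≫ pullback.fst f f) (sq.bot ≫ pullback.snd f f)
      (by rw [← reassoc_of% sq.comm, pullback.diagonal_fst, Category.comp_id]) (Category.assoc _ _ _)
      (by rw [← reassoc_of% sq.comm, pullback.diagonal_snd, Category.comp_id])
      (by rw [Category.assoc, ← pullback.condition])
    refine ⟨sq.bot ≫ pullback.fst f f, ?_, ?_⟩
    · rw [← reassoc_of% sq.comm, pullback.diagonal_fst, Category.comp_id]
    · apply pullback.hom_ext
      · rw [Category.assoc, pullback.diagonal_fst, Category.comp_id]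
      · rw [Category.assoc, pullback.diagonal_snd, Category.comp_id]
        exact h
  refine ⟨hqs.rep, fun T T' g fst snd sq => ?_⟩
  haveI : QuasiCompact snd.left := hqs.2 g fst snd sq
  haveI : LocallyOfFiniteType snd.left := hlft.2 g fst snd sq
  haveI : Mono snd.left := hmono.2 g fst snd sq
  haveI : UniversallyClosed snd.left := by
    apply UniversallyClosed.of_valuativeCriterion
    intro v
    have hc := v.commSq.w
    let str : Spec (.of v.R) ⟶ S := v.i₂ ≫ T.hom
    let tp : Over.mk (Spec.map (CommRingCat.ofHom (algebraMap v.R v.K)) ≫ str) ⟶ T' :=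
      Over.homMk v.i₁ (by
        change _ ≫ T'.hom = Spec.map _ ≫ v.i₂ ≫ T.hom
        rw [← reassoc_of% hc, Over.w snd])
    let bt : Over.mk str ⟶ T := Over.homMk v.i₂ rfl
    let sqv : ValSq ((yon S).map snd) :=
      { A := v.R, K := v.K, str := str, top := (yon S).map tp, bot := (yon S).map bt
        comm := by
          rw [← Functor.map_comp, ← Functor.map_comp]
          exact congrArg _ (Over.OverMorphism.ext hc) }
    obtain ⟨l, hl₁, hl₂⟩ := existVCStrict_of_isPullback sq hΔ sqv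
    obtain ⟨m, rfl⟩ := (yon S).map_surjective l
    rw [← Functor.map_comp] at hl₁ hl₂
    exact ⟨⟨⟨m.left, congrArg CommaMorphism.left ((yon S).map_injective hl₁),
      congrArg CommaMorphism.left ((yon S).map_injective hl₂)⟩⟩⟩
  haveI : IsProper snd.left := {}
  rw [IsClosedImmersion.eq_proper_inf_monomorphisms]
  exact ⟨‹IsProper snd.left›, ‹Mono snd.left›⟩

end AlgSpLib
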